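import Mathlib.AlgebraicGeometry.Fiber
import Mathlib.AlgebraicGeometry.Stalk
import Mathlib.AlgebraicGeometry.ResidueField

/-!
# The local ring of a fibre

For `f : X ⟶ Y`, `y : Y` and a point `x'` of the scheme-theoretic fibre `f.fiber y`, with image
`x = f.fiberι y x'` in `X`: the stalk map `O_{X,x} → O_{X_y,x'}` is surjective with kernel
`m_{f x} O_{X,x}`.  Hence `O_{X_y,x'} ≃+* O_{X,x} ⧸ m_{f x} O_{X,x}`.
-/

set_option autoImplicit false

universe u
open CategoryTheory CategoryTheory.Limits AlgebraicGeometry IsLocalRing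

namespace Groth.Agent.H49.FibreStalk

/-- The maximal ideal of the stalk of `Spec K` at a point is zero. -/
theorem maximalIdeal_stalk_spec_field (K : Type u) [Field K] (p : Spec (CommRingCat.of K)) :
    IsLocalRing.maximalIdeal ((Spec (CommRingCat.of K)).presheaf.stalk p) = ⊥ := by
  obtain rfl : p = IsLocalRing.closedPoint K := Subsingleton.elim _ _
  let e : (Spec (CommRingCat.of K)).presheaf.stalk (IsLocalRing.closedPoint K) ≃+* K :=
    (stalkClosedPointIso (CommRingCat.of K)).commRingCatIsoToRingEquiv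
  have : IsField ((Spec (CommRingCat.of K)).presheaf.stalk (IsLocalRing.closedPoint K)) :=
    e.toMulEquiv.isField (Field.toIsField K)
  exact IsLocalRing.isField_iff_maximalIdeal_eq.mp this

/-- If `r : F ⟶ Y` factors through the spectrum of a field, its stalk maps kill maximal ideals. -/
theorem stalkMap_eq_zero_of_factor_field {F Y : Scheme.{u}} (r : F ⟶ Y) (K : Type u) [Field K]
    (p : F ⟶ Spec (CommRingCat.of K)) (q : Spec (CommRingCat.of K) ⟶ Y) (h : p ≫ q = r) (x' : F)
    (b : Y.presheaf.stalk (r x')) (hb : b ∈ IsLocalRing.maximalIdeal (Y.presheaf.stalk (r x'))) :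
    (r.stalkMap x').hom b = 0 := by
  subst h
  rw [Scheme.Hom.stalkMap_comp]
  have h1 : (q.stalkMap (p x')).hom b ∈
      IsLocalRing.maximalIdeal ((Spec (CommRingCat.of K)).presheaf.stalk (p x')) := by
    rw [IsLocalRing.mem_maximalIdeal, mem_nonunits_iff] at hb ⊢
    intro hu
    have : IsLocalHom (q.stalkMap (p x')).hom := inferInstance
    exact hb (this.map_nonunit b hu)
  rw [maximalIdeal_stalk_spec_field] at h1
  have h2 : (q.stalkMap (p x')).hom b = 0 := h1
  change (p.stalkMap x').hom ((q.stalkMap (p x')).hom b) = 0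
  rw [h2, map_zero]


theorem ker_le_ker_of_lift {F X : Scheme.{u}} (ι : F ⟶ X) (R : CommRingCat.{u}) [IsLocalRing R]
    (h : Spec R ⟶ F) (x' : F) (hx' : h (closedPoint R) = x')
    (φ : X.presheaf.stalk (ι x') ⟶ R) [IsLocalHom φ.hom]
    (heq : h ≫ ι = Spec.map φ ≫ X.fromSpecStalk (ι x')) :
    RingHom.ker (ι.stalkMap x').hom ≤ RingHom.ker φ.hom := by
  subst hx'
  intro a ha
  rw [RingHom.mem_ker] at ha ⊢
  have key : (SpecToEquivOfLocalRing X R) (h ≫ ι) = ⟨ι (h (closedPoint R)), φ, inferInstance⟩ := by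
    rw [heq]
    exact (SpecToEquivOfLocalRing X R).apply_symm_apply ⟨_, φ, _⟩
  obtain ⟨h₁, h₂⟩ := SpecToEquivOfLocalRing_eq_iff.mp key
  simp only [SpecToEquivOfLocalRing_apply_snd_coe] at h₂
  rw [Scheme.stalkClosedPointTo_comp] at h₂
  have h3 : (X.presheaf.stalkCongr (.of_eq h₁)).hom = 𝟙 _ := by
    rw [TopCat.Presheaf.stalkCongr_hom]
    exact TopCat.Presheaf.stalkSpecializes_refl _ _
  have h₂' : ι.stalkMap (h (closedPoint R)) ≫ Scheme.stalkClosedPointTo h = φ :=
    h₂.trans (by rw [h3]; exact Category.id_comp φ)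
  rw [← h₂']
  change (Scheme.stalkClosedPointTo h).hom ((ι.stalkMap _).hom a) = 0
  rw [ha, map_zero]

section main
variable {X Y : Scheme.{u}} (f : X ⟶ Y)

/-- the ideal `m_{f x} O_{X,x}` -/
noncomputable abbrev fibreIdeal (x : X) : Ideal (X.presheaf.stalk x) :=
  Ideal.map (f.stalkMap x).hom (maximalIdeal (Y.presheaf.stalk (f x)))

theorem fibreIdeal_le_maximalIdeal (x : X) : fibreIdeal f x ≤ maximalIdeal _ :=
  ((IsLocalRing.local_hom_TFAE (f.stalkMap x).hom).out 0 2).mp
    (inferInstance : IsLocalHom (f.stalkMap x).hom)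

theorem fibreIdeal_ne_top (x : X) : fibreIdeal f x ≠ ⊤ := fun h =>
  (maximalIdeal.isMaximal _).ne_top (top_le_iff.mp (h ▸ fibreIdeal_le_maximalIdeal f x))

instance (x : X) : Nontrivial (X.presheaf.stalk x ⧸ fibreIdeal f x) :=
  Ideal.Quotient.nontrivial_iff.mpr (fibreIdeal_ne_top f x)

instance (x : X) : IsLocalRing (X.presheaf.stalk x ⧸ fibreIdeal f x) :=
  IsLocalRing.of_surjective' (Ideal.Quotient.mk _) Ideal.Quotient.mk_surjective

theorem fibreIdeal_le_ker (y : Y) (x' : f.fiber y) :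
    fibreIdeal f (f.fiberι y x') ≤ RingHom.ker ((f.fiberι y).stalkMap x').hom := by
  rw [fibreIdeal, Ideal.map_le_iff_le_comap]
  intro b hb
  rw [Ideal.mem_comap, RingHom.mem_ker]
  have := stalkMap_eq_zero_of_factor_field (f.fiberι y ≫ f) (Y.residueField y)
    (f.fiberToSpecResidueField y) (Y.fromSpecResidueField y) (f.fiber_fac y).symm x' b hb
  rw [Scheme.Hom.stalkMap_comp] at this
  exact this

theorem ker_stalkMap_fiberι (y : Y) (x' : f.fiber y) :
    RingHom.ker ((f.fiberι y).stalkMap x').hom = fibreIdeal f (f.fiberι y x') := by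
  apply le_antisymm
  · set x := f.fiberι y x' with hx
    let R : CommRingCat.{u} := CommRingCat.of (X.presheaf.stalk x ⧸ fibreIdeal f x)
    let φ : X.presheaf.stalk x ⟶ R := CommRingCat.ofHom (Ideal.Quotient.mk (fibreIdeal f x))
    haveI : IsLocalHom φ.hom := IsLocalHom.of_surjective _ Ideal.Quotient.mk_surjective
    have hy : y = f x := ((f.range_fiberι y).le ⟨x', rfl⟩ : f x = y).symm
    let ψ' : Y.residueField (f x) ⟶ R := CommRingCat.ofHom
      (Ideal.Quotient.lift _ ((Ideal.Quotient.mk (fibreIdeal f x)).comp (f.stalkMap x).hom)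
        (fun b hb => Ideal.Quotient.eq_zero_iff_mem.mpr (Ideal.mem_map_of_mem _ hb)))
    have hψ' : Y.residue (f x) ≫ ψ' = f.stalkMap x ≫ φ := by ext b; rfl
    have comm : (Spec.map φ ≫ X.fromSpecStalk x) ≫ f =
        (Spec.map ψ' ≫ Spec.map (Y.residueFieldCongr hy).hom) ≫ Y.fromSpecResidueField y := by
      rw [Category.assoc, Category.assoc, Scheme.residueFieldCongr_fromSpecResidueField,
        Scheme.fromSpecResidueField, ← Spec.map_comp_assoc, hψ', Spec.map_comp_assoc,
        Scheme.SpecMap_stalkMap_fromSpecStalk]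
    let h : Spec R ⟶ f.fiber y := pullback.lift _ _ comm
    have hι : h ≫ f.fiberι y = Spec.map φ ≫ X.fromSpecStalk x := pullback.lift_fst _ _ _
    have hcp : h (closedPoint R) = x' := by
      apply (f.fiberι y).isEmbedding.injective
      rw [← Scheme.Hom.comp_apply, hι, Scheme.Hom.comp_apply, Spec_closedPoint,
        Scheme.fromSpecStalk_closedPoint]
    have := ker_le_ker_of_lift (f.fiberι y) R h x' hcp φ hι
    rwa [show RingHom.ker φ.hom = fibreIdeal f x from Ideal.mk_ker] at this
  · exact fibreIdeal_le_ker f y x'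

/-- The local ring of the fibre `f.fiber y` at `x'` is `O_{X,x} ⧸ m_{f x} O_{X,x}`, `x = ι x'`. -/
noncomputable def quotientEquivStalkFiber (y : Y) (x' : f.fiber y) :
    (X.presheaf.stalk (f.fiberι y x') ⧸ fibreIdeal f (f.fiberι y x')) ≃+*
      (f.fiber y).presheaf.stalk x' :=
  (Ideal.quotEquivOfEq (ker_stalkMap_fiberι f y x').symm).trans
    (RingHom.quotientKerEquivOfSurjective (f := ((f.fiberι y).stalkMap x').hom)
      ((f.fiberι y).stalkMap_surjective x'))

/-- transport of the quotient `O_{X,x} ⧸ m_{f x} O_{X,x}` along an equality of points. -/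
noncomputable def quotientCongr {x₁ x₂ : X} (e : x₁ = x₂) :
    (X.presheaf.stalk x₁ ⧸ fibreIdeal f x₁) ≃+* (X.presheaf.stalk x₂ ⧸ fibreIdeal f x₂) :=
  e ▸ RingEquiv.refl _

/-- The local ring of the fibre through `x` at `x` is `O_{X,x} ⧸ m_{f x} O_{X,x}`. -/
noncomputable def quotientEquivStalkAsFiber (x : X) :
    (X.presheaf.stalk x ⧸ fibreIdeal f x) ≃+* (f.fiber (f x)).presheaf.stalk (f.asFiber x) :=
  (quotientCongr f (f.fiberι_asFiber x).symm).trans (quotientEquivStalkFiber f (f x) (f.asFiber x))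

end main

end Groth.Agent.H49.FibreStalk
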