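import Groth.Agent.H49.FlatInfinitesimal

/-!
# Flatness from flatness over all infinitesimal neighbourhoods of a closed subscheme (helper49)
-/

set_option autoImplicit false
universe u

open CategoryTheory CategoryTheory.Limits AlgebraicGeometry Opposite TopologicalSpace

namespace Groth.Agent.H49.FlatInf

variable {X S : Scheme.{u}}

/-- The fibre product of affine opens is an affine open of the fibre product. -/
theorem isAffineOpen_inf_preimage {X S X' S' : Scheme.{u}} {f : X ⟶ S} {g : S' ⟶ S}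
    {f' : X' ⟶ S'} {g' : X' ⟶ X}
    (hc : IsPullback g' f' f g) {V : S.Opens} {V' : S'.Opens} {U : X.Opens}
    (hV : IsAffineOpen V) (hV' : IsAffineOpen V') (hU : IsAffineOpen U)
    (hV'V : V' ≤ g ⁻¹ᵁ V) (hUV : U ≤ f ⁻¹ᵁ V) :
    IsAffineOpen (g' ⁻¹ᵁ U ⊓ f' ⁻¹ᵁ V') := by
  have : IsAffine (V : Scheme.{u}) := hV
  have : IsAffine (V' : Scheme.{u}) := hV'
  have : IsAffine (U : Scheme.{u}) := hU
  exact .of_isIso (Scheme.Hom.isPullback_resLE hc hV'V hUV rfl).isoPullback.hom

/-- A point of the support of an ideal sheaf: the ideal is contained in the prime of the point. -/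
theorem ideal_le_primeIdealOf_of_mem_support (I : S.IdealSheafData) {V : S.Opens}
    (hV : IsAffineOpen V) {s : S} (hsV : s ∈ V) (hs : s ∈ I.support) :
    I.ideal ⟨V, hV⟩ ≤ (hV.primeIdealOf ⟨s, hsV⟩).asIdeal := by
  intro a ha
  rw [Scheme.IdealSheafData.mem_support_iff_of_mem (U := ⟨V, hV⟩) hsV,
    Scheme.mem_zeroLocus_iff] at hs
  have h1 := hs a ha
  by_contra hcon
  apply h1
  have h2 : hV.primeIdealOf ⟨s, hsV⟩ ∈ PrimeSpectrum.basicOpen a := hcon
  have h3 : hV.fromSpec (hV.primeIdealOf ⟨s, hsV⟩) ∈ S.basicOpen a := by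
    rw [← Scheme.Hom.mem_preimage, hV.fromSpec_preimage_basicOpen]
    exact h2
  rwa [hV.fromSpec_primeIdealOf] at h3

/-- The data needed at level `n`: sections of the closed subscheme and of the fibre product. -/
theorem exists_pushout_data (f : X ⟶ S) (I : S.IdealSheafData) (n : ℕ)
    (h : Flat (pullback.snd f (I ^ (n + 1)).subschemeι)) {U : X.Opens} {V : S.Opens}
    (hU : IsAffineOpen U) (hV : IsAffineOpen V) (hUV : U ≤ f ⁻¹ᵁ V) :
    letI := (f.appLE V U hUV).hom.toAlgebra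
    ∃ (Q T : Type u) (_ : CommRing Q) (_ : CommRing T) (_ : Algebra Γ(S, V) Q)
      (_ : Algebra Q T) (_ : Algebra Γ(X, U) T) (_ : Algebra Γ(S, V) T)
      (_ : IsScalarTower Γ(S, V) Q T) (_ : IsScalarTower Γ(S, V) Γ(X, U) T),
      Function.Surjective (algebraMap Γ(S, V) Q) ∧
      RingHom.ker (algebraMap Γ(S, V) Q) = (I.ideal ⟨V, hV⟩) ^ (n + 1) ∧
      Algebra.IsPushout Γ(S, V) Γ(X, U) Q T ∧ Module.Flat Q T := by
  let _ : Algebra Γ(S, V) Γ(X, U) := (f.appLE V U hUV).hom.toAlgebra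
  let ι := (I ^ (n + 1)).subschemeι
  let W : (I ^ (n + 1)).subscheme.Opens := ι ⁻¹ᵁ V
  have hW : IsAffineOpen W := hV.preimage ι
  let fst := pullback.fst f ι
  let snd := pullback.snd f ι
  have hc : IsPullback fst snd f ι := IsPullback.of_hasPullback f ι
  let UY : (pullback f ι).Opens := fst ⁻¹ᵁ U ⊓ snd ⁻¹ᵁ W
  have hUY : IsAffineOpen UY := isAffineOpen_inf_preimage hc hV hW hU le_rfl hUV
  have hpo : IsPushout (f.appLE V U hUV) (ι.appLE V W le_rfl)
      (fst.appLE U UY inf_le_left) (snd.appLE W UY inf_le_right) := by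
    have := isIso_pushoutSection_of_isAffineOpen hc (le_refl W) hUV rfl hV hW hU
    exact (isIso_pushoutSection_iff hc (le_refl W) hUV rfl).mp this
  let _ : Algebra Γ(S, V) Γ((I ^ (n + 1)).subscheme, W) := (ι.appLE V W le_rfl).hom.toAlgebra
  let _ : Algebra Γ((I ^ (n + 1)).subscheme, W) Γ(pullback f ι, UY) :=
    (snd.appLE W UY inf_le_right).hom.toAlgebra
  let _ : Algebra Γ(X, U) Γ(pullback f ι, UY) := (fst.appLE U UY inf_le_left).hom.toAlgebra
  let _ : Algebra Γ(S, V) Γ(pullback f ι, UY) :=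
    ((f.appLE V U hUV) ≫ (fst.appLE U UY inf_le_left)).hom.toAlgebra
  have t1 : IsScalarTower Γ(S, V) Γ(X, U) Γ(pullback f ι, UY) :=
    IsScalarTower.of_algebraMap_eq fun r => rfl
  have t2 : IsScalarTower Γ(S, V) Γ((I ^ (n + 1)).subscheme, W) Γ(pullback f ι, UY) :=
    IsScalarTower.of_algebraMap_eq fun r => congr($(hpo.w).hom r)
  refine ⟨Γ((I ^ (n + 1)).subscheme, W), Γ(pullback f ι, UY), inferInstance, inferInstance,
    inferInstance, inferInstance, inferInstance, inferInstance, t2, t1, ?_, ?_, ?_, ?_⟩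
  · have := (I ^ (n + 1)).subschemeι_app_surjective ⟨V, hV⟩
    rw [Scheme.Hom.app_eq_appLE] at this
    exact this
  · have := (I ^ (n + 1)).ker_subschemeι_app ⟨V, hV⟩
    rw [Scheme.Hom.app_eq_appLE] at this
    exact this
  · exact CommRingCat.isPushout_iff_isPushout.mp hpo
  · exact HasRingHomProperty.appLE (P := @Flat) snd h ⟨W, hW⟩ ⟨UY, hUY⟩ inf_le_right

/-- **Flatness from flatness over all infinitesimal neighbourhoods of a closed subscheme.** -/
theorem flat_stalkMap_of_flat_infinitesimal (f : X ⟶ S) [IsLocallyNoetherian X]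
    [IsLocallyNoetherian S] (I : S.IdealSheafData)
    (h : ∀ n : ℕ, Flat (pullback.snd f (I ^ (n + 1)).subschemeι)) (x : X)
    (hx : f x ∈ I.support) : (f.stalkMap x).hom.Flat := by
  obtain ⟨_, ⟨V, hV, rfl⟩, hxV, -⟩ :=
    S.isBasis_affineOpens.exists_subset_of_mem_open (Set.mem_univ (f x)) isOpen_univ
  have hV : IsAffineOpen V := hV
  obtain ⟨_, ⟨U, hU, rfl⟩, hxU, hUV⟩ :=
    X.isBasis_affineOpens.exists_subset_of_mem_open
      (show x ∈ ((f ⁻¹ᵁ V : X.Opens) : Set X) from hxV) (f ⁻¹ᵁ V).2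
  have hU : IsAffineOpen U := hU
  have hUV : U ≤ f ⁻¹ᵁ V := hUV
  have hxU : x ∈ U := hxU
  let _ : Algebra Γ(S, V) Γ(X, U) := (f.appLE V U hUV).hom.toAlgebra
  have : IsNoetherianRing Γ(S, V) := IsLocallyNoetherian.component_noetherian ⟨V, hV⟩
  have : IsNoetherianRing Γ(X, U) := IsLocallyNoetherian.component_noetherian ⟨U, hU⟩
  let p := (hV.primeIdealOf ⟨f x, hUV hxU⟩).asIdeal
  let q := (hU.primeIdealOf ⟨x, hxU⟩).asIdeal
  have hqp : q.LiesOver p :=
    ⟨congr($(IsAffineOpen.comap_primeIdealOf_appLE V hV U hU hUV hxU).1).symm⟩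
  have hIp : I.ideal ⟨V, hV⟩ ≤ p := ideal_le_primeIdealOf_of_mem_support I hV (hUV hxU) hx
  have hIq : (I.ideal ⟨V, hV⟩).map (algebraMap Γ(S, V) Γ(X, U)) ≤ q := by
    rw [Ideal.map_le_iff_le_comap]
    refine hIp.trans (le_of_eq ?_)
    exact hqp.over
  have key : Module.Flat Γ(S, V) (Localization.AtPrime q) :=
    flat_atPrime_of_flat_pushouts (I.ideal ⟨V, hV⟩) q hIq
      (fun n => exists_pushout_data f I n (h n) hU hV hUV)
  let _ := Localization.AtPrime.algebraOfLiesOver p q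
  have h1 : Module.Flat (Localization.AtPrime p) (Localization.AtPrime q) :=
    (Module.flat_iff_of_isLocalization (Localization.AtPrime p) p.primeCompl
      (Localization.AtPrime q)).mpr key
  have h2 : (algebraMap (Localization.AtPrime p) (Localization.AtPrime q)).Flat := h1
  exact (RingHom.Flat.respectsIso.arrow_mk_iso_iff
    (IsAffineOpen.arrowStalkMapIso f V hV U hU hUV hxU)).mpr h2

end Groth.Agent.H49.FlatInf
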