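import Groth.Agent.H54.Dim
import Groth.Agent.H29.TopDim
import Groth.Agent.H49.FlatInfScheme
import Mathlib.AlgebraicGeometry.Fiber
import Mathlib.RingTheory.RingHom.Integral
import Mathlib.AlgebraicGeometry.Morphisms.FiniteType

/-!
# Dimension of fibres is invariant under base change (helper49)
-/

set_option autoImplicit false
universe u

open CategoryTheory CategoryTheory.Limits AlgebraicGeometry Opposite TopologicalSpace

namespace Groth.Agent.H49.FibreDimBC

section ring

open TensorProduct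

/-- The Krull dimension of a finite type algebra over a field is invariant under extension of the
base field. -/
theorem ringKrullDim_tensor_field (k K A : Type u) [Field k] [Field K] [Algebra k K] [CommRing A]
    [Algebra k A] [Algebra.FiniteType k A] : ringKrullDim (A ⊗[k] K) = ringKrullDim A := by
  rcases subsingleton_or_nontrivial A with hA | hA
  · have : Subsingleton (A ⊗[k] K) := by
      refine ⟨fun x y => ?_⟩
      have h1 : (1 : A ⊗[k] K) = 0 := by
        rw [Algebra.TensorProduct.one_def, Subsingleton.elim (1 : A) 0, zero_tmul]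
      rw [← mul_one x, ← mul_one y, h1, mul_zero, mul_zero]
    rw [ringKrullDim_eq_bot_of_subsingleton, ringKrullDim_eq_bot_of_subsingleton]
  obtain ⟨s, g, hinj, hint⟩ := exists_integral_inj_algHom_of_fg k A
  let P := MvPolynomial (Fin s) k
  have h1 : ringKrullDim A = s := by
    rw [← Groth.Agent.H54.ringKrullDim_eq_of_ringHom_isIntegral_of_injective g.toRingHom hint hinj,
      Groth.Agent.H54.ringKrullDim_mvPolynomial_fin_field]
  let _ : Algebra P A := g.toRingHom.toAlgebra
  have : IsScalarTower k P A := IsScalarTower.of_algebraMap_eq' g.comp_algebraMap.symm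
  let gK : P ⊗[k] K →ₐ[k] A ⊗[k] K :=
    Algebra.TensorProduct.map (IsScalarTower.toAlgHom k P A) (AlgHom.id k K)
  let _ : Algebra (P ⊗[k] K) (A ⊗[k] K) := gK.toRingHom.toAlgebra
  have : IsScalarTower P (P ⊗[k] K) (A ⊗[k] K) := IsScalarTower.of_algebraMap_eq fun a => by
    change _ = gK (a ⊗ₜ 1)
    simp [gK]
  have hpo : Algebra.IsPushout P A (P ⊗[k] K) (A ⊗[k] K) := by
    refine Algebra.IsPushout.tensorProduct_tensorProduct k K P A ?_
    ext x
    change gK (1 ⊗ₜ x) = 1 ⊗ₜ x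
    simp [gK]
  have hintK : (algebraMap (P ⊗[k] K) (A ⊗[k] K)).IsIntegral :=
    RingHom.isIntegral_isStableUnderBaseChange P A (P ⊗[k] K) (A ⊗[k] K) hint
  have hinjK : Function.Injective (algebraMap (P ⊗[k] K) (A ⊗[k] K)) := by
    have := Module.Flat.rTensor_preserves_injective_linearMap (M := K)
      (IsScalarTower.toAlgHom k P A).toLinearMap hinj
    exact this
  have h2 : ringKrullDim (A ⊗[k] K) = ringKrullDim (P ⊗[k] K) :=
    (Groth.Agent.H54.ringKrullDim_eq_of_ringHom_isIntegral_of_injective _ hintK hinjK).symm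
  have h3 : ringKrullDim (P ⊗[k] K) = s := by
    rw [ringKrullDim_eq_of_ringEquiv (Algebra.TensorProduct.comm k P K).toRingEquiv,
      ringKrullDim_eq_of_ringEquiv
      (MvPolynomial.algebraTensorAlgEquiv (σ := Fin s) k K).toRingEquiv,
      Groth.Agent.H54.ringKrullDim_mvPolynomial_fin_field]
  rw [h2, h3, h1]

/-- Pushout form. -/
theorem ringKrullDim_eq_of_isPushout_field (k K A B : Type u) [Field k] [Field K] [Algebra k K]
    [CommRing A] [Algebra k A] [Algebra.FiniteType k A] [CommRing B] [Algebra k B] [Algebra A B]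
    [Algebra K B] [IsScalarTower k A B] [IsScalarTower k K B] [Algebra.IsPushout k A K B] :
    ringKrullDim B = ringKrullDim A :=
  (ringKrullDim_eq_of_ringEquiv (Algebra.IsPushout.equiv k A K B).toRingEquiv).symm.trans
    (ringKrullDim_tensor_field k K A)

end ring

section scheme

/-- Dimension of an affine open. -/
theorem topologicalKrullDim_affineOpen {Z : Scheme.{u}} {U : Z.Opens} (hU : IsAffineOpen U) :
    topologicalKrullDim ↥U = ringKrullDim Γ(Z, U) := by
  rw [← PrimeSpectrum.topologicalKrullDim_eq_ringKrullDim Γ(Z, U)]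
  change _ = topologicalKrullDim (Spec Γ(Z, U))
  exact IsHomeomorph.topologicalKrullDim_eq _ hU.isoSpec.hom.homeomorph.isHomeomorph

/-- Dimension is the supremum of the dimensions of the members of an open cover. -/
theorem topologicalKrullDim_eq_iSup_of_openCover (X : Type u) [TopologicalSpace X] {ι : Type*}
    (U : ι → TopologicalSpace.Opens X) (hcov : ⨆ i, U i = ⊤) :
    topologicalKrullDim X = ⨆ i, topologicalKrullDim (U i) := by
  refine le_antisymm ?_ (iSup_le fun i => topologicalKrullDim_subspace_le X _)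
  refine Groth.Agent.H29.topologicalKrullDim_le_of_forall_chain fun l => ?_
  obtain ⟨x, hx⟩ := l.head.isIrreducible.nonempty
  have hxU : x ∈ (⨆ i, U i : TopologicalSpace.Opens X) := by rw [hcov]; trivial
  obtain ⟨i, hi⟩ := TopologicalSpace.Opens.mem_iSup.mp hxU
  exact le_trans (Groth.Agent.H29.length_le_dim_open (U i : Set X) (U i).2 l ⟨x, hx, hi⟩)
    (le_iSup (fun i => topologicalKrullDim (U i)) i)

/-- Sections over an affine open of the base change of a `k`-scheme along a field extension. -/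
theorem ringKrullDim_preimage_eq {Z W : Scheme.{u}} (k K : Type u) [Field k] [Field K]
    (φ : k →+* K) (z : Z ⟶ Spec (.of k)) [LocallyOfFiniteType z] (p : W ⟶ Z)
    (q : W ⟶ Spec (.of K)) (hpb : IsPullback p q z (Spec.map (CommRingCat.ofHom φ)))
    {U : Z.Opens} (hU : IsAffineOpen U) :
    IsAffineOpen (p ⁻¹ᵁ U) ∧ ringKrullDim Γ(W, p ⁻¹ᵁ U) = ringKrullDim Γ(Z, U) := by
  have hS : IsAffineOpen (⊤ : (Spec (.of k)).Opens) := isAffineOpen_top _
  have hT : IsAffineOpen (⊤ : (Spec (.of K)).Opens) := isAffineOpen_top _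
  have hUST : (⊤ : (Spec (.of K)).Opens) ≤ (Spec.map (CommRingCat.ofHom φ)) ⁻¹ᵁ ⊤ := by simp
  have hUSX : U ≤ z ⁻¹ᵁ ⊤ := by simp
  have hUY : p ⁻¹ᵁ U = p ⁻¹ᵁ U ⊓ q ⁻¹ᵁ ⊤ := by simp
  have haff : IsAffineOpen (p ⁻¹ᵁ U) := by
    rw [hUY]
    exact FlatInf.isAffineOpen_inf_preimage hpb hS hT hU hUST hUSX
  refine ⟨haff, ?_⟩
  have hpo : IsPushout (z.appLE ⊤ U hUSX) ((Spec.map (CommRingCat.ofHom φ)).appLE ⊤ ⊤ hUST)
      (p.appLE U (p ⁻¹ᵁ U) le_rfl) (q.appLE ⊤ (p ⁻¹ᵁ U) (by simp)) := by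
    have := isIso_pushoutSection_of_isAffineOpen hpb hUST hUSX hUY hS hT hU
    exact (isIso_pushoutSection_iff hpb hUST hUSX hUY).mp this
  let e₁ := Scheme.ΓSpecIso (CommRingCat.of k)
  let e₃ := Scheme.ΓSpecIso (CommRingCat.of K)
  have hpo' : IsPushout (e₁.inv ≫ z.appLE ⊤ U hUSX) (CommRingCat.ofHom φ)
      (p.appLE U (p ⁻¹ᵁ U) le_rfl) (e₃.inv ≫ q.appLE ⊤ (p ⁻¹ᵁ U) (by simp)) := by
    refine IsPushout.of_iso hpo e₁ (Iso.refl _) e₃ (Iso.refl _) ?_ ?_ ?_ ?_
    · simp
    · have h1 : (Spec.map (CommRingCat.ofHom φ)).appLE ⊤ ⊤ hUST =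
          (Spec.map (CommRingCat.ofHom φ)).appTop := by
        simp only [Scheme.Hom.appLE, Scheme.Hom.appTop]
        exact (congrArg (fun t => _ ≫ t)
          ((Spec (CommRingCat.of K)).presheaf.map_id _)).trans (Category.comp_id _)
      rw [h1]
      exact Scheme.ΓSpecIso_naturality (CommRingCat.ofHom φ)
    · simp
    · simp
  let _ : Algebra k K := φ.toAlgebra
  let _ : Algebra k Γ(Z, U) := (e₁.inv ≫ z.appLE ⊤ U hUSX).hom.toAlgebra
  let _ : Algebra Γ(Z, U) Γ(W, p ⁻¹ᵁ U) := (p.appLE U (p ⁻¹ᵁ U) le_rfl).hom.toAlgebra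
  let _ : Algebra K Γ(W, p ⁻¹ᵁ U) := (e₃.inv ≫ q.appLE ⊤ (p ⁻¹ᵁ U) (by simp)).hom.toAlgebra
  let _ : Algebra k Γ(W, p ⁻¹ᵁ U) :=
    ((e₁.inv ≫ z.appLE ⊤ U hUSX) ≫ (p.appLE U (p ⁻¹ᵁ U) le_rfl)).hom.toAlgebra
  have t1 : IsScalarTower k Γ(Z, U) Γ(W, p ⁻¹ᵁ U) :=
    IsScalarTower.of_algebraMap_eq fun r => rfl
  have t2 : IsScalarTower k K Γ(W, p ⁻¹ᵁ U) :=
    IsScalarTower.of_algebraMap_eq fun r => congr($(hpo'.w).hom r)
  have hft : Algebra.FiniteType k Γ(Z, U) := by
    have hft : RingHom.FiniteType (z.appLE ⊤ U hUSX).hom :=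
      HasRingHomProperty.appLE @LocallyOfFiniteType z inferInstance ⟨⊤, isAffineOpen_top _⟩
        ⟨U, hU⟩ hUSX
    have : RingHom.FiniteType (e₁.inv ≫ z.appLE ⊤ U hUSX).hom := by
      rw [CommRingCat.hom_comp]
      refine hft.comp ?_
      exact RingHom.FiniteType.of_surjective _
        (ConcreteCategory.bijective_of_isIso e₁.inv).2
    exact this
  have hpo'' : Algebra.IsPushout k Γ(Z, U) K Γ(W, p ⁻¹ᵁ U) :=
    CommRingCat.isPushout_iff_isPushout.mp hpo'
  exact ringKrullDim_eq_of_isPushout_field k K Γ(Z, U) Γ(W, p ⁻¹ᵁ U)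

/-- **Dimension is invariant under extension of the base field.** -/
theorem topologicalKrullDim_eq_of_isPullback_field {Z W : Scheme.{u}} (k K : Type u) [Field k]
    [Field K] (φ : k →+* K) (z : Z ⟶ Spec (.of k)) [LocallyOfFiniteType z] (p : W ⟶ Z)
    (q : W ⟶ Spec (.of K)) (hpb : IsPullback p q z (Spec.map (CommRingCat.ofHom φ))) :
    topologicalKrullDim W = topologicalKrullDim Z := by
  have hZ : (⨆ U : Z.affineOpens, (U : Z.Opens)) = ⊤ := iSup_affineOpens_eq_top Z
  have hW : (⨆ U : Z.affineOpens, p ⁻¹ᵁ (U : Z.Opens)) = ⊤ := by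
    rw [← Scheme.Hom.preimage_iSup, hZ, Scheme.Hom.preimage_top]
  rw [topologicalKrullDim_eq_iSup_of_openCover Z (fun U : Z.affineOpens => (U : Z.Opens)) hZ,
    topologicalKrullDim_eq_iSup_of_openCover W (fun U : Z.affineOpens => p ⁻¹ᵁ (U : Z.Opens)) hW]
  refine iSup_congr fun U => ?_
  obtain ⟨haff, hdim⟩ := ringKrullDim_preimage_eq k K φ z p q hpb U.2
  rw [topologicalKrullDim_affineOpen haff, topologicalKrullDim_affineOpen U.2, hdim]

/-- **Fibre dimension is invariant under base change.** -/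
theorem topologicalKrullDim_fiber_eq {X Y X' Y' : Scheme.{u}} (f : X ⟶ Y) [LocallyOfFiniteType f]
    (g : Y' ⟶ Y) (f' : X' ⟶ Y') (g' : X' ⟶ X) (hc : IsPullback g' f' f g) (y' : Y') :
    topologicalKrullDim ↑(f'.fiber y') = topologicalKrullDim ↑(f.fiber (g y')) := by
  have hsq := isPullback_fiberToSpecResidueField_of_isPullback hc y'
  have : LocallyOfFiniteType (f.fiberToSpecResidueField (g y')) :=
    inferInstanceAs (LocallyOfFiniteType (pullback.snd f (Y.fromSpecResidueField (g y'))))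
  exact topologicalKrullDim_eq_of_isPullback_field (Y.residueField (g y')) (Y'.residueField y')
    (g.residueFieldMap y').hom (f.fiberToSpecResidueField (g y')) _
    (f'.fiberToSpecResidueField y') hsq

end scheme

end Groth.Agent.H49.FibreDimBC
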