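import Groth.Agent.S5761
import Groth.Agent.H14.CMEtale
import Groth.Agent.H15.Depth

set_option autoImplicit false
universe u

namespace Groth.Agent.H49

/-- Cohen–Macaulay local rings are invariant under ring isomorphism. -/
theorem isCohenMacaulayLocalRing_of_ringEquiv {R S : Type u} [CommRing R] [CommRing S]
    (e : R ≃+* S) (h : LocCoh.IsCohenMacaulayLocalRing R) : LocCoh.IsCohenMacaulayLocalRing S := by
  haveI : IsLocalRing R := h.toIsLocalRing
  haveI : IsNoetherianRing R := h.toIsNoetherian
  haveI : IsLocalRing S := e.isLocalRing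
  haveI : IsNoetherianRing S := isNoetherianRing_of_ringEquiv R e
  letI : Algebra R S := e.toRingHom.toAlgebra
  haveI : IsLocalHom (algebraMap R S) := by
    constructor
    intro a ha
    have : IsUnit (e.symm (e a)) := ha.map e.symm
    simpa using this
  haveI : IsLocalization.AtPrime S (IsLocalRing.maximalIdeal R) := by
    refine IsLocalization.of_le_isUnit_of_bijective ?_ e.bijective
    rintro _ ⟨x, hx, rfl⟩
    have hx' : IsUnit x := by
      by_contra hcon
      exact hx ((IsLocalRing.mem_maximalIdeal x).mpr hcon)
    exact hx'.map (algebraMap R S)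
  exact (Groth.Agent.H14.isCohenMacaulayLocalRing_iff_of_etale_localRingHom R S R
    (IsLocalRing.maximalIdeal R)).mp h

/-- The localization of a Cohen–Macaulay local ring at a prime is Cohen–Macaulay. -/
theorem isCohenMacaulayLocalRing_localization (A : Type u) [CommRing A]
    (hA : LocCoh.IsCohenMacaulayLocalRing A) (p : Ideal A) [hp : p.IsPrime] :
    LocCoh.IsCohenMacaulayLocalRing (Localization.AtPrime p) := by
  haveI : IsLocalRing A := hA.toIsLocalRing
  haveI : IsNoetherianRing A := hA.toIsNoetherian
  have hsupp : (⟨p, hp⟩ : PrimeSpectrum A) ∈ Module.support A A := by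
    rw [Module.support_eq_zeroLocus, Module.annihilator_eq_bot.mpr inferInstance]
    simp
  have h := Groth.Agent.S5761.result A A hA.supportDim_eq_depth ⟨p, hp⟩ hsupp
  let e : LocalizedModule p.primeCompl A ≃ₗ[Localization.AtPrime p] Localization.AtPrime p :=
    LinearEquiv.refl _ _
  refine { supportDim_eq_depth := ?_ }
  unfold LocCoh.IsCohenMacaulayModule LocCoh.depth at h
  unfold LocCoh.depth
  rw [← Module.supportDim_eq_of_equiv e, ← Groth.Agent.H15.idealDepth_congr e]
  exact h

end Groth.Agent.H49
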