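import Groth.Prelude.Def_AlgSp

set_option autoImplicit false
universe u
open CategoryTheory CategoryTheory.Limits AlgebraicGeometry Opposite

namespace Groth.Agent.H49

open AlgSp

variable {S : Scheme.{u}}

/-- A morphism of fppf sheaves is a monomorphism as soon as it is injective on maps from
representable sheaves. -/
theorem mono_of_forall_yon {F G : Sp S} (f : F ⟶ G)
    (h : ∀ (T : Over S) (a b : (yon S).obj T ⟶ F), a ≫ f = b ≫ f → a = b) : Mono f := by
  refine ⟨fun {Z} u v huv => ?_⟩
  apply GrothendieckTopology.hom_ext_uliftYoneda.{u+1} (J S)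
  intro T p
  apply h
  simp only [Category.assoc, huv]

/-- A morphism of fppf sheaves representable by monomorphisms of schemes is a monomorphism. -/
theorem mono_of_repWith_mono {P : MorphismProperty Scheme.{u}}
    (hP : P ≤ MorphismProperty.monomorphisms Scheme.{u}) {F G : Sp S} (f : F ⟶ G)
    (hf : RepWith P f) : Mono f := by
  apply mono_of_forall_yon
  intro T a b hab
  have hrep : Representable f := hf.rep
  have hmono : Mono (hrep.snd (a ≫ f)) := by
    have h1 : P (hrep.snd (a ≫ f)).left := hf.property_snd (a ≫ f)
    have h2 : Mono (hrep.snd (a ≫ f)).left := hP _ h1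
    exact (Over.forget S).mono_of_mono_map h2
  have key : hrep.lift (g := a ≫ f) a (𝟙 T) (by simp) = hrep.lift b (𝟙 T) (by simp [← hab]) := by
    simp only [← cancel_mono (hrep.snd (a ≫ f)), Functor.relativelyRepresentable.lift_snd]
  simpa using (yon S).congr_map key =≫ (hrep.fst (a ≫ f))

end Groth.Agent.H49
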