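import Groth.Prelude.Def_AlgSp
import Mathlib.CategoryTheory.Sites.LocallySurjective

set_option autoImplicit false
universe u
open CategoryTheory CategoryTheory.Limits AlgebraicGeometry Opposite

namespace Groth.Agent.H49

open AlgSp

variable {S : Scheme.{u}}

/-- A sieve on `T : Over S` containing an fppf covering morphism is covering for the fppf
topology over `S`. -/
theorem mem_J_of_fppf_cover {T V : Over S} (p : V ⟶ T) (h1 : Flat p.left)
    (h2 : LocallyOfFinitePresentation p.left) (h3 : Surjective p.left) (R : Sieve T) (hR : R p) :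
    R ∈ J S T := by
  rw [GrothendieckTopology.mem_over_iff]
  have hmem : Presieve.singleton p.left ∈ Scheme.fppfPrecoverage T.left := by
    rw [Scheme.fppfPrecoverage, Scheme.singleton_mem_precoverage_iff]
    exact ⟨h3.surj, h1, h2⟩
  refine GrothendieckTopology.superset_covering _ ?_
    (Precoverage.generate_mem_toGrothendieck hmem)
  rw [Sieve.generate_le_iff]
  rintro Z f ⟨⟩
  rw [Sieve.overEquiv_iff]
  have e : (Over.homMk p.left : Over.mk (p.left ≫ T.hom) ⟶ T) =
      (Over.isoMk (Iso.refl _) (by simp) : Over.mk (p.left ≫ T.hom) ≅ V).hom ≫ p := by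
    ext; simp
  rw [e]
  exact R.downward_closed hR _

/-- A morphism of sheaves representable by fppf coverings is locally surjective. -/
theorem isLocallySurjective_of_repWith_fppf {F G : Sp S} (a : F ⟶ G)
    (h₁ : RepWith @Flat a) (h₂ : RepWith @LocallyOfFinitePresentation a)
    (h₃ : RepWith @Surjective a) : Sheaf.IsLocallySurjective a := by
  refine ⟨fun {T} s => ?_⟩
  set ξ : (yon S).obj T ⟶ G := (J S).uliftYonedaEquiv.symm s with hξ
  obtain ⟨V, p, fst, sq⟩ := h₁.rep ξ
  refine mem_J_of_fppf_cover p (h₁.property ξ fst p sq) (h₂.property ξ fst p sq)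
    (h₃.property ξ fst p sq) _ ?_
  refine ⟨(J S).uliftYonedaEquiv fst, ?_⟩
  have h1 : a.hom.app (Opposite.op V) ((J S).uliftYonedaEquiv fst) =
      (J S).uliftYonedaEquiv (fst ≫ a) := ((J S).uliftYonedaEquiv_comp fst a).symm
  have h2 : G.obj.map p.op ((J S).uliftYonedaEquiv ξ) =
      (J S).uliftYonedaEquiv ((yon S).map p ≫ ξ) :=
    (J S).uliftYonedaEquiv_naturality ξ p
  have h3 : (J S).uliftYonedaEquiv ξ = s := by rw [hξ]; simp
  rw [h3] at h2
  exact h1.trans ((congrArg _ sq.w).trans h2.symm)

theorem repWith_flat_of_etale {F G : Sp S} {q : F ⟶ G} (hqe : RepWith @Etale q) :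
    RepWith @Flat q :=
  MorphismProperty.relative_monotone
    (P := MorphismProperty.inverseImage (@Etale) (Over.forget S))
    (P' := MorphismProperty.inverseImage (@Flat) (Over.forget S))
    (fun (A B : Over S) (k : A ⟶ B) (hk : Etale k.left) => (inferInstance : Flat k.left)) _ hqe

theorem repWith_lfp_of_etale {F G : Sp S} {q : F ⟶ G} (hqe : RepWith @Etale q) :
    RepWith @LocallyOfFinitePresentation q :=
  MorphismProperty.relative_monotone
    (P := MorphismProperty.inverseImage (@Etale) (Over.forget S))
    (P' := MorphismProperty.inverseImage (@LocallyOfFinitePresentation) (Over.forget S))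
    (fun (A B : Over S) (k : A ⟶ B) (hk : Etale k.left) =>
      (inferInstance : LocallyOfFinitePresentation k.left)) _ hqe

/-- An étale surjective representable morphism is locally surjective. -/
theorem isLocallySurjective_of_repWith_etale_surjective {F G : Sp S} (q : F ⟶ G)
    (hqe : RepWith @Etale q) (hqs : RepWith @Surjective q) : Sheaf.IsLocallySurjective q :=
  isLocallySurjective_of_repWith_fppf q (repWith_flat_of_etale hqe) (repWith_lfp_of_etale hqe) hqs

end Groth.Agent.H49
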