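import Groth.Prelude.Def_AlgSp
import Groth.Agent.H49.AlgSpCover

set_option autoImplicit false
universe u
open CategoryTheory CategoryTheory.Limits AlgebraicGeometry Opposite

namespace Groth.Agent.H49

open AlgSp

variable {S : Scheme.{u}}

/-- Restricting a represented base change along a morphism of schemes: the represented base change
over `U''` is the scheme-theoretic base change of the one over `U`. -/
theorem exists_isPullback_left_of_isPullback {F G : Sp S} {a : F ⟶ G} {U V U'' V'' : Over S}
    {ξ : (yon S).obj U ⟶ G} {fst : (yon S).obj V ⟶ F} {snd : V ⟶ U}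
    (sqV : IsPullback fst ((yon S).map snd) a ξ) (γ : U'' ⟶ U)
    {fst'' : (yon S).obj V'' ⟶ F} {snd'' : V'' ⟶ U''}
    (sq'' : IsPullback fst'' ((yon S).map snd'') a ((yon S).map γ ≫ ξ)) :
    ∃ k' : V'' ⟶ V, IsPullback k'.left snd''.left snd.left γ.left := by
  have h := IsPullback.of_right' sq'' sqV
  obtain ⟨k', hk'⟩ := (yon S).map_surjective
    (sqV.lift fst'' ((yon S).map snd'' ≫ (yon S).map γ) (by rw [sq''.w, Category.assoc]))
  rw [← hk'] at h
  have h' : IsPullback k' snd'' snd γ := IsPullback.of_map_of_faithful (yon S) h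
  exact ⟨k', h'.map (Over.forget S)⟩

instance fppfPrecoverage_hasIsos : Scheme.fppfPrecoverage.{u}.HasIsos := by
  unfold Scheme.fppfPrecoverage
  have h1 : (@Flat ⊓ @LocallyOfFinitePresentation :
      MorphismProperty Scheme.{u}).ContainsIdentities :=
    ⟨fun X => ⟨inferInstance, inferInstance⟩⟩
  have h2 : (@Flat ⊓ @LocallyOfFinitePresentation :
      MorphismProperty Scheme.{u}).RespectsIso :=
    MorphismProperty.IsStableUnderBaseChange.respectsIso
  infer_instance

/-- Descent of a property along a locally surjective map of sheaves: if the base change `a'` of a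
representable morphism `a` along a locally surjective `b` has `P` (fppf local on the target), so
does `a`. -/
theorem repWith_of_isLocallySurjective_base {F G H Q : Sp S} (a : F ⟶ G) (ha : Representable a)
    (b : H ⟶ G) [Sheaf.IsLocallySurjective b] (b' : Q ⟶ F) (a' : Q ⟶ H)
    (sq : IsPullback b' a' a b) (P : MorphismProperty Scheme.{u})
    [P.IsLocalAtTarget Scheme.fppfPrecoverage] (h : RepWith P a') : RepWith P a := by
  refine ⟨ha, ?_⟩
  intro U V ξ fst snd sqV
  change P snd.left
  have hmem := Presheaf.imageSieve_mem (J S) b.hom (U := op U) ((J S).uliftYonedaEquiv ξ)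
  rw [GrothendieckTopology.mem_over_iff,
    Precoverage.mem_toGrothendieck_iff_of_isStableUnderComposition] at hmem
  obtain ⟨R, hR, hle⟩ := hmem
  refine MorphismProperty.IsLocalAtTarget.of_forall_pullbackSnd (P := P) hR ?_
  intro U' g _ hg
  have hg' := hle _ _ hg
  rw [Sieve.overEquiv_iff] at hg'
  obtain ⟨t, ht⟩ := hg'
  let U'' : Over S := Over.mk (g ≫ U.hom)
  let γ : U'' ⟶ U := Over.homMk g
  let η : (yon S).obj U'' ⟶ H := (J S).uliftYonedaEquiv.symm t
  have hηb : η ≫ b = (yon S).map γ ≫ ξ := by
    apply (J S).uliftYonedaEquiv.injective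
    rw [(J S).uliftYonedaEquiv_comp, Equiv.apply_symm_apply,
      ← (J S).uliftYonedaEquiv_naturality]
    exact ht
  obtain ⟨V'', snd'', fst'', sq''⟩ := h.rep η
  have hP : P snd''.left := h.property η fst'' snd'' sq''
  have sqbig : IsPullback (fst'' ≫ b') ((yon S).map snd'') a ((yon S).map γ ≫ ξ) := by
    rw [← hηb]
    exact sq''.paste_horiz sq
  obtain ⟨k', hk'⟩ := exists_isPullback_left_of_isPullback sqV γ sqbig
  have hγl : γ.left = g := rfl
  rw [hγl] at hk'
  rw [← hk'.isoPullback_inv_snd, P.cancel_left_of_respectsIso]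
  exact hP

/-- Being a monomorphism of sheaves descends along a locally surjective base change. -/
theorem mono_of_isPullback_of_isLocallySurjective {F G H Q : Sp S} (f : F ⟶ G) (p : H ⟶ G)
    [Sheaf.IsLocallySurjective p] {fst : Q ⟶ F} {snd : Q ⟶ H} (sq : IsPullback fst snd f p)
    [Mono snd] : Mono f := by
  refine ⟨fun {Z} u v huv => ?_⟩
  apply GrothendieckTopology.hom_ext_uliftYoneda.{u+1} (J S)
  intro T c
  set a := c ≫ u with ha
  set b := c ≫ v with hb
  have hab : a ≫ f = b ≫ f := by simp only [ha, hb, Category.assoc, huv]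
  apply (J S).uliftYonedaEquiv.injective
  have hmem := Presheaf.imageSieve_mem (J S) p.hom (U := op T) ((J S).uliftYonedaEquiv (a ≫ f))
  have hsep : Presieve.IsSeparated (J S) F.obj :=
    ((isSheaf_iff_isSheaf_of_type _ _).1 F.property).isSeparated
  refine (hsep _ hmem).ext ?_
  intro T' t ht
  obtain ⟨s, hs⟩ := ht
  let η : (yon S).obj T' ⟶ H := (J S).uliftYonedaEquiv.symm s
  have hηp : η ≫ p = (yon S).map t ≫ a ≫ f := by
    apply (J S).uliftYonedaEquiv.injective
    rw [(J S).uliftYonedaEquiv_comp, Equiv.apply_symm_apply,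
      ← (J S).uliftYonedaEquiv_naturality]
    exact hs
  have h1 : sq.lift ((yon S).map t ≫ a) η (by rw [Category.assoc, hηp]) =
      sq.lift ((yon S).map t ≫ b) η (by rw [Category.assoc, ← hab, hηp]) := by
    rw [← cancel_mono snd, sq.lift_snd, sq.lift_snd]
  have h2 : (yon S).map t ≫ a = (yon S).map t ≫ b := by
    have := congrArg (· ≫ fst) h1
    simpa using this
  rw [(J S).uliftYonedaEquiv_naturality, (J S).uliftYonedaEquiv_naturality, h2]

end Groth.Agent.H49
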