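import Mathlib.CategoryTheory.Limits.Shapes.Pullback.IsPullback.Basic
import Mathlib.CategoryTheory.Limits.Shapes.BinaryProducts

set_option autoImplicit false
universe v₁ u₁
open CategoryTheory CategoryTheory.Limits

namespace Groth.Agent.H49

variable {C : Type u₁} [Category.{v₁} C]

/-- Cancel a monomorphism on the right of a pullback square. -/
theorem isPullback_of_comp_mono {P X Y Z Z' : C} {fst : P ⟶ X} {snd : P ⟶ Y} {f : X ⟶ Z}
    {g : Y ⟶ Z} (i : Z ⟶ Z') [Mono i] (h : IsPullback fst snd (f ≫ i) (g ≫ i)) :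
    IsPullback fst snd f g := by
  have w : fst ≫ f = snd ≫ g := by
    rw [← cancel_mono i, Category.assoc, Category.assoc, h.w]
  refine ⟨⟨w⟩, ⟨PullbackCone.IsLimit.mk _
    (fun s => h.lift s.fst s.snd (by rw [← Category.assoc, s.condition, Category.assoc]))
    (fun s => by simp) (fun s => by simp) (fun s m h1 h2 => ?_)⟩⟩
  apply h.hom_ext
  · simpa using h1
  · simpa using h2

variable [HasBinaryProducts C]

set_option backward.isDefEq.respectTransparency false in
/-- If `W = A ×_X B`, then `W ⟶ A ⨯ B` is the base change of the diagonal of `X` along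
`a × b`. -/
theorem isPullback_diag_prodMap {X A B W : C} {a : A ⟶ X} {b : B ⟶ X} {p₁ : W ⟶ A} {p₂ : W ⟶ B}
    (h : IsPullback p₁ p₂ a b) :
    IsPullback (p₁ ≫ a) (prod.lift p₁ p₂) (diag X) (prod.map a b) := by
  have w : (p₁ ≫ a) ≫ diag X = prod.lift p₁ p₂ ≫ prod.map a b := by
    ext
    · simp
    · simp [h.w]
  refine ⟨⟨w⟩, ⟨PullbackCone.IsLimit.mk _
    (fun s => h.lift (s.snd ≫ prod.fst) (s.snd ≫ prod.snd) ?_)
    (fun s => ?_) (fun s => ?_) (fun s m h1 h2 => ?_)⟩⟩
  · have e1 := s.condition =≫ prod.fst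
    have e2 := s.condition =≫ prod.snd
    simp only [Category.assoc, prod.lift_fst, prod.lift_snd, Category.comp_id, prod.map_fst,
      prod.map_snd, diag] at e1 e2
    rw [Category.assoc, Category.assoc, ← e1, ← e2]
  · have e1 := s.condition =≫ prod.fst
    simp only [Category.assoc, prod.lift_fst, Category.comp_id, prod.map_fst, diag] at e1
    rw [← Category.assoc, h.lift_fst, Category.assoc, ← e1]
  · ext
    · simp
    · simp
  · apply h.hom_ext
    · rw [h.lift_fst, ← h2]; simp
    · rw [h.lift_snd, ← h2]; simp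

set_option backward.isDefEq.respectTransparency false in
/-- The base change of the diagonal of `X` along `g : U ⟶ X ⨯ X` is the base change of
`U ×_X U ⟶ U ⨯ U` along the diagonal of `U`. -/
theorem exists_isPullback_diag_of_isPullback {X U V W : C} {g : U ⟶ X ⨯ X} {fst : V ⟶ X}
    {snd : V ⟶ U} (sqV : IsPullback fst snd (diag X) g) {p₁ p₂ : W ⟶ U}
    (sqW : IsPullback p₁ p₂ (g ≫ prod.fst) (g ≫ prod.snd)) :
    ∃ k : V ⟶ W, IsPullback k snd (prod.lift p₁ p₂) (diag U) := by
  have hg : g = diag U ≫ prod.map (g ≫ prod.fst) (g ≫ prod.snd) := by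
    ext <;> simp
  have sqA := isPullback_diag_prodMap sqW
  have sqV' : IsPullback fst snd (diag X) (diag U ≫ prod.map (g ≫ prod.fst) (g ≫ prod.snd)) := by
    rw [← hg]; exact sqV
  exact ⟨_, IsPullback.of_right' sqV' sqA⟩

end Groth.Agent.H49
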