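import Mathlib.CategoryTheory.MorphismProperty.Representable
import Mathlib.CategoryTheory.Limits.Shapes.Diagonal
import Mathlib.CategoryTheory.Limits.Preserves.Shapes.Equalizers

set_option autoImplicit false
universe v₁ v₂ u₁ u₂
open CategoryTheory CategoryTheory.Limits

namespace Groth.Agent.H49

variable {C : Type u₁} [Category.{v₁} C] {D : Type u₂} [Category.{v₂} D]

set_option backward.isDefEq.respectTransparency false in
/-- The equalizer of two sections of `p` is the base change of the diagonal of `p`. -/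
theorem isPullback_equalizer_diagonal [HasEqualizers C] [HasPullbacks C] {U V : C} (p : V ⟶ U)
    (s₁ s₂ : U ⟶ V) (h₁ : s₁ ≫ p = 𝟙 U) (h₂ : s₂ ≫ p = 𝟙 U) :
    IsPullback (equalizer.ι s₁ s₂ ≫ s₁) (equalizer.ι s₁ s₂) (pullback.diagonal p)
      (pullback.lift s₁ s₂ (by rw [h₁, h₂])) := by
  have w : (equalizer.ι s₁ s₂ ≫ s₁) ≫ pullback.diagonal p =
      equalizer.ι s₁ s₂ ≫ pullback.lift s₁ s₂ (by rw [h₁, h₂]) := by
    apply pullback.hom_ext
    · simp
    · simp only [Category.assoc, pullback.diagonal_snd, Category.comp_id, pullback.lift_snd]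
      exact equalizer.condition s₁ s₂
  refine ⟨⟨w⟩, ⟨PullbackCone.IsLimit.mk _
    (fun s => equalizer.lift s.snd ?_) (fun s => ?_) (fun s => ?_) (fun s m h1 h2 => ?_)⟩⟩
  · have e1 := s.condition =≫ pullback.fst p p
    have e2 := s.condition =≫ pullback.snd p p
    simp only [Category.assoc, pullback.diagonal_fst, pullback.diagonal_snd, Category.comp_id,
      pullback.lift_fst, pullback.lift_snd] at e1 e2
    rw [← e1, ← e2]
  · have e1 := s.condition =≫ pullback.fst p p
    simp only [Category.assoc, pullback.diagonal_fst, Category.comp_id, pullback.lift_fst] at e1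
    rw [← Category.assoc, equalizer.lift_ι, e1]
  · exact equalizer.lift_ι _ _
  · apply equalizer.hom_ext
    rw [equalizer.lift_ι, h2]

/-- Explicit description of the base change of the relative diagonal of a relatively representable
morphism: it is represented by the equalizer of two sections. -/
theorem exists_isPullback_diagonal_equalizer (F : C ⥤ D) [F.Full] [F.Faithful]
    [HasEqualizers C] [PreservesLimitsOfShape WalkingParallelPair F] [HasPullbacks D]
    {X Y : D} (a : X ⟶ Y) {U V : C} (ξ : F.obj U ⟶ pullback a a) {p : V ⟶ U} {q : F.obj V ⟶ X}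
    (sq : IsPullback q (F.map p) a ((ξ ≫ pullback.fst a a) ≫ a)) :
    ∃ (s₁ s₂ : U ⟶ V), s₁ ≫ p = 𝟙 U ∧ s₂ ≫ p = 𝟙 U ∧
      IsPullback (F.map (equalizer.ι s₁ s₂) ≫ ξ ≫ pullback.fst a a) (F.map (equalizer.ι s₁ s₂))
        (pullback.diagonal a) ξ := by
  set x₁ := ξ ≫ pullback.fst a a with hx₁
  set x₂ := ξ ≫ pullback.snd a a with hx₂
  have hx : x₁ ≫ a = x₂ ≫ a := by simp [hx₁, hx₂, pullback.condition]
  obtain ⟨s₁, hs₁q, hs₁p⟩ : ∃ s₁ : U ⟶ V, F.map s₁ ≫ q = x₁ ∧ s₁ ≫ p = 𝟙 U := by
    refine ⟨F.preimage (sq.lift x₁ (𝟙 _) (by simp)), by simp, F.map_injective (by simp)⟩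
  obtain ⟨s₂, hs₂q, hs₂p⟩ : ∃ s₂ : U ⟶ V, F.map s₂ ≫ q = x₂ ∧ s₂ ≫ p = 𝟙 U := by
    refine ⟨F.preimage (sq.lift x₂ (𝟙 _) (by simp [hx])), by simp, F.map_injective (by simp)⟩
  refine ⟨s₁, s₂, hs₁p, hs₂p, ?_⟩
  have hι : F.map (equalizer.ι s₁ s₂) ≫ x₁ = F.map (equalizer.ι s₁ s₂) ≫ x₂ := by
    rw [← hs₁q, ← hs₂q, ← F.map_comp_assoc, equalizer.condition, F.map_comp_assoc]
  have hlim := isLimitForkMapOfIsLimit F _ (equalizerIsEqualizer s₁ s₂)
  have hw : (F.map (equalizer.ι s₁ s₂) ≫ x₁) ≫ pullback.diagonal a =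
      F.map (equalizer.ι s₁ s₂) ≫ ξ := by
    apply pullback.hom_ext
    · simp [hx₁]
    · simp only [Category.assoc, pullback.diagonal_snd, Category.comp_id]
      rw [hι]
  have hmono : Mono (F.map (equalizer.ι s₁ s₂)) := Fork.IsLimit.mono hlim
  have key : ∀ (s : PullbackCone (pullback.diagonal a) ξ),
      s.snd ≫ F.map s₁ = s.snd ≫ F.map s₂ := by
    intro s
    have h1 : s.fst = s.snd ≫ x₁ := by
      have := s.condition =≫ pullback.fst a a
      simpa [hx₁] using this
    have h2 : s.fst = s.snd ≫ x₂ := by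
      have := s.condition =≫ pullback.snd a a
      simpa [hx₂] using this
    apply sq.hom_ext
    · rw [Category.assoc, Category.assoc, hs₁q, hs₂q, ← h1, ← h2]
    · rw [Category.assoc, Category.assoc, ← F.map_comp, ← F.map_comp, hs₁p, hs₂p]
  refine ⟨⟨hw⟩, ⟨PullbackCone.IsLimit.mk _ (fun s => Fork.IsLimit.lift hlim s.snd (key s))
    (fun s => ?_) (fun s => ?_) (fun s m h1 h2 => ?_)⟩⟩
  · have h1 : s.fst = s.snd ≫ x₁ := by
      have := s.condition =≫ pullback.fst a a
      simpa [hx₁] using this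
    rw [h1, ← Category.assoc]
    congr 1
    exact Fork.IsLimit.lift_ι' hlim _ _
  · exact Fork.IsLimit.lift_ι' hlim _ _
  · rw [← cancel_mono (F.map (equalizer.ι s₁ s₂)), h2]
    exact (Fork.IsLimit.lift_ι' hlim _ _).symm

/-- The relative diagonal of a relatively representable morphism is relatively representable,
for a fully faithful functor preserving equalizers. -/
theorem relativelyRepresentable_pullback_diagonal (F : C ⥤ D) [F.Full] [F.Faithful]
    [HasEqualizers C] [PreservesLimitsOfShape WalkingParallelPair F] [HasPullbacks D]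
    {X Y : D} (a : X ⟶ Y) (ha : F.relativelyRepresentable a) :
    F.relativelyRepresentable (pullback.diagonal a) := by
  intro U ξ
  obtain ⟨V, p, q, sq⟩ := ha ((ξ ≫ pullback.fst a a) ≫ a)
  obtain ⟨s₁, s₂, -, -, h⟩ := exists_isPullback_diagonal_equalizer F a ξ sq
  exact ⟨_, _, _, h⟩

end Groth.Agent.H49
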