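import Mathlib.CategoryTheory.MorphismProperty.Representable
import Mathlib.CategoryTheory.Sites.Subcanonical
import Mathlib.CategoryTheory.Limits.Types.Pullbacks

set_option autoImplicit false
universe w v u₁
open CategoryTheory CategoryTheory.Limits Opposite Presieve

namespace Groth.Agent.H49

variable {C : Type u₁} [Category.{v} C]

/-- Elementwise extraction from a pullback square of presheaves. -/
theorem presheaf_isPullback_app {P₁ P₂ P₃ P₄ : Cᵒᵖ ⥤ Type w} {t : P₁ ⟶ P₂} {l : P₁ ⟶ P₃}
    {r : P₂ ⟶ P₄} {b : P₃ ⟶ P₄} (sq : IsPullback t l r b) (W : Cᵒᵖ) :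
    IsPullback (t.app W) (l.app W) (r.app W) (b.app W) :=
  sq.map ((evaluation _ _).obj W)

/-- If `a : F ⟶ G` is a morphism of presheaves relatively representable with respect to
`uliftYoneda`, all representable presheaves are sheaves, and `G` is a sheaf, then `F` is a sheaf. -/
theorem isSheaf_of_relativelyRepresentable (J : GrothendieckTopology C)
    (hJ : ∀ V : C, Presieve.IsSheaf J (uliftYoneda.{w}.obj V))
    {F G : Cᵒᵖ ⥤ Type (max w v)} (a : F ⟶ G)
    (ha : (uliftYoneda.{w}).relativelyRepresentable a) (hG : Presieve.IsSheaf J G) :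
    Presieve.IsSheaf J F := by
  intro T R hR x hx
  obtain ⟨y, hy, hy_uniq⟩ := hG R hR (x.map a) (hx.map a)
  set ξ : uliftYoneda.{w}.obj T ⟶ G := uliftYonedaEquiv.symm y with hξ
  have hξapp : ∀ {W : C} (f : W ⟶ T), ξ.app (op W) ⟨f⟩ = G.map f.op y := fun f => rfl
  obtain ⟨V, p, q, sq⟩ := ha ξ
  have sqW := fun W : C => presheaf_isPullback_app sq (op W)
  -- the lifted family
  have hex : ∀ {W : C} (f : W ⟶ T) (hf : R f), ∃ σ : ULift.{w} (W ⟶ V),
      q.app (op W) σ = x f hf ∧ σ.down ≫ p = f := by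
    intro W f hf
    obtain ⟨σ, h1, h2⟩ := Types.exists_of_isPullback (sqW W) (x f hf) ⟨f⟩ (by
      rw [hξapp]; exact (hy f hf).symm)
    refine ⟨σ, h1, ?_⟩
    exact congrArg ULift.down h2
  choose σ hσq hσp using @hex
  have hpapp : ∀ {W : C} (s : ULift.{w} (W ⟶ V)),
      ((uliftYoneda.{w}).map p).app (op W) s = ⟨s.down ≫ p⟩ := fun s => rfl
  have hVmap : ∀ {W Z : C} (g : Z ⟶ W) (s : ULift.{w} (W ⟶ V)),
      ((uliftYoneda.{w}).obj V).map g.op s = ⟨g ≫ s.down⟩ := fun g s => rfl
  let σfam : FamilyOfElements (uliftYoneda.{w}.obj V) R.arrows := fun W f hf => σ f hf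
  have hσcompat : σfam.Compatible := by
    rw [compatible_iff_sieveCompatible]
    intro Y Z f g hf
    apply Types.ext_of_isPullback (sqW Z)
    · have h1 : q.app (op Z) (σfam (g ≫ f) (R.downward_closed hf g)) =
          x (g ≫ f) (R.downward_closed hf g) := hσq _ _
      rw [h1, NatTrans.naturality_apply]
      have h2 : q.app (op Y) (σfam f hf) = x f hf := hσq _ _
      rw [h2]
      exact (compatible_iff_sieveCompatible x).1 hx f g hf
    · rw [hpapp, hVmap, hpapp]
      congr 1
      have h1 : (σfam (g ≫ f) (R.downward_closed hf g)).down ≫ p = g ≫ f := hσp _ _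
      have h2 : (σfam f hf).down ≫ p = f := hσp _ _
      rw [h1, Category.assoc, h2]
  obtain ⟨s, hs, hs_uniq⟩ := hJ V R hR σfam hσcompat
  refine ⟨q.app (op T) s, ?_, ?_⟩
  · intro W f hf
    rw [← NatTrans.naturality_apply, hs f hf]
    exact hσq f hf
  · intro t' ht'
    have hat' : a.app (op T) t' = y := hy_uniq _ (ht'.map a)
    obtain ⟨s', h1, h2⟩ := Types.exists_of_isPullback (sqW T) t' ⟨𝟙 T⟩ (by
      rw [hξapp, hat']; simp)
    have hs' : s' = s := by
      apply hs_uniq
      intro W f hf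
      apply Types.ext_of_isPullback (sqW W)
      · rw [NatTrans.naturality_apply, h1, ht' f hf]
        exact (hσq f hf).symm
      · rw [NatTrans.naturality_apply, h2, hpapp]
        have h3 : (σfam f hf).down ≫ p = f := hσp _ _
        rw [h3]
        change (⟨f ≫ 𝟙 T⟩ : ULift.{w} (W ⟶ T)) = ⟨f⟩
        rw [Category.comp_id]
    rw [← h1, hs']

end Groth.Agent.H49
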