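import Groth.Prelude.Def_AlgSpRep
import Groth.Agent.H49.RelRepDiag
import Groth.Agent.H49.DiagPullback
import Groth.Agent.H49.RelRepSheaf
import Groth.Agent.H49.AlgSpBasic

set_option autoImplicit false
universe u
open CategoryTheory CategoryTheory.Limits AlgebraicGeometry Opposite

namespace Groth.Agent.H49

open AlgSp

variable {S : Scheme.{u}}

/-- Representability of a morphism of sheaves can be tested on the underlying presheaves. -/
theorem representable_iff_pyon {F G : Sp S} (f : F ⟶ G) :
    Representable f ↔ (pyon S).relativelyRepresentable f.hom := by
  constructor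
  · intro h U ξ
    obtain ⟨V, snd, fst, sq⟩ := h (ObjectProperty.homMk ξ : (yon S).obj U ⟶ G)
    exact ⟨V, snd, fst.hom, sq.map (sheafToPresheaf (J S) (Type (u + 1)))⟩
  · intro h U ξ
    obtain ⟨V, snd, fst, sq⟩ := h ξ.hom
    refine ⟨V, snd, ObjectProperty.homMk fst, ?_⟩
    exact IsPullback.of_map_of_faithful (sheafToPresheaf (J S) (Type (u + 1))) sq

/-- A representable morphism has representable relative diagonal. -/
theorem representable_le_diagonal :
    Representable (S := S) ≤ (Representable (S := S)).diagonal :=
  fun _ _ f hf => relativelyRepresentable_pullback_diagonal (yon S) f hf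

set_option backward.isDefEq.respectTransparency false in
theorem diag_eq_diagonal_terminal (X : Sp S) :
    Limits.diag X = pullback.diagonal (terminal.from X) ≫ (prodIsoPullback X X).inv := by
  rw [Iso.eq_comp_inv]
  apply pullback.hom_ext
  · simp
  · simp

theorem representable_diag_iff (X : Sp S) :
    Representable (Limits.diag X) ↔ (Representable (S := S)).diagonal (terminal.from X) := by
  rw [diag_eq_diagonal_terminal, MorphismProperty.diagonal_iff]
  exact MorphismProperty.cancel_right_of_respectsIso _ _ _

/-- If `Q` has representable diagonal and `j : P ⟶ Q` has representable relative diagonal, then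
`P` has representable diagonal. -/
theorem representable_diag_of_diagonal {P Q : Sp S} (j : P ⟶ Q)
    (hQ : Representable (Limits.diag Q)) (hj : (Representable (S := S)).diagonal j) :
    Representable (Limits.diag P) := by
  rw [representable_diag_iff] at hQ ⊢
  rw [← terminal.comp_from j]
  exact MorphismProperty.comp_mem _ _ _ hj hQ

/-- If `Q` has representable diagonal and `j : P ⟶ Q` is representable, then `P` has
representable diagonal. -/
theorem representable_diag_of_representable {P Q : Sp S} (j : P ⟶ Q)
    (hQ : Representable (Limits.diag Q)) (hj : Representable j) :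
    Representable (Limits.diag P) :=
  representable_diag_of_diagonal j hQ (representable_le_diagonal _ hj)

/-- Products of sheaves with representable diagonal have representable diagonal. -/
theorem representable_diag_prod {A B : Sp S} (hA : Representable (Limits.diag A))
    (hB : Representable (Limits.diag B)) : Representable (Limits.diag (A ⨯ B)) := by
  refine representable_diag_of_diagonal (prod.fst : A ⨯ B ⟶ A) hA ?_
  rw [representable_diag_iff] at hB
  exact MorphismProperty.of_isPullback (P := (Representable (S := S)).diagonal)
    (IsPullback.of_hasBinaryProduct' (X := A) (Y := B)).flip hB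

/-- A fibre product of sheaves with representable diagonals over a sheaf with representable
diagonal has representable diagonal. -/
theorem representable_diag_of_isPullback {H X Y P : Sp S} {f : X ⟶ H} {g : Y ⟶ H}
    {fst : P ⟶ X} {snd : P ⟶ Y} (h : IsPullback fst snd f g)
    (hH : Representable (Limits.diag H)) (hX : Representable (Limits.diag X))
    (hY : Representable (Limits.diag Y)) : Representable (Limits.diag P) := by
  refine representable_diag_of_representable (prod.lift fst snd) (representable_diag_prod hX hY) ?_
  exact MorphismProperty.of_isPullback (P := Representable (S := S))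
    (isPullback_diag_prodMap h) hH

set_option backward.isDefEq.respectTransparency false in
/-- Generic: the map between fibre products induced by two morphisms with a property `E` stable
under base change and composition has `E`. -/
theorem of_isPullback_lift {C : Type*} [Category C] [HasPullbacks C] (E : MorphismProperty C)
    [E.IsStableUnderBaseChange] [E.IsStableUnderComposition]
    {H X Y P X' Y' P' : C} {f : X ⟶ H} {g : Y ⟶ H} {fst : P ⟶ X} {snd : P ⟶ Y}
    (h : IsPullback fst snd f g) {p : X' ⟶ X} {q : Y' ⟶ Y} {fst' : P' ⟶ X'} {snd' : P' ⟶ Y'}
    (h' : IsPullback fst' snd' (p ≫ f) (q ≫ g)) (hp : E p) (hq : E q) :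
    E (h.lift (fst' ≫ p) (snd' ≫ q) (by simp [h'.w])) := by
  have : E.RespectsIso := MorphismProperty.IsStableUnderBaseChange.respectsIso
  have key : h.lift (fst' ≫ p) (snd' ≫ q) (by simp [h'.w]) =
      h'.isoPullback.hom ≫ pullback.map (p ≫ f) (q ≫ g) f g p q (𝟙 H) (by simp) (by simp) ≫
        h.isoPullback.inv := by
    apply h.hom_ext
    · simp
    · simp
  rw [key, E.cancel_left_of_respectsIso, E.cancel_right_of_respectsIso]
  exact MorphismProperty.pullbackMap hp hq rfl rfl

/-- A sheaf with a representable map to an algebraic space is an algebraic space. -/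
theorem isAlgSpace_of_representable_to {G X : Sp S} (a : G ⟶ X) (ha : Representable a)
    (hX : IsAlgSpace X) : IsAlgSpace G where
  diag := representable_diag_of_representable a hX.diag ha
  atlas := by
    obtain ⟨U, p, hpE, hpS⟩ := hX.atlas
    obtain ⟨V, snd, fst, sq⟩ := ha p
    exact ⟨V, fst, MorphismProperty.of_isPullback (P := RepWith @Etale) sq.flip hpE,
      MorphismProperty.of_isPullback (P := RepWith @Surjective) sq.flip hpS⟩

/-- A fibre product of algebraic spaces over a sheaf with representable diagonal is an algebraic
space. -/
theorem isAlgSpace_of_isPullback {H X Y P : Sp S} {f : X ⟶ H} {g : Y ⟶ H}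
    {fst : P ⟶ X} {snd : P ⟶ Y} (h : IsPullback fst snd f g)
    (hH : Representable (Limits.diag H)) (hX : IsAlgSpace X) (hY : IsAlgSpace Y) :
    IsAlgSpace P where
  diag := representable_diag_of_isPullback h hH hX.diag hY.diag
  atlas := by
    obtain ⟨U, p, hpE, hpS⟩ := hX.atlas
    obtain ⟨V, q, hqE, hqS⟩ := hY.atlas
    obtain ⟨W, snd', fst', sq⟩ := Functor.relativelyRepresentable.of_diag hH (p ≫ f) (q ≫ g)
    exact ⟨W, _, of_isPullback_lift (RepWith @Etale) h sq hpE hqE,
      of_isPullback_lift (RepWith @Surjective) h sq hpS hqS⟩

end Groth.Agent.H49
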