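import Groth.Prelude.Def_Omega3
import Mathlib.AlgebraicGeometry.IdealSheaf.Functorial
import Mathlib.AlgebraicGeometry.Morphisms.ClosedImmersion

set_option autoImplicit false
universe u

namespace Groth.Agent.H49

open AlgebraicGeometry CategoryTheory Limits

/-- A closed immersion with square-zero kernel is surjective. -/
theorem surjective_of_ker_mul_ker {Z Z' : Scheme.{u}} (i : Z ⟶ Z') [IsClosedImmersion i]
    (h : i.ker * i.ker = ⊥) : Surjective i := by
  have h1 : (i.ker * i.ker).support = i.ker.support := by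
    rw [Scheme.IdealSheafData.support_mul, sup_idem]
  rw [h, Scheme.IdealSheafData.support_bot] at h1
  have h2 : (i.ker.support : Set Z') = closure (Set.range i) := by
    rw [Scheme.Hom.support_ker]
  have h3 : closure (Set.range i) = Set.range i := i.isClosedEmbedding.isClosed_range.closure_eq
  constructor
  rw [← Set.range_eq_univ, ← h3, ← h2, ← h1]
  rfl

theorem isFirstOrderThickening_iff {Z Z' : Scheme.{u}} (i : Z ⟶ Z') :
    MoreMor.IsFirstOrderThickening i ↔ IsClosedImmersion i ∧ i.ker * i.ker = ⊥ := by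
  constructor
  · rintro ⟨⟨h1, -⟩, h2⟩
    exact ⟨h1, h2⟩
  · rintro ⟨h1, h2⟩
    exact ⟨⟨h1, surjective_of_ker_mul_ker i h2⟩, h2⟩

theorem IsFirstOrderThickening.isClosedImmersion {Z Z' : Scheme.{u}} {i : Z ⟶ Z'}
    (h : MoreMor.IsFirstOrderThickening i) : IsClosedImmersion i := h.1.1

theorem IsFirstOrderThickening.surjective {Z Z' : Scheme.{u}} {i : Z ⟶ Z'}
    (h : MoreMor.IsFirstOrderThickening i) : Function.Surjective i := h.1.2.surj

/-- Square-zero on a single affine open. -/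
theorem IsFirstOrderThickening.mul_eq_zero {Z Z' : Scheme.{u}} {i : Z ⟶ Z'}
    (h : MoreMor.IsFirstOrderThickening i) (U : Z'.affineOpens) (x y : Γ(Z', U.1))
    (hx : (i.app U.1).hom x = 0) (hy : (i.app U.1).hom y = 0) : x * y = 0 := by
  haveI := h.1.1
  have h2 : (i.ker * i.ker).ideal U = ⊥ := by rw [h.2]; rfl
  rw [Scheme.IdealSheafData.ideal_mul, Pi.mul_apply, Scheme.Hom.ker_apply] at h2
  have : x * y ∈ RingHom.ker (i.app U.1).hom * RingHom.ker (i.app U.1).hom :=
    Ideal.mul_mem_mul hx hy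
  rw [h2] at this
  exact this

/-- Criterion: closed immersion, and square zero on an affine open cover. -/
theorem isFirstOrderThickening_of_cover {Z Z' : Scheme.{u}} (i : Z ⟶ Z') [IsClosedImmersion i]
    {ι : Type*} (U : ι → Z'.affineOpens) (hU : ⨆ k, (U k).1 = ⊤)
    (H : ∀ k (x y : Γ(Z', (U k).1)), (i.app (U k).1).hom x = 0 → (i.app (U k).1).hom y = 0 →
      x * y = 0) : MoreMor.IsFirstOrderThickening i := by
  rw [isFirstOrderThickening_iff]
  refine ⟨inferInstance, ?_⟩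
  refine Scheme.IdealSheafData.ext_of_iSup_eq_top U hU ?_
  intro k
  rw [Scheme.IdealSheafData.ideal_mul, Pi.mul_apply, Scheme.Hom.ker_apply]
  change _ = (⊥ : Ideal _)
  rw [eq_bot_iff, Ideal.mul_le]
  intro x hx y hy
  exact H k x y hx hy

/-- Restriction of a first order thickening to an open of the target. -/
theorem isFirstOrderThickening_morphismRestrict {Z Z' : Scheme.{u}} {i : Z ⟶ Z'}
    (h : MoreMor.IsFirstOrderThickening i) (V' : Z'.Opens) :
    MoreMor.IsFirstOrderThickening (i ∣_ V') := by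
  haveI := h.1.1
  rw [isFirstOrderThickening_iff]
  refine ⟨inferInstance, ?_⟩
  ext W : 2
  rw [Scheme.IdealSheafData.ideal_mul, Pi.mul_apply, Scheme.ker_morphismRestrict_ideal]
  have h2 : (i.ker * i.ker).ideal ⟨V'.ι ''ᵁ W, W.2.image_of_isOpenImmersion _⟩ = ⊥ := by
    rw [h.2]; rfl
  rw [Scheme.IdealSheafData.ideal_mul, Pi.mul_apply] at h2
  exact h2

theorem isFirstOrderThickening_resLE {Z Z' : Scheme.{u}} {i : Z ⟶ Z'}
    (h : MoreMor.IsFirstOrderThickening i) (V' : Z'.Opens) (V : Z.Opens) (hV : i ⁻¹ᵁ V' = V) :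
    MoreMor.IsFirstOrderThickening (i.resLE V' V hV.ge) := by
  subst hV
  rw [Scheme.Hom.resLE_eq_morphismRestrict]
  exact isFirstOrderThickening_morphismRestrict h V'

/-- If `l ≫ s` is a first order thickening and `s` is a closed immersion, then `l` is a first
order thickening. -/
theorem isFirstOrderThickening_of_comp {Z W Z' : Scheme.{u}} (l : Z ⟶ W) (s : W ⟶ Z')
    [IsClosedImmersion s] (h : MoreMor.IsFirstOrderThickening (l ≫ s)) :
    MoreMor.IsFirstOrderThickening l := by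
  haveI := h.1.1
  haveI : IsClosedImmersion l := IsClosedImmersion.of_comp_isClosedImmersion l s
  refine isFirstOrderThickening_of_cover l
    (fun U : Z'.affineOpens => (⟨s ⁻¹ᵁ U.1, U.2.preimage s⟩ : W.affineOpens)) ?_ ?_
  · change ⨆ U : Z'.affineOpens, s ⁻¹ᵁ U.1 = ⊤
    rw [← Scheme.Hom.preimage_iSup, iSup_affineOpens_eq_top]
    rfl
  · intro U x y hx hy
    obtain ⟨x', rfl⟩ := s.app_surjective U.1 U.2 x
    obtain ⟨y', rfl⟩ := s.app_surjective U.1 U.2 y
    have hx' : ((l ≫ s).app U.1).hom x' = 0 := by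
      rw [Scheme.Hom.comp_app]
      exact hx
    have hy' : ((l ≫ s).app U.1).hom y' = 0 := by
      rw [Scheme.Hom.comp_app]
      exact hy
    have := IsFirstOrderThickening.mul_eq_zero h U x' y' hx' hy'
    change (s.app U.1).hom x' * (s.app U.1).hom y' = 0
    rw [← map_mul, this, map_zero]

/-- `Spec` of a surjective ring map with square-zero kernel is a first order thickening. -/
theorem isFirstOrderThickening_specMap_of_surjective {A B : CommRingCat.{u}} (φ : A ⟶ B)
    (hφ : Function.Surjective φ.hom) (hker : ∀ a b : A, φ.hom a = 0 → φ.hom b = 0 → a * b = 0) :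
    MoreMor.IsFirstOrderThickening (Spec.map φ) := by
  haveI : IsClosedImmersion (Spec.map φ) := IsClosedImmersion.spec_of_surjective φ hφ
  refine isFirstOrderThickening_of_cover (Spec.map φ)
    (fun _ : Unit => (⟨⊤, isAffineOpen_top _⟩ : (Spec A).affineOpens)) ?_ ?_
  · exact ciSup_const
  · intro _ x y hx hy
    have hnat := Scheme.ΓSpecIso_naturality φ
    have key : ∀ z : Γ(Spec A, ⊤), ((Spec.map φ).app ⊤).hom z = 0 →
        φ.hom ((Scheme.ΓSpecIso A).hom.hom z) = 0 := by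
      intro z hz
      have := ConcreteCategory.congr_hom hnat z
      simp only [CommRingCat.comp_apply] at this
      rw [← this]
      change (Scheme.ΓSpecIso B).hom.hom (((Spec.map φ).app ⊤).hom z) = 0
      rw [hz]
      exact map_zero (Scheme.ΓSpecIso B).hom.hom
    have h0 := hker _ _ (key x hx) (key y hy)
    rw [← map_mul] at h0
    have hinj : Function.Injective (Scheme.ΓSpecIso A).hom.hom :=
      (ConcreteCategory.bijective_of_isIso (Scheme.ΓSpecIso A).hom).1
    exact hinj (h0.trans (map_zero _).symm)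

theorem isFirstOrderThickening_specMap_mk (A : Type u) [CommRing A] (I : Ideal A)
    (hI : I ^ 2 = ⊥) :
    MoreMor.IsFirstOrderThickening (Spec.map (CommRingCat.ofHom (Ideal.Quotient.mk I))) := by
  refine isFirstOrderThickening_specMap_of_surjective _ Ideal.Quotient.mk_surjective ?_
  intro a b ha hb
  have ha' : a ∈ I := Ideal.Quotient.eq_zero_iff_mem.mp ha
  have hb' : b ∈ I := Ideal.Quotient.eq_zero_iff_mem.mp hb
  have : a * b ∈ I ^ 2 := by rw [pow_two]; exact Ideal.mul_mem_mul ha' hb'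
  rw [hI] at this
  exact this

theorem specMap_fromSpec_appLE {X : Scheme.{u}} {U : X.Opens} (hU : IsAffineOpen U)
    {R : CommRingCat.{u}} (φ : Γ(X, U) ⟶ R)
    (h : (⊤ : (Spec R).Opens) ≤ (Spec.map φ ≫ hU.fromSpec) ⁻¹ᵁ U) :
    (Spec.map φ ≫ hU.fromSpec).appLE U ⊤ h = φ ≫ (Scheme.ΓSpecIso R).inv := by
  rw [← Scheme.Hom.appLE_comp_appLE _ _ U ⊤ ⊤ (by simp) (by simp)]
  have h1 : hU.fromSpec.appLE U ⊤ (by simp) = (Scheme.ΓSpecIso Γ(X, U)).inv := by
    rw [Scheme.Hom.appLE, hU.fromSpec_app_self, Category.assoc, ← Functor.map_comp]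
    convert Category.comp_id _
    exact (Spec Γ(X, U)).presheaf.map_id _
  have h2 : (Spec.map φ).appLE ⊤ ⊤ (by simp) = (Spec.map φ).appTop := by
    simp only [Scheme.Hom.appLE, Scheme.Hom.appTop]
    exact Category.comp_id _
  rw [h1, h2]
  simp

/-- Kernel of the base change of a closed immersion, on affine opens. -/
theorem ker_app_le_map_of_isPullback {Z Z' W Y' : Scheme.{u}} {i : Z ⟶ Z'} {g : Y' ⟶ Z'}
    {i' : W ⟶ Y'} {g' : W ⟶ Z} [IsClosedImmersion i] (sq : IsPullback i' g' g i)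
    (U : Z'.Opens) (hU : IsAffineOpen U) (V : Y'.Opens) (hV : IsAffineOpen V) (e : V ≤ g ⁻¹ᵁ U)
    (s : Γ(Y', V)) (hs : (i'.app V).hom s = 0) :
    s ∈ (RingHom.ker (i.app U).hom).map (g.appLE U V e).hom := by
  set ψ := (g.appLE U V e).hom with hψ
  set J := (RingHom.ker (i.app U).hom).map ψ with hJ
  let q : Γ(Y', V) ⟶ CommRingCat.of (Γ(Y', V) ⧸ J) := CommRingCat.ofHom (Ideal.Quotient.mk J)
  have hU' : IsAffineOpen (i ⁻¹ᵁ U) := hU.preimage i
  have hle : RingHom.ker (i.app U).hom ≤ RingHom.ker ((Ideal.Quotient.mk J).comp ψ) := by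
    intro x hx
    rw [RingHom.mem_ker, RingHom.comp_apply, Ideal.Quotient.eq_zero_iff_mem]
    exact Ideal.mem_map_of_mem ψ hx
  let ρ₀ : Γ(Z, i ⁻¹ᵁ U) →+* Γ(Y', V) ⧸ J :=
    RingHom.liftOfSurjective (i.app U).hom (i.app_surjective U hU) ⟨(Ideal.Quotient.mk J).comp ψ, hle⟩
  have hρ : ρ₀.comp (i.app U).hom = (Ideal.Quotient.mk J).comp ψ :=
    RingHom.liftOfRightInverse_comp _ _ _ _
  let ρ : Γ(Z, i ⁻¹ᵁ U) ⟶ CommRingCat.of (Γ(Y', V) ⧸ J) := CommRingCat.ofHom ρ₀
  let t : Spec (CommRingCat.of (Γ(Y', V) ⧸ J)) ⟶ Y' := Spec.map q ≫ hV.fromSpec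
  let tZ : Spec (CommRingCat.of (Γ(Y', V) ⧸ J)) ⟶ Z := Spec.map ρ ≫ hU'.fromSpec
  have hring : g.appLE U V e ≫ q = i.app U ≫ ρ := by
    ext x
    exact (RingHom.congr_fun hρ x).symm
  have comm : t ≫ g = tZ ≫ i := by
    simp only [t, tZ, Category.assoc]
    rw [← IsAffineOpen.SpecMap_appLE_fromSpec g hU hV e,
      ← IsAffineOpen.SpecMap_appLE_fromSpec i hU hU' le_rfl, ← Scheme.Hom.app_eq_appLE,
      ← Spec.map_comp_assoc, ← Spec.map_comp_assoc, hring]
  have hw : sq.lift t tZ comm ≫ i' = t := sq.lift_fst _ _ _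
  set w := sq.lift t tZ comm with hwdef
  have htV : (⊤ : (Spec (CommRingCat.of (Γ(Y', V) ⧸ J))).Opens) ≤ t ⁻¹ᵁ V := by
    intro x _
    change (Spec.map q ≫ hV.fromSpec) x ∈ V
    rw [Scheme.Hom.comp_apply]
    have hr : hV.fromSpec ((Spec.map q) x) ∈ Set.range hV.fromSpec := Set.mem_range_self _
    rw [hV.range_fromSpec] at hr
    exact hr
  have h1 : (t.appLE V ⊤ htV).hom s = 0 := by
    have hwV : (⊤ : (Spec (CommRingCat.of (Γ(Y', V) ⧸ J))).Opens) ≤ w ⁻¹ᵁ (i' ⁻¹ᵁ V) := by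
      intro x hx
      have := htV hx
      rw [← hw] at this
      exact this
    have : t.appLE V ⊤ htV = i'.appLE V (i' ⁻¹ᵁ V) le_rfl ≫ w.appLE (i' ⁻¹ᵁ V) ⊤ hwV := by
      rw [Scheme.Hom.appLE_comp_appLE]
      congr 1
      exact hw.symm
    rw [this, ← Scheme.Hom.app_eq_appLE, CommRingCat.comp_apply]
    change (w.appLE (i' ⁻¹ᵁ V) ⊤ hwV).hom ((i'.app V).hom s) = 0
    rw [hs, map_zero]
  have h2 : t.appLE V ⊤ htV = q ≫ (Scheme.ΓSpecIso _).inv := specMap_fromSpec_appLE hV q htV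
  rw [h2, CommRingCat.comp_apply] at h1
  have hinj : Function.Injective (Scheme.ΓSpecIso (CommRingCat.of (Γ(Y', V) ⧸ J))).inv.hom :=
    (ConcreteCategory.bijective_of_isIso (Scheme.ΓSpecIso _).inv).1
  have h3 : q.hom s = 0 := hinj (h1.trans (map_zero _).symm)
  exact Ideal.Quotient.eq_zero_iff_mem.mp h3

/-- Base change of a first order thickening is a first order thickening. -/
theorem isFirstOrderThickening_of_isPullback {Z Z' W Y' : Scheme.{u}} {i : Z ⟶ Z'} {g : Y' ⟶ Z'}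
    {i' : W ⟶ Y'} {g' : W ⟶ Z} (h : MoreMor.IsFirstOrderThickening i)
    (sq : IsPullback i' g' g i) : MoreMor.IsFirstOrderThickening i' := by
  haveI := h.1.1
  haveI : IsClosedImmersion i' := MorphismProperty.of_isPullback sq.flip ‹_›
  have hcov : ∀ y : Y', ∃ (V : Y'.affineOpens) (U : Z'.affineOpens), y ∈ V.1 ∧ V.1 ≤ g ⁻¹ᵁ U.1 := by
    intro y
    obtain ⟨U, hU, hyU, -⟩ := TopologicalSpace.Opens.isBasis_iff_nbhd.mp Z'.isBasis_affineOpens
      (TopologicalSpace.Opens.mem_top (g y))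
    obtain ⟨V, hV, hyV, hVU⟩ := TopologicalSpace.Opens.isBasis_iff_nbhd.mp Y'.isBasis_affineOpens
      (show y ∈ g ⁻¹ᵁ U from hyU)
    exact ⟨⟨V, hV⟩, ⟨U, hU⟩, hyV, hVU⟩
  choose V U hyV hVU using hcov
  refine isFirstOrderThickening_of_cover i' V ?_ ?_
  · rw [eq_top_iff]
    intro y _
    exact TopologicalSpace.Opens.mem_iSup.mpr ⟨y, hyV y⟩
  · intro y x x' hx hx'
    have h1 := ker_app_le_map_of_isPullback sq (U y).1 (U y).2 (V y).1 (V y).2 (hVU y) x hx
    have h2 := ker_app_le_map_of_isPullback sq (U y).1 (U y).2 (V y).1 (V y).2 (hVU y) x' hx'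
    have h3 := Ideal.mul_mem_mul h1 h2
    rw [← Ideal.map_mul] at h3
    have h4 : RingHom.ker (i.app (U y).1).hom * RingHom.ker (i.app (U y).1).hom = ⊥ := by
      rw [eq_bot_iff, Ideal.mul_le]
      intro a ha b hb
      exact IsFirstOrderThickening.mul_eq_zero h (U y) a b ha hb
    rw [h4, Ideal.map_bot] at h3
    exact h3

end Groth.Agent.H49
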