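import Groth.Agent.H49.AlgSpDiagProps

set_option autoImplicit false
universe u
open CategoryTheory CategoryTheory.Limits AlgebraicGeometry Opposite

namespace Groth.Agent.H49

open AlgSp

variable {S : Scheme.{u}}

/-- The seven standard properties of (a base change of) a relative diagonal. -/
def DiagProps {A B : Sp S} (m : A ⟶ B) (sep qsep : Prop) : Prop :=
  Representable m ∧
    RepWith @LocallyOfFiniteType m ∧
    RepWith (@LocallyQuasiFinite ⊓ @LocallyOfFiniteType) m ∧
    RepWith @IsSeparated m ∧
    RepWith (MorphismProperty.monomorphisms Scheme.{u}) m ∧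
    (sep → RepWith @IsClosedImmersion m) ∧
    (qsep → RepWith @QuasiCompact m)

/-- The relative diagonal of a morphism of sheaves whose source is an algebraic space. -/
theorem diagProps_diagonal {X Y : Sp S} (hX : IsAlgSpace X) (f : X ⟶ Y) :
    DiagProps (pullback.diagonal f) (IsSeparatedMor f) (IsQuasiSeparatedMor f) := by
  obtain ⟨h1, h2⟩ := repWith_diag_lft_mono hX
  set j : pullback f f ⟶ X ⨯ X := prod.lift (pullback.fst f f) (pullback.snd f f) with hj
  have hjm : Mono j := by
    refine ⟨fun {Z} u v huv => ?_⟩
    apply pullback.hom_ext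
    · have := huv =≫ prod.fst
      rwa [Category.assoc, Category.assoc, prod.lift_fst] at this
    · have := huv =≫ prod.snd
      rwa [Category.assoc, Category.assoc, prod.lift_snd] at this
  have e : Limits.diag X = pullback.diagonal f ≫ j := by
    apply Limits.prod.hom_ext
    · rw [Category.assoc, hj, prod.lift_fst, prod.lift_fst, pullback.diagonal_fst]
    · rw [Category.assoc, hj, prod.lift_snd, prod.lift_snd, pullback.diagonal_snd]
  have key : ∀ (P : MorphismProperty (Sp S)) [P.IsStableUnderBaseChange],
      P (Limits.diag X) → P (pullback.diagonal f) := by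
    intro P _ hP
    rw [e] at hP
    exact P.of_postcomp (W' := MorphismProperty.monomorphisms _) _ j hjm hP
  have h3 : RepWith @IsSeparated (Limits.diag X) := by
    refine repWith_of_le ?_ h2
    intro A B g hg
    have : Mono g := hg
    exact (inferInstance : IsSeparated g)
  have h4 : RepWith (@LocallyQuasiFinite ⊓ @LocallyOfFiniteType) (Limits.diag X) := by
    refine repWith_of_le ?_ (repWith_inf h1 h2)
    rintro A B g ⟨hg1, hg2⟩
    have : LocallyOfFiniteType g := hg1
    have : Mono g := hg2
    exact ⟨(inferInstance : LocallyQuasiFinite g), hg1⟩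
  exact ⟨key _ hX.diag, key _ h1, key _ h4, key _ h3, key _ h2, fun h => h, fun h => h⟩

/-- The properties pass to any base change. -/
theorem DiagProps.of_isPullback {A B A' B' : Sp S} {m : A ⟶ B} {m' : A' ⟶ B'} {t : A' ⟶ A}
    {b : B' ⟶ B} (sq : IsPullback t m' m b) {sep qsep : Prop} (h : DiagProps m sep qsep) :
    DiagProps m' sep qsep := by
  obtain ⟨h0, h1, h2, h3, h4, h5, h6⟩ := h
  exact ⟨MorphismProperty.of_isPullback (P := Representable (S := S)) sq h0,
    MorphismProperty.of_isPullback (P := RepWith _) sq h1,
    MorphismProperty.of_isPullback (P := RepWith _) sq h2,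
    MorphismProperty.of_isPullback (P := RepWith _) sq h3,
    MorphismProperty.of_isPullback (P := RepWith _) sq h4,
    fun hs => MorphismProperty.of_isPullback (P := RepWith _) sq (h5 hs),
    fun hs => MorphismProperty.of_isPullback (P := RepWith _) sq (h6 hs)⟩

/-- The properties are invariant under composition with an isomorphism on the right. -/
theorem DiagProps.comp_iso {A B B' : Sp S} {m : A ⟶ B} (e : B ⟶ B') [IsIso e]
    {sep qsep : Prop} (h : DiagProps m sep qsep) : DiagProps (m ≫ e) sep qsep := by
  obtain ⟨h0, h1, h2, h3, h4, h5, h6⟩ := h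
  exact ⟨(MorphismProperty.cancel_right_of_respectsIso (Representable (S := S)) m e).2 h0,
    (MorphismProperty.cancel_right_of_respectsIso (RepWith _) m e).2 h1,
    (MorphismProperty.cancel_right_of_respectsIso (RepWith _) m e).2 h2,
    (MorphismProperty.cancel_right_of_respectsIso (RepWith _) m e).2 h3,
    (MorphismProperty.cancel_right_of_respectsIso (RepWith _) m e).2 h4,
    fun hs => (MorphismProperty.cancel_right_of_respectsIso (RepWith _) m e).2 (h5 hs),
    fun hs => (MorphismProperty.cancel_right_of_respectsIso (RepWith _) m e).2 (h6 hs)⟩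

end Groth.Agent.H49
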