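import Groth.Agent.H49.AlgSpUnivClosedQC
import Groth.Agent.H49.AlgSpDiagProps2
import Mathlib.AlgebraicGeometry.ZariskisMainTheorem

set_option autoImplicit false
universe u
open CategoryTheory CategoryTheory.Limits AlgebraicGeometry Opposite

namespace Groth.Agent.H49

open AlgSp

variable {S : Scheme.{u}}

/-- Universally closed morphisms of algebraic spaces compose. -/
theorem isUnivClosedMor_comp {F G H : Sp S} (hG : IsAlgSpace G)
    (hH : Representable (Limits.diag H)) {a : F ⟶ G} {b : G ⟶ H} (ha : IsUnivClosedMor a)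
    (hb : IsUnivClosedMor b) : IsUnivClosedMor (a ≫ b) := by
  intro Z Z' hZ g₀ x y sq₀
  have sq1 : IsPullback (pullback.fst b g₀) (pullback.snd b g₀) b g₀ := .of_hasPullback _ _
  have h1 : IsClosedMap (Points.map (pullback.snd b g₀)) := hb hZ g₀ _ _ sq1
  have h1alg : IsAlgSpace (pullback b g₀) := isAlgSpace_of_isPullback sq1 hH hG hZ
  have hw : (x ≫ a) ≫ b = y ≫ g₀ := by simpa using sq₀.w
  have sq2 : IsPullback x (pullback.lift (x ≫ a) y hw) a (pullback.fst b g₀) := by
    refine IsPullback.of_bot ?_ (pullback.lift_fst _ _ _).symm sq1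
    rw [pullback.lift_snd]
    exact sq₀
  have h2 : IsClosedMap (Points.map (pullback.lift (x ≫ a) y hw)) :=
    ha h1alg (pullback.fst b g₀) x _ sq2
  have e : Points.map y = Points.map (pullback.snd b g₀) ∘ Points.map (pullback.lift (x ≫ a) y hw) := by
    funext z
    rw [Function.comp_apply, ← Points.map_comp, pullback.lift_snd]
  change IsClosedMap (Points.map y)
  rw [e]
  exact h1.comp h2

/-- Surjectivity on points is stable under composition. -/
theorem isSurjectiveMor_comp {F G H : Sp S} {a : F ⟶ G} {b : G ⟶ H} (ha : IsSurjectiveMor a)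
    (hb : IsSurjectiveMor b) : IsSurjectiveMor (a ≫ b) := by
  intro z
  obtain ⟨y, rfl⟩ := hb z
  obtain ⟨x, rfl⟩ := ha y
  exact ⟨x, Points.map_comp a b x⟩

/-- If `f` is surjective and `f ≫ g` is universally closed then `g` is universally closed. -/
theorem isUnivClosedMor_of_comp_surjective {X Y Z : Sp S} (f : X ⟶ Y) (g : Y ⟶ Z)
    (hf : IsSurjectiveMor f) (hfg : IsUnivClosedMor (f ≫ g)) : IsUnivClosedMor g := by
  intro T T' hT g₀ fst snd sq
  have sq2 : IsPullback (pullback.fst fst f) (pullback.snd fst f) fst f :=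
    IsPullback.of_hasPullback _ _
  have big : IsPullback (pullback.snd fst f) (pullback.fst fst f ≫ snd) (f ≫ g) g₀ :=
    sq2.flip.paste_vert sq
  have hcl : IsClosedMap (Points.map (pullback.fst fst f ≫ snd)) := hfg hT g₀ _ _ big
  have hsurj : IsSurjectiveMor (pullback.fst fst f) := isSurjectiveMor_of_isPullback sq2.flip hf
  intro C hC
  have : Points.map snd '' C =
      Points.map (pullback.fst fst f ≫ snd) '' (Points.map (pullback.fst fst f) ⁻¹' C) := by
    ext y
    constructor
    · rintro ⟨x, hx, rfl⟩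
      obtain ⟨w, rfl⟩ := hsurj x
      exact ⟨w, hx, Points.map_comp _ _ w⟩
    · rintro ⟨w, hw, rfl⟩
      exact ⟨_, hw, (Points.map_comp _ _ w).symm⟩
  rw [this]
  exact hcl _ (hC.preimage (Points.continuous_map _))

/-- `f ×_B W : X ×_B W ⟶ Y ×_B W` is a base change of `f`. -/
theorem isPullback_map_fst {C : Type*} [Category C] [HasPullbacks C] {X Y B W : C} (f : X ⟶ Y)
    (q : Y ⟶ B) (w : W ⟶ B) :
    IsPullback (pullback.fst (f ≫ q) w)
      (pullback.map (f ≫ q) w q w f (𝟙 W) (𝟙 B) (by simp) (by simp)) f (pullback.fst q w) := by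
  refine (IsPullback.of_right ?_ ?_ (IsPullback.of_hasPullback q w).flip).flip
  · rw [pullback.lift_snd, Category.comp_id]
    exact (IsPullback.of_hasPullback (f ≫ q) w).flip
  · rw [pullback.lift_fst]

/-- `W ×_B f : W ×_B X ⟶ W ×_B Y` is a base change of `f`. -/
theorem isPullback_map_snd {C : Type*} [Category C] [HasPullbacks C] {X Y B W : C} (f : X ⟶ Y)
    (q : Y ⟶ B) (w : W ⟶ B) :
    IsPullback (pullback.snd w (f ≫ q))
      (pullback.map w (f ≫ q) w q (𝟙 W) f (𝟙 B) (by simp) (by simp)) f (pullback.snd w q) := by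
  refine (IsPullback.of_right ?_ ?_ (IsPullback.of_hasPullback w q)).flip
  · rw [pullback.lift_fst, Category.comp_id]
    exact IsPullback.of_hasPullback w (f ≫ q)
  · rw [pullback.lift_snd]

/-- A representable morphism which is universally closed, locally of finite type and a
monomorphism after every base change to a scheme is a closed immersion. -/
theorem repWith_isClosedImmersion_of_univClosed_lft_mono {F G : Sp S} {m : F ⟶ G}
    (h1 : RepWith @UniversallyClosed m) (h2 : RepWith @LocallyOfFiniteType m)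
    (h3 : RepWith (MorphismProperty.monomorphisms Scheme.{u}) m) :
    RepWith @IsClosedImmersion m := by
  refine ⟨h1.rep, fun T V g fst snd sq => ?_⟩
  have a1 : UniversallyClosed snd.left := h1.property g fst snd sq
  have a2 : LocallyOfFiniteType snd.left := h2.property g fst snd sq
  have a3 : Mono snd.left := h3.property g fst snd sq
  have a4 : IsProper snd.left := IsProper.mk
  exact (IsClosedImmersion.iff_isProper_and_mono _).2 ⟨a4, a3⟩

set_option backward.isDefEq.respectTransparency false in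
/-- Let `f : X ⟶ Y` be a surjective universally closed morphism of algebraic spaces over `B`.
Quasi-separatedness and separatedness of `X` over `B` pass to `Y`. -/
theorem isQuasiSeparatedMor_and_isSeparatedMor_of_surjective_univClosed {X Y B : Sp S}
    (hX : IsAlgSpace X) (hY : IsAlgSpace Y) (hB : IsAlgSpace B) (f : X ⟶ Y) (q : Y ⟶ B)
    (hs : IsSurjectiveMor f) (hc : IsUnivClosedMor f) :
    (IsQuasiSeparatedMor (f ≫ q) → IsQuasiSeparatedMor q) ∧
      (IsSeparatedMor (f ≫ q) → IsSeparatedMor q) := by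
  have sq1 := isPullback_map_fst f q (f ≫ q)
  have sq2 := isPullback_map_snd f q q
  obtain ⟨m₁, hm₁⟩ : ∃ m₁ : pullback (f ≫ q) (f ≫ q) ⟶ pullback q (f ≫ q),
      m₁ = pullback.map (f ≫ q) (f ≫ q) q (f ≫ q) f (𝟙 X) (𝟙 B) (by simp) (by simp) := ⟨_, rfl⟩
  obtain ⟨m₂, hm₂⟩ : ∃ m₂ : pullback q (f ≫ q) ⟶ pullback q q,
      m₂ = pullback.map q (f ≫ q) q q (𝟙 Y) f (𝟙 B) (by simp) (by simp) := ⟨_, rfl⟩
  rw [← hm₁] at sq1
  rw [← hm₂] at sq2
  have hXX : IsAlgSpace (pullback (f ≫ q) (f ≫ q)) :=
    isAlgSpace_of_isPullback (IsPullback.of_hasPullback _ _) hB.diag hX hX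
  have hYX : IsAlgSpace (pullback q (f ≫ q)) :=
    isAlgSpace_of_isPullback (IsPullback.of_hasPullback _ _) hB.diag hY hX
  have hYY : IsAlgSpace (pullback q q) :=
    isAlgSpace_of_isPullback (IsPullback.of_hasPullback _ _) hB.diag hY hY
  have hm₁c : IsUnivClosedMor m₁ := isUnivClosedMor_of_isPullback sq1 hc
  have hm₂c : IsUnivClosedMor m₂ := isUnivClosedMor_of_isPullback sq2 hc
  have hmc : IsUnivClosedMor (m₁ ≫ m₂) := isUnivClosedMor_comp hYX hYY.diag hm₁c hm₂c
  have hcomm : pullback.diagonal (f ≫ q) ≫ m₁ ≫ m₂ = f ≫ pullback.diagonal q := by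
    rw [hm₁, hm₂]
    apply pullback.hom_ext <;> simp
  have hD := diagProps_diagonal hY q
  constructor
  · intro hp
    have h1 : IsQuasiCompactMor (pullback.diagonal (f ≫ q)) :=
      Groth.Agent.H50.isQuasiCompactMor_of_repWith le_rfl _ hp
    have h2 : IsQuasiCompactMor (m₁ ≫ m₂) :=
      isQuasiCompactMor_of_isUnivClosedMor hXX hYY _ hmc
    have h3 := isQuasiCompactMor_comp hXX hYY h1 h2
    rw [hcomm] at h3
    have h4 := isQuasiCompactMor_of_comp_surjective hX hY hYY f (pullback.diagonal q) hs h3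
    exact (repWith_quasiCompact_iff _ hD.1).2 h4
  · intro hp
    have h1 : IsUnivClosedMor (pullback.diagonal (f ≫ q)) :=
      isUnivClosedMor_of_repWith (repWith_of_le
        (fun A B g (hg : IsClosedImmersion g) => (inferInstance : UniversallyClosed g)) hp)
    have h3 := isUnivClosedMor_comp hXX hYY.diag h1 hmc
    rw [hcomm] at h3
    have h4 := isUnivClosedMor_of_comp_surjective f (pullback.diagonal q) hs h3
    have h5 := repWith_universallyClosed_of_isUnivClosedMor hD.1 h4
    exact repWith_isClosedImmersion_of_univClosed_lft_mono h5 hD.2.1 hD.2.2.2.2.1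

end Groth.Agent.H49
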