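import Groth.Agent.H49.AlgSpPoints
import Mathlib.AlgebraicGeometry.Morphisms.UniversallyOpen
import Mathlib.AlgebraicGeometry.Morphisms.UniversallyClosed

set_option autoImplicit false
universe u
open CategoryTheory CategoryTheory.Limits AlgebraicGeometry Opposite

namespace Groth.Agent.H49

open AlgSp

variable {S : Scheme.{u}}

/-- If `RepWith P f`, then `RepWith P.universally f` (all base changes of represented base changes
are again represented base changes). -/
theorem repWith_universally (P : MorphismProperty Scheme.{u}) [P.RespectsIso] {F G : Sp S}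
    {f : F ⟶ G} (hf : RepWith P f) : RepWith P.universally f := by
  refine ⟨hf.rep, ?_⟩
  intro T V g fst snd sq
  change P.universally snd.left
  intro X' Y' i₁ i₂ f' hpb
  let T'' : Over S := Over.mk (i₂ ≫ T.hom)
  let γ : T'' ⟶ T := Over.homMk i₂
  have sqi : IsPullback (pullback.fst snd γ) (pullback.snd snd γ) snd γ :=
    IsPullback.of_hasPullback _ _
  have sqy := (sqi.map (yon S)).paste_horiz sq
  have hP : P (pullback.snd snd γ).left := hf.property _ _ _ sqy
  have sql : IsPullback (pullback.fst snd γ).left (pullback.snd snd γ).left snd.left i₂ :=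
    sqi.map (Over.forget S)
  have e := hpb.flip.isoIsPullback_hom_snd _ _ sql
  rw [← e, P.cancel_left_of_respectsIso]
  exact hP

/-- The map on points of `h_φ` is open iff `φ` is open. -/
theorem isOpenMap_points_yon_map_iff {T T' : Over S} (φ : T ⟶ T') :
    IsOpenMap (Points.map ((yon S).map φ)) ↔ IsOpenMap φ.left := by
  rw [Points.map_yon_map_eq]
  constructor
  · intro h
    have h2 := ((Points.schemeHomeo T').symm.isOpenMap.comp h).comp (Points.schemeHomeo T).isOpenMap
    convert h2 using 1
    ext t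
    simp
  · intro h
    exact ((Points.schemeHomeo T').isOpenMap.comp h).comp (Points.schemeHomeo T).symm.isOpenMap

/-- The map on points of `h_φ` is closed iff `φ` is closed. -/
theorem isClosedMap_points_yon_map_iff {T T' : Over S} (φ : T ⟶ T') :
    IsClosedMap (Points.map ((yon S).map φ)) ↔ IsClosedMap φ.left := by
  rw [Points.map_yon_map_eq]
  constructor
  · intro h
    have h2 := ((Points.schemeHomeo T').symm.isClosedMap.comp h).comp
      (Points.schemeHomeo T).isClosedMap
    convert h2 using 1
    ext t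
    simp
  · intro h
    exact ((Points.schemeHomeo T').isClosedMap.comp h).comp (Points.schemeHomeo T).symm.isClosedMap

/-- Openness on points can be checked on a chart of the target and a jointly surjective family of
charts of the source. -/
theorem isOpenMap_points_of_charts {F' F : Sp S} (φ : F' ⟶ F) {ι : Type*} (W W' : ι → Over S)
    (a : ∀ i, (yon S).obj (W i) ⟶ F) (a' : ∀ i, (yon S).obj (W' i) ⟶ F') (ψ : ∀ i, W' i ⟶ W i)
    (hcomm : ∀ i, a' i ≫ φ = (yon S).map (ψ i) ≫ a i)
    (ha : ∀ i, RepWith @Etale (a i))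
    (hsurj : ∀ x : Points F', ∃ i w, Points.ofPt (a' i) w = x)
    (hψ : ∀ i, IsOpenMap (ψ i).left) : IsOpenMap (Points.map φ) := by
  intro Ω hΩ
  have : Points.map φ '' Ω =
      ⋃ i, Points.ofPt (a i) '' ((ψ i).left '' (Points.ofPt (a' i) ⁻¹' Ω)) := by
    ext y
    simp only [Set.mem_image, Set.mem_iUnion, Set.mem_preimage]
    constructor
    · rintro ⟨x, hx, rfl⟩
      obtain ⟨i, w, rfl⟩ := hsurj x
      refine ⟨i, (ψ i).left w, ⟨w, hx, rfl⟩, ?_⟩
      rw [Points.map_ofPt, hcomm, Groth.Agent.H52.ofPt_yon_map_comp]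
    · rintro ⟨i, _, ⟨w, hw, rfl⟩, rfl⟩
      refine ⟨Points.ofPt (a' i) w, hw, ?_⟩
      rw [Points.map_ofPt, hcomm, Groth.Agent.H52.ofPt_yon_map_comp]
  rw [this]
  refine isOpen_iUnion fun i => ?_
  exact Groth.Agent.H52.isOpenMap_ofPt_of_repWith_etale (a i) (ha i) _
    (hψ i _ (hΩ.preimage (Points.continuous_ofPt (a' i))))

/-- Base changing an atlas of `Z` to `Z' = Z ×_G F` for a representable `f : F ⟶ G`. -/
theorem exists_chart_of_isPullback_representable {F G Z Z' : Sp S} {f : F ⟶ G}
    (hf : Representable f) {g : Z ⟶ G} {fst : Z' ⟶ F} {snd : Z' ⟶ Z}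
    (sq : IsPullback fst snd f g) {W : Over S} (a : (yon S).obj W ⟶ Z) :
    ∃ (W' : Over S) (ψ : W' ⟶ W) (a' : (yon S).obj W' ⟶ Z'),
      IsPullback a' ((yon S).map ψ) snd a ∧ IsPullback (a' ≫ fst) ((yon S).map ψ) f (a ≫ g) := by
  obtain ⟨W', ψ, fst₀, sq₀⟩ := hf (a ≫ g)
  have h := IsPullback.of_right' sq₀ sq
  refine ⟨W', ψ, _, h, ?_⟩
  rw [sq.lift_fst]
  exact sq₀

/-- A representable universally open morphism is universally open on points. -/
theorem isUnivOpenMor_of_repWith {F G : Sp S} {f : F ⟶ G} (hf : RepWith @UniversallyOpen f) :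
    IsUnivOpenMor f := by
  intro Z Z' hZ g fst snd sq
  obtain ⟨W, a, hae, has⟩ := hZ.atlas
  obtain ⟨W', ψ, a', sq1, sq2⟩ := exists_chart_of_isPullback_representable hf.rep sq a
  have hψ : UniversallyOpen ψ.left := hf.property _ _ _ sq2
  have has' : RepWith @Surjective a' :=
    MorphismProperty.of_isPullback (P := RepWith @Surjective) sq1.flip has
  refine isOpenMap_points_of_charts snd (ι := Unit) (fun _ => W) (fun _ => W') (fun _ => a)
    (fun _ => a') (fun _ => ψ) (fun _ => sq1.w) (fun _ => hae) ?_ (fun _ => ψ.left.isOpenMap)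
  intro x
  obtain ⟨w, hw⟩ := Groth.Agent.H52.ofPt_surjective_of_repWith_surjective a' has' x
  exact ⟨(), w, hw⟩

/-- A representable morphism that is universally open on points is representably universally
open. -/
theorem repWith_universallyOpen_of_isUnivOpenMor {F G : Sp S} {f : F ⟶ G} (hf : Representable f)
    (h : IsUnivOpenMor f) : RepWith @UniversallyOpen f := by
  have h1 : RepWith (AlgebraicGeometry.topologically @IsOpenMap) f :=
    ⟨hf, fun T V g fst snd sq => (isOpenMap_points_yon_map_iff snd).1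
      (h (IsAlgSpace.yon_obj T) g fst ((yon S).map snd) sq)⟩
  have h2 := repWith_universally _ h1
  rwa [← UniversallyOpen.eq] at h2

/-- An étale chart is open on points. -/
theorem isOpenMap_points_map_of_etale {F : Sp S} {W : Over S} (a : (yon S).obj W ⟶ F)
    (ha : RepWith @Etale a) : IsOpenMap (Points.map a) := by
  have e : Points.map a = Points.ofPt a ∘ (Points.schemeHomeo W).symm := by
    funext x
    obtain ⟨w, rfl⟩ := (Points.schemeHomeo W).surjective x
    simp only [Function.comp_apply, Homeomorph.symm_apply_apply]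
    exact (Points.ofPt_eq_map_ofScheme a w).symm
  rw [e]
  exact (Groth.Agent.H52.isOpenMap_ofPt_of_repWith_etale a ha).comp
    (Points.schemeHomeo W).symm.isOpenMap

/-- Openness on points can be checked on a jointly surjective family of commutative squares over
étale charts of the target. -/
theorem isOpenMap_points_of_squares {F' F : Sp S} (φ : F' ⟶ F) {ι : Type*} (W : ι → Over S)
    (Q : ι → Sp S) (a : ∀ i, (yon S).obj (W i) ⟶ F) (b : ∀ i, Q i ⟶ F')
    (c : ∀ i, Q i ⟶ (yon S).obj (W i)) (hcomm : ∀ i, b i ≫ φ = c i ≫ a i)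
    (ha : ∀ i, RepWith @Etale (a i))
    (hsurj : ∀ x : Points F', ∃ i z, Points.map (b i) z = x)
    (hc : ∀ i, IsOpenMap (Points.map (c i))) : IsOpenMap (Points.map φ) := by
  intro Ω hΩ
  have : Points.map φ '' Ω =
      ⋃ i, Points.map (a i) '' (Points.map (c i) '' (Points.map (b i) ⁻¹' Ω)) := by
    ext y
    simp only [Set.mem_image, Set.mem_iUnion, Set.mem_preimage]
    constructor
    · rintro ⟨x, hx, rfl⟩
      obtain ⟨i, z, rfl⟩ := hsurj x
      refine ⟨i, Points.map (c i) z, ⟨z, hx, rfl⟩, ?_⟩
      rw [← Points.map_comp, ← Points.map_comp, hcomm]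
    · rintro ⟨i, _, ⟨z, hz, rfl⟩, rfl⟩
      refine ⟨Points.map (b i) z, hz, ?_⟩
      rw [← Points.map_comp, ← Points.map_comp, hcomm]
  rw [this]
  refine isOpen_iUnion fun i => ?_
  exact isOpenMap_points_map_of_etale (a i) (ha i) _
    (hc i _ (hΩ.preimage (Points.continuous_map (b i))))

/-- The composite of an open immersion of schemes with an étale chart is an étale chart. -/
theorem repWith_etale_yon_map_comp {F : Sp S} {W W' : Over S} (j : W' ⟶ W) [Etale j.left]
    (a : (yon S).obj W ⟶ F) (ha : RepWith @Etale a) : RepWith @Etale ((yon S).map j ≫ a) :=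
  MorphismProperty.comp_mem _ _ _ ((repWith_yon_map_iff @Etale j).2 inferInstance) ha

/-- Universal openness on points can be tested on affine schemes. -/
theorem isUnivOpenMor_of_affine {F G : Sp S} (f : F ⟶ G)
    (h : ∀ (Z : Over S), IsAffine Z.left → ∀ (g : (yon S).obj Z ⟶ G) (P : Sp S)
      (fst : P ⟶ F) (snd : P ⟶ (yon S).obj Z), IsPullback fst snd f g →
      IsOpenMap (Points.map snd)) : IsUnivOpenMor f := by
  intro Z Z' hZ g fst snd sq
  obtain ⟨W, a, hae, has⟩ := hZ.atlas
  let 𝒰 := W.left.affineCover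
  let Wi : 𝒰.I₀ → Over S := fun i => Over.mk (𝒰.f i ≫ W.hom)
  let j : ∀ i, Wi i ⟶ W := fun i => Over.homMk (𝒰.f i)
  have hj : ∀ i, Etale (j i).left := fun i => by
    change Etale (𝒰.f i)
    infer_instance
  let ai : ∀ i, (yon S).obj (Wi i) ⟶ Z := fun i => (yon S).map (j i) ≫ a
  refine isOpenMap_points_of_squares snd Wi (fun i => pullback snd (ai i)) ai
    (fun i => pullback.fst _ _) (fun i => pullback.snd _ _) (fun i => pullback.condition)
    (fun i => repWith_etale_yon_map_comp (j i) a hae) ?_ ?_
  · intro x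
    obtain ⟨w, hw⟩ := Groth.Agent.H52.ofPt_surjective_of_repWith_surjective a has (Points.map snd x)
    obtain ⟨i, wi, hwi⟩ := 𝒰.exists_eq w
    have e : Points.map (ai i) (Points.ofScheme (Wi i) wi) = Points.map snd x := by
      rw [← Points.ofPt_eq_map_ofScheme, Groth.Agent.H52.ofPt_yon_map_comp, ← hw]
      congr 1
    obtain ⟨z, hz, -⟩ := Groth.Agent.H53.exists_point_of_isPullback
      (IsPullback.of_hasPullback snd (ai i)) x _ e.symm
    exact ⟨i, z, hz⟩
  · intro i
    have hWi : IsAffine (Wi i).left := by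
      change IsAffine (𝒰.X i)
      infer_instance
    have sqi := (IsPullback.of_hasPullback snd (ai i)).flip.paste_vert sq.flip
    exact h (Wi i) hWi (ai i ≫ g) _ _ _ sqi.flip

/-- Lifting an étale surjective chart of the target to a chart of the source (for sheaves). -/
theorem exists_chart_lift {Z Y : Sp S} (hZ : IsAlgSpace Z) (g : Z ⟶ Y) {V : Over S}
    (q : (yon S).obj V ⟶ Y) (hqe : RepWith @Etale q) (hqs : RepWith @Surjective q) :
    ∃ (U : Over S) (p : (yon S).obj U ⟶ Z) (α : U ⟶ V),
      RepWith @Etale p ∧ RepWith @Surjective p ∧ p ≫ g = (yon S).map α ≫ q := by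
  obtain ⟨U₀, p₀, hp₀e, hp₀s⟩ := hZ.atlas
  obtain ⟨U, snd, fst, sq⟩ := hqe.rep (p₀ ≫ g)
  obtain ⟨α, rfl⟩ := (yon S).map_surjective fst
  refine ⟨U, (yon S).map snd ≫ p₀, α, ?_, ?_, ?_⟩
  · exact MorphismProperty.comp_mem _ _ _
      (MorphismProperty.of_isPullback (P := RepWith @Etale) sq hqe) hp₀e
  · exact MorphismProperty.comp_mem _ _ _
      (MorphismProperty.of_isPullback (P := RepWith @Surjective) sq hqs) hp₀s
  · rw [Category.assoc, sq.w]

/-- Surjectivity on points of the projection from a fibre product with a chart that is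
surjective on points. -/
theorem exists_point_pullback_fst {F' F : Sp S} (φ : F' ⟶ F) {W : Over S}
    (a : (yon S).obj W ⟶ F) (has : RepWith @Surjective a) (x : Points F') :
    ∃ z : Points (pullback φ a), Points.map (pullback.fst φ a) z = x := by
  obtain ⟨w, hw⟩ := Groth.Agent.H52.ofPt_surjective_of_repWith_surjective a has (Points.map φ x)
  rw [Points.ofPt_eq_map_ofScheme] at hw
  obtain ⟨z, hz, -⟩ := Groth.Agent.H53.exists_point_of_isPullback
    (IsPullback.of_hasPullback φ a) x _ hw.symm
  exact ⟨z, hz⟩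

/-- Universal openness on points descends along an étale surjective base change from a scheme. -/
theorem isUnivOpenMor_of_etale_cover {X Y P : Sp S} (f : X ⟶ Y) {V : Over S}
    (p : (yon S).obj V ⟶ Y) (hp : RepWith @Etale p) (hps : RepWith @Surjective p)
    (fst : P ⟶ X) (snd : P ⟶ (yon S).obj V) (sq : IsPullback fst snd f p)
    (h : IsUnivOpenMor snd) : IsUnivOpenMor f := by
  intro Z Z' hZ g fst' snd' sq'
  obtain ⟨W, a, α, hae, has, hcomm⟩ := exists_chart_lift hZ g p hp hps
  refine isOpenMap_points_of_squares snd' (ι := Unit) (fun _ => W) (fun _ => pullback snd' a)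
    (fun _ => a) (fun _ => pullback.fst _ _) (fun _ => pullback.snd _ _)
    (fun _ => pullback.condition) (fun _ => hae) ?_ ?_
  · intro x
    obtain ⟨z, hz⟩ := exists_point_pullback_fst snd' a has x
    exact ⟨(), z, hz⟩
  · intro _
    have outer := ((IsPullback.of_hasPullback snd' a).flip.paste_vert sq'.flip).flip
    rw [hcomm] at outer
    exact h (IsAlgSpace.yon_obj W) ((yon S).map α) _ _ (IsPullback.of_right' outer sq)

/-- A morphism from an algebraic space to the spectrum of a field is universally open. -/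
theorem isUnivOpenMor_to_field {X : Sp S} (hX : IsAlgSpace X) {k : Type u} [Field k]
    (str : Spec (CommRingCat.of k) ⟶ S) (p : X ⟶ (yon S).obj (Over.mk str)) :
    IsUnivOpenMor p := by
  intro Z Z' hZ g fst snd sq
  obtain ⟨W, a, hae, has⟩ := hZ.atlas
  obtain ⟨U, u, hue, hus⟩ := hX.atlas
  obtain ⟨υ, hυ⟩ := (yon S).map_surjective (u ≫ p)
  obtain ⟨ω, hω⟩ := (yon S).map_surjective (a ≫ g)
  have sqO : IsPullback (pullback.fst υ ω) (pullback.snd υ ω) υ ω := IsPullback.of_hasPullback _ _
  have sqy : IsPullback ((yon S).map (pullback.fst υ ω)) ((yon S).map (pullback.snd υ ω))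
      (u ≫ p) (a ≫ g) := by
    rw [← hυ, ← hω]; exact sqO.map (yon S)
  have hb : RepWith @Surjective (sq.lift ((yon S).map (pullback.fst υ ω) ≫ u)
      ((yon S).map (pullback.snd υ ω) ≫ a) (by simp [sqy.w])) :=
    of_isPullback_lift (RepWith @Surjective) sq sqy hus has
  have hopen : UniversallyOpen (pullback.snd υ ω).left := by
    have sql : IsPullback (pullback.fst υ ω).left (pullback.snd υ ω).left υ.left ω.left :=
      sqO.map (Over.forget S)
    have hυo : UniversallyOpen υ.left := by
      have key : ∀ (f : U.left ⟶ Spec (CommRingCat.of k)), UniversallyOpen f :=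
        fun f => inferInstance
      exact key υ.left
    exact MorphismProperty.of_isPullback (P := @UniversallyOpen) sql hυo
  change IsOpenMap (Points.map snd)
  have hw : ((yon S).map (pullback.fst υ ω) ≫ u) ≫ p =
      ((yon S).map (pullback.snd υ ω) ≫ a) ≫ g := by simp [sqy.w]
  refine isOpenMap_points_of_charts snd (ι := Unit) (fun _ => W) (fun _ => pullback υ ω)
    (fun _ => a) (fun _ => sq.lift _ _ hw) (fun _ => pullback.snd υ ω)
    (fun _ => sq.lift_snd _ _ hw) (fun _ => hae) ?_ (fun _ => (pullback.snd υ ω).left.isOpenMap)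
  intro x
  obtain ⟨w, hw⟩ := Groth.Agent.H52.ofPt_surjective_of_repWith_surjective _ hb x
  exact ⟨(), w, hw⟩

end Groth.Agent.H49
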