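import Groth.Prelude.Def_AlgSp4
import Groth.Prelude.Def_AlgSpDec
import Groth.Agent.H52.Chart
import Groth.Agent.H53.Points
import Groth.Agent.H49.AlgSpRep

set_option autoImplicit false
universe u
open CategoryTheory CategoryTheory.Limits AlgebraicGeometry Opposite

namespace Groth.Agent.H49

open AlgSp

variable {S : Scheme.{u}}

/-- A representable surjective morphism of sheaves is surjective on points. -/
theorem points_surjective_of_repWith_surjective {F G : Sp S} (f : F ⟶ G)
    (hf : RepWith @Surjective f) : Function.Surjective (Points.map f) := by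
  intro y
  induction y using Points.ind with
  | h q =>
  have hs : Surjective (hf.rep.snd q.toHom).left := hf.property_snd q.toHom
  obtain ⟨v, -⟩ := hs.surj (IsLocalRing.closedPoint q.K)
  refine ⟨Points.ofPt (hf.rep.fst q.toHom) v, ?_⟩
  rw [Points.map_ofPt, hf.rep.w, Groth.Agent.H52.ofPt_yon_map_comp, Points.ofPt_toHom]

/-- Surjectivity on points is stable under base change. -/
theorem isSurjectiveMor_of_isPullback {P F G H : Sp S} {fst : P ⟶ F} {snd : P ⟶ G} {f : F ⟶ H}
    {g : G ⟶ H} (sq : IsPullback fst snd f g) (hf : IsSurjectiveMor f) : IsSurjectiveMor snd := by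
  intro y
  obtain ⟨x, hx⟩ := hf (Points.map g y)
  obtain ⟨z, -, hz⟩ := Groth.Agent.H53.exists_point_of_isPullback sq x y hx
  exact ⟨z, hz⟩

end Groth.Agent.H49
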