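import Mathlib.AlgebraicGeometry.Sites.Fpqc
import Mathlib.AlgebraicGeometry.Morphisms.FlatDescent
import Mathlib.AlgebraicGeometry.Morphisms.LocalFlatDescent
import Mathlib.CategoryTheory.MorphismProperty.Local
import Mathlib.AlgebraicGeometry.Morphisms.IsIso

set_option autoImplicit false
universe u
open CategoryTheory CategoryTheory.Limits AlgebraicGeometry Opposite

namespace Groth.Agent.H49

instance fppfPrecoverage_small : Precoverage.Small.{u} Scheme.fppfPrecoverage.{u} := by
  unfold Scheme.fppfPrecoverage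
  infer_instance

/-- A property of morphisms of schemes that is stable under base change, Zariski local on the
target and descends along fppf coverings is local on the target for the fppf precoverage. -/
theorem isLocalAtTarget_fppf_of_descendsAlong (P : MorphismProperty Scheme.{u})
    [P.IsStableUnderBaseChange] [IsZariskiLocalAtTarget P]
    [P.DescendsAlong (@Surjective ⊓ @Flat ⊓ @LocallyOfFinitePresentation)] :
    P.IsLocalAtTarget Scheme.fppfPrecoverage := by
  have : P.RespectsIso := MorphismProperty.IsStableUnderBaseChange.respectsIso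
  refine MorphismProperty.IsLocalAtTarget.mk_of_small.{u}
    (fun 𝒰 hf i => P.pullback_snd _ _ hf) ?_
  intro X Y f 𝒰 h
  have hmem : Presieve.ofArrows 𝒰.X 𝒰.f ∈
      Scheme.precoverage (@Flat ⊓ @LocallyOfFinitePresentation) Y := 𝒰.mem₀
  rw [Scheme.ofArrows_mem_precoverage_iff] at hmem
  obtain ⟨hsurj, hP⟩ := hmem
  have hflat : ∀ i, Flat (𝒰.f i) := fun i => (hP i).1
  have hlfp : ∀ i, LocallyOfFinitePresentation (𝒰.f i) := fun i => (hP i).2
  let σ : ∐ 𝒰.X ⟶ Y := Sigma.desc 𝒰.f
  have hσ : (@Surjective ⊓ @Flat ⊓ @LocallyOfFinitePresentation : MorphismProperty Scheme.{u}) σ := by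
    refine ⟨⟨?_, ?_⟩, ?_⟩
    · apply Surjective.sigmaDesc_of_union_range_eq_univ
      ext y
      simp only [Set.mem_iUnion, Set.mem_range, Set.mem_univ, iff_true]
      obtain ⟨i, z, hz⟩ := hsurj y
      exact ⟨i, z, hz⟩
    · exact (inferInstance : Flat (Sigma.desc 𝒰.f))
    · exact IsZariskiLocalAtSource.sigmaDesc (P := @LocallyOfFinitePresentation) hlfp
  refine MorphismProperty.of_pullback_fst_of_descendsAlong (P := P)
    (Q := @Surjective ⊓ @Flat ⊓ @LocallyOfFinitePresentation) (f := σ) (g := f) hσ ?_
  rw [IsZariskiLocalAtTarget.iff_of_openCover (P := P) (sigmaOpenCover 𝒰.X)]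
  intro i
  have sq1 := IsPullback.of_hasPullback (pullback.fst σ f) (Sigma.ι 𝒰.X i)
  have sq2 := (IsPullback.of_hasPullback σ f).flip
  have sq := sq1.paste_horiz sq2
  have e : Sigma.ι 𝒰.X i ≫ σ = 𝒰.f i := Sigma.ι_desc _ _
  rw [e] at sq
  have hs := sq.isoPullback_hom_snd
  change P (pullback.snd (pullback.fst σ f) (Sigma.ι 𝒰.X i))
  rw [← hs, P.cancel_left_of_respectsIso]
  exact h i

instance locallyOfFiniteType_isLocalAtTarget_fppf :
    MorphismProperty.IsLocalAtTarget (@LocallyOfFiniteType : MorphismProperty Scheme.{u})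
      Scheme.fppfPrecoverage :=
  isLocalAtTarget_fppf_of_descendsAlong _

instance monomorphisms_descendsAlong_fppf :
    (MorphismProperty.monomorphisms Scheme.{u}).DescendsAlong
      (@Surjective ⊓ @Flat ⊓ @LocallyOfFinitePresentation) := by
  rw [← MorphismProperty.diagonal_isomorphisms]
  infer_instance

instance monomorphisms_isLocalAtTarget_fppf :
    (MorphismProperty.monomorphisms Scheme.{u}).IsLocalAtTarget Scheme.fppfPrecoverage :=
  isLocalAtTarget_fppf_of_descendsAlong _

end Groth.Agent.H49
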