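import Groth.Prelude.Def_AlgSp3
import Groth.Agent.H49.AlgSpRep
import Groth.Agent.H49.AlgSpLocal
import Groth.Agent.H49.FppfLocal
import Mathlib.AlgebraicGeometry.Morphisms.QuasiFinite

set_option autoImplicit false
universe u
open CategoryTheory CategoryTheory.Limits AlgebraicGeometry Opposite

namespace Groth.Agent.H49

open AlgSp

variable {S : Scheme.{u}}

set_option backward.isDefEq.respectTransparency false in
theorem isPullback_prod_snd_with_id {C : Type*} [Category C] [HasBinaryProducts C] {X Y : C}
    (f : X ⟶ Y) (A : C) :
    IsPullback prod.snd (prod.map (𝟙 A) f) f prod.snd := by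
  refine ⟨⟨by simp⟩, ⟨PullbackCone.IsLimit.mk _
    (fun s => prod.lift (s.snd ≫ prod.fst) s.fst) (fun s => by simp) (fun s => ?_)
    (fun s m h₁ h₂ => ?_)⟩⟩
  · apply Limits.prod.hom_ext
    · simp
    · simp [s.condition]
  · apply Limits.prod.hom_ext
    · simp [← h₂]
    · simpa using h₁

/-- `prod.map p p` has every base-change-and-composition-stable property that `p` has. -/
theorem prod_map_mem {C : Type*} [Category C] [HasBinaryProducts C] (E : MorphismProperty C)
    [E.IsStableUnderBaseChange] [E.IsStableUnderComposition] {A B : C} (p : A ⟶ B) (hp : E p) :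
    E (prod.map p p) := by
  have e : prod.map p p = prod.map (𝟙 A) p ≫ prod.map p (𝟙 B) := by
    rw [prod.map_map, Category.id_comp, Category.comp_id]
  rw [e]
  exact E.comp_mem _ _
    (MorphismProperty.of_isPullback (isPullback_prod_snd_with_id p A) hp)
    (MorphismProperty.of_isPullback (IsPullback.of_prod_fst_with_id p B) hp)

theorem repWith_inf {P Q : MorphismProperty Scheme.{u}} {F G : Sp S} {f : F ⟶ G}
    (hP : RepWith P f) (hQ : RepWith Q f) : RepWith (P ⊓ Q) f :=
  ⟨hP.rep, fun _ _ g fst snd sq => ⟨hP.property g fst snd sq, hQ.property g fst snd sq⟩⟩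

theorem repWith_of_le {P Q : MorphismProperty Scheme.{u}} (h : P ≤ Q) {F G : Sp S} {f : F ⟶ G}
    (hP : RepWith P f) : RepWith Q f :=
  MorphismProperty.relative_monotone
    (P := MorphismProperty.inverseImage P (Over.forget S))
    (P' := MorphismProperty.inverseImage Q (Over.forget S))
    (fun (A B : Over S) (k : A ⟶ B) hk => h _ hk) _ hP

/-- A property of the morphism `(t, s) : R ⟶ U × U` of an atlas passes to the diagonal, if it
is fppf local on the target. -/
theorem repWith_diag_of_atlas (P : MorphismProperty Scheme.{u}) [P.IsStableUnderBaseChange]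
    [P.IsLocalAtTarget Scheme.fppfPrecoverage] {X : Sp S} (hX : IsAlgSpace X) {U R : Over S}
    (p : (yon S).obj U ⟶ X) (hpe : RepWith @Etale p) (hps : RepWith @Surjective p)
    (s t : R ⟶ U) (sq : IsPullback ((yon S).map t) ((yon S).map s) p p)
    (hP : P (prod.lift t s).left) : RepWith P (Limits.diag X) := by
  have hls : Sheaf.IsLocallySurjective (prod.map p p) :=
    isLocallySurjective_of_repWith_etale_surjective _ (prod_map_mem _ p hpe)
      (prod_map_mem _ p hps)
  have e1 : prod.lift ((yon S).map t) ((yon S).map s) =
      (yon S).map (prod.lift t s) ≫ prodComparison (yon S) U U := by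
    apply Limits.prod.hom_ext
    · rw [Category.assoc, prodComparison_fst, ← Functor.map_comp, prod.lift_fst, prod.lift_fst]
    · rw [Category.assoc, prodComparison_snd, ← Functor.map_comp, prod.lift_snd, prod.lift_snd]
  refine repWith_of_isLocallySurjective_base (Limits.diag X) hX.diag (prod.map p p) _ _
    (isPullback_diag_prodMap sq) P ?_
  rw [e1, MorphismProperty.cancel_right_of_respectsIso (RepWith (S := S) P)]
  exact (repWith_yon_map_iff P _).2 hP

/-- The diagonal of an algebraic space is representable by morphisms that are locally of finite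
type and monomorphisms. -/
theorem repWith_diag_lft_mono {X : Sp S} (hX : IsAlgSpace X) :
    RepWith @LocallyOfFiniteType (Limits.diag X) ∧
      RepWith (MorphismProperty.monomorphisms Scheme.{u}) (Limits.diag X) := by
  obtain ⟨U, p, hpe, hps⟩ := hX.atlas
  obtain ⟨R, s, fst, sq⟩ := hpe.rep p
  obtain ⟨t, rfl⟩ := (yon S).map_surjective fst
  have hte : Etale t.left :=
    (repWith_yon_map_iff @Etale t).1
      (MorphismProperty.of_isPullback (P := RepWith @Etale) sq.flip hpe)
  constructor
  · refine repWith_diag_of_atlas _ hX p hpe hps s t sq ?_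
    have e : (prod.lift t s).left ≫ (prod.fst : U ⨯ U ⟶ U).left = t.left := by
      rw [← Over.comp_left, prod.lift_fst]
    have : LocallyOfFiniteType ((prod.lift t s).left ≫ (prod.fst : U ⨯ U ⟶ U).left) := by
      rw [e]; infer_instance
    exact locallyOfFiniteType_of_comp _ (prod.fst : U ⨯ U ⟶ U).left
  · refine repWith_diag_of_atlas _ hX p hpe hps s t sq ?_
    have hm : Mono (prod.lift t s) := by
      refine ⟨fun {Z} u v huv => ?_⟩
      apply (yon S).map_injective
      apply sq.hom_ext
      · rw [← Functor.map_comp, ← Functor.map_comp]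
        congr 1
        have := huv =≫ prod.fst
        rwa [Category.assoc, Category.assoc, prod.lift_fst] at this
      · rw [← Functor.map_comp, ← Functor.map_comp]
        congr 1
        have := huv =≫ prod.snd
        rwa [Category.assoc, Category.assoc, prod.lift_snd] at this
    exact (inferInstance : Mono (prod.lift t s).left)

end Groth.Agent.H49
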