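import Groth.Agent.H49.FppfLocal
import Groth.Agent.H1.Descent

set_option autoImplicit false
universe u
open CategoryTheory CategoryTheory.Limits AlgebraicGeometry Opposite MorphismProperty

namespace Groth.Agent.H49

instance quasiCompact_isLocalAtTarget_fppf :
    IsLocalAtTarget (@QuasiCompact : MorphismProperty Scheme.{u}) Scheme.fppfPrecoverage := by
  have := Groth.Agent.H1.quasiCompact_descendsAlong_fpqc.{u}
  exact isLocalAtTarget_fppf_of_descendsAlong _

instance isClosedImmersion_isLocalAtTarget_fppf :
    IsLocalAtTarget (@IsClosedImmersion : MorphismProperty Scheme.{u}) Scheme.fppfPrecoverage := by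
  have := Groth.Agent.H1.isClosedImmersion_descendsAlong_fpqc.{u}
  exact isLocalAtTarget_fppf_of_descendsAlong _

instance isSeparated_isLocalAtTarget_fppf :
    IsLocalAtTarget (@IsSeparated : MorphismProperty Scheme.{u}) Scheme.fppfPrecoverage := by
  have := Groth.Agent.H1.isSeparated_descendsAlong_fpqc.{u}
  exact isLocalAtTarget_fppf_of_descendsAlong _

instance quasiSeparated_isLocalAtTarget_fppf :
    IsLocalAtTarget (@QuasiSeparated : MorphismProperty Scheme.{u}) Scheme.fppfPrecoverage := by
  have := Groth.Agent.H1.quasiSeparated_descendsAlong_fpqc.{u}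
  exact isLocalAtTarget_fppf_of_descendsAlong _

instance isAffineHom_isLocalAtTarget_fppf :
    IsLocalAtTarget (@IsAffineHom : MorphismProperty Scheme.{u}) Scheme.fppfPrecoverage := by
  have := Groth.Agent.H1.isAffineHom_descendsAlong_fpqc.{u}
  exact isLocalAtTarget_fppf_of_descendsAlong _

instance isFinite_isLocalAtTarget_fppf :
    IsLocalAtTarget (@IsFinite : MorphismProperty Scheme.{u}) Scheme.fppfPrecoverage := by
  have := Groth.Agent.H1.isFinite_descendsAlong_fpqc.{u}
  exact isLocalAtTarget_fppf_of_descendsAlong _

instance isProper_isLocalAtTarget_fppf :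
    IsLocalAtTarget (@IsProper : MorphismProperty Scheme.{u}) Scheme.fppfPrecoverage := by
  have := Groth.Agent.H1.isProper_descendsAlong_fpqc.{u}
  exact isLocalAtTarget_fppf_of_descendsAlong _

instance universallyClosed_isLocalAtTarget_fppf :
    IsLocalAtTarget (@UniversallyClosed : MorphismProperty Scheme.{u}) Scheme.fppfPrecoverage :=
  isLocalAtTarget_fppf_of_descendsAlong _

instance universallyOpen_isLocalAtTarget_fppf :
    IsLocalAtTarget (@UniversallyOpen : MorphismProperty Scheme.{u}) Scheme.fppfPrecoverage :=
  isLocalAtTarget_fppf_of_descendsAlong _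

instance surjective_isLocalAtTarget_fppf :
    IsLocalAtTarget (@Surjective : MorphismProperty Scheme.{u}) Scheme.fppfPrecoverage :=
  isLocalAtTarget_fppf_of_descendsAlong _

instance isOpenImmersion_isLocalAtTarget_fppf :
    IsLocalAtTarget (@IsOpenImmersion : MorphismProperty Scheme.{u}) Scheme.fppfPrecoverage :=
  isLocalAtTarget_fppf_of_descendsAlong _

instance etale_isLocalAtTarget_fppf :
    IsLocalAtTarget (@Etale : MorphismProperty Scheme.{u}) Scheme.fppfPrecoverage :=
  isLocalAtTarget_fppf_of_descendsAlong _

instance smooth_isLocalAtTarget_fppf :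
    IsLocalAtTarget (@Smooth : MorphismProperty Scheme.{u}) Scheme.fppfPrecoverage :=
  isLocalAtTarget_fppf_of_descendsAlong _

instance locallyOfFinitePresentation_isLocalAtTarget_fppf :
    IsLocalAtTarget (@LocallyOfFinitePresentation : MorphismProperty Scheme.{u})
      Scheme.fppfPrecoverage :=
  isLocalAtTarget_fppf_of_descendsAlong _

instance isomorphisms_isLocalAtTarget_fppf :
    IsLocalAtTarget (MorphismProperty.isomorphisms Scheme.{u}) Scheme.fppfPrecoverage :=
  isLocalAtTarget_fppf_of_descendsAlong _

end Groth.Agent.H49
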