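import Groth.Prelude.Def_AlgSp3
import Groth.Agent.H49.AlgSpDiagProps
import Groth.Agent.H49.FppfLocal2
import Groth.Agent.H53.LocalBase

set_option autoImplicit false
universe u
open CategoryTheory CategoryTheory.Limits AlgebraicGeometry Opposite

namespace Groth.Agent.H49

open AlgSp

variable {S : Scheme.{u}}

set_option backward.isDefEq.respectTransparency false in
/-- For a pullback square, the induced map on self fibre products is a base change of the base
map. -/
theorem isPullback_map_of_isPullback {C : Type*} [Category C] [HasPullbacks C] {X' X Y' Y : C}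
    {q : X' ⟶ X} {p : X' ⟶ Y'} {f : X ⟶ Y} {g : Y' ⟶ Y} (sq : IsPullback q p f g) :
    IsPullback (pullback.fst p p ≫ p) (pullback.map p p f f q q g sq.w.symm sq.w.symm) g
      (pullback.fst f f ≫ f) := by
  have w : (pullback.fst p p ≫ p) ≫ g =
      pullback.map p p f f q q g sq.w.symm sq.w.symm ≫ pullback.fst f f ≫ f := by
    simp [sq.w]
  have h1 : ∀ s : PullbackCone g (pullback.fst f f ≫ f),
      (s.snd ≫ pullback.fst f f) ≫ f = s.fst ≫ g := by
    intro s; rw [Category.assoc, ← s.condition]
  have h2 : ∀ s : PullbackCone g (pullback.fst f f ≫ f),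
      (s.snd ≫ pullback.snd f f) ≫ f = s.fst ≫ g := by
    intro s; rw [Category.assoc, ← pullback.condition, ← s.condition]
  refine ⟨⟨w⟩, ⟨PullbackCone.IsLimit.mk _
    (fun s => pullback.lift (sq.lift _ _ (h1 s)) (sq.lift _ _ (h2 s)) (by simp))
    (fun s => by simp) (fun s => ?_) (fun s m e1 e2 => ?_)⟩⟩
  · apply pullback.hom_ext
    · simp
    · simp
  · apply pullback.hom_ext
    · apply sq.hom_ext
      · simp [← e2]
      · simp [← e1]
    · apply sq.hom_ext
      · simp [← e2]
      · simp [← e1, pullback.condition]

/-- A property of the relative diagonal descends along an étale surjective base change. -/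
theorem repWith_diagonal_of_etale_cover (Q : MorphismProperty Scheme.{u})
    [Q.IsLocalAtTarget Scheme.fppfPrecoverage] {X Y H P : Sp S} (f : X ⟶ Y)
    (hX : Representable (Limits.diag X)) (p : H ⟶ Y) (hp : RepWith @Etale p)
    (hps : RepWith @Surjective p) (fst : P ⟶ X) (snd : P ⟶ H) (sq : IsPullback fst snd f p)
    (h : RepWith Q (pullback.diagonal snd)) : RepWith Q (pullback.diagonal f) := by
  have sqB := isPullback_map_of_isPullback sq
  have hls : Sheaf.IsLocallySurjective (pullback.map snd snd f f fst fst p sq.w.symm sq.w.symm) :=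
    isLocallySurjective_of_repWith_etale_surjective _
      (MorphismProperty.of_isPullback (P := RepWith @Etale) sqB hp)
      (MorphismProperty.of_isPullback (P := RepWith @Surjective) sqB hps)
  exact repWith_of_isLocallySurjective_base (pullback.diagonal f)
    (Groth.Agent.H53.representable_diagonal hX f) _ fst (pullback.diagonal snd)
    (Groth.Agent.H53.isPullback_diagonal_of_isPullback sq) Q h

/-- To check `RepWith Q a` for a representable `a` and `Q` Zariski-local on the target, it
suffices to test affine schemes. -/
theorem repWith_of_affine_test (Q : MorphismProperty Scheme.{u}) [IsZariskiLocalAtTarget Q]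
    {F G : Sp S} (a : F ⟶ G) (ha : Representable a)
    (h : ∀ ⦃T V : Over S⦄, IsAffine T.left → ∀ (ζ : (yon S).obj T ⟶ G)
      (fst : (yon S).obj V ⟶ F) (snd : V ⟶ T), IsPullback fst ((yon S).map snd) a ζ →
      Q snd.left) : RepWith Q a := by
  refine ⟨ha, ?_⟩
  intro T V ζ fst snd sq
  change Q snd.left
  rw [IsZariskiLocalAtTarget.iff_of_openCover (P := Q) T.left.affineCover]
  intro i
  let Ti : Over S := Over.mk (T.left.affineCover.f i ≫ T.hom)
  let γ : Ti ⟶ T := Over.homMk (T.left.affineCover.f i)
  have sqi : IsPullback (pullback.fst snd γ) (pullback.snd snd γ) snd γ :=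
    IsPullback.of_hasPullback _ _
  have sqy := (sqi.map (yon S)).paste_horiz sq
  have hTi : IsAffine Ti.left := by
    change IsAffine (T.left.affineCover.X i)
    infer_instance
  have hQ : Q (pullback.snd snd γ).left := h hTi _ _ _ sqy
  have sql : IsPullback (pullback.fst snd γ).left (pullback.snd snd γ).left snd.left
      (T.left.affineCover.f i) := sqi.map (Over.forget S)
  change Q (pullback.snd snd.left (T.left.affineCover.f i))
  rw [← Q.cancel_left_of_respectsIso sql.isoPullback.hom, sql.isoPullback_hom_snd]
  exact hQ

set_option backward.isDefEq.respectTransparency false in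
/-- A property of the relative diagonal can be tested after base change to affine schemes. -/
theorem repWith_diagonal_of_affine_base_change (Q : MorphismProperty Scheme.{u})
    [IsZariskiLocalAtTarget Q] {X Y : Sp S} (f : X ⟶ Y) (hX : Representable (Limits.diag X))
    (h : ∀ (Z : Over S), IsAffine Z.left → ∀ (g : (yon S).obj Z ⟶ Y) (P : Sp S)
      (fst : P ⟶ X) (snd : P ⟶ (yon S).obj Z), IsPullback fst snd f g →
      RepWith Q (pullback.diagonal snd)) : RepWith Q (pullback.diagonal f) := by
  refine repWith_of_affine_test Q _ (Groth.Agent.H53.representable_diagonal hX f) ?_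
  intro T V hT ζ fst' snd' sq'
  set g : (yon S).obj T ⟶ Y := ζ ≫ pullback.fst f f ≫ f with hg
  have sq : IsPullback (pullback.fst f g) (pullback.snd f g) f g := IsPullback.of_hasPullback _ _
  have hΔ := h T hT g _ _ _ sq
  have e1 : (ζ ≫ pullback.fst f f) ≫ f = 𝟙 _ ≫ g := by rw [hg]; simp
  have e2 : (ζ ≫ pullback.snd f f) ≫ f = 𝟙 _ ≫ g := by
    rw [hg, Category.assoc, ← pullback.condition]; simp
  let c : (yon S).obj T ⟶ pullback (pullback.snd f g) (pullback.snd f g) :=
    pullback.lift (sq.lift _ _ e1) (sq.lift _ _ e2) (by simp)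
  have hc : c ≫ pullback.map (pullback.snd f g) (pullback.snd f g) f f (pullback.fst f g)
      (pullback.fst f g) g sq.w.symm sq.w.symm = ζ := by
    apply pullback.hom_ext
    · simp [c]
    · simp [c]
  have sqD := Groth.Agent.H53.isPullback_diagonal_of_isPullback sq
  rw [← hc] at sq'
  exact hΔ.property c _ snd' (IsPullback.of_right' sq' sqD)

end Groth.Agent.H49
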