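import Groth.Agent.H51.SpBasic
import Groth.Agent.H50.Mor
import Groth.Agent.H49.AlgSpOpen
import Groth.Agent.H49.AlgSpPoints
import Groth.Agent.H49.AlgSpSep

set_option autoImplicit false
universe u
open CategoryTheory CategoryTheory.Limits AlgebraicGeometry Opposite

namespace Groth.Agent.H49

open AlgSp

variable {S : Scheme.{u}}

/-- A scheme with compact underlying space gives a quasi-compact sheaf. -/
theorem isQuasiCompactSp_yon (T : Over S) [CompactSpace ↥T.left] :
    IsQuasiCompactSp ((yon S).obj T) :=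
  ⟨T, 𝟙 _, by rw [← (yon S).map_id]; exact (repWith_yon_map_iff _ _).2 (by dsimp; infer_instance),
    by rw [← (yon S).map_id]; exact (repWith_yon_map_iff _ _).2 (by dsimp; infer_instance),
    inferInstance⟩

/-- If `h_T` is a quasi-compact sheaf then `T` is quasi-compact. -/
theorem compactSpace_of_isQuasiCompactSp_yon (T : Over S)
    (h : IsQuasiCompactSp ((yon S).obj T)) : CompactSpace ↥T.left := by
  have := (Groth.Agent.H51.isQuasiCompactSp_iff (IsAlgSpace.yon_obj T)).1 h
  exact (Points.schemeHomeo T).symm.compactSpace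

/-- The target of a surjective morphism with quasi-compact source is quasi-compact. -/
theorem isQuasiCompactSp_of_surjective {X Y : Sp S} (hY : IsAlgSpace Y) (f : X ⟶ Y)
    (hf : IsSurjectiveMor f) (hX : CompactSpace (Points X)) : IsQuasiCompactSp Y := by
  rw [Groth.Agent.H51.isQuasiCompactSp_iff hY]
  constructor
  rw [← Set.range_eq_univ.2 hf]
  exact isCompact_range (Points.continuous_map f)

theorem isQuasiCompactSp_of_surjective' {X Y : Sp S} (hX : IsAlgSpace X) (hY : IsAlgSpace Y)
    (f : X ⟶ Y) (hf : IsSurjectiveMor f) (hXc : IsQuasiCompactSp X) : IsQuasiCompactSp Y :=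
  isQuasiCompactSp_of_surjective hY f hf ((Groth.Agent.H51.isQuasiCompactSp_iff hX).1 hXc)

/-- For a representable morphism of algebraic spaces, the two notions of quasi-compactness
agree. -/
theorem repWith_quasiCompact_iff {X Y : Sp S} (f : X ⟶ Y) (hf : Representable f) :
    RepWith @QuasiCompact f ↔ IsQuasiCompactMor f := by
  constructor
  · exact Groth.Agent.H50.isQuasiCompactMor_of_repWith le_rfl f
  · intro h
    refine repWith_of_affine_test @QuasiCompact f hf ?_
    intro T V hT ζ fst snd sq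
    have : IsAffine T.left := hT
    have hV : IsQuasiCompactSp ((yon S).obj V) :=
      h (IsAlgSpace.yon_obj T) (isQuasiCompactSp_yon T) ζ fst _ sq
    have := compactSpace_of_isQuasiCompactSp_yon V hV
    exact (quasiCompact_iff_compactSpace (f := snd.left)).2 this

/-- In a commutative triangle with `f` surjective, if `f ≫ q` is quasi-compact then so is `q`. -/
theorem isQuasiCompactMor_of_comp_surjective {X Y Z : Sp S} (hX : IsAlgSpace X)
    (hY : IsAlgSpace Y) (hZ : IsAlgSpace Z) (f : X ⟶ Y) (q : Y ⟶ Z) (hf : IsSurjectiveMor f)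
    (hp : IsQuasiCompactMor (f ≫ q)) : IsQuasiCompactMor q := by
  intro T T' hT hTqc g fst snd sq
  have sq2 : IsPullback (pullback.fst fst f) (pullback.snd fst f) fst f :=
    IsPullback.of_hasPullback _ _
  have big : IsPullback (pullback.snd fst f) (pullback.fst fst f ≫ snd) (f ≫ q) g :=
    sq2.flip.paste_vert sq
  have hT' : IsAlgSpace T' := isAlgSpace_of_isPullback sq hZ.diag hY hT
  have hT'' : IsAlgSpace (pullback fst f) := isAlgSpace_of_isPullback sq2 hY.diag hT' hX
  exact isQuasiCompactSp_of_surjective' hT'' hT' (pullback.fst fst f)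
    (isSurjectiveMor_of_isPullback sq2.flip hf) (hp hT hTqc g _ _ big)

/-- A finite jointly surjective family of morphisms from sheaves with compact spaces of points
forces the target to have a compact space of points. -/
theorem compactSpace_points_of_finite_family {F : Sp S} {ι : Type*} [Finite ι] (P : ι → Sp S)
    (b : ∀ i, P i ⟶ F) (hP : ∀ i, CompactSpace (Points (P i)))
    (hsurj : ∀ x : Points F, ∃ i y, Points.map (b i) y = x) : CompactSpace (Points F) := by
  constructor
  have : (Set.univ : Set (Points F)) = ⋃ i, Set.range (Points.map (b i)) := by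
    ext x
    simp only [Set.mem_univ, Set.mem_iUnion, Set.mem_range, true_iff]
    exact hsurj x
  rw [this]
  exact isCompact_iUnion fun i => isCompact_range (Points.continuous_map (b i))

/-- A compact subset of the points of a sheaf covered by the image of an open subset of a scheme
under a chart which is open on points is covered by the image of a quasi-compact open. -/
theorem exists_compact_open_of_isOpenMap {F : Sp S} {U : Over S} (a : (yon S).obj U ⟶ F)
    (hopen : IsOpenMap (Points.ofPt a)) (V : Set (Points F)) (hV : IsCompact V)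
    (W₀ : U.left.Opens) (hcov : V ⊆ Points.ofPt a '' (W₀ : Set U.left)) :
    ∃ W : U.left.Opens, W ≤ W₀ ∧ IsCompact (W : Set U.left) ∧
      V ⊆ Points.ofPt a '' (W : Set U.left) := by
  let I := {A : U.left.affineOpens // A.1 ≤ W₀}
  have hopen' : ∀ A : I, IsOpen (Points.ofPt a '' (A.1.1 : Set U.left)) :=
    fun A => hopen _ A.1.1.isOpen
  have hcov' : V ⊆ ⋃ A : I, Points.ofPt a '' (A.1.1 : Set U.left) := by
    intro x hx
    obtain ⟨u, hu, rfl⟩ := hcov hx
    obtain ⟨_, ⟨A, hA, rfl⟩, huA, hAW⟩ :=
      (U.left.isBasis_affineOpens).exists_subset_of_mem_open hu W₀.isOpen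
    exact Set.mem_iUnion.2 ⟨⟨⟨A, hA⟩, hAW⟩, u, huA, rfl⟩
  obtain ⟨t, ht⟩ := hV.elim_finite_subcover _ hopen' hcov'
  refine ⟨⨆ A ∈ t, (A : I).1.1, ?_, ?_, ?_⟩
  · exact iSup₂_le fun A _ => A.2
  · have : ((⨆ A ∈ t, (A : I).1.1 : U.left.Opens) : Set U.left) =
        ⋃ A ∈ t, ((A : I).1.1 : Set U.left) := by simp
    rw [this]
    exact t.finite_toSet.isCompact_biUnion fun A _ => A.1.2.isCompact
  · refine ht.trans ?_
    refine Set.iUnion₂_subset fun A hA => Set.image_mono ?_
    intro u hu
    simp only [TopologicalSpace.Opens.coe_iSup, Set.mem_iUnion]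
    exact ⟨A, hA, hu⟩

/-- The restriction of a chart to an open subscheme, on points. -/
theorem ofPt_restrict_mem {F : Sp S} {U : Over S} (a : (yon S).obj U ⟶ F) (W : U.left.Opens)
    (y : Points ((yon S).obj (Groth.Agent.H51.overOpen U W))) :
    Points.map ((yon S).map (Groth.Agent.H51.overOpenι U W) ≫ a) y ∈
      Points.ofPt a '' (W : Set U.left) := by
  obtain ⟨w, rfl⟩ := (Points.schemeHomeo _).surjective y
  rw [← Groth.Agent.H51.range_ofPt_restrict]
  exact ⟨w, Points.ofPt_eq_map_ofScheme _ w⟩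

/-- The sheaf of a quasi-compact open subscheme is quasi-compact. -/
theorem isQuasiCompactSp_overOpen (U : Over S) (W : U.left.Opens)
    (hW : IsCompact (W : Set U.left)) :
    IsQuasiCompactSp ((yon S).obj (Groth.Agent.H51.overOpen U W)) := by
  have : CompactSpace ↥(Groth.Agent.H51.overOpen U W).left := isCompact_iff_compactSpace.1 hW
  exact isQuasiCompactSp_yon _

/-- For a quasi-compact morphism of algebraic spaces, the preimage on points of a quasi-compact
open is quasi-compact. -/
theorem isCompact_preimage_of_isQuasiCompactMor {X Y : Sp S} (hX : IsAlgSpace X)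
    (hY : IsAlgSpace Y) (f : X ⟶ Y) (hf : IsQuasiCompactMor f) (V : Set (Points Y))
    (hV : IsOpen V) (hVc : IsCompact V) : IsCompact (Points.map f ⁻¹' V) := by
  obtain ⟨U, p, hpe, hps⟩ := hY.atlas
  have hopen := Groth.Agent.H52.isOpenMap_ofPt_of_repWith_etale p hpe
  let W₀ : U.left.Opens := ⟨Points.ofPt p ⁻¹' V, hV.preimage (Points.continuous_ofPt p)⟩
  have hcov : V ⊆ Points.ofPt p '' (W₀ : Set U.left) := by
    intro x hx
    obtain ⟨u, rfl⟩ := Groth.Agent.H52.ofPt_surjective_of_repWith_surjective p hps x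
    exact ⟨u, hx, rfl⟩
  obtain ⟨W, hWW₀, hWc, hVW⟩ := exists_compact_open_of_isOpenMap p hopen V hVc W₀ hcov
  have hWV : Points.ofPt p '' (W : Set U.left) ⊆ V := by
    rintro _ ⟨u, hu, rfl⟩
    exact hWW₀ hu
  let a' := (yon S).map (Groth.Agent.H51.overOpenι U W) ≫ p
  have sq : IsPullback (pullback.fst f a') (pullback.snd f a') f a' := IsPullback.of_hasPullback _ _
  have hQ : IsQuasiCompactSp (pullback f a') :=
    hf (IsAlgSpace.yon_obj _) (isQuasiCompactSp_overOpen U W hWc) a' _ _ sq
  have hQalg : IsAlgSpace (pullback f a') :=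
    isAlgSpace_of_isPullback sq hY.diag hX (IsAlgSpace.yon_obj _)
  have hQc : CompactSpace (Points (pullback f a')) :=
    (Groth.Agent.H51.isQuasiCompactSp_iff hQalg).1 hQ
  have : Points.map f ⁻¹' V = Set.range (Points.map (pullback.fst f a')) := by
    ext x
    constructor
    · intro hx
      obtain ⟨u, hu, hux⟩ := hVW hx
      have hu' : Points.ofPt a' (⟨u, hu⟩ : ↥W) = Points.ofPt p u := by
        change Points.ofPt ((yon S).map (Groth.Agent.H51.overOpenι U W) ≫ p) _ = _
        rw [Groth.Agent.H51.ofPt_restrict]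
        rfl
      rw [← hu', Points.ofPt_eq_map_ofScheme] at hux
      obtain ⟨z, hz, -⟩ := Groth.Agent.H53.exists_point_of_isPullback sq x _ hux.symm
      exact ⟨z, hz⟩
    · rintro ⟨z, rfl⟩
      change Points.map f (Points.map (pullback.fst f a') z) ∈ V
      rw [← Points.map_comp, sq.w, Points.map_comp]
      exact hWV (ofPt_restrict_mem p W _)
  rw [this]
  exact isCompact_range (Points.continuous_map _)

/-- Quasi-compactness of a morphism of algebraic spaces can be tested on affine schemes over the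
target. -/
theorem isQuasiCompactMor_iff_affine {X Y : Sp S} (hX : IsAlgSpace X) (hY : IsAlgSpace Y)
    (f : X ⟶ Y) :
    IsQuasiCompactMor f ↔ ∀ (Z : Over S), IsAffine Z.left → ∀ (g : (yon S).obj Z ⟶ Y) (P : Sp S)
      (fst : P ⟶ X) (snd : P ⟶ (yon S).obj Z), IsPullback fst snd f g → IsQuasiCompactSp P := by
  constructor
  · intro h Z hZ g P fst snd sq
    have : IsAffine Z.left := hZ
    exact h (IsAlgSpace.yon_obj Z) (isQuasiCompactSp_yon Z) g fst snd sq
  · intro h Z Z' hZ hZqc g fst snd sq
    obtain ⟨U, p, hpe, hps, hU⟩ := hZqc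
    have hU : CompactSpace ↥U.left := hU
    let 𝒰 := U.left.affineCover.finiteSubcover
    let Ui : 𝒰.I₀ → Over S := fun i => Over.mk (𝒰.f i ≫ U.hom)
    let γ : ∀ i, Ui i ⟶ U := fun i => Over.homMk (𝒰.f i)
    let ai : ∀ i, (yon S).obj (Ui i) ⟶ Z := fun i => (yon S).map (γ i) ≫ p
    have hZ' : IsAlgSpace Z' := isAlgSpace_of_isPullback sq hY.diag hX hZ
    have sqi : ∀ i, IsPullback (pullback.fst snd (ai i)) (pullback.snd snd (ai i)) snd (ai i) :=
      fun i => IsPullback.of_hasPullback _ _
    have hPi : ∀ i, CompactSpace (Points (pullback snd (ai i))) := by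
      intro i
      have hPalg : IsAlgSpace (pullback snd (ai i)) :=
        isAlgSpace_of_isPullback (sqi i) hZ.diag hZ' (IsAlgSpace.yon_obj _)
      have big := (sqi i).flip.paste_vert sq.flip
      have hA : IsAffine (Ui i).left := by
        change IsAffine (U.left.affineCover.X _)
        infer_instance
      exact (Groth.Agent.H51.isQuasiCompactSp_iff hPalg).1 (h (Ui i) hA (ai i ≫ g) _ _ _ big.flip)
    have hc := compactSpace_points_of_finite_family (fun i => pullback snd (ai i))
      (fun i => pullback.fst snd (ai i)) hPi ?_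
    · exact (Groth.Agent.H51.isQuasiCompactSp_iff hZ').2 hc
    · intro x
      obtain ⟨u, hu⟩ :=
        Groth.Agent.H52.ofPt_surjective_of_repWith_surjective p hps (Points.map snd x)
      obtain ⟨i, ui, hui⟩ := 𝒰.exists_eq u
      have e : Points.map (ai i) (Points.ofScheme (Ui i) ui) = Points.map snd x := by
        rw [← Points.ofPt_eq_map_ofScheme, Groth.Agent.H52.ofPt_yon_map_comp, ← hu]
        congr 1
      obtain ⟨z, hz, -⟩ := Groth.Agent.H53.exists_point_of_isPullback (sqi i) x _ e.symm
      exact ⟨i, z, hz⟩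

/-- Quasi-compactness of a morphism is stable under base change. -/
theorem isQuasiCompactMor_of_isPullback {F G F' G' : Sp S} {f : F ⟶ G} {g : G' ⟶ G}
    {fst : F' ⟶ F} {snd : F' ⟶ G'} (sq : IsPullback fst snd f g) (hf : IsQuasiCompactMor f) :
    IsQuasiCompactMor snd := by
  intro Z Z' hZ hZqc g₀ a b sq₀
  exact hf hZ hZqc (g₀ ≫ g) (a ≫ fst) b (sq₀.paste_horiz sq)

/-- Quasi-compact morphisms of algebraic spaces compose. -/
theorem isQuasiCompactMor_comp {F G H : Sp S} (hG : IsAlgSpace G)
    (hH : IsAlgSpace H) {a : F ⟶ G} {b : G ⟶ H} (ha : IsQuasiCompactMor a)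
    (hb : IsQuasiCompactMor b) : IsQuasiCompactMor (a ≫ b) := by
  intro Z Z' hZ hZqc g₀ x y sq₀
  have sq1 : IsPullback (pullback.fst b g₀) (pullback.snd b g₀) b g₀ := .of_hasPullback _ _
  have h1 : IsQuasiCompactSp (pullback b g₀) := hb hZ hZqc g₀ _ _ sq1
  have h1alg : IsAlgSpace (pullback b g₀) := isAlgSpace_of_isPullback sq1 hH.diag hG hZ
  have hw : (x ≫ a) ≫ b = y ≫ g₀ := by simpa using sq₀.w
  have sq2 : IsPullback x (pullback.lift (x ≫ a) y hw) a (pullback.fst b g₀) := by
    refine IsPullback.of_bot ?_ (pullback.lift_fst _ _ _).symm sq1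
    rw [pullback.lift_snd]
    exact sq₀
  exact ha h1alg h1 (pullback.fst b g₀) x _ sq2

/-- If `f ≫ g` is quasi-compact and `g` is quasi-separated then `f` is quasi-compact. -/
theorem isQuasiCompactMor_of_comp_of_isQuasiSeparatedMor {X Y Z : Sp S} (hX : IsAlgSpace X)
    (hY : IsAlgSpace Y) (hZ : IsAlgSpace Z) (f : X ⟶ Y) (g : Y ⟶ Z)
    (hgf : IsQuasiCompactMor (f ≫ g)) (hg : IsQuasiSeparatedMor g) : IsQuasiCompactMor f := by
  have sqΓ := pullback_lift_diagonal_isPullback f g
  have hΓ : RepWith @QuasiCompact (pullback.lift (𝟙 X) f (by simp) : X ⟶ pullback (f ≫ g) g) :=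
    MorphismProperty.of_isPullback (P := RepWith @QuasiCompact) sqΓ hg
  have hΓ' := Groth.Agent.H50.isQuasiCompactMor_of_repWith le_rfl _ hΓ
  have sqP : IsPullback (pullback.fst (f ≫ g) g) (pullback.snd (f ≫ g) g) (f ≫ g) g :=
    .of_hasPullback _ _
  have hpr : IsQuasiCompactMor (pullback.snd (f ≫ g) g) := isQuasiCompactMor_of_isPullback sqP hgf
  have hP : IsAlgSpace (pullback (f ≫ g) g) := isAlgSpace_of_isPullback sqP hZ.diag hX hY
  have := isQuasiCompactMor_comp hP hY hΓ' hpr
  rwa [pullback.lift_snd] at this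

/-- A morphism étale in the sense of the reference with source an algebraic space is universally
open on points. -/
theorem isUnivOpenMor_of_isEtaleMor {X Y : Sp S} (hX : IsAlgSpace X) (f : X ⟶ Y)
    (hf : IsEtaleMor f) : IsUnivOpenMor f := by
  intro Z Z' hZ g fst snd sq
  obtain ⟨W, a, hae, has⟩ := hZ.atlas
  obtain ⟨U, u, hue, hus⟩ := hX.atlas
  have huf : RepWith @Etale (u ≫ f) := hf u hue
  obtain ⟨T, ψ, fst₀, sq₀⟩ := huf.rep (a ≫ g)
  have hψ : Etale ψ.left := huf.property _ _ _ sq₀
  have hw : (fst₀ ≫ u) ≫ f = ((yon S).map ψ ≫ a) ≫ g := by simp [sq₀.w]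
  have hb : RepWith @Surjective (sq.lift (fst₀ ≫ u) ((yon S).map ψ ≫ a) hw) :=
    of_isPullback_lift (RepWith @Surjective) sq sq₀ hus has
  change IsOpenMap (Points.map snd)
  refine isOpenMap_points_of_charts snd (ι := Unit) (fun _ => W) (fun _ => T) (fun _ => a)
    (fun _ => sq.lift _ _ hw) (fun _ => ψ) (fun _ => sq.lift_snd _ _ hw) (fun _ => hae) ?_
    (fun _ => ψ.left.isOpenMap)
  intro x
  obtain ⟨w, hw⟩ := Groth.Agent.H52.ofPt_surjective_of_repWith_surjective _ hb x
  exact ⟨(), w, hw⟩

/-- Quasi-compactness of a morphism of algebraic spaces descends along a universally open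
surjective base change. -/
theorem isQuasiCompactMor_of_univOpen_surjective_baseChange {X Y Y' X' : Sp S}
    (hX : IsAlgSpace X) (hY : IsAlgSpace Y) (hY' : IsAlgSpace Y')
    (f : X ⟶ Y) (g : Y' ⟶ Y) (fst : X' ⟶ X) (f' : X' ⟶ Y') (sq : IsPullback fst f' f g)
    (hg : IsUnivOpenMor g) (hgs : IsSurjectiveMor g) (hf' : IsQuasiCompactMor f') :
    IsQuasiCompactMor f := by
  intro Z Z' hZ hZqc h a b sqZ
  obtain ⟨Z'', c, d, sq2⟩ : ∃ (Z'' : Sp S) (c : Z'' ⟶ Z) (d : Z'' ⟶ Y'), IsPullback c d h g :=
    ⟨_, _, _, IsPullback.of_hasPullback h g⟩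
  have hZ'' : IsAlgSpace Z'' := isAlgSpace_of_isPullback sq2 hY.diag hZ hY'
  have hcopen : IsOpenMap (Points.map c) := hg hZ h _ _ sq2.flip
  have hcsurj : IsSurjectiveMor c := isSurjectiveMor_of_isPullback sq2.flip hgs
  obtain ⟨U, e, hee, hes⟩ := hZ''.atlas
  have hopen : IsOpenMap (Points.ofPt (e ≫ c)) := by
    have : Points.ofPt (e ≫ c) = Points.map c ∘ Points.ofPt e :=
      funext fun u => (Points.map_ofPt e _ u).symm
    rw [this]
    exact hcopen.comp (Groth.Agent.H52.isOpenMap_ofPt_of_repWith_etale e hee)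
  have hZc : CompactSpace (Points Z) := (Groth.Agent.H51.isQuasiCompactSp_iff hZ).1 hZqc
  obtain ⟨W, -, hWc, hW⟩ := exists_compact_open_of_isOpenMap (e ≫ c) hopen
    Set.univ isCompact_univ ⊤ (by
      intro z _
      obtain ⟨z'', rfl⟩ := hcsurj z
      obtain ⟨u, rfl⟩ := Groth.Agent.H52.ofPt_surjective_of_repWith_surjective e hes z''
      exact ⟨u, trivial, (Points.map_ofPt e _ u).symm⟩)
  have hTqc := isQuasiCompactSp_overOpen U W hWc
  have htc : IsSurjectiveMor (((yon S).map (Groth.Agent.H51.overOpenι U W) ≫ e) ≫ c) := by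
    intro z
    obtain ⟨u, hu, rfl⟩ := hW (Set.mem_univ z)
    refine ⟨Points.ofScheme (Groth.Agent.H51.overOpen U W) ⟨u, hu⟩, ?_⟩
    rw [← Points.ofPt_eq_map_ofScheme, Category.assoc, Groth.Agent.H51.ofPt_restrict]
    rfl
  obtain ⟨T, t, hTalg, hTqc, htc⟩ : ∃ (T : Sp S) (t : T ⟶ Z''), IsAlgSpace T ∧
      IsQuasiCompactSp T ∧ IsSurjectiveMor (t ≫ c) :=
    ⟨_, _, IsAlgSpace.yon_obj _, hTqc, htc⟩
  obtain ⟨Q, q1, q2, sqQ⟩ : ∃ (Q : Sp S) (q1 : Q ⟶ Z') (q2 : Q ⟶ T), IsPullback q1 q2 b (t ≫ c) :=
    ⟨_, _, _, IsPullback.of_hasPullback b (t ≫ c)⟩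
  have hq1 : IsSurjectiveMor q1 := isSurjectiveMor_of_isPullback sqQ.flip htc
  have hw : (q1 ≫ a) ≫ f = (q2 ≫ t ≫ d) ≫ g := by
    calc (q1 ≫ a) ≫ f = q1 ≫ b ≫ h := by rw [Category.assoc, sqZ.w]
      _ = (q2 ≫ t ≫ c) ≫ h := by rw [← Category.assoc, sqQ.w]
      _ = (q2 ≫ t ≫ d) ≫ g := by simp only [Category.assoc]; rw [sq2.w]
  have big : IsPullback (q1 ≫ a) q2 f ((t ≫ c) ≫ h) := sqQ.paste_horiz sqZ
  have left : IsPullback (sq.lift _ _ hw) q2 f' (t ≫ d) := by
    refine IsPullback.of_right ?_ (sq.lift_snd _ _ hw) sq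
    rw [sq.lift_fst]
    have : (t ≫ d) ≫ g = (t ≫ c) ≫ h := by
      rw [Category.assoc, Category.assoc, sq2.w]
    rw [this]
    exact big
  have hZ' : IsAlgSpace Z' := isAlgSpace_of_isPullback sqZ hY.diag hX hZ
  have hQalg : IsAlgSpace Q := isAlgSpace_of_isPullback sqQ hZ.diag hZ' hTalg
  have hQ : IsQuasiCompactSp Q := hf' hTalg hTqc (t ≫ d) _ _ left
  exact isQuasiCompactSp_of_surjective' hQalg hZ' _ hq1 hQ

/-- In a commutative triangle with `f` surjective, if `f ≫ q` is quasi-compact then so is `q`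
(version asking only for a representable diagonal on the target). -/
theorem isQuasiCompactMor_of_comp_surjective' {X Y Z : Sp S} (hX : IsAlgSpace X)
    (hY : IsAlgSpace Y) (hZ : Representable (Limits.diag Z)) (f : X ⟶ Y) (q : Y ⟶ Z)
    (hf : IsSurjectiveMor f) (hp : IsQuasiCompactMor (f ≫ q)) : IsQuasiCompactMor q := by
  intro T T' hT hTqc g fst snd sq
  have sq2 : IsPullback (pullback.fst fst f) (pullback.snd fst f) fst f :=
    IsPullback.of_hasPullback _ _
  have big : IsPullback (pullback.snd fst f) (pullback.fst fst f ≫ snd) (f ≫ q) g :=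
    sq2.flip.paste_vert sq
  have hT' : IsAlgSpace T' := isAlgSpace_of_isPullback sq hZ hY hT
  have hT'' : IsAlgSpace (pullback fst f) := isAlgSpace_of_isPullback sq2 hY.diag hT' hX
  exact isQuasiCompactSp_of_surjective' hT'' hT' (pullback.fst fst f)
    (isSurjectiveMor_of_isPullback sq2.flip hf) (hp hT hTqc g _ _ big)

/-- The diagonal of the terminal sheaf is representable. -/
theorem representable_diag_terminal : Representable (Limits.diag (⊤_ (Sp S))) := by
  have : IsIso (Limits.diag (⊤_ (Sp S))) :=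
    ⟨prod.fst, Subsingleton.elim _ _, by
      apply Limits.prod.hom_ext <;> exact Subsingleton.elim _ _⟩
  exact Functor.relativelyRepresentable.of_isIso _ _

/-- Over a base with quasi-separated underlying space, the structure morphism of a quasi-compact
scheme is representable quasi-compact. -/
theorem repWith_quasiCompact_terminal_from_yon [QuasiSeparatedSpace ↥S] (V : Over S)
    [CompactSpace ↥V.left] : RepWith @QuasiCompact (terminal.from ((yon S).obj V)) := by
  apply MorphismProperty.relative.of_exists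
  intro T g
  have hlim : IsLimit (BinaryFan.mk ((yon S).map (prod.fst : V ⨯ T ⟶ V))
      ((yon S).map (prod.snd : V ⨯ T ⟶ T))) :=
    mapIsLimitOfPreservesOfIsLimit (yon S) _ _ (prodIsProd V T)
  have sq := IsPullback.of_is_product' hlim (terminalIsTerminal (C := Sp S))
  have e1 : terminalIsTerminal.from ((yon S).obj V) = terminal.from ((yon S).obj V) :=
    Subsingleton.elim _ _
  have e2 : terminalIsTerminal.from ((yon S).obj T) = g := Subsingleton.elim _ _
  rw [e1, e2] at sq
  refine ⟨V ⨯ T, (yon S).map prod.fst, prod.snd, sq, ?_⟩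
  change QuasiCompact (prod.snd : V ⨯ T ⟶ T).left
  rw [← Over.prodLeftIsoPullback_hom_snd]
  have : QuasiCompact V.hom := inferInstance
  infer_instance

/-- Over a base with quasi-separated underlying space, a quasi-compact algebraic space is
quasi-compact over the terminal sheaf. -/
theorem isQuasiCompactMor_terminal_from [QuasiSeparatedSpace ↥S] {X : Sp S} (hX : IsAlgSpace X)
    (hXc : IsQuasiCompactSp X) : IsQuasiCompactMor (terminal.from X) := by
  obtain ⟨V, p, hpe, hps, hV⟩ := hXc
  have hV : CompactSpace ↥V.left := hV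
  refine isQuasiCompactMor_of_comp_surjective' (IsAlgSpace.yon_obj V) hX
    representable_diag_terminal p (terminal.from X)
    (points_surjective_of_repWith_surjective p hps) ?_
  rw [terminal.comp_from]
  exact Groth.Agent.H50.isQuasiCompactMor_of_repWith le_rfl _
    (repWith_quasiCompact_terminal_from_yon V)

/-- Quasi-compact morphisms compose (version asking only for a representable diagonal on the
target). -/
theorem isQuasiCompactMor_comp' {F G H : Sp S} (hG : IsAlgSpace G)
    (hH : Representable (Limits.diag H)) {a : F ⟶ G} {b : G ⟶ H} (ha : IsQuasiCompactMor a)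
    (hb : IsQuasiCompactMor b) : IsQuasiCompactMor (a ≫ b) := by
  intro Z Z' hZ hZqc g₀ x y sq₀
  have sq1 : IsPullback (pullback.fst b g₀) (pullback.snd b g₀) b g₀ := .of_hasPullback _ _
  have h1 : IsQuasiCompactSp (pullback b g₀) := hb hZ hZqc g₀ _ _ sq1
  have h1alg : IsAlgSpace (pullback b g₀) := isAlgSpace_of_isPullback sq1 hH hG hZ
  have hw : (x ≫ a) ≫ b = y ≫ g₀ := by simpa using sq₀.w
  have sq2 : IsPullback x (pullback.lift (x ≫ a) y hw) a (pullback.fst b g₀) := by
    refine IsPullback.of_bot ?_ (pullback.lift_fst _ _ _).symm sq1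
    rw [pullback.lift_snd]
    exact sq₀
  exact ha h1alg h1 (pullback.fst b g₀) x _ sq2

/-- Over a base with quasi-separated underlying space, a morphism from a quasi-compact algebraic
space to an algebraic space quasi-separated over the base is quasi-compact. -/
theorem isQuasiCompactMor_of_isQuasiCompactSp_of_isQuasiSeparatedSp [QuasiSeparatedSpace ↥S]
    {X Y : Sp S} (hX : IsAlgSpace X) (hY : IsAlgSpace Y) (f : X ⟶ Y)
    (hXc : IsQuasiCompactSp X) (hYs : IsQuasiSeparatedSp Y) : IsQuasiCompactMor f := by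
  have sqΓ : IsPullback (𝟙 X ≫ f) (prod.lift (𝟙 X) f) (Limits.diag Y) (prod.map f (𝟙 Y)) :=
    isPullback_diag_prodMap (IsPullback.of_horiz_isIso ⟨by simp⟩)
  have hΓ : RepWith @QuasiCompact (prod.lift (𝟙 X) f) :=
    MorphismProperty.of_isPullback (P := RepWith @QuasiCompact) sqΓ hYs
  have hΓ' := Groth.Agent.H50.isQuasiCompactMor_of_repWith le_rfl _ hΓ
  have sqP := IsPullback.of_hasBinaryProduct' X Y
  have hpr : IsQuasiCompactMor (prod.snd : X ⨯ Y ⟶ Y) :=
    isQuasiCompactMor_of_isPullback sqP (isQuasiCompactMor_terminal_from hX hXc)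
  have hP : IsAlgSpace (X ⨯ Y) := isAlgSpace_of_isPullback sqP representable_diag_terminal hX hY
  have := isQuasiCompactMor_comp hP hY hΓ' hpr
  rwa [prod.lift_snd] at this

/-- A property of the absolute diagonal is the diagonal property of the map to the terminal
sheaf. -/
theorem diag_iff_diagonal_terminal (E : MorphismProperty (Sp S)) [E.RespectsIso] (X : Sp S) :
    E (Limits.diag X) ↔ E.diagonal (terminal.from X) := by
  rw [diag_eq_diagonal_terminal, MorphismProperty.diagonal_iff]
  exact MorphismProperty.cancel_right_of_respectsIso _ _ _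

/-- A property of diagonals which is stable under base change and composition passes to fibre
products. -/
theorem diag_of_isPullback (E : MorphismProperty (Sp S)) [E.IsStableUnderBaseChange]
    [E.IsStableUnderComposition] [E.ContainsIdentities] {H X Z P : Sp S} {f : X ⟶ H} {g : Z ⟶ H}
    {fst : P ⟶ X} {snd : P ⟶ Z} (sq : IsPullback fst snd f g) (hX : E (Limits.diag X))
    (hZ : E (Limits.diag Z)) : E (Limits.diag P) := by
  have : E.RespectsIso := MorphismProperty.IsStableUnderBaseChange.respectsIso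
  rw [diag_iff_diagonal_terminal E] at hX hZ ⊢
  have hj : E.diagonal (prod.lift fst snd) := by
    rw [MorphismProperty.diagonal_iff]
    have hm : Mono (prod.lift fst snd) := by
      refine ⟨fun {T} u v huv => ?_⟩
      apply sq.hom_ext
      · have := huv =≫ prod.fst
        rwa [Category.assoc, Category.assoc, prod.lift_fst] at this
      · have := huv =≫ prod.snd
        rwa [Category.assoc, Category.assoc, prod.lift_snd] at this
    have : IsIso (pullback.diagonal (prod.lift fst snd)) := pullback.isIso_diagonal_iff _ |>.2 hm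
    exact MorphismProperty.of_isIso E _
  have hprod : E.diagonal (terminal.from (X ⨯ Z)) := by
    rw [← terminal.comp_from (prod.fst : X ⨯ Z ⟶ X)]
    exact (E.diagonal).comp_mem _ _ (MorphismProperty.of_isPullback (P := E.diagonal)
      (IsPullback.of_hasBinaryProduct' X Z).flip hZ) hX
  rw [← terminal.comp_from (prod.lift fst snd)]
  exact E.diagonal.comp_mem _ _ hj hprod

/-- Over a base with quasi-separated underlying space, fibre products of algebraic spaces which
are quasi-compact and quasi-separated over the base are again so. -/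
theorem isQuasiCompactSp_and_isQuasiSeparatedSp_of_isPullback [QuasiSeparatedSpace ↥S]
    {X Y Z P : Sp S} (hXa : IsAlgSpace X) (hYa : IsAlgSpace Y) (hZa : IsAlgSpace Z)
    {f : X ⟶ Y} {g : Z ⟶ Y} {fst : P ⟶ X} {snd : P ⟶ Z} (sq : IsPullback fst snd f g)
    (hX : IsQuasiCompactSp X ∧ IsQuasiSeparatedSp X)
    (hY : IsQuasiSeparatedSp Y)
    (hZ : IsQuasiCompactSp Z ∧ IsQuasiSeparatedSp Z) :
    IsQuasiCompactSp P ∧ IsQuasiSeparatedSp P := by
  refine ⟨?_, diag_of_isPullback (RepWith @QuasiCompact) sq hX.2 hZ.2⟩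
  have hg : IsQuasiCompactMor g :=
    isQuasiCompactMor_of_isQuasiCompactSp_of_isQuasiSeparatedSp hZa hYa g hZ.1 hY
  exact hg hXa hX.1 f snd fst sq.flip

end Groth.Agent.H49
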