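import Groth.Agent.H49.AlgSpClosed
import Groth.Agent.H49.AlgSpQC
import Mathlib.AlgebraicGeometry.Morphisms.UniversallyClosed

set_option autoImplicit false
universe u
open CategoryTheory CategoryTheory.Limits AlgebraicGeometry Opposite

namespace Groth.Agent.H49

open AlgSp

variable {S : Scheme.{u}}

/-- Universal closedness on points is stable under base change. -/
theorem isUnivClosedMor_of_isPullback {F G F' G' : Sp S} {f : F ⟶ G} {g : G' ⟶ G}
    {fst : F' ⟶ F} {snd : F' ⟶ G'} (sq : IsPullback fst snd f g) (hf : IsUnivClosedMor f) :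
    IsUnivClosedMor snd := by
  intro Z Z' hZ g₀ a b sq₀
  exact hf hZ (g₀ ≫ g) (a ≫ fst) b (sq₀.paste_horiz sq)

open _root_.PrimeSpectrum MvPolynomial TopologicalSpace in
/-- An algebraic space universally closed over a field is quasi-compact. -/
theorem compactSpace_points_of_isUnivClosedMor_field {X : Sp S} (hX : IsAlgSpace X) {K : Type u}
    [Field K] (str : Spec (CommRingCat.of K) ⟶ S) (f : X ⟶ (yon S).obj (Over.mk str))
    (hf : IsUnivClosedMor f) : CompactSpace (Points X) := by
  classical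
  obtain ⟨U, a, hae, has⟩ := hX.atlas
  have haopen := Groth.Agent.H52.isOpenMap_ofPt_of_repWith_etale a hae
  have hasurj := Groth.Agent.H52.ofPt_surjective_of_repWith_surjective a has
  let 𝒰 : U.left.OpenCover := U.left.affineCover
  let Ui (i : 𝒰.I₀) : Set (Points X) := Points.ofPt a '' Set.range (𝒰.f i)
  have hUiopen : ∀ i, IsOpen (Ui i) := fun i => haopen _ (𝒰.f i).isOpenEmbedding.isOpen_range
  have hUic : ∀ i, IsCompact (Ui i) := fun i =>
    (isCompact_range (𝒰.f i).continuous).image (Points.continuous_ofPt a)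
  have hUicov : ∀ x, ∃ i, x ∈ Ui i := by
    intro x
    obtain ⟨u, rfl⟩ := hasurj x
    exact ⟨𝒰.idx u, u, 𝒰.covers u, rfl⟩
  let T : Scheme := Spec (.of <| MvPolynomial 𝒰.I₀ K)
  let q : T ⟶ Spec (.of K) := Spec.map (CommRingCat.ofHom MvPolynomial.C)
  let T' : Over S := Over.mk (q ≫ str)
  let qO : T' ⟶ Over.mk str := Over.homMk q
  let Ti (i : 𝒰.I₀) : T.Opens := basicOpen (MvPolynomial.X i)
  have sqP : IsPullback (pullback.fst f ((yon S).map qO)) (pullback.snd f ((yon S).map qO)) f
      ((yon S).map qO) := .of_hasPullback _ _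
  obtain ⟨P, p, fT, sqP⟩ : ∃ (P : Sp S) (p : P ⟶ X) (fT : P ⟶ (yon S).obj T'),
      IsPullback p fT f ((yon S).map qO) := ⟨_, _, _, sqP⟩
  have hclosed : IsClosedMap (Points.map fT) := hf (IsAlgSpace.yon_obj T') _ _ _ sqP
  let e : ↥T ≃ₜ Points ((yon S).obj T') := Points.schemeHomeo T'
  let Z : Set (Points P) :=
    (⋃ i, (Points.map fT ⁻¹' (e '' (Ti i : Set T))) ∩ (Points.map p ⁻¹' Ui i))ᶜ
  have hZ : IsClosed Z := by
    rw [isClosed_compl_iff]
    exact isOpen_iUnion fun i =>
      ((e.isOpenMap _ (Ti i).2).preimage (Points.continuous_map fT)).inter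
        ((hUiopen i).preimage (Points.continuous_map p))
  let Zc : T.Opens := ⟨(e ⁻¹' (Points.map fT '' Z))ᶜ,
    ((hclosed _ hZ).preimage e.continuous).isOpen_compl⟩
  let ψ : MvPolynomial 𝒰.I₀ K →ₐ[K] K := MvPolynomial.aeval (fun _ ↦ 1)
  let t : T := Spec.map (CommRingCat.ofHom ψ.toRingHom) default
  have ht (i : 𝒰.I₀) : t ∈ Ti i := show ψ (.X i) ≠ 0 by simp [ψ]
  have htZc : t ∈ Zc := by
    rintro ⟨z, hz, hzt⟩
    obtain ⟨i, hi⟩ := hUicov (Points.map p z)
    exact hz (Set.mem_iUnion.2 ⟨i, ⟨t, ht i, hzt.symm⟩, hi⟩)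
  obtain ⟨U', ⟨g, rfl⟩, htU', hU'le⟩ := Opens.isBasis_iff_nbhd.mp isBasis_basic_opens htZc
  let σ : Finset 𝒰.I₀ := MvPolynomial.vars g
  let φ : MvPolynomial 𝒰.I₀ K →+* MvPolynomial 𝒰.I₀ K :=
    (MvPolynomial.aeval fun i : 𝒰.I₀ ↦ if i ∈ σ then MvPolynomial.X i else 0).toRingHom
  let t' : T := Spec.map (CommRingCat.ofHom φ) t
  have ht'g : t' ∈ PrimeSpectrum.basicOpen g :=
    show φ g ∉ t.asIdeal from (show φ g = g from aeval_ite_mem_eq_self g subset_rfl).symm ▸ htU'
  have h : t' ∉ e ⁻¹' (Points.map fT '' Z) := hU'le ht'g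
  suffices ⋃ i ∈ σ, Ui i = Set.univ from
    ⟨this ▸ Finset.isCompact_biUnion _ fun i _ ↦ hUic i⟩
  rw [Set.iUnion₂_eq_univ_iff]
  contrapose! h
  obtain ⟨x, hx⟩ := h
  have hsub0 : Subsingleton ↥(Over.mk str).left :=
    (inferInstance : Subsingleton ↥(Spec (CommRingCat.of K)))
  have hsub : Subsingleton (Points ((yon S).obj (Over.mk str))) :=
    (Points.schemeHomeo (Over.mk str)).symm.injective.subsingleton
  obtain ⟨z, hz1, hz2⟩ := Groth.Agent.H53.exists_point_of_isPullback sqP x (e t')
    (Subsingleton.elim _ _)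
  refine ⟨z, ?_, hz2⟩
  intro hzmem
  obtain ⟨i, ⟨s, hs, hse⟩, hi2⟩ := Set.mem_iUnion.1 hzmem
  have hst : s = t' := e.injective (hse.trans hz2)
  rw [hst] at hs
  change Points.map p z ∈ Ui i at hi2
  rw [hz1] at hi2
  have hiσ : i ∉ σ := fun hi => hx i hi hi2
  have h0 : φ (.X i) = 0 := by simp [φ, hiσ]
  change φ (.X i) ∉ t.asIdeal at hs
  rw [h0] at hs
  exact hs (zero_mem _)

/-- A universally closed morphism of algebraic spaces is a proper map on points. -/
theorem isProperMap_points_of_isUnivClosedMor {X Y : Sp S} (hX : IsAlgSpace X)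
    (hY : IsAlgSpace Y) (f : X ⟶ Y) (hf : IsUnivClosedMor f) : IsProperMap (Points.map f) := by
  rw [isProperMap_iff_isClosedMap_and_compact_fibers]
  refine ⟨Points.continuous_map f, ?_, ?_⟩
  · exact hf hY (𝟙 Y) (𝟙 X) f (IsPullback.of_horiz_isIso ⟨by simp⟩)
  · intro y
    induction y using Points.ind with | h q => ?_
    have sq : IsPullback (pullback.fst f q.toHom) (pullback.snd f q.toHom) f q.toHom :=
      .of_hasPullback _ _
    have hc : CompactSpace (Points (pullback f q.toHom)) :=
      compactSpace_points_of_isUnivClosedMor_field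
        (isAlgSpace_of_isPullback sq hY.diag hX (IsAlgSpace.yon_obj _)) q.str _
        (isUnivClosedMor_of_isPullback sq hf)
    have : Points.map f ⁻¹' {Points.mk q} = Set.range (Points.map (pullback.fst f q.toHom)) := by
      ext x
      constructor
      · intro hx
        have hx' : Points.map f x = Points.map q.toHom
            (Points.ofScheme q.pt (IsLocalRing.closedPoint q.K)) := by
          rw [← Points.ofPt_eq_map_ofScheme, Points.ofPt_toHom]
          exact hx
        obtain ⟨z, hz, -⟩ := Groth.Agent.H53.exists_point_of_isPullback sq x _ hx'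
        exact ⟨z, hz⟩
      · rintro ⟨z, rfl⟩
        change Points.map f (Points.map _ z) = Points.mk q
        rw [← Points.map_comp, sq.w, Points.map_comp]
        obtain ⟨s, hs⟩ := (Points.schemeHomeo q.pt).surjective
          (Points.map (pullback.snd f q.toHom) z)
        rw [← hs]
        exact (Points.ofPt_eq_map_ofScheme q.toHom s).symm.trans (Points.ofPt_toHom q s)
    rw [this]
    exact isCompact_range (Points.continuous_map _)

/-- A universally closed morphism of algebraic spaces is quasi-compact. -/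
theorem isQuasiCompactMor_of_isUnivClosedMor {X Y : Sp S} (hX : IsAlgSpace X) (hY : IsAlgSpace Y)
    (f : X ⟶ Y) (hf : IsUnivClosedMor f) : IsQuasiCompactMor f := by
  intro Z Z' hZ hZqc g fst snd sq
  have hZ' : IsAlgSpace Z' := isAlgSpace_of_isPullback sq hY.diag hX hZ
  have hp := isProperMap_points_of_isUnivClosedMor hZ' hZ snd (isUnivClosedMor_of_isPullback sq hf)
  have hZc : CompactSpace (Points Z) := (Groth.Agent.H51.isQuasiCompactSp_iff hZ).1 hZqc
  rw [Groth.Agent.H51.isQuasiCompactSp_iff hZ']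
  constructor
  have := hp.isCompact_preimage isCompact_univ
  simpa using this

end Groth.Agent.H49
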