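import Groth.Agent.H49.FibreStalk
import Mathlib.AlgebraicGeometry.Noetherian
import Mathlib.AlgebraicGeometry.Morphisms.FiniteType
import Mathlib.RingTheory.Ideal.KrullsHeightTheorem

/-!
# Dimension inequality for the local ring of a fibre

`dim O_{X,x} ≤ dim O_{Y,f x} + dim O_{X_{f x},x}` for Noetherian local rings.
-/

set_option autoImplicit false
universe u

open CategoryTheory CategoryTheory.Limits AlgebraicGeometry IsLocalRing

namespace Groth.Agent.H49.FibreDim

open Groth.Agent.H49.FibreStalk

/-- ring level: `dim B ≤ dim A + dim B/m_A B` for a local homomorphism of Noetherian local rings. -/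
theorem ringKrullDim_le_add_quotient {A B : Type u} [CommRing A] [CommRing B] [Algebra A B]
    [IsNoetherianRing A] [IsLocalRing A] [IsNoetherianRing B] [IsLocalRing B]
    [IsLocalHom (algebraMap A B)]
    [IsLocalRing (B ⧸ (maximalIdeal A).map (algebraMap A B))] :
    ringKrullDim B ≤ ringKrullDim A +
      ringKrullDim (B ⧸ (maximalIdeal A).map (algebraMap A B)) := by
  have hlies : (maximalIdeal B).LiesOver (maximalIdeal A) := by
    constructor
    have h4 : (maximalIdeal B).comap (algebraMap A B) = maximalIdeal A :=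
      ((IsLocalRing.local_hom_TFAE (algebraMap A B)).out 0 4).mp ‹IsLocalHom (algebraMap A B)›
    exact h4.symm
  have h := Ideal.height_le_height_add_of_liesOver (R := A) (S := B)
    (maximalIdeal A) (maximalIdeal B)
  have hne : (maximalIdeal A).map (algebraMap A B) ≠ ⊤ := fun htop =>
    (maximalIdeal.isMaximal B).ne_top (top_le_iff.mp (htop ▸
      ((IsLocalRing.local_hom_TFAE (algebraMap A B)).out 0 2).mp ‹IsLocalHom (algebraMap A B)›))
  have hmap : (maximalIdeal B).map (Ideal.Quotient.mk ((maximalIdeal A).map (algebraMap A B))) =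
      maximalIdeal (B ⧸ (maximalIdeal A).map (algebraMap A B)) := by
    have := IsLocalHom.of_surjective (Ideal.Quotient.mk ((maximalIdeal A).map (algebraMap A B)))
      Ideal.Quotient.mk_surjective
    ext z
    obtain ⟨z, rfl⟩ := Ideal.Quotient.mk_surjective z
    simp [sup_eq_left.mpr (IsLocalRing.le_maximalIdeal hne)]
  rw [hmap] at h
  rw [← IsLocalRing.maximalIdeal_height_eq_ringKrullDim,
    ← IsLocalRing.maximalIdeal_height_eq_ringKrullDim,
    ← IsLocalRing.maximalIdeal_height_eq_ringKrullDim]
  exact_mod_cast h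

variable {X Y : Scheme.{u}}

theorem ringKrullDim_stalk_le_add_fibre (f : X ⟶ Y) (x : X)
    [IsNoetherianRing (X.presheaf.stalk x)] [IsNoetherianRing (Y.presheaf.stalk (f x))] :
    ringKrullDim (X.presheaf.stalk x) ≤ ringKrullDim (Y.presheaf.stalk (f x)) +
      ringKrullDim ((f.fiber (f x)).presheaf.stalk (f.asFiber x)) := by
  letI : Algebra (Y.presheaf.stalk (f x)) (X.presheaf.stalk x) := (f.stalkMap x).hom.toAlgebra
  haveI : IsLocalHom (algebraMap (Y.presheaf.stalk (f x)) (X.presheaf.stalk x)) :=
    (inferInstance : IsLocalHom (f.stalkMap x).hom)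
  haveI : IsLocalRing (X.presheaf.stalk x ⧸ Ideal.map (algebraMap (Y.presheaf.stalk (f x))
      (X.presheaf.stalk x)) (maximalIdeal (Y.presheaf.stalk (f x)))) :=
    (inferInstance : IsLocalRing (X.presheaf.stalk x ⧸ fibreIdeal f x))
  have h := ringKrullDim_le_add_quotient (A := Y.presheaf.stalk (f x)) (B := X.presheaf.stalk x)
  have e := ringKrullDim_eq_of_ringEquiv (quotientEquivStalkAsFiber f x)
  rw [← e]
  exact h

end Groth.Agent.H49.FibreDim
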