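import Groth.Agent.H49.CMMor
import Groth.Agent.H49.FibreDim
import Groth.Prelude.Def_CInt

/-!
# Depth and dimension of local rings of fibres

* `depth_eq_of_ringEquiv`: depth of a local ring is invariant under ring isomorphism.
* `depth_stalk_eq_add`: for `f` flat at `x` (Noetherian stalks),
  `depth O_{X,x} = depth O_{Y,f x} + depth (fibre local ring)`.
* `ringKrullDim_fiberStalk_le`, `ringKrullDim_stalk_eq_add` (flat case).
-/

set_option autoImplicit false
universe u

open CategoryTheory CategoryTheory.Limits AlgebraicGeometry IsLocalRing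

namespace Groth.Agent.H49.FibreDepth

open Groth.Agent.H49.FibreStalk

/-- Depth of a Noetherian local ring is invariant under ring isomorphisms. -/
theorem depth_eq_of_ringEquiv {R S : Type u} [CommRing R] [CommRing S] [IsLocalRing R]
    [IsLocalRing S] [IsNoetherianRing R] (e : R ≃+* S) :
    LocCoh.depth R R = LocCoh.depth S S := by
  letI : Algebra R S := e.toRingHom.toAlgebra
  have hmap : (maximalIdeal R).map (algebraMap R S) = maximalIdeal S := by
    have h1 : (maximalIdeal R).map (algebraMap R S) = (maximalIdeal R).map (e : R →+* S) := rfl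
    rw [h1]
    exact IsLocalRing.map_ringEquiv_maximalIdeal e
  let l : R ≃ₗ[R] S :=
    { e.toAddEquiv with
      map_smul' := fun r x => by
        change e (r * x) = e r * e x
        exact map_mul e r x }
  haveI : Module.Finite R S := Module.Finite.of_surjective l.toLinearMap l.surjective
  have h2 := Groth.Agent.H72.DepthFinite.idealDepth_eq_idealDepth_map (A := R) (B := S)
    (maximalIdeal R) S
  rw [hmap] at h2
  have h3 := Groth.Agent.H15.idealDepth_congr l (maximalIdeal R)
  unfold LocCoh.depth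
  rw [h3, h2]

variable {X Y Z : Scheme.{u}}

theorem depth_fiberStalk_eq (f : X ⟶ Y) (x : X) [IsNoetherianRing (X.presheaf.stalk x)] :
    LocCoh.depth (CInt.fiberStalk f x) (CInt.fiberStalk f x) =
      LocCoh.depth (X.presheaf.stalk x ⧸ fibreIdeal f x) (X.presheaf.stalk x ⧸ fibreIdeal f x) :=
  (depth_eq_of_ringEquiv (quotientEquivStalkAsFiber f x)).symm

theorem ringKrullDim_fiberStalk_eq (f : X ⟶ Y) (x : X) :
    ringKrullDim (CInt.fiberStalk f x) = ringKrullDim (X.presheaf.stalk x ⧸ fibreIdeal f x) :=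
  (ringKrullDim_eq_of_ringEquiv (quotientEquivStalkAsFiber f x)).symm

theorem ringKrullDim_fiberStalk_le (f : X ⟶ Y) (x : X) :
    ringKrullDim (CInt.fiberStalk f x) ≤ ringKrullDim (X.presheaf.stalk x) := by
  rw [ringKrullDim_fiberStalk_eq]
  exact ringKrullDim_quotient_le _

/-- depth formula along a flat stalk map. -/
theorem depth_stalk_eq_add (f : X ⟶ Y) (x : X) (hfl : (f.stalkMap x).hom.Flat)
    [IsNoetherianRing (X.presheaf.stalk x)] [IsNoetherianRing (Y.presheaf.stalk (f x))] :
    LocCoh.depth (X.presheaf.stalk x) (X.presheaf.stalk x) =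
      LocCoh.depth (Y.presheaf.stalk (f x)) (Y.presheaf.stalk (f x)) +
        LocCoh.depth (CInt.fiberStalk f x) (CInt.fiberStalk f x) := by
  letI : Algebra (Y.presheaf.stalk (f x)) (X.presheaf.stalk x) := (f.stalkMap x).hom.toAlgebra
  haveI : IsLocalHom (algebraMap (Y.presheaf.stalk (f x)) (X.presheaf.stalk x)) :=
    (inferInstance : IsLocalHom (f.stalkMap x).hom)
  haveI : Module.Flat (Y.presheaf.stalk (f x)) (X.presheaf.stalk x) := hfl
  rw [depth_fiberStalk_eq]
  exact Groth.Agent.H72.FlatCM.depth_eq_add_of_flat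
    (A := Y.presheaf.stalk (f x)) (B := X.presheaf.stalk x)

/-- dimension formula along a flat stalk map. -/
theorem ringKrullDim_stalk_eq_add (f : X ⟶ Y) (x : X) (hfl : (f.stalkMap x).hom.Flat)
    [IsNoetherianRing (X.presheaf.stalk x)] [IsNoetherianRing (Y.presheaf.stalk (f x))] :
    ringKrullDim (X.presheaf.stalk x) =
      ringKrullDim (Y.presheaf.stalk (f x)) + ringKrullDim (CInt.fiberStalk f x) := by
  letI : Algebra (Y.presheaf.stalk (f x)) (X.presheaf.stalk x) := (f.stalkMap x).hom.toAlgebra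
  haveI : IsLocalHom (algebraMap (Y.presheaf.stalk (f x)) (X.presheaf.stalk x)) :=
    (inferInstance : IsLocalHom (f.stalkMap x).hom)
  haveI : Module.Flat (Y.presheaf.stalk (f x)) (X.presheaf.stalk x) := hfl
  rw [ringKrullDim_fiberStalk_eq]
  exact Groth.Agent.H72.FlatCM.ringKrullDim_eq_add_of_flat
    (A := Y.presheaf.stalk (f x)) (B := X.presheaf.stalk x)

/-- for `f` flat at `x`, `depth O_{X,x} ≥ depth` of the fibre local ring. -/
theorem depth_fiberStalk_le_depth_stalk (f : X ⟶ Y) (x : X) (hfl : (f.stalkMap x).hom.Flat)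
    [IsNoetherianRing (X.presheaf.stalk x)] [IsNoetherianRing (Y.presheaf.stalk (f x))] :
    LocCoh.depth (CInt.fiberStalk f x) (CInt.fiberStalk f x) ≤
      LocCoh.depth (X.presheaf.stalk x) (X.presheaf.stalk x) := by
  rw [depth_stalk_eq_add f x hfl]
  exact le_add_self

/-- for `g` flat at `x`, the fibre local ring of `g ≫ f` at `x` has dimension at least that of
the fibre local ring of `f` at `g x`. -/
theorem ringKrullDim_fiberStalk_le_comp (g : X ⟶ Y) (f : Y ⟶ Z) (x : X)
    (hfl : (g.stalkMap x).hom.Flat)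
    [IsNoetherianRing (X.presheaf.stalk x)] [IsNoetherianRing (Y.presheaf.stalk (g x))] :
    ringKrullDim (CInt.fiberStalk f (g x)) ≤ ringKrullDim (CInt.fiberStalk (g ≫ f) x) := by
  letI : Algebra (Y.presheaf.stalk (g x)) (X.presheaf.stalk x) := (g.stalkMap x).hom.toAlgebra
  haveI : IsLocalHom (algebraMap (Y.presheaf.stalk (g x)) (X.presheaf.stalk x)) :=
    (inferInstance : IsLocalHom (g.stalkMap x).hom)
  haveI : Module.Flat (Y.presheaf.stalk (g x)) (X.presheaf.stalk x) := hfl
  have hJ : fibreIdeal f (g x) ≠ ⊤ := fibreIdeal_ne_top f (g x)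
  have hcomp : fibreIdeal (g ≫ f) x = Ideal.map (algebraMap (Y.presheaf.stalk (g x))
      (X.presheaf.stalk x)) (fibreIdeal f (g x)) := Groth.Agent.H49.CMMor.fibreIdeal_comp g f x
  rw [ringKrullDim_fiberStalk_eq, ringKrullDim_fiberStalk_eq,
    ringKrullDim_eq_of_ringEquiv (Ideal.quotEquivOfEq hcomp)]
  haveI := Groth.Agent.H49.FibreCM.isLocalRing_quotient (fibreIdeal f (g x)) hJ
  haveI := Groth.Agent.H49.FibreCM.isLocalRing_quotient
    ((fibreIdeal f (g x)).map (algebraMap (Y.presheaf.stalk (g x)) (X.presheaf.stalk x)))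
    (Groth.Agent.H49.FibreCM.map_ne_top _ hJ)
  haveI := Groth.Agent.H49.FibreCM.isLocalHom_quotient (C := X.presheaf.stalk x)
    (fibreIdeal f (g x)) hJ
  haveI := Groth.Agent.H49.FibreCM.flat_quotient (C := X.presheaf.stalk x) (fibreIdeal f (g x))
  rw [Groth.Agent.H72.FlatCM.ringKrullDim_eq_add_of_flat
    (A := Y.presheaf.stalk (g x) ⧸ fibreIdeal f (g x))
    (B := X.presheaf.stalk x ⧸ (fibreIdeal f (g x)).map
      (algebraMap (Y.presheaf.stalk (g x)) (X.presheaf.stalk x)))]
  exact le_add_of_nonneg_right ringKrullDim_nonneg_of_nontrivial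

end Groth.Agent.H49.FibreDepth
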