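import Mathlib
import Groth.Prelude.Def_Flat
import Groth.Agent.H49.FibreDimBC
import Groth.Agent.H17.Chev.FibreLocal
import Groth.Agent.S2142

/-!
# The local fibre dimension `FlatMor.fibreDimAt` is invariant under base change (helper49)

Scheme-level transport of helper11's S2142 (`localDim` of `Spec (K ⊗[k] S)`).
-/

set_option autoImplicit false
universe u
open CategoryTheory CategoryTheory.Limits AlgebraicGeometry TensorProduct

namespace Groth.Agent.H49.FibreDimAtBC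

section ring

/-- Ring-level: local dimension for a pushout square over a field extension. -/
theorem localDim_eq_of_isPushout_field (k K S T : Type u) [Field k] [Field K] [Algebra k K]
    [CommRing S] [CommRing T] [Algebra k S] [Algebra S T] [Algebra K T] [Algebra k T]
    [IsScalarTower k S T] [IsScalarTower k K T] [Algebra.FiniteType k S]
    [hpo : Algebra.IsPushout k S K T] (qT : PrimeSpectrum T) :
    FlatMor.localDim (PrimeSpectrum T) qT =
      FlatMor.localDim (PrimeSpectrum S) (PrimeSpectrum.comap (algebraMap S T) qT) := by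
  haveI hpo' : Algebra.IsPushout k K S T := hpo.symm
  let e : K ⊗[k] S ≃ₐ[K] T := Algebra.IsPushout.equiv k K S T
  have he : ∀ s : S, e ((1 : K) ⊗ₜ[k] s) = algebraMap S T s := by
    intro s
    change Algebra.IsPushout.equiv k K S T ((1 : K) ⊗ₜ[k] s) = _
    rw [Algebra.IsPushout.equiv_tmul, map_one, one_mul]
  have hhom : IsHomeomorph (PrimeSpectrum.comap (e : K ⊗[k] S →+* T)) :=
    PrimeSpectrum.isHomeomorph_comap_of_bijective e.bijective
  rw [Groth.Agent.H17.Chev.localDim_eq_of_isOpenEmbedding hhom.isOpenEmbedding qT]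
  have hq : ((PrimeSpectrum.comap (e : K ⊗[k] S →+* T)) qT).asIdeal.comap
      (Algebra.TensorProduct.includeRight.toRingHom : S →+* K ⊗[k] S) =
      (PrimeSpectrum.comap (algebraMap S T) qT).asIdeal := by
    ext s
    simp only [PrimeSpectrum.comap_asIdeal, Ideal.mem_comap]
    change e ((1 : K) ⊗ₜ[k] s) ∈ qT.asIdeal ↔ _
    rw [he]
  exact Groth.Agent.S2142.result _ _ hq

end ring

section scheme

open Groth.Agent.H49.FibreDimBC

/-- Local dimension at a point of an affine open, computed on the prime spectrum. -/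
theorem localDim_fromSpec {Z : Scheme.{u}} {U : Z.Opens} (hU : IsAffineOpen U)
    (q : PrimeSpectrum Γ(Z, U)) :
    FlatMor.localDim Z (hU.fromSpec (show ↥(Spec Γ(Z, U)) from q)) =
      FlatMor.localDim (PrimeSpectrum Γ(Z, U)) q :=
  (Groth.Agent.H17.Chev.localDim_eq_of_isOpenEmbedding
    (hU.fromSpec.isOpenEmbedding) (show ↥(Spec Γ(Z, U)) from q)).symm

/-- Sections over an affine open of the base change of a `k`-scheme along a field extension:
local dimensions agree. -/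
theorem localDim_sections_eq {Z W : Scheme.{u}} (k K : Type u) [Field k] [Field K]
    (φ : k →+* K) (z : Z ⟶ Spec (.of k)) [LocallyOfFiniteType z] (p : W ⟶ Z)
    (q : W ⟶ Spec (.of K)) (hpb : IsPullback p q z (Spec.map (CommRingCat.ofHom φ)))
    {U : Z.Opens} (hU : IsAffineOpen U) (qT : PrimeSpectrum Γ(W, p ⁻¹ᵁ U)) :
    FlatMor.localDim (PrimeSpectrum Γ(W, p ⁻¹ᵁ U)) qT =
      FlatMor.localDim (PrimeSpectrum Γ(Z, U))
        (PrimeSpectrum.comap (p.appLE U (p ⁻¹ᵁ U) le_rfl).hom qT) := by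
  have hS : IsAffineOpen (⊤ : (Spec (.of k)).Opens) := isAffineOpen_top _
  have hT : IsAffineOpen (⊤ : (Spec (.of K)).Opens) := isAffineOpen_top _
  have hUST : (⊤ : (Spec (.of K)).Opens) ≤ (Spec.map (CommRingCat.ofHom φ)) ⁻¹ᵁ ⊤ := by simp
  have hUSX : U ≤ z ⁻¹ᵁ ⊤ := by simp
  have hUY : p ⁻¹ᵁ U = p ⁻¹ᵁ U ⊓ q ⁻¹ᵁ ⊤ := by simp
  have hpo : IsPushout (z.appLE ⊤ U hUSX) ((Spec.map (CommRingCat.ofHom φ)).appLE ⊤ ⊤ hUST)
      (p.appLE U (p ⁻¹ᵁ U) le_rfl) (q.appLE ⊤ (p ⁻¹ᵁ U) (by simp)) := by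
    have := isIso_pushoutSection_of_isAffineOpen hpb hUST hUSX hUY hS hT hU
    exact (isIso_pushoutSection_iff hpb hUST hUSX hUY).mp this
  let e₁ := Scheme.ΓSpecIso (CommRingCat.of k)
  let e₃ := Scheme.ΓSpecIso (CommRingCat.of K)
  have hpo' : IsPushout (e₁.inv ≫ z.appLE ⊤ U hUSX) (CommRingCat.ofHom φ)
      (p.appLE U (p ⁻¹ᵁ U) le_rfl) (e₃.inv ≫ q.appLE ⊤ (p ⁻¹ᵁ U) (by simp)) := by
    refine IsPushout.of_iso hpo e₁ (Iso.refl _) e₃ (Iso.refl _) ?_ ?_ ?_ ?_
    · simp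
    · have h1 : (Spec.map (CommRingCat.ofHom φ)).appLE ⊤ ⊤ hUST =
          (Spec.map (CommRingCat.ofHom φ)).appTop := by
        simp only [Scheme.Hom.appLE, Scheme.Hom.appTop]
        exact (congrArg (fun t => _ ≫ t)
          ((Spec (CommRingCat.of K)).presheaf.map_id _)).trans (Category.comp_id _)
      rw [h1]
      exact Scheme.ΓSpecIso_naturality (CommRingCat.ofHom φ)
    · simp
    · simp
  let _ : Algebra k K := φ.toAlgebra
  let _ : Algebra k Γ(Z, U) := (e₁.inv ≫ z.appLE ⊤ U hUSX).hom.toAlgebra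
  let _ : Algebra Γ(Z, U) Γ(W, p ⁻¹ᵁ U) := (p.appLE U (p ⁻¹ᵁ U) le_rfl).hom.toAlgebra
  let _ : Algebra K Γ(W, p ⁻¹ᵁ U) := (e₃.inv ≫ q.appLE ⊤ (p ⁻¹ᵁ U) (by simp)).hom.toAlgebra
  let _ : Algebra k Γ(W, p ⁻¹ᵁ U) :=
    ((e₁.inv ≫ z.appLE ⊤ U hUSX) ≫ (p.appLE U (p ⁻¹ᵁ U) le_rfl)).hom.toAlgebra
  have t1 : IsScalarTower k Γ(Z, U) Γ(W, p ⁻¹ᵁ U) :=
    IsScalarTower.of_algebraMap_eq fun r => rfl
  have t2 : IsScalarTower k K Γ(W, p ⁻¹ᵁ U) :=
    IsScalarTower.of_algebraMap_eq fun r => congr($(hpo'.w).hom r)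
  have hft : Algebra.FiniteType k Γ(Z, U) := by
    have hft : RingHom.FiniteType (z.appLE ⊤ U hUSX).hom :=
      HasRingHomProperty.appLE @LocallyOfFiniteType z inferInstance ⟨⊤, isAffineOpen_top _⟩
        ⟨U, hU⟩ hUSX
    have : RingHom.FiniteType (e₁.inv ≫ z.appLE ⊤ U hUSX).hom := by
      rw [CommRingCat.hom_comp]
      refine hft.comp ?_
      exact RingHom.FiniteType.of_surjective _
        (ConcreteCategory.bijective_of_isIso e₁.inv).2
    exact this
  have hpo'' : Algebra.IsPushout k Γ(Z, U) K Γ(W, p ⁻¹ᵁ U) :=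
    CommRingCat.isPushout_iff_isPushout.mp hpo'
  exact localDim_eq_of_isPushout_field k K Γ(Z, U) Γ(W, p ⁻¹ᵁ U) qT

/-- **Local dimension is invariant under extension of the base field.** -/
theorem localDim_eq_of_isPullback_field {Z W : Scheme.{u}} (k K : Type u) [Field k]
    [Field K] (φ : k →+* K) (z : Z ⟶ Spec (.of k)) [LocallyOfFiniteType z] (p : W ⟶ Z)
    (q : W ⟶ Spec (.of K)) (hpb : IsPullback p q z (Spec.map (CommRingCat.ofHom φ))) (w : W) :
    FlatMor.localDim W w = FlatMor.localDim Z (p w) := by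
  obtain ⟨U, hU, hwU, -⟩ := exists_isAffineOpen_mem_and_subset (x := p w) (U := ⊤) trivial
  obtain ⟨hV, -⟩ := ringKrullDim_preimage_eq k K φ z p q hpb hU
  have hwV : w ∈ p ⁻¹ᵁ U := hwU
  let qT : ↥(Spec Γ(W, p ⁻¹ᵁ U)) := hV.primeIdealOf ⟨w, hwV⟩
  have h1 : hV.fromSpec qT = w := hV.fromSpec_primeIdealOf ⟨w, hwV⟩
  have h2 : hU.fromSpec (show ↥(Spec Γ(Z, U)) from
      PrimeSpectrum.comap (p.appLE U (p ⁻¹ᵁ U) le_rfl).hom (show PrimeSpectrum _ from qT)) =
      p w := by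
    have := IsAffineOpen.SpecMap_appLE_fromSpec p hU hV le_rfl
    have h3 : hU.fromSpec ((Spec.map (p.appLE U (p ⁻¹ᵁ U) le_rfl)) qT) = p (hV.fromSpec qT) := by
      rw [← Scheme.Hom.comp_apply, ← Scheme.Hom.comp_apply, this]
    rw [h1] at h3
    exact h3
  have h4 := localDim_fromSpec hV (show PrimeSpectrum _ from qT)
  have h5 := localDim_fromSpec hU
    (PrimeSpectrum.comap (p.appLE U (p ⁻¹ᵁ U) le_rfl).hom (show PrimeSpectrum _ from qT))
  rw [h2] at h5
  have h4' : FlatMor.localDim W w = FlatMor.localDim (PrimeSpectrum Γ(W, p ⁻¹ᵁ U)) qT := by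
    rw [← h1]; exact h4
  rw [h4', h5]
  exact localDim_sections_eq k K φ z p q hpb hU _

/-- Local dimension of the scheme-theoretic fibre at a point, as a `fibreDimAt`. -/
theorem localDim_fiber_eq {X Y : Scheme.{u}} (f : X ⟶ Y) (y : Y) (z : f.fiber y) :
    FlatMor.localDim (f.fiber y) z = FlatMor.fibreDimAt f (f.fiberι y z) := by
  rw [Groth.Agent.H17.Chev.fibreDimAt_eq,
    Groth.Agent.H17.Chev.localDim_eq_of_isOpenEmbedding (f.fiberHomeo y).isOpenEmbedding z]
  have aux : ∀ (y' : Y) (x : X) (hx : f.base x = y'),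
      FlatMor.localDim ↥(f.base ⁻¹' {y'}) ⟨x, hx⟩ =
        FlatMor.localDim ↥(f.base ⁻¹' {f.base x}) ⟨x, rfl⟩ := by
    rintro _ x rfl; rfl
  exact aux y _ (f.fiberHomeo y z).2

/-- **The local fibre dimension is invariant under base change.** -/
theorem fibreDimAt_eq_of_isPullback {X Y X' Y' : Scheme.{u}} (f : X ⟶ Y) [LocallyOfFiniteType f]
    (g : Y' ⟶ Y) (f' : X' ⟶ Y') (g' : X' ⟶ X) (hc : IsPullback g' f' f g) (x' : X') :
    FlatMor.fibreDimAt f' x' = FlatMor.fibreDimAt f (g' x') := by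
  have hsq := isPullback_fiberToSpecResidueField_of_isPullback hc (f' x')
  have : LocallyOfFiniteType (f.fiberToSpecResidueField (g (f' x'))) :=
    inferInstanceAs (LocallyOfFiniteType (pullback.snd f (Y.fromSpecResidueField (g (f' x')))))
  have hL := localDim_eq_of_isPullback_field (Y.residueField (g (f' x')))
    (Y'.residueField (f' x')) (g.residueFieldMap (f' x')).hom
    (f.fiberToSpecResidueField (g (f' x'))) _ (f'.fiberToSpecResidueField (f' x')) hsq
    (f'.asFiber x')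
  change FlatMor.localDim _ (f'.asFiber x') = _
  rw [hL, localDim_fiber_eq]
  congr 1
  have hmap : pullback.map _ _ _ _ g' (Spec.map (g.residueFieldMap (f' x'))) g hc.w.symm
      (by simp) ≫ f.fiberι (g (f' x')) = f'.fiberι (f' x') ≫ g' :=
    pullback.lift_fst _ _ _
  have h6 := congrArg (fun h : (f'.fiber (f' x')) ⟶ X => h (f'.asFiber x')) hmap
  simp only [Scheme.Hom.comp_apply, Scheme.Hom.fiberι_asFiber] at h6
  exact h6

end scheme

end Groth.Agent.H49.FibreDimAtBC
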