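import Groth.Agent.Lead.Coh.Leray
import Groth.Agent.Lead.Coh.AffineOpen
import Groth.Agent.H31.SheafOfModulesToSheaf
import Groth.Agent.H13.AssExact

/-!
# Exactness of sections of quasi-coherent modules over affine opens (helper49)
-/

set_option autoImplicit false
universe u

open CategoryTheory CategoryTheory.Limits AlgebraicGeometry Opposite TopologicalSpace

namespace Groth.Agent.H49.SectionsExact

variable {X : Scheme.{u}}

/-- The functor to abelian sheaves on `X.Modules`. -/
noncomputable abbrev T (X : Scheme.{u}) :
    X.Modules ⥤ Sheaf (Opens.grothendieckTopology X) AddCommGrpCat.{u} :=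
  SheafOfModules.toSheaf.{u} X.ringCatSheaf

instance : (T X).Additive :=
  inferInstanceAs (SheafOfModules.toSheaf.{u} X.ringCatSheaf).Additive

/-- The underlying short complex of abelian sheaves of a short exact sequence of modules is
short exact. -/
theorem shortExact_toSheaf (E : ShortComplex X.Modules) (hE : E.ShortExact) :
    (E.map (T X)).ShortExact := by
  have h1 := Groth.Agent.H31.toSheaf_preservesColimits X.ringCatSheaf
  have h2 := Groth.Agent.H31.toSheaf_preservesLimits X.ringCatSheaf
  have : PreservesFiniteLimits (T X) :=
    (PreservesLimitsOfSize.preservesFiniteLimits (SheafOfModules.toSheaf.{u} X.ringCatSheaf) :)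
  have : PreservesFiniteColimits (T X) :=
    (PreservesColimitsOfSize.preservesFiniteColimits (SheafOfModules.toSheaf.{u} X.ringCatSheaf) :)
  exact hE.map_of_exact _

/-- Sections over an affine open of a short exact sequence with quasi-coherent kernel are
surjective at the right. -/
theorem sections_surjective (E : ShortComplex X.Modules) (hE : E.ShortExact)
    [E.X₁.IsQuasicoherent] {U : X.Opens} (hU : IsAffineOpen U) :
    Function.Surjective (E.g.val.app (op U)).hom := by
  have hS := shortExact_toSheaf E hE
  have hv := Groth.Agent.Lead.Coh.hVanish_of_isAffineOpen X E.X₁ hU 0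
  have := Groth.Agent.Lead.Cech.app_surjective hS U hv
  exact this

/-- Sections over an affine open of a short exact sequence with quasi-coherent kernel form a
short exact sequence. -/
theorem sections_shortExact (E : ShortComplex X.Modules) (hE : E.ShortExact)
    [E.X₁.IsQuasicoherent] {U : X.Opens} (hU : IsAffineOpen U) :
    Function.Injective (E.f.val.app (op U)).hom ∧
      Function.Exact (E.f.val.app (op U)).hom (E.g.val.app (op U)).hom ∧
      Function.Surjective (E.g.val.app (op U)).hom :=
  ⟨(Groth.Agent.H13.sections_injective_and_exact E hE U).1,
    (Groth.Agent.H13.sections_injective_and_exact E hE U).2, sections_surjective E hE hU⟩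

end Groth.Agent.H49.SectionsExact
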