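import Groth.Agent.H49.FibrePropConstr
import Groth.Agent.H25.SmoothLocusBC
import Groth.Agent.H25.FibreSmoothPt

/-!
# The locus where the fibres are smooth is locally constructible (EGA IV 9.9.4-type)
-/

set_option autoImplicit false
set_option linter.style.haveILetI false
universe u

open CategoryTheory CategoryTheory.Limits AlgebraicGeometry TopologicalSpace Topology

namespace Groth.Agent.H49.SmoothFibreConstr

/-- the fibre through `x` is smooth at `x` over the residue field. -/
def FibSm : ∀ ⦃X S : Scheme.{u}⦄, (X ⟶ S) → X → Prop := fun _ _ f x =>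
  ((f.fiberToSpecResidueField (f x)).stalkMap (f.asFiber x)).hom.FormallySmooth

theorem lfp_fiberToSpecResidueField {X S : Scheme.{u}} (f : X ⟶ S) [LocallyOfFiniteType f] (s : S) :
    LocallyOfFinitePresentation (f.fiberToSpecResidueField s) := by
  haveI : LocallyOfFiniteType (f.fiberToSpecResidueField s) :=
    (inferInstance : LocallyOfFiniteType (pullback.snd f (S.fromSpecResidueField s)))
  infer_instance

/-- transport along an equality of base points. -/
theorem formallySmooth_iff_asFiber {X S : Scheme.{u}} (f : X ⟶ S) (x : X) (y : S) (hy : f x = y)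
    (z0 : f.fiber y) (hz : f.fiberι y z0 = x) :
    ((f.fiberToSpecResidueField y).stalkMap z0).hom.FormallySmooth ↔ FibSm f x := by
  subst hy
  have : z0 = f.asFiber x := by
    apply (f.fiberι (f x)).isEmbedding.injective
    rw [hz, Scheme.Hom.fiberι_asFiber]
  rw [this]
  rfl

theorem fibSm_baseChange {X S X' S' : Scheme.{u}} (f : X ⟶ S) (f' : X' ⟶ S') (g' : X' ⟶ X)
    (g : S' ⟶ S) (hc : IsPullback g' f' f g) [LocallyOfFiniteType f] (x' : X') :
    FibSm f' x' ↔ FibSm f (g' x') := by
  haveI : LocallyOfFiniteType f' := MorphismProperty.of_isPullback hc inferInstance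
  haveI := lfp_fiberToSpecResidueField f (g (f' x'))
  haveI := lfp_fiberToSpecResidueField f' (f' x')
  have hsq := isPullback_fiberToSpecResidueField_of_isPullback hc (f' x')
  have hfl : Flat (Spec.map (g.residueFieldMap (f' x'))) := by
    rw [HasRingHomProperty.Spec_iff (P := @Flat)]
    algebraize [(g.residueFieldMap (f' x')).hom]
    exact (inferInstance : Module.Flat (S.residueField (g (f' x'))) (S'.residueField (f' x')))
  have heq := Groth.Agent.H25.SmoothLocusBC.smoothLocus_eq_preimage
    (f.fiberToSpecResidueField (g (f' x'))) (Spec.map (g.residueFieldMap (f' x')))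
    (f'.fiberToSpecResidueField (f' x')) _ hsq (Or.inr hfl)
  have h1 : FibSm f' x' ↔ f'.asFiber x' ∈ (f'.fiberToSpecResidueField (f' x')).smoothLocus :=
    Iff.rfl
  rw [h1, heq]
  have hfx : f (g' x') = g (f' x') := by
    rw [← Scheme.Hom.comp_apply, ← Scheme.Hom.comp_apply, hc.w]
  refine formallySmooth_iff_asFiber f (g' x') (g (f' x')) hfx _ ?_
  have hmap : pullback.map _ _ _ _ g' (Spec.map (g.residueFieldMap (f' x'))) g hc.w.symm
      (by simp) ≫ f.fiberι (g (f' x')) = f'.fiberι (f' x') ≫ g' :=
    pullback.lift_fst _ _ _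
  have h6 := congrArg (fun h : (f'.fiber (f' x')) ⟶ X => h (f'.asFiber x')) hmap
  simp only [Scheme.Hom.comp_apply, Scheme.Hom.fiberι_asFiber] at h6
  exact h6

theorem fibSm_comp_of_isOpenImmersion {U X S : Scheme.{u}} (j : U ⟶ X) [IsOpenImmersion j]
    (f : X ⟶ S) (u : U) : FibSm (j ≫ f) u ↔ FibSm f (j u) := by
  -- the open immersion of fibres
  obtain ⟨s, hs⟩ : ∃ s : S, s = (j ≫ f) u := ⟨_, rfl⟩
  have hs' : f (j u) = s := by rw [hs]; rfl
  let ψ : (j ≫ f).fiber s ⟶ f.fiber s :=
    pullback.lift ((j ≫ f).fiberι s ≫ j) ((j ≫ f).fiberToSpecResidueField s)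
      (by rw [Category.assoc]; exact (j ≫ f).fiber_fac s)
  have hψ1 : ψ ≫ f.fiberι s = (j ≫ f).fiberι s ≫ j := pullback.lift_fst _ _ _
  have hψ2 : ψ ≫ f.fiberToSpecResidueField s = (j ≫ f).fiberToSpecResidueField s :=
    pullback.lift_snd _ _ _
  have big : IsPullback ((j ≫ f).fiberι s) ((j ≫ f).fiberToSpecResidueField s) (j ≫ f)
      (S.fromSpecResidueField s) := IsPullback.of_hasPullback _ _
  have right : IsPullback (f.fiberι s) (f.fiberToSpecResidueField s) f
      (S.fromSpecResidueField s) := IsPullback.of_hasPullback _ _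
  have left : IsPullback ψ ((j ≫ f).fiberι s) (f.fiberι s) j :=
    IsPullback.of_right (by rw [hψ2]; exact big.flip) hψ1 right.flip
  haveI : IsOpenImmersion ψ := MorphismProperty.of_isPullback left.flip inferInstance
  -- the point of the fibre
  have key : ∀ z : (j ≫ f).fiber s,
      (((j ≫ f).fiberToSpecResidueField s).stalkMap z).hom.FormallySmooth ↔
        ((f.fiberToSpecResidueField s).stalkMap (ψ z)).hom.FormallySmooth := by
    have key0 : ∀ (a : (j ≫ f).fiber s ⟶ Spec (S.residueField s))
        (_ : ψ ≫ f.fiberToSpecResidueField s = a) (z : (j ≫ f).fiber s),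
        (a.stalkMap z).hom.FormallySmooth ↔
          ((f.fiberToSpecResidueField s).stalkMap (ψ z)).hom.FormallySmooth := by
      intro a ha z
      subst ha
      rw [Scheme.Hom.stalkMap_comp]
      exact RingHom.FormallySmooth.respectsIso.cancel_right_isIso _ (ψ.stalkMap z)
    exact key0 _ hψ2
  subst hs
  have h1 : FibSm (j ≫ f) u ↔ ((f.fiberToSpecResidueField ((j ≫ f) u)).stalkMap
      (ψ ((j ≫ f).asFiber u))).hom.FormallySmooth := key ((j ≫ f).asFiber u)
  rw [h1]
  refine formallySmooth_iff_asFiber f (j u) ((j ≫ f) u) hs' _ ?_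
  have h2 := congrArg (fun k : (j ≫ f).fiber ((j ≫ f) u) ⟶ X => k ((j ≫ f).asFiber u)) hψ1
  simp only [Scheme.Hom.comp_apply] at h2
  rw [(j ≫ f).fiberι_asFiber u] at h2
  exact h2

theorem isGood_fibSm : Groth.Agent.H49.FibrePropConstr.IsGood FibSm.{u} where
  baseChange := by
    intro X S X' S' f f' g' g hc hft x'
    haveI := hft
    exact fibSm_baseChange f f' g' g hc x'
  openImm := by
    intro U X S j f hj _ u
    exact fibSm_comp_of_isOpenImmersion j f u
  isOpen := by
    intro X S f hfl hlfp
    have hlft : LocallyOfFiniteType f := inferInstance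
    have : {x : X | FibSm f x} = (f.smoothLocus : Set X) := by
      ext x
      haveI := lfp_fiberToSpecResidueField f (f x)
      constructor
      · intro h
        exact Groth.Agent.H25.FibreSmoothPt.mem_smoothLocus_of_flat_of_fibre f x
          (Flat.stalkMap f x) h
      · intro h
        exact (Groth.Agent.H25.FibreSmoothPt.flat_and_fibre_of_mem_smoothLocus f x h).2
    rw [this]
    exact f.smoothLocus.isOpen

/-- the locus of points at which the fibre is smooth is locally constructible. -/
theorem isLocallyConstructible_setOf_fibSm {X S : Scheme.{u}} (f : X ⟶ S)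
    [LocallyOfFinitePresentation f] : IsLocallyConstructible {x : X | FibSm f x} :=
  Groth.Agent.H49.FibrePropConstr.isLocallyConstructible isGood_fibSm f

end Groth.Agent.H49.SmoothFibreConstr
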