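import Groth.Agent.H47.N2Equiv

set_option autoImplicit false
universe u

namespace Groth.Agent.H49

/-- Being Nagata is invariant under ring isomorphisms. -/
theorem isNagata_of_ringEquiv {R S : Type u} [CommRing R] [CommRing S] (e : R ≃+* S)
    (h : CAlg.IsNagata R) : CAlg.IsNagata S := by
  obtain ⟨hN, hq⟩ := h
  refine ⟨isNoetherianRing_of_ringEquiv R e, ?_⟩
  intro q hqp
  have hp : (q.comap e.toRingHom).IsPrime := Ideal.comap_isPrime e.toRingHom q
  have h2 := hq (q.comap e.toRingHom)
  have hmap : (q.comap e.toRingHom).map (e : R →+* S) = q := by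
    exact Ideal.map_comap_of_surjective _ e.surjective q
  let e' : R ⧸ q.comap e.toRingHom ≃+* S ⧸ q :=
    Ideal.quotientEquiv (q.comap e.toRingHom) q e hmap.symm
  exact Groth.Agent.H47.isN2_of_ringEquiv e' h2

end Groth.Agent.H49
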