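import Groth.Agent.H12.Constr
import Groth.Agent.H17.QFLocus
import Groth.Agent.S0414

/-!
# Local constructibility of fibrewise properties (EGA IV 9.9 pattern)

Let `Pr f x` be a property of a point `x` of the source of a morphism `f` (to be thought of as a
property of the fibre of `f` through `x` at `x`) which is invariant under base change, insensitive
to open immersions into the source, and which defines an *open* subset for flat morphisms locally
of finite presentation. Then for every morphism `f` locally of finite presentation the set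
`{x | Pr f x}` is locally constructible.

The proof: reduction to affine source and target, Noetherian approximation, then Noetherian
induction on the base using generic flatness.
-/

set_option autoImplicit false
set_option linter.style.haveILetI false
universe u

open CategoryTheory CategoryTheory.Limits AlgebraicGeometry TopologicalSpace Topology

namespace Groth.Agent.H49.FibrePropConstr

/-- the hypotheses on a pointwise property of morphisms. -/
structure IsGood (Pr : ∀ ⦃X S : Scheme.{u}⦄, (X ⟶ S) → X → Prop) : Prop where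
  baseChange : ∀ ⦃X S X' S' : Scheme.{u}⦄ (f : X ⟶ S) (f' : X' ⟶ S') (g' : X' ⟶ X) (g : S' ⟶ S),
    IsPullback g' f' f g → LocallyOfFiniteType f → ∀ x' : X', Pr f' x' ↔ Pr f (g' x')
  openImm : ∀ ⦃U X S : Scheme.{u}⦄ (j : U ⟶ X) (f : X ⟶ S), IsOpenImmersion j →
    LocallyOfFiniteType f → ∀ u : U, Pr (j ≫ f) u ↔ Pr f (j u)
  isOpen : ∀ ⦃X S : Scheme.{u}⦄ (f : X ⟶ S), Flat f → LocallyOfFinitePresentation f →
    IsOpen {x : X | Pr f x}

variable {Pr : ∀ ⦃X S : Scheme.{u}⦄, (X ⟶ S) → X → Prop}

/-- the image of an open set under a closed embedding into a Noetherian space is constructible. -/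
theorem isConstructible_image_of_isClosedEmbedding {P Q : Type*} [TopologicalSpace P]
    [TopologicalSpace Q] [NoetherianSpace Q] {g : P → Q} (hg : IsClosedEmbedding g) {O : Set P}
    (hO : IsOpen O) : IsConstructible (g '' O) := by
  obtain ⟨U, hU, rfl⟩ := hg.isInducing.isOpen_iff.mp hO
  rw [Set.image_preimage_eq_inter_range]
  exact (Groth.Agent.H12.isConstructible_of_isOpen hU).inter
    (Groth.Agent.H12.isConstructible_of_isClosed hg.isClosed_range)

/-- **Noetherian base**: Noetherian induction with generic flatness. -/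
theorem isConstructible_of_noetherian (h : IsGood Pr) (A : CommRingCat.{u}) [IsNoetherianRing A]
    {X : Scheme.{u}} (f : X ⟶ Spec A) [LocallyOfFiniteType f] [QuasiCompact f] :
    IsConstructible {x : X | Pr f x} := by
  haveI : IsLocallyNoetherian X := LocallyOfFiniteType.isLocallyNoetherian f
  haveI : CompactSpace X := QuasiCompact.compactSpace_of_compactSpace f
  haveI : IsNoetherian X := {}
  haveI : NoetherianSpace X := inferInstance
  haveI : NoetherianSpace ↥(Spec A) := inferInstanceAs (NoetherianSpace (PrimeSpectrum A))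
  suffices H : ∀ T : Set ↥(Spec A), IsClosed T → IsConstructible ({x : X | Pr f x} ∩ f ⁻¹' T) by
    simpa using H Set.univ isClosed_univ
  apply Groth.Agent.H12.irreducible_closed_induction
  · simp
  · intro T1 T2 _ _ h1 h2
    rw [Set.preimage_union, Set.inter_union_distrib_left]
    exact h1.union h2
  · intro T hTc hTi ih
    let p : Ideal A := PrimeSpectrum.vanishingIdeal (T : Set (PrimeSpectrum A))
    have hp : p.IsPrime := PrimeSpectrum.isIrreducible_iff_vanishingIdeal_isPrime.mp hTi
    have hT : PrimeSpectrum.zeroLocus (p : Set A) = T :=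
      (PrimeSpectrum.zeroLocus_vanishingIdeal_eq_closure _).trans hTc.closure_eq
    let ι : Spec (.of (A ⧸ p)) ⟶ Spec A := Spec.map (CommRingCat.ofHom (Ideal.Quotient.mk p))
    have hrange : Set.range ι = T := by
      have := _root_.range_comap_of_surjective (A ⧸ p) (Ideal.Quotient.mk p)
        Ideal.Quotient.mk_surjective
      rw [Ideal.mk_ker] at this
      rw [← hT, ← this]
      rfl
    haveI : IsClosedImmersion ι :=
      IsClosedImmersion.spec_of_surjective _ Ideal.Quotient.mk_surjective
    have : IsDomain (A ⧸ p) := Ideal.Quotient.isDomain p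
    have : IrreducibleSpace ↥(Spec (.of (A ⧸ p))) :=
      inferInstanceAs (IrreducibleSpace (PrimeSpectrum (A ⧸ p)))
    let fT := pullback.snd f ι
    let g' := pullback.fst f ι
    have hpb : IsPullback g' fT f ι := IsPullback.of_hasPullback f ι
    obtain ⟨UT, hUTd, hfl, hlfp⟩ := Groth.Agent.S0414.result fT
    have hO := h.isOpen (fT ∣_ UT) hfl hlfp
    -- the proper closed subset
    have hιc : IsClosedEmbedding ι := ι.isClosedEmbedding
    have hT'c : IsClosed (ι '' ((UT : Set ↥(Spec (.of (A ⧸ p))))ᶜ)) :=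
      hιc.isClosedMap _ UT.isOpen.isClosed_compl
    have hT'ss : ι '' ((UT : Set ↥(Spec (.of (A ⧸ p))))ᶜ) ⊂ T := by
      refine ⟨?_, ?_⟩
      · rintro _ ⟨t, -, rfl⟩
        rw [← hrange]; exact Set.mem_range_self t
      · intro hcon
        obtain ⟨t, ht⟩ := hUTd.nonempty
        have : ι t ∈ T := by rw [← hrange]; exact Set.mem_range_self t
        obtain ⟨t', ht', htt'⟩ := hcon this
        rw [hιc.injective htt'] at ht'
        exact ht' ht
    have ih' := ih _ hT'c hT'ss
    -- the locally closed piece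
    have hpiece : IsConstructible (g' '' ((fT ⁻¹ᵁ UT).ι '' {z | Pr (fT ∣_ UT) z})) :=
      isConstructible_image_of_isClosedEmbedding g'.isClosedEmbedding
        ((fT ⁻¹ᵁ UT).ι.isOpenEmbedding.isOpenMap _ hO)
    have hdecomp : {x : X | Pr f x} ∩ f ⁻¹' T =
        ({x : X | Pr f x} ∩ f ⁻¹' (ι '' ((UT : Set ↥(Spec (.of (A ⧸ p))))ᶜ))) ∪
          g' '' ((fT ⁻¹ᵁ UT).ι '' {z | Pr (fT ∣_ UT) z}) := by
      have hres : ∀ w : ↥(fT ⁻¹ᵁ UT), Pr (fT ∣_ UT) w ↔ Pr f (g' ((fT ⁻¹ᵁ UT).ι w)) := by
        intro w
        rw [h.baseChange fT (fT ∣_ UT) (fT ⁻¹ᵁ UT).ι UT.ι (isPullback_morphismRestrict fT UT).flip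
          inferInstance w, h.baseChange f fT g' ι hpb inferInstance]
      ext x
      simp only [Set.mem_inter_iff, Set.mem_ofPred_eq, Set.mem_preimage, Set.mem_union,
        Set.mem_image]
      constructor
      · rintro ⟨hx, hxT⟩
        rw [← hrange] at hxT
        obtain ⟨t, ht⟩ := hxT
        by_cases htU : t ∈ UT
        · right
          obtain ⟨z, hz1, hz2⟩ := Scheme.Pullback.exists_preimage_pullback x t ht.symm
          have hzW : z ∈ fT ⁻¹ᵁ UT := by
            change fT z ∈ UT
            rw [hz2]; exact htU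
          refine ⟨z, ⟨⟨z, hzW⟩, ?_, rfl⟩, hz1⟩
          rw [hres]
          change Pr f (g' z)
          rw [hz1]; exact hx
        · left
          exact ⟨hx, t, htU, ht⟩
      · rintro (⟨hx, t, -, ht⟩ | ⟨z, ⟨w, hw, rfl⟩, rfl⟩)
        · refine ⟨hx, ?_⟩
          rw [← hrange, ← ht]; exact Set.mem_range_self t
        · refine ⟨(hres w).mp hw, ?_⟩
          rw [← hrange]
          refine ⟨fT ((fT ⁻¹ᵁ UT).ι w), ?_⟩
          have := congrArg (fun φ : pullback f ι ⟶ Spec A => φ ((fT ⁻¹ᵁ UT).ι w)) hpb.w
          exact this.symm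
    rw [hdecomp]
    exact ih'.union hpiece

/-- **affine source and target**: Noetherian approximation. -/
theorem isConstructible_of_isAffine (h : IsGood Pr) {X S : Scheme.{u}} (f : X ⟶ S) [IsAffine X]
    [IsAffine S] [LocallyOfFinitePresentation f] : IsConstructible {x : X | Pr f x} := by
  have hφ : f.appTop.hom.FinitePresentation :=
    (HasRingHomProperty.iff_of_isAffine (P := @LocallyOfFinitePresentation)).mp inferInstance
  obtain ⟨A₀, B₀, φ₀, α, β, hN, hN', hfp, hpb⟩ :=
    Groth.Agent.H17.exists_isPullback_noetherian f.appTop hφ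
  have hsq : IsPullback X.isoSpec.hom f (Spec.map f.appTop) S.isoSpec.hom :=
    IsPullback.of_horiz_isIso ⟨Scheme.isoSpec_hom_naturality f⟩
  have hpb' := hsq.paste_horiz hpb
  have hft : LocallyOfFiniteType (Spec.map φ₀) := by
    rw [HasRingHomProperty.Spec_iff (P := @LocallyOfFiniteType)]
    exact RingHom.FiniteType.of_finitePresentation hfp
  have hc := isConstructible_of_noetherian h A₀ (Spec.map φ₀)
  have hE : {x : X | Pr f x} =
      (X.isoSpec.hom ≫ Spec.map β) ⁻¹' {x | Pr (Spec.map φ₀) x} := by
    ext x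
    exact h.baseChange (Spec.map φ₀) f _ _ hpb' hft x
  rw [hE]
  exact Scheme.Hom.isConstructible_preimage _ hc

/-- **EGA IV 9.9 pattern**: a good fibrewise property defines a locally constructible subset of
the source of any morphism locally of finite presentation. -/
theorem isLocallyConstructible (h : IsGood Pr) {X S : Scheme.{u}} (f : X ⟶ S)
    [LocallyOfFinitePresentation f] : IsLocallyConstructible {x : X | Pr f x} := by
  intro x
  obtain ⟨V, hV, hxV⟩ : ∃ V : S.Opens, IsAffineOpen V ∧ f x ∈ V := by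
    obtain ⟨_, ⟨V, hV, rfl⟩, hxV, -⟩ := S.isBasis_affineOpens.exists_subset_of_mem_open
      (Set.mem_univ (f x)) isOpen_univ
    exact ⟨V, hV, hxV⟩
  obtain ⟨U, hU, hxU, hUV⟩ : ∃ U : X.Opens, IsAffineOpen U ∧ x ∈ U ∧ U ≤ f ⁻¹ᵁ V := by
    obtain ⟨_, ⟨U, hU, rfl⟩, hxU, hUV⟩ := X.isBasis_affineOpens.exists_subset_of_mem_open
      (show x ∈ ((f ⁻¹ᵁ V : X.Opens) : Set X) from hxV) (f ⁻¹ᵁ V).isOpen
    exact ⟨U, hU, hxU, hUV⟩
  refine ⟨U, U.2.mem_nhds hxU, U.2, ?_⟩
  haveI : IsAffine (U : Scheme.{u}) := hU
  haveI : IsAffine (V : Scheme.{u}) := hV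
  have hc := isConstructible_of_isAffine h (f.resLE V U hUV)
  have hlft : LocallyOfFiniteType f := inferInstance
  have hpbV : IsPullback (𝟙 (U : Scheme.{u})) (f.resLE V U hUV) (f.resLE V U hUV ≫ V.ι) V.ι :=
    IsPullback.of_horiz_isIso_mono ⟨by simp⟩
  have hlft' : LocallyOfFiniteType (f.resLE V U hUV ≫ V.ι) := inferInstance
  have hE : {u : (U : Scheme.{u}) | Pr (f.resLE V U hUV) u} =
      {u : (U : Scheme.{u}) | Pr f (U.ι u)} := by
    ext u
    simp only [Set.mem_ofPred_eq]
    rw [h.baseChange _ _ _ _ hpbV hlft' u, Scheme.Hom.resLE_comp_ι]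
    exact h.openImm U.ι f inferInstance hlft u
  rw [hE] at hc
  exact hc

end Groth.Agent.H49.FibrePropConstr
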