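import Groth.Agent.H72.FlatCM
import Groth.Agent.H49.CMLocalize
import Mathlib.RingTheory.TensorProduct.Quotient

/-!
# Cohen–Macaulayness of quotients along a flat local homomorphism

For a flat local homomorphism `B → C` of local rings and a proper ideal `J` of `B` with `B/J` and
`C/JC` Noetherian: `C/JC` is CM iff `B/J` and `C/m_B C` are CM.
-/

set_option autoImplicit false
universe u

open IsLocalRing TensorProduct

namespace Groth.Agent.H49.FibreCM

variable {B C : Type u} [CommRing B] [CommRing C] [Algebra B C] [IsLocalRing B] [IsLocalRing C]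
  [IsLocalHom (algebraMap B C)]

theorem map_le_maximalIdeal (J : Ideal B) (hJ : J ≠ ⊤) :
    J.map (algebraMap B C) ≤ maximalIdeal C :=
  (Ideal.map_mono (IsLocalRing.le_maximalIdeal hJ)).trans
    (((IsLocalRing.local_hom_TFAE (algebraMap B C)).out 0 2).mp ‹_›)

theorem map_ne_top (J : Ideal B) (hJ : J ≠ ⊤) : J.map (algebraMap B C) ≠ ⊤ := fun h =>
  (maximalIdeal.isMaximal C).ne_top (top_le_iff.mp (h ▸ map_le_maximalIdeal (C := C) J hJ))

theorem isLocalRing_quotient (J : Ideal B) (hJ : J ≠ ⊤) : IsLocalRing (B ⧸ J) := by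
  haveI : Nontrivial (B ⧸ J) := Ideal.Quotient.nontrivial_iff.mpr hJ
  exact IsLocalRing.of_surjective' (Ideal.Quotient.mk J) Ideal.Quotient.mk_surjective

theorem isLocalHom_quotient (J : Ideal B) (hJ : J ≠ ⊤) :
    IsLocalHom (algebraMap (B ⧸ J) (C ⧸ J.map (algebraMap B C))) := by
  constructor
  intro b hb
  obtain ⟨b, rfl⟩ := Ideal.Quotient.mk_surjective b
  rw [Ideal.Quotient.algebraMap_quotient_map_quotient] at hb
  have h1 : IsUnit (algebraMap B C b) := by
    by_contra hcon
    have hm : algebraMap B C b ∈ maximalIdeal C := (IsLocalRing.mem_maximalIdeal _).mpr hcon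
    have hlt : J.map (algebraMap B C) ≤ maximalIdeal C := map_le_maximalIdeal J hJ
    obtain ⟨c, hc⟩ := hb.exists_right_inv
    obtain ⟨c, rfl⟩ := Ideal.Quotient.mk_surjective c
    rw [← map_mul, ← map_one (Ideal.Quotient.mk _), Ideal.Quotient.eq] at hc
    have h2 : algebraMap B C b * c - 1 ∈ maximalIdeal C := hlt hc
    have h3 : algebraMap B C b * c ∈ maximalIdeal C := Ideal.mul_mem_right _ _ hm
    have h4 : (1 : C) ∈ maximalIdeal C := by
      have := Ideal.sub_mem _ h3 h2
      simpa using this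
    exact (maximalIdeal.isMaximal C).ne_top ((Ideal.eq_top_iff_one _).mpr h4)
  exact (isUnit_of_map_unit (algebraMap B C) b h1).map (Ideal.Quotient.mk J)

theorem flat_quotient [Module.Flat B C] (J : Ideal B) :
    Module.Flat (B ⧸ J) (C ⧸ J.map (algebraMap B C)) := by
  have e := Algebra.TensorProduct.quotIdealMapEquivQuotTensor C J
  exact Module.Flat.of_linearEquiv e.toLinearEquiv

theorem map_maximalIdeal_quotient (J : Ideal B) (hJ : J ≠ ⊤) :
    haveI := isLocalRing_quotient J hJ
    Ideal.map (algebraMap (B ⧸ J) (C ⧸ J.map (algebraMap B C))) (maximalIdeal (B ⧸ J)) =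
      Ideal.map (Ideal.Quotient.mk (J.map (algebraMap B C)))
        ((maximalIdeal B).map (algebraMap B C)) := by
  haveI := isLocalRing_quotient J hJ
  rw [← Groth.Agent.H72.FlatCM.map_mk_maximalIdeal J hJ, Ideal.map_map, Ideal.map_map]
  congr 1

/-- `(C/JC)/m_{B/J}(C/JC) ≃ C/m_B C`. -/
noncomputable def quotQuotEquiv (J : Ideal B) (hJ : J ≠ ⊤) :
    haveI := isLocalRing_quotient J hJ
    ((C ⧸ J.map (algebraMap B C)) ⧸
      Ideal.map (algebraMap (B ⧸ J) (C ⧸ J.map (algebraMap B C))) (maximalIdeal (B ⧸ J))) ≃+*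
      (C ⧸ (maximalIdeal B).map (algebraMap B C)) :=
  (Ideal.quotEquivOfEq (map_maximalIdeal_quotient (C := C) J hJ)).trans
    ((DoubleQuot.quotQuotEquivQuotSup _ _).trans
      (Ideal.quotEquivOfEq (sup_eq_right.mpr (Ideal.map_mono (IsLocalRing.le_maximalIdeal hJ)))))

/-- Cohen–Macaulayness of `C/JC` for a flat local homomorphism `B → C`. -/
theorem cm_quotient_iff [Module.Flat B C] (J : Ideal B) (hJ : J ≠ ⊤) [IsNoetherianRing (B ⧸ J)]
    [IsNoetherianRing (C ⧸ J.map (algebraMap B C))] :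
    LocCoh.IsCohenMacaulayLocalRing (C ⧸ J.map (algebraMap B C)) ↔
      LocCoh.IsCohenMacaulayLocalRing (B ⧸ J) ∧
        LocCoh.IsCohenMacaulayLocalRing (C ⧸ (maximalIdeal B).map (algebraMap B C)) := by
  haveI := isLocalRing_quotient J hJ
  haveI := isLocalRing_quotient (J.map (algebraMap B C)) (map_ne_top J hJ)
  haveI := isLocalHom_quotient (C := C) J hJ
  haveI := flat_quotient (C := C) J
  rw [Groth.Agent.H72.FlatCM.isCohenMacaulayLocalRing_iff_of_flat (A := B ⧸ J)
    (B := C ⧸ J.map (algebraMap B C))]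
  have e := quotQuotEquiv (C := C) J hJ
  exact and_congr_right fun _ => ⟨Groth.Agent.H49.isCohenMacaulayLocalRing_of_ringEquiv e,
    Groth.Agent.H49.isCohenMacaulayLocalRing_of_ringEquiv e.symm⟩

end Groth.Agent.H49.FibreCM
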