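import Groth.Agent.H49.FibreStalk
import Groth.Agent.H49.FibreCM
import Groth.Agent.H10.FlatDescent
import Groth.Prelude.Def_MoreMor
import Mathlib.AlgebraicGeometry.Noetherian
import Mathlib.AlgebraicGeometry.Morphisms.Flat

/-!
# Cohen–Macaulay morphisms at a point: ring-level reformulation

`MoreMor.IsCMAt f x ↔ f flat at x ∧ CM (O_{X,x} ⧸ m_{f x} O_{X,x})`, and the behaviour under
composition.
-/

set_option autoImplicit false
universe u

open CategoryTheory CategoryTheory.Limits AlgebraicGeometry IsLocalRing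

namespace Groth.Agent.H49.CMMor

open Groth.Agent.H49.FibreStalk

variable {X Y Z : Scheme.{u}}

theorem cm_stalk_asFiber_iff (f : X ⟶ Y) (x : X) :
    LocCoh.IsCohenMacaulayLocalRing ((f.fiber (f x)).presheaf.stalk (f.asFiber x)) ↔
      LocCoh.IsCohenMacaulayLocalRing (X.presheaf.stalk x ⧸ fibreIdeal f x) :=
  ⟨Groth.Agent.H49.isCohenMacaulayLocalRing_of_ringEquiv (quotientEquivStalkAsFiber f x).symm,
    Groth.Agent.H49.isCohenMacaulayLocalRing_of_ringEquiv (quotientEquivStalkAsFiber f x)⟩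

theorem isCMAt_iff (f : X ⟶ Y) (x : X) :
    MoreMor.IsCMAt f x ↔ (f.stalkMap x).hom.Flat ∧
      LocCoh.IsCohenMacaulayLocalRing (X.presheaf.stalk x ⧸ fibreIdeal f x) :=
  and_congr_right fun _ => cm_stalk_asFiber_iff f x

theorem isNoetherianRing_quotient_of_fiber (f : X ⟶ Y) (x : X)
    [IsLocallyNoetherian (f.fiber (f x))] :
    IsNoetherianRing (X.presheaf.stalk x ⧸ fibreIdeal f x) :=
  isNoetherianRing_of_ringEquiv _ (quotientEquivStalkAsFiber f x).symm

theorem fibreIdeal_comp (f : X ⟶ Y) (g : Y ⟶ Z) (x : X) :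
    fibreIdeal (f ≫ g) x = Ideal.map (f.stalkMap x).hom (fibreIdeal g (f x)) := by
  rw [fibreIdeal, fibreIdeal, Ideal.map_map, Scheme.Hom.stalkMap_comp]
  rfl

/-- Cohen–Macaulayness of the fibre ring of a composite, `f` flat at `x`. -/
theorem cm_comp_iff (f : X ⟶ Y) (g : Y ⟶ Z) (x : X) (hfl : (f.stalkMap x).hom.Flat)
    [IsNoetherianRing (Y.presheaf.stalk (f x) ⧸ fibreIdeal g (f x))]
    [IsNoetherianRing (X.presheaf.stalk x ⧸ fibreIdeal (f ≫ g) x)] :
    LocCoh.IsCohenMacaulayLocalRing (X.presheaf.stalk x ⧸ fibreIdeal (f ≫ g) x) ↔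
      LocCoh.IsCohenMacaulayLocalRing (Y.presheaf.stalk (f x) ⧸ fibreIdeal g (f x)) ∧
        LocCoh.IsCohenMacaulayLocalRing (X.presheaf.stalk x ⧸ fibreIdeal f x) := by
  letI : Algebra (Y.presheaf.stalk (f x)) (X.presheaf.stalk x) := (f.stalkMap x).hom.toAlgebra
  haveI : IsLocalHom (algebraMap (Y.presheaf.stalk (f x)) (X.presheaf.stalk x)) :=
    (inferInstance : IsLocalHom (f.stalkMap x).hom)
  haveI : Module.Flat (Y.presheaf.stalk (f x)) (X.presheaf.stalk x) := hfl
  have hJ : fibreIdeal g (f x) ≠ ⊤ := fibreIdeal_ne_top g (f x)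
  have hcomp : fibreIdeal (f ≫ g) x = Ideal.map (algebraMap (Y.presheaf.stalk (f x))
      (X.presheaf.stalk x)) (fibreIdeal g (f x)) := fibreIdeal_comp f g x
  let e : (X.presheaf.stalk x ⧸ fibreIdeal (f ≫ g) x) ≃+*
      (X.presheaf.stalk x ⧸ Ideal.map (algebraMap (Y.presheaf.stalk (f x))
      (X.presheaf.stalk x)) (fibreIdeal g (f x))) := Ideal.quotEquivOfEq hcomp
  haveI : IsNoetherianRing (X.presheaf.stalk x ⧸ Ideal.map (algebraMap (Y.presheaf.stalk (f x))
      (X.presheaf.stalk x)) (fibreIdeal g (f x))) := isNoetherianRing_of_ringEquiv _ e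
  have key := Groth.Agent.H49.FibreCM.cm_quotient_iff (B := Y.presheaf.stalk (f x))
    (C := X.presheaf.stalk x) (fibreIdeal g (f x)) hJ
  refine Iff.trans ?_ key
  exact ⟨Groth.Agent.H49.isCohenMacaulayLocalRing_of_ringEquiv e,
    Groth.Agent.H49.isCohenMacaulayLocalRing_of_ringEquiv e.symm⟩

/-- Cohen–Macaulayness along a flat stalk map. -/
theorem cm_stalk_iff_of_flat (f : X ⟶ Y) (x : X) (hfl : (f.stalkMap x).hom.Flat)
    [IsNoetherianRing (X.presheaf.stalk x)] [IsNoetherianRing (Y.presheaf.stalk (f x))] :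
    LocCoh.IsCohenMacaulayLocalRing (X.presheaf.stalk x) ↔
      LocCoh.IsCohenMacaulayLocalRing (Y.presheaf.stalk (f x)) ∧
        LocCoh.IsCohenMacaulayLocalRing (X.presheaf.stalk x ⧸ fibreIdeal f x) := by
  letI : Algebra (Y.presheaf.stalk (f x)) (X.presheaf.stalk x) := (f.stalkMap x).hom.toAlgebra
  haveI : IsLocalHom (algebraMap (Y.presheaf.stalk (f x)) (X.presheaf.stalk x)) :=
    (inferInstance : IsLocalHom (f.stalkMap x).hom)
  haveI : Module.Flat (Y.presheaf.stalk (f x)) (X.presheaf.stalk x) := hfl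
  exact Groth.Agent.H72.FlatCM.isCohenMacaulayLocalRing_iff_of_flat
    (A := Y.presheaf.stalk (f x)) (B := X.presheaf.stalk x)

/-- flatness of the first map from flatness of the composite and of the (local) second map. -/
theorem flat_stalkMap_of_comp (f : X ⟶ Y) (g : Y ⟶ Z) (x : X) (hfl : (f.stalkMap x).hom.Flat)
    (hc : ((f ≫ g).stalkMap x).hom.Flat) : (g.stalkMap (f x)).hom.Flat := by
  apply Groth.Agent.H10.ringHomFlat_of_comp_of_faithfullyFlat _ (f.stalkMap x).hom
  · letI : Algebra (Y.presheaf.stalk (f x)) (X.presheaf.stalk x) := (f.stalkMap x).hom.toAlgebra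
    haveI : IsLocalHom (algebraMap (Y.presheaf.stalk (f x)) (X.presheaf.stalk x)) :=
      (inferInstance : IsLocalHom (f.stalkMap x).hom)
    haveI : Module.Flat (Y.presheaf.stalk (f x)) (X.presheaf.stalk x) := hfl
    have : Module.FaithfullyFlat (Y.presheaf.stalk (f x)) (X.presheaf.stalk x) :=
      Module.FaithfullyFlat.of_flat_of_isLocalHom
    exact this
  · rw [Scheme.Hom.stalkMap_comp] at hc
    exact hc

end Groth.Agent.H49.CMMor
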