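import Mathlib
import Groth.Prelude.Def_CAlg
import Groth.Agent.H26.SkFieldExt
import Groth.Agent.H72.FlatCM
import Groth.Agent.H49.CMMor

/-!
# Cohen–Macaulay local rings under extension of the base field (ring level)

Built on helper26's `H26.SkFieldExt.codepth_eq` (equality of codepths of `S_q` and
`(S ⊗_k k')_{q'}`).
-/

set_option autoImplicit false
set_option linter.style.haveILetI false
set_option linter.unusedSectionVars false
universe u

open TensorProduct IsLocalRing

namespace Groth.Agent.H49.CMFieldBC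

/-- Pure arithmetic: equal codepth ⇒ CM iff CM. -/
theorem cm_iff_of_codepth_eq (A B : Type u) [CommRing A] [CommRing B] [IsLocalRing A] [IsLocalRing B]
    [IsNoetherianRing A] [IsNoetherianRing B]
    (h : ringKrullDim A + ((LocCoh.depth B B : ℕ∞) : WithBot ℕ∞) =
      ringKrullDim B + ((LocCoh.depth A A : ℕ∞) : WithBot ℕ∞)) :
    LocCoh.IsCohenMacaulayLocalRing A ↔ LocCoh.IsCohenMacaulayLocalRing B := by
  rw [Groth.Agent.H72.FlatCM.isCohenMacaulayLocalRing_iff,
    Groth.Agent.H72.FlatCM.isCohenMacaulayLocalRing_iff]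
  obtain ⟨a, ha⟩ := Groth.Agent.H72.FlatCM.exists_ringKrullDim_eq_natCast A
  obtain ⟨b, hb⟩ := Groth.Agent.H72.FlatCM.exists_ringKrullDim_eq_natCast B
  have h1 := Groth.Agent.H72.FlatCM.depth_le_ringKrullDim A
  have h2 := Groth.Agent.H72.FlatCM.depth_le_ringKrullDim B
  rw [ha] at h1
  rw [hb] at h2
  have h1' : LocCoh.depth A A ≤ (a : ℕ∞) := by exact_mod_cast h1
  have h2' : LocCoh.depth B B ≤ (b : ℕ∞) := by exact_mod_cast h2
  obtain ⟨a', ha'⟩ := ENat.ne_top_iff_exists.mp (ne_top_of_le_ne_top (ENat.natCast_ne_top a) h1')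
  obtain ⟨b', hb'⟩ := ENat.ne_top_iff_exists.mp (ne_top_of_le_ne_top (ENat.natCast_ne_top b) h2')
  rw [ha, hb, ← ha', ← hb'] at h
  rw [ha, hb, ← ha', ← hb']
  have h3 : a + b' = b + a' := by exact_mod_cast h
  constructor
  · intro h4
    have h5 : a = a' := by exact_mod_cast h4
    have h6 : b = b' := by omega
    rw [h6]
    rfl
  · intro h4
    have h5 : b = b' := by exact_mod_cast h4
    have h6 : a = a' := by omega
    rw [h6]
    rfl

/-- `S_q` is CM iff `(S ⊗_k k')_{q'}` is, for `q'` over `q`. -/
theorem cm_iff_tensor (k S k' : Type u) [Field k] [CommRing S] [Algebra k S] [IsNoetherianRing S]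
    [Field k'] [Algebra k k']
    (hft : Algebra.FiniteType k S ∨ Algebra.EssFiniteType k k') [IsNoetherianRing (S ⊗[k] k')]
    (q' : Ideal (S ⊗[k] k')) [q'.IsPrime] :
    LocCoh.IsCohenMacaulayLocalRing
        (Localization.AtPrime (q'.comap (algebraMap S (S ⊗[k] k')))) ↔
      LocCoh.IsCohenMacaulayLocalRing (Localization.AtPrime q') :=
  cm_iff_of_codepth_eq _ _ (Groth.Agent.H26.SkFieldExt.codepth_eq k S k' hft q')

/-- Noetherianity of `S ⊗_k K`. -/
theorem isNoetherianRing_tensor (k S K : Type u) [Field k] [CommRing S] [Algebra k S]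
    [IsNoetherianRing S] [Field K] [Algebra k K]
    (hft : Algebra.FiniteType k S ∨ Algebra.EssFiniteType k K) :
    IsNoetherianRing (S ⊗[k] K) := by
  rcases hft with h | h
  · haveI := h
    haveI : Algebra.FiniteType K (K ⊗[k] S) := inferInstance
    haveI : IsNoetherianRing (K ⊗[k] S) := Algebra.FiniteType.isNoetherianRing K _
    exact isNoetherianRing_of_ringEquiv (K ⊗[k] S) (Algebra.TensorProduct.comm k K S).toRingEquiv
  · haveI := h
    exact Algebra.EssFiniteType.isNoetherianRing S (S ⊗[k] K)

/-- Pushout form with abstract localizations: `T = S ⊗_k K`, `qT` a prime of `T`, `A = S_q`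
(`q` the contraction of `qT`), `B = T_{qT}`. Then `A` is CM iff `B` is. -/
theorem cm_iff_of_isPushout (k K S T : Type u) [Field k] [Field K] [Algebra k K]
    [CommRing S] [CommRing T] [Algebra k S] [Algebra S T] [Algebra K T] [Algebra k T]
    [IsScalarTower k S T] [IsScalarTower k K T] [IsNoetherianRing S]
    [hpo : Algebra.IsPushout k S K T]
    (hft : Algebra.FiniteType k S ∨ Algebra.EssFiniteType k K)
    (qT : Ideal T) [qT.IsPrime]
    (A B : Type u) [CommRing A] [CommRing B] [Algebra S A] [Algebra T B]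
    [IsLocalization.AtPrime A (qT.comap (algebraMap S T))] [IsLocalization.AtPrime B qT] :
    LocCoh.IsCohenMacaulayLocalRing A ↔ LocCoh.IsCohenMacaulayLocalRing B := by
  haveI := isNoetherianRing_tensor k S K hft
  let e : S ⊗[k] K ≃ₐ[S] T := Algebra.IsPushout.equiv k S K T
  let q' : Ideal (S ⊗[k] K) := qT.comap (e : S ⊗[k] K →+* T)
  haveI : q'.IsPrime := Ideal.comap_isPrime _ _
  have hq : q'.comap (algebraMap S (S ⊗[k] K)) = qT.comap (algebraMap S T) := by
    ext s
    simp only [q', Ideal.mem_comap]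
    have : (e : S ⊗[k] K →+* T) (algebraMap S (S ⊗[k] K) s) = algebraMap S T s := e.commutes s
    rw [this]
  have h1 := cm_iff_tensor k S K hft q'
  -- identify the localizations
  let eB : Localization.AtPrime q' ≃+* Localization.AtPrime qT :=
    Localization.localRingEquiv q' qT e.toRingEquiv rfl
  let eB' : Localization.AtPrime qT ≃+* B :=
    (IsLocalization.algEquiv qT.primeCompl (Localization.AtPrime qT) B).toRingEquiv
  haveI : IsLocalization.AtPrime A (q'.comap (algebraMap S (S ⊗[k] K))) := by
    have : (q'.comap (algebraMap S (S ⊗[k] K))).primeCompl =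
        (qT.comap (algebraMap S T)).primeCompl := by
      ext s
      simp only [Ideal.mem_primeCompl_iff, hq]
    show IsLocalization (q'.comap (algebraMap S (S ⊗[k] K))).primeCompl A
    rw [this]
    infer_instance
  let eA : Localization.AtPrime (q'.comap (algebraMap S (S ⊗[k] K))) ≃+* A :=
    (IsLocalization.algEquiv (q'.comap (algebraMap S (S ⊗[k] K))).primeCompl
      (Localization.AtPrime (q'.comap (algebraMap S (S ⊗[k] K)))) A).toRingEquiv
  constructor
  · intro hA
    have h2 := h1.mp (Groth.Agent.H49.isCohenMacaulayLocalRing_of_ringEquiv eA.symm hA)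
    exact Groth.Agent.H49.isCohenMacaulayLocalRing_of_ringEquiv (eB.trans eB') h2
  · intro hB
    have h2 := h1.mpr (Groth.Agent.H49.isCohenMacaulayLocalRing_of_ringEquiv (eB.trans eB').symm hB)
    exact Groth.Agent.H49.isCohenMacaulayLocalRing_of_ringEquiv eA h2

end Groth.Agent.H49.CMFieldBC
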