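import Mathlib
import Groth.Prelude.Def_CAlg
import Groth.Agent.H49.CMFieldBC
import Groth.Agent.H49.FlatInfScheme

/-!
# Cohen–Macaulay stalks under extension of the base field (scheme level, helper49)
-/

set_option autoImplicit false
set_option linter.style.haveILetI false
universe u
open CategoryTheory CategoryTheory.Limits AlgebraicGeometry TensorProduct

namespace Groth.Agent.H49.CMFieldBC

/-- Sections over an affine open of the base change of a `k`-scheme along a field extension: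
the preimage is affine and the ring of sections is the pushout. -/
theorem isPushout_sections {Z W : Scheme.{u}} (k K : Type u) [Field k] [Field K]
    (φ : k →+* K) (z : Z ⟶ Spec (.of k)) (p : W ⟶ Z)
    (q : W ⟶ Spec (.of K)) (hpb : IsPullback p q z (Spec.map (CommRingCat.ofHom φ)))
    {U : Z.Opens} (hU : IsAffineOpen U) :
    IsAffineOpen (p ⁻¹ᵁ U) ∧
      IsPushout ((Scheme.ΓSpecIso (CommRingCat.of k)).inv ≫ z.appLE ⊤ U (by simp))
        (CommRingCat.ofHom φ) (p.appLE U (p ⁻¹ᵁ U) le_rfl)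
        ((Scheme.ΓSpecIso (CommRingCat.of K)).inv ≫ q.appLE ⊤ (p ⁻¹ᵁ U) (by simp)) := by
  have hS : IsAffineOpen (⊤ : (Spec (.of k)).Opens) := isAffineOpen_top _
  have hT : IsAffineOpen (⊤ : (Spec (.of K)).Opens) := isAffineOpen_top _
  have hUST : (⊤ : (Spec (.of K)).Opens) ≤ (Spec.map (CommRingCat.ofHom φ)) ⁻¹ᵁ ⊤ := by simp
  have hUSX : U ≤ z ⁻¹ᵁ ⊤ := by simp
  have hUY : p ⁻¹ᵁ U = p ⁻¹ᵁ U ⊓ q ⁻¹ᵁ ⊤ := by simp
  have haff : IsAffineOpen (p ⁻¹ᵁ U) := by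
    rw [hUY]
    exact Groth.Agent.H49.FlatInf.isAffineOpen_inf_preimage hpb hS hT hU hUST hUSX
  refine ⟨haff, ?_⟩
  have hpo : IsPushout (z.appLE ⊤ U hUSX) ((Spec.map (CommRingCat.ofHom φ)).appLE ⊤ ⊤ hUST)
      (p.appLE U (p ⁻¹ᵁ U) le_rfl) (q.appLE ⊤ (p ⁻¹ᵁ U) (by simp)) := by
    have := isIso_pushoutSection_of_isAffineOpen hpb hUST hUSX hUY hS hT hU
    exact (isIso_pushoutSection_iff hpb hUST hUSX hUY).mp this
  let e₁ := Scheme.ΓSpecIso (CommRingCat.of k)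
  let e₃ := Scheme.ΓSpecIso (CommRingCat.of K)
  refine IsPushout.of_iso hpo e₁ (Iso.refl _) e₃ (Iso.refl _) ?_ ?_ ?_ ?_
  · simp [e₁]
  · have h1 : (Spec.map (CommRingCat.ofHom φ)).appLE ⊤ ⊤ hUST =
        (Spec.map (CommRingCat.ofHom φ)).appTop := by
      simp only [Scheme.Hom.appLE, Scheme.Hom.appTop]
      exact (congrArg (fun t => _ ≫ t)
        ((Spec (CommRingCat.of K)).presheaf.map_id _)).trans (Category.comp_id _)
    rw [h1]
    exact Scheme.ΓSpecIso_naturality (CommRingCat.ofHom φ)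
  · simp
  · simp [e₃]

/-- **Cohen–Macaulayness of a stalk is invariant under extension of the base field**, when the
scheme is locally Noetherian and either locally of finite type over `k` or the field extension is
finitely generated. -/
theorem cm_stalk_iff_of_isPullback_field {Z W : Scheme.{u}} (k K : Type u) [Field k] [Field K]
    (φ : k →+* K) (z : Z ⟶ Spec (.of k)) (p : W ⟶ Z)
    (q : W ⟶ Spec (.of K)) (hpb : IsPullback p q z (Spec.map (CommRingCat.ofHom φ)))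
    [IsLocallyNoetherian Z] (hft : LocallyOfFiniteType z ∨ φ.EssFiniteType) (w : W) :
    LocCoh.IsCohenMacaulayLocalRing (Z.presheaf.stalk (p w)) ↔
      LocCoh.IsCohenMacaulayLocalRing (W.presheaf.stalk w) := by
  obtain ⟨U, hU, hwU, -⟩ := exists_isAffineOpen_mem_and_subset (x := p w) (U := ⊤) trivial
  obtain ⟨hV, hpo'⟩ := isPushout_sections k K φ z p q hpb hU
  have hwV : w ∈ p ⁻¹ᵁ U := hwU
  have hUSX : U ≤ z ⁻¹ᵁ ⊤ := by simp
  let e₁ := Scheme.ΓSpecIso (CommRingCat.of k)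
  let e₃ := Scheme.ΓSpecIso (CommRingCat.of K)
  let _ : Algebra k K := φ.toAlgebra
  let _ : Algebra k Γ(Z, U) := (e₁.inv ≫ z.appLE ⊤ U hUSX).hom.toAlgebra
  let _ : Algebra Γ(Z, U) Γ(W, p ⁻¹ᵁ U) := (p.appLE U (p ⁻¹ᵁ U) le_rfl).hom.toAlgebra
  let _ : Algebra K Γ(W, p ⁻¹ᵁ U) := (e₃.inv ≫ q.appLE ⊤ (p ⁻¹ᵁ U) (by simp)).hom.toAlgebra
  let _ : Algebra k Γ(W, p ⁻¹ᵁ U) :=
    ((e₁.inv ≫ z.appLE ⊤ U hUSX) ≫ (p.appLE U (p ⁻¹ᵁ U) le_rfl)).hom.toAlgebra
  have t1 : IsScalarTower k Γ(Z, U) Γ(W, p ⁻¹ᵁ U) :=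
    IsScalarTower.of_algebraMap_eq fun r => rfl
  have t2 : IsScalarTower k K Γ(W, p ⁻¹ᵁ U) :=
    IsScalarTower.of_algebraMap_eq fun r => congr($(hpo'.w).hom r)
  have hpo'' : Algebra.IsPushout k Γ(Z, U) K Γ(W, p ⁻¹ᵁ U) :=
    CommRingCat.isPushout_iff_isPushout.mp hpo'
  have hft' : Algebra.FiniteType k Γ(Z, U) ∨ Algebra.EssFiniteType k K := by
    rcases hft with h | h
    · left
      have hft : RingHom.FiniteType (z.appLE ⊤ U hUSX).hom :=
        HasRingHomProperty.appLE @LocallyOfFiniteType z h ⟨⊤, isAffineOpen_top _⟩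
          ⟨U, hU⟩ hUSX
      have : RingHom.FiniteType (e₁.inv ≫ z.appLE ⊤ U hUSX).hom := by
        rw [CommRingCat.hom_comp]
        refine hft.comp ?_
        exact RingHom.FiniteType.of_surjective _
          (ConcreteCategory.bijective_of_isIso e₁.inv).2
      exact this
    · right
      exact h
  haveI : IsNoetherianRing Γ(Z, U) := IsLocallyNoetherian.component_noetherian ⟨U, hU⟩
  letI := W.presheaf.algebra_section_stalk ⟨w, hwV⟩
  haveI hlocW := hV.isLocalization_stalk ⟨w, hwV⟩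
  letI := Z.presheaf.algebra_section_stalk ⟨p w, hwU⟩
  haveI hlocZ := hU.isLocalization_stalk ⟨p w, hwU⟩
  have hcomap : (hV.primeIdealOf ⟨w, hwV⟩).asIdeal.comap
      (algebraMap Γ(Z, U) Γ(W, p ⁻¹ᵁ U)) = (hU.primeIdealOf ⟨p w, hwU⟩).asIdeal :=
    congr($(IsAffineOpen.comap_primeIdealOf_appLE U hU (p ⁻¹ᵁ U) hV le_rfl hwV).1)
  haveI : IsLocalization.AtPrime (Z.presheaf.stalk (p w))
      ((hV.primeIdealOf ⟨w, hwV⟩).asIdeal.comap (algebraMap Γ(Z, U) Γ(W, p ⁻¹ᵁ U))) := by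
    have : ((hV.primeIdealOf ⟨w, hwV⟩).asIdeal.comap
        (algebraMap Γ(Z, U) Γ(W, p ⁻¹ᵁ U))).primeCompl =
        (hU.primeIdealOf ⟨p w, hwU⟩).asIdeal.primeCompl := by
      ext s
      simp only [Ideal.mem_primeCompl_iff, hcomap]
    show IsLocalization ((hV.primeIdealOf ⟨w, hwV⟩).asIdeal.comap
        (algebraMap Γ(Z, U) Γ(W, p ⁻¹ᵁ U))).primeCompl _
    rw [this]
    exact hlocZ
  exact cm_iff_of_isPushout k K Γ(Z, U) Γ(W, p ⁻¹ᵁ U) hft' (hV.primeIdealOf ⟨w, hwV⟩).asIdeal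
    (Z.presheaf.stalk (p w)) (W.presheaf.stalk w)

end Groth.Agent.H49.CMFieldBC
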