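import Mathlib
import Groth.Prelude.Def_MoreMor
import Groth.Agent.H49.CMFieldBCScheme
import Groth.Agent.H25.FlatBCpt2

/-!
# `MoreMor.IsCMAt` under base change (helper49)
-/

set_option autoImplicit false
set_option linter.style.haveILetI false
universe u
open CategoryTheory CategoryTheory.Limits AlgebraicGeometry

namespace Groth.Agent.H49.CMMorBC

variable {X Y X' Y' : Scheme.{u}}

/-- Transport along an equality of base points: the stalk of a fibre at any point over `x`. -/
theorem cm_fiber_stalk_iff_asFiber (f : X ⟶ Y) (x : X) (y : Y) (hy : f x = y) (z0 : f.fiber y)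
    (hz : f.fiberι y z0 = x) :
    LocCoh.IsCohenMacaulayLocalRing ((f.fiber y).presheaf.stalk z0) ↔
      LocCoh.IsCohenMacaulayLocalRing ((f.fiber (f x)).presheaf.stalk (f.asFiber x)) := by
  subst hy
  have : z0 = f.asFiber x := by
    apply (f.fiberι (f x)).isEmbedding.injective
    rw [hz, Scheme.Hom.fiberι_asFiber]
  rw [this]

/-- **CM-ness of the fibre stalk is invariant under base change**, provided the fibre of `f` is
locally Noetherian and either `f` or `g` is locally of finite type. -/
theorem cm_fiber_stalk_iff_of_isPullback (f : X ⟶ Y) (f' : X' ⟶ Y') (g' : X' ⟶ X) (g : Y' ⟶ Y)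
    (hc : IsPullback g' f' f g) (x' : X') [IsLocallyNoetherian (f.fiber (g (f' x')))]
    (hft : LocallyOfFiniteType f ∨ LocallyOfFiniteType g) :
    LocCoh.IsCohenMacaulayLocalRing
        ((f.fiber (f (g' x'))).presheaf.stalk (f.asFiber (g' x'))) ↔
      LocCoh.IsCohenMacaulayLocalRing
        ((f'.fiber (f' x')).presheaf.stalk (f'.asFiber x')) := by
  have hsq := isPullback_fiberToSpecResidueField_of_isPullback hc (f' x')
  have hft' : LocallyOfFiniteType (f.fiberToSpecResidueField (g (f' x'))) ∨
      (g.residueFieldMap (f' x')).hom.EssFiniteType := by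
    rcases hft with h | h
    · left
      exact inferInstanceAs (LocallyOfFiniteType (pullback.snd f (Y.fromSpecResidueField (g (f' x')))))
    · right
      exact RingHom.EssFiniteType.residueFieldMap (LocallyOfFiniteType.stalkMap g (f' x'))
  have hL := Groth.Agent.H49.CMFieldBC.cm_stalk_iff_of_isPullback_field
    (Y.residueField (g (f' x'))) (Y'.residueField (f' x')) (g.residueFieldMap (f' x')).hom
    (f.fiberToSpecResidueField (g (f' x'))) _ (f'.fiberToSpecResidueField (f' x')) hsq hft'
    (f'.asFiber x')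
  refine Iff.trans (Iff.symm ?_) hL
  have hfx : f (g' x') = g (f' x') := by
    rw [← Scheme.Hom.comp_apply, ← Scheme.Hom.comp_apply, hc.w]
  refine cm_fiber_stalk_iff_asFiber f (g' x') (g (f' x')) hfx _ ?_
  have hmap : pullback.map _ _ _ _ g' (Spec.map (g.residueFieldMap (f' x'))) g hc.w.symm
      (by simp) ≫ f.fiberι (g (f' x')) = f'.fiberι (f' x') ≫ g' :=
    pullback.lift_fst _ _ _
  have h6 := congrArg (fun h : (f'.fiber (f' x')) ⟶ X => h (f'.asFiber x')) hmap
  simp only [Scheme.Hom.comp_apply, Scheme.Hom.fiberι_asFiber] at h6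
  exact h6

/-- Pointwise descent of flatness: `g` flat at `f' x'`, `f'` flat at `x'` ⇒ `f` flat at `g' x'`. -/
theorem flat_stalkMap_of_isPullback_of_flatAt (f : X ⟶ Y) (f' : X' ⟶ Y') (g' : X' ⟶ X)
    (g : Y' ⟶ Y) (hc : IsPullback g' f' f g) (x' : X')
    (hg : (g.stalkMap (f' x')).hom.Flat) (hf' : (f'.stalkMap x').hom.Flat) :
    (f.stalkMap (g' x')).hom.Flat := by
  have key : ∀ k : X' ⟶ Y, k = f' ≫ g → (k.stalkMap x').hom.Flat := by
    rintro k rfl
    rw [Scheme.Hom.stalkMap_comp]
    exact RingHom.Flat.comp hg hf'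
  have h1 := key (g' ≫ f) hc.w
  rw [Scheme.Hom.stalkMap_comp] at h1
  have : IsLocalHom (g'.stalkMap x').hom := g'.toLRSHom.prop x'
  have hv : (g'.stalkMap x').hom.Flat :=
    Groth.Agent.H25.FlatBCpt.flat_stalkMap_of_isPullback hc.flip x' hg
  exact Groth.Agent.H40.ringHom_flat_of_comp _ _ hv h1

end Groth.Agent.H49.CMMorBC
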