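import Groth.Agent.H49.FibreDepth
import Mathlib.AlgebraicGeometry.Properties

/-!
# Points of a fibre with zero-dimensional local ring; dimension of fibre rings of a composite
-/

set_option autoImplicit false
universe u

open CategoryTheory CategoryTheory.Limits AlgebraicGeometry IsLocalRing

namespace Groth.Agent.H49.FibreGeneric

open Groth.Agent.H49.FibreStalk

/-- every point of a scheme has a generization whose local ring has dimension zero. -/
theorem exists_specializes_ringKrullDim_stalk_eq_zero (F : Scheme.{u}) (z : F) :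
    ∃ z' : F, z' ⤳ z ∧ ringKrullDim (F.presheaf.stalk z') = 0 := by
  have hirr : IsIrreducible (irreducibleComponent z) := isIrreducible_irreducibleComponent
  have hcl : IsClosed (irreducibleComponent z) := isClosed_irreducibleComponent
  obtain ⟨z', hz'⟩ := QuasiSober.sober hirr hcl
  refine ⟨z', ?_, ?_⟩
  · rw [specializes_iff_mem_closure, hz'.def]
    exact mem_irreducibleComponent
  · rw [ringKrullDim_stalk_eq_coheight]
    have : Order.coheight z' = 0 := by
      rw [Order.coheight_eq_zero]
      intro w hw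
      rw [Scheme.le_iff_specializes] at hw ⊢
      have h1 : irreducibleComponent z ⊆ closure {w} := by
        rw [← hz'.def]
        exact closure_minimal (Set.singleton_subset_iff.mpr (specializes_iff_mem_closure.mp hw))
          isClosed_closure
      have h2 : closure {w} = irreducibleComponent z :=
        eq_irreducibleComponent isIrreducible_singleton.closure.isPreirreducible h1
      rw [specializes_iff_mem_closure, hz'.def, ← h2]
      exact subset_closure rfl
    rw [this]
    rfl

variable {X Y Z : Scheme.{u}}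

/-- `dim O_{X_s,x} ≤ dim O_{Y_s,g x} + dim O_{X_{g x},x}` for a composite `X → Y → Z`. -/
theorem ringKrullDim_fiberStalk_comp_le (g : X ⟶ Y) (f : Y ⟶ Z) (x : X)
    [IsNoetherianRing (X.presheaf.stalk x)] [IsNoetherianRing (Y.presheaf.stalk (g x))] :
    ringKrullDim (CInt.fiberStalk (g ≫ f) x) ≤
      ringKrullDim (CInt.fiberStalk f (g x)) + ringKrullDim (CInt.fiberStalk g x) := by
  letI : Algebra (Y.presheaf.stalk (g x)) (X.presheaf.stalk x) := (g.stalkMap x).hom.toAlgebra
  haveI : IsLocalHom (algebraMap (Y.presheaf.stalk (g x)) (X.presheaf.stalk x)) :=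
    (inferInstance : IsLocalHom (g.stalkMap x).hom)
  have hJ : fibreIdeal f (g x) ≠ ⊤ := fibreIdeal_ne_top f (g x)
  have hcomp : fibreIdeal (g ≫ f) x = Ideal.map (algebraMap (Y.presheaf.stalk (g x))
      (X.presheaf.stalk x)) (fibreIdeal f (g x)) := Groth.Agent.H49.CMMor.fibreIdeal_comp g f x
  rw [Groth.Agent.H49.FibreDepth.ringKrullDim_fiberStalk_eq,
    Groth.Agent.H49.FibreDepth.ringKrullDim_fiberStalk_eq,
    Groth.Agent.H49.FibreDepth.ringKrullDim_fiberStalk_eq,
    ringKrullDim_eq_of_ringEquiv (Ideal.quotEquivOfEq hcomp)]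
  haveI := Groth.Agent.H49.FibreCM.isLocalRing_quotient (fibreIdeal f (g x)) hJ
  haveI := Groth.Agent.H49.FibreCM.isLocalRing_quotient
    ((fibreIdeal f (g x)).map (algebraMap (Y.presheaf.stalk (g x)) (X.presheaf.stalk x)))
    (Groth.Agent.H49.FibreCM.map_ne_top _ hJ)
  haveI := Groth.Agent.H49.FibreCM.isLocalHom_quotient (C := X.presheaf.stalk x)
    (fibreIdeal f (g x)) hJ
  have e := Groth.Agent.H49.FibreCM.quotQuotEquiv (C := X.presheaf.stalk x) (fibreIdeal f (g x)) hJ
  haveI : IsLocalRing ((X.presheaf.stalk x ⧸ (fibreIdeal f (g x)).map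
      (algebraMap (Y.presheaf.stalk (g x)) (X.presheaf.stalk x))) ⧸
      Ideal.map (algebraMap (Y.presheaf.stalk (g x) ⧸ fibreIdeal f (g x))
        (X.presheaf.stalk x ⧸ (fibreIdeal f (g x)).map
          (algebraMap (Y.presheaf.stalk (g x)) (X.presheaf.stalk x))))
        (maximalIdeal (Y.presheaf.stalk (g x) ⧸ fibreIdeal f (g x)))) :=
    e.symm.isLocalRing
  have h := Groth.Agent.H49.FibreDim.ringKrullDim_le_add_quotient
    (A := Y.presheaf.stalk (g x) ⧸ fibreIdeal f (g x))
    (B := X.presheaf.stalk x ⧸ (fibreIdeal f (g x)).map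
      (algebraMap (Y.presheaf.stalk (g x)) (X.presheaf.stalk x)))
  rw [ringKrullDim_eq_of_ringEquiv e] at h
  exact h

end Groth.Agent.H49.FibreGeneric
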