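import Groth.Agent.H49.CMChartMain
import Groth.Agent.H49.FibreGeneric
import Groth.Agent.H49.CMMorBC

/-!
# The Cohen–Macaulay locus of a morphism locally of finite presentation is open, and is dense in
every fibre of a flat morphism
-/

set_option autoImplicit false
set_option linter.style.haveILetI false
universe u

open CategoryTheory CategoryTheory.Limits AlgebraicGeometry IsLocalRing

namespace Groth.Agent.H49.CMLocusOpen

variable {X Y : Scheme.{u}}

/-- EGA IV 12.1.7 / Stacks 045U: openness of the Cohen–Macaulay locus. -/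
theorem isOpen_setOf_isCMAt (f : X ⟶ Y) [LocallyOfFinitePresentation f] :
    IsOpen {x : X | MoreMor.IsCMAt f x} := by
  have hlft : LocallyOfFiniteType f := inferInstance
  rw [isOpen_iff_forall_mem_open]
  intro x hcm
  obtain ⟨d, hd⟩ := Groth.Agent.H17.Chev.exists_nat_eq_fibreDimAt f x
  obtain ⟨U, hx, g, hg, hq, hlfp, hfl⟩ :=
    Groth.Agent.H49.CMChartMain.exists_chart_of_isCMAt f x hcm d hd
  have hopen : IsOpen {z : (U : Scheme.{u}) | (g.stalkMap z).hom.Flat} :=
    Groth.Agent.S0386.result g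
  refine ⟨U.ι '' {z : (U : Scheme.{u}) | (g.stalkMap z).hom.Flat}, ?_,
    U.ι.isOpenEmbedding.isOpenMap _ hopen, ⟨⟨x, hx⟩, hfl, rfl⟩⟩
  rintro _ ⟨z, hz, rfl⟩
  exact Groth.Agent.H49.CMChart.isCMAt_of_chart f (U.ι z) (ULift.{u} (Fin d)) U z.2 g hg
    (g.quasiFiniteAt z) hz

/-- the Cohen–Macaulay locus of a flat morphism locally of finite type is dense in every fibre. -/
theorem dense_preimage_fiberι (f : X ⟶ Y) [Flat f] [LocallyOfFiniteType f] (s : Y) :
    Dense ((f.fiberι s) ⁻¹' {x : X | MoreMor.IsCMAt f x}) := by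
  rw [dense_iff_inter_open]
  rintro O hO ⟨z, hz⟩
  obtain ⟨z', hz'z, hdim⟩ :=
    Groth.Agent.H49.FibreGeneric.exists_specializes_ringKrullDim_stalk_eq_zero (f.fiber s) z
  refine ⟨z', hz'z.mem_open hO hz, ?_⟩
  have hy : f (f.fiberι s z') = s := by
    have : f.fiberι s z' ∈ Set.range (f.fiberι s) := Set.mem_range_self z'
    rw [f.range_fiberι s] at this
    exact this
  refine ⟨Flat.stalkMap f _, ?_⟩
  rw [← Groth.Agent.H49.CMMorBC.cm_fiber_stalk_iff_asFiber f _ s hy z' rfl]
  haveI := Groth.Agent.H49.CMChart.isLocallyNoetherian_fiber f s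
  exact Groth.Agent.H72.FlatCM.isCohenMacaulayLocalRing_of_ringKrullDim_eq_zero _ hdim

end Groth.Agent.H49.CMLocusOpen
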