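import Groth.Agent.H49.FibrePropConstr
import Groth.Agent.H49.CMLocusOpen

/-!
# The fibrewise Cohen–Macaulay locus of a morphism locally of finite presentation is locally
constructible (EGA IV 9.9.2 (viii))
-/

set_option autoImplicit false
set_option linter.style.haveILetI false
universe u

open CategoryTheory CategoryTheory.Limits AlgebraicGeometry TopologicalSpace Topology

namespace Groth.Agent.H49.CMLocusConstr

open Groth.Agent.H49.FibreStalk Groth.Agent.H49.CMMor

/-- the fibrewise Cohen–Macaulay property. -/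
def FibCM : ∀ ⦃X S : Scheme.{u}⦄, (X ⟶ S) → X → Prop := fun _ _ f x =>
  LocCoh.IsCohenMacaulayLocalRing ((f.fiber (f x)).presheaf.stalk (f.asFiber x))

theorem fibCM_comp_of_isOpenImmersion {U X S : Scheme.{u}} (j : U ⟶ X) [IsOpenImmersion j]
    (f : X ⟶ S) (u : U) : FibCM (j ≫ f) u ↔ FibCM f (j u) := by
  unfold FibCM
  rw [cm_stalk_asFiber_iff, cm_stalk_asFiber_iff]
  haveI hiso : IsIso (j.stalkMap u) := inferInstance
  let e : X.presheaf.stalk (j u) ≃+* U.presheaf.stalk u :=
    (asIso (j.stalkMap u)).commRingCatIsoToRingEquiv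
  have hI : fibreIdeal (j ≫ f) u = (fibreIdeal f (j u)).map (e : _ →+* _) :=
    fibreIdeal_comp j f u
  let e' := Ideal.quotientEquiv (fibreIdeal f (j u)) (fibreIdeal (j ≫ f) u) e hI
  exact ⟨Groth.Agent.H49.isCohenMacaulayLocalRing_of_ringEquiv e'.symm,
    Groth.Agent.H49.isCohenMacaulayLocalRing_of_ringEquiv e'⟩

theorem isGood_fibCM : Groth.Agent.H49.FibrePropConstr.IsGood FibCM.{u} where
  baseChange := by
    intro X S X' S' f f' g' g hc hft x'
    haveI := hft
    haveI := Groth.Agent.H49.CMChart.isLocallyNoetherian_fiber f (g (f' x'))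
    exact (Groth.Agent.H49.CMMorBC.cm_fiber_stalk_iff_of_isPullback f f' g' g hc x'
      (Or.inl hft)).symm
  openImm := by
    intro U X S j f hj _ u
    exact fibCM_comp_of_isOpenImmersion j f u
  isOpen := by
    intro X S f hfl hlfp
    have : {x : X | FibCM f x} = {x : X | MoreMor.IsCMAt f x} := by
      ext x
      exact ⟨fun h => ⟨Flat.stalkMap f x, h⟩, fun h => h.2⟩
    rw [this]
    exact Groth.Agent.H49.CMLocusOpen.isOpen_setOf_isCMAt f

/-- EGA IV 9.9.2 (viii). -/
theorem isLocallyConstructible_setOf_fibCM {X S : Scheme.{u}} (f : X ⟶ S)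
    [LocallyOfFinitePresentation f] :
    IsLocallyConstructible {x : X |
      LocCoh.IsCohenMacaulayLocalRing ((f.fiber (f x)).presheaf.stalk (f.asFiber x))} :=
  Groth.Agent.H49.FibrePropConstr.isLocallyConstructible isGood_fibCM f

end Groth.Agent.H49.CMLocusConstr
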