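import Mathlib
import Groth.Prelude.Def_Flat
import Groth.Agent.H17.Chev.Main

/-!
# Locally quasi-finite charts to affine space (helper49)

For `f : X ⟶ Y` locally of finite type and a point `x` with `dim_x X_{f x} = d`, there is an affine
open neighbourhood `U` of `x` and a locally quasi-finite `Y`-morphism `U ⟶ 𝔸^d_Y`.
-/

set_option autoImplicit false
set_option linter.style.haveILetI false
open CategoryTheory CategoryTheory.Limits AlgebraicGeometry TopologicalSpace Topology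

universe u
namespace Groth.Agent.H49.QFChart

open Groth.Agent.H17.Chev Groth.Agent.H17

variable {X Y : Scheme.{u}}

/-- Variant of `H17.Chev.exists_affineOpens_dim_fiber_le` with a prescribed affine open of the
base. -/
theorem exists_affineOpen_dim_fiber_le (f : X ⟶ Y) (x₀ : X) {c : WithBot ℕ∞}
    (h : FlatMor.fibreDimAt f x₀ ≤ c) (V : Y.Opens) (hyV : f x₀ ∈ V) :
    ∃ (U : X.Opens) (hUV : U ≤ f ⁻¹ᵁ V) (hx : x₀ ∈ U), IsAffineOpen U ∧
      topologicalKrullDim ↥((f.resLE V U hUV).fiber ((f.resLE V U hUV).base ⟨x₀, hx⟩)) ≤ c := by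
  rw [fibreDimAt_eq] at h
  obtain ⟨O, hxO, hO⟩ := exists_open_dim_le_of_localDim_le _ h
  obtain ⟨O', hO', hOO'⟩ := isOpen_induced_iff.mp O.2
  have hx₀O' : x₀ ∈ O' := by
    have : (⟨x₀, rfl⟩ : ↥(f.base ⁻¹' {f.base x₀})) ∈ Subtype.val ⁻¹' O' := by rw [hOO']; exact hxO
    exact this
  obtain ⟨_, ⟨U, hU, rfl⟩, hxU, hUsub⟩ := X.isBasis_affineOpens.exists_subset_of_mem_open
    (show x₀ ∈ O' ∩ (f ⁻¹ᵁ V : Set X) from ⟨hx₀O', hyV⟩) (hO'.inter (f ⁻¹ᵁ V).2)
  have hUV : U ≤ f ⁻¹ᵁ V := fun z hz => (hUsub hz).2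
  refine ⟨U, hUV, hxU, hU, ?_⟩
  rw [dim_fiber_eq]
  refine le_trans ?_ hO
  set f' := f.resLE V U hUV with hf'
  have hcomm : ∀ z : U, f.base z.1 = (f'.base z).1 := by
    intro z
    have := congrArg (fun m => m.base z) (Scheme.Hom.resLE_comp_ι f hUV)
    exact this.symm
  let r : ↥(f'.base ⁻¹' {f'.base ⟨x₀, hxU⟩}) → ↥(O.1) := fun z =>
    ⟨⟨z.1.1, by
      have hz := z.2
      simp only [Set.mem_preimage, Set.mem_singleton_iff] at hz ⊢
      rw [hcomm z.1, hz, ← hcomm ⟨x₀, hxU⟩]⟩, by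
      rw [← hOO']
      exact (hUsub z.1.2).1⟩
  have hr : IsInducing r := by
    have hvv : IsInducing (fun w : ↥O.1 => (w.1.1 : X)) :=
      IsInducing.subtypeVal.comp IsInducing.subtypeVal
    rw [← hvv.of_comp_iff]
    exact ((Scheme.Opens.ι U).isOpenEmbedding.isInducing.comp IsInducing.subtypeVal :
      IsInducing (fun z : ↥(f'.base ⁻¹' {f'.base ⟨x₀, hxU⟩}) => (Scheme.Opens.ι U).base z.1))
  exact hr.topologicalKrullDim_le

set_option backward.isDefEq.respectTransparency.types false in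
/-- **Locally quasi-finite chart to affine space over a prescribed affine open of the base.** -/
theorem exists_lqf_chart (f : X ⟶ Y) [LocallyOfFiniteType f] (x : X) (d : ℕ)
    (hd : FlatMor.fibreDimAt f x = d) (V : Y.Opens) (hV : IsAffineOpen V) (hxV : f x ∈ V) :
    ∃ (U : X.Opens) (hUV : U ≤ f ⁻¹ᵁ V), IsAffineOpen U ∧ x ∈ U ∧
      ∃ π : (U : Scheme.{u}) ⟶ 𝔸(ULift.{u} (Fin d); (V : Scheme.{u})),
        π ≫ (𝔸(ULift.{u} (Fin d); (V : Scheme.{u})) ↘ (V : Scheme.{u})) = f.resLE V U hUV ∧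
          LocallyQuasiFinite π ∧ LocallyOfFiniteType π := by
  obtain ⟨U₀, hU₀V, hxU₀, hU₀, hdim⟩ := exists_affineOpen_dim_fiber_le f x hd.le V hxV
  set f' := f.resLE V U₀ hU₀V with hf'
  haveI hAU : IsAffine U₀ := hU₀
  haveI hAV : IsAffine V := hV
  set x₀ : U₀ := ⟨x, hxU₀⟩ with hx₀
  have hfd : FlatMor.fibreDimAt f' x₀ = d := by rw [hf', fibreDimAt_resLE]; exact hd
  have he : topologicalKrullDim ↥(f'.fiber (f'.base x₀)) = d :=
    le_antisymm hdim (hfd ▸ fibreDimAt_le_dim_fiber f' x₀)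
  obtain ⟨g, hg, hfin⟩ := exists_hom_affineSpace_finite_fibre f' (f'.base x₀) d he
  obtain ⟨-, U₁, hU₁, hqf⟩ := surjective_and_quasiFinite_of_finite_fibre f' (f'.base x₀) d he g hg hfin
  have hgft : LocallyOfFiniteType g := by
    have : LocallyOfFiniteType (g ≫ (𝔸(ULift.{u} (Fin d); (V : Scheme.{u})) ↘ (V : Scheme.{u}))) := by
      rw [hg]; infer_instance
    exact locallyOfFiniteType_of_comp g (𝔸(ULift.{u} (Fin d); (V : Scheme.{u})) ↘ (V : Scheme.{u}))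
  -- `U₁` lies in the quasi-finite locus of `g`
  have hU₁le : U₁ ≤ g.quasiFiniteLocus := by
    have h1 : (U₁.ι ≫ g).quasiFiniteLocus = ⊤ := (Scheme.Hom.quasiFiniteLocus_eq_top_iff _).mpr hqf
    rw [Scheme.Hom.quasiFiniteLocus_comp] at h1
    intro z hz
    have : (⟨z, hz⟩ : U₁) ∈ U₁.ι ⁻¹ᵁ g.quasiFiniteLocus := by rw [h1]; trivial
    exact this
  have hx₀U₁ : x₀ ∈ U₁ := hU₁ rfl
  -- an affine open of `X` inside the image of the quasi-finite locus
  have hopen : IsOpen ((U₀.ι ''ᵁ g.quasiFiniteLocus : X.Opens) : Set X) := (U₀.ι ''ᵁ _).2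
  have hxm : x ∈ ((U₀.ι ''ᵁ g.quasiFiniteLocus : X.Opens) : Set X) :=
    ⟨x₀, hU₁le hx₀U₁, rfl⟩
  obtain ⟨_, ⟨U, hU, rfl⟩, hxU, hUsub⟩ := X.isBasis_affineOpens.exists_subset_of_mem_open hxm hopen
  have hUU₀ : U ≤ U₀ := by
    intro z hz
    obtain ⟨w, -, rfl⟩ := hUsub hz
    exact w.2
  have hUV : U ≤ f ⁻¹ᵁ V := hUU₀.trans hU₀V
  refine ⟨U, hUV, hU, hxU, X.homOfLE hUU₀ ≫ g, ?_, ?_, ?_⟩
  · rw [Category.assoc, hg, hf']
    rw [← cancel_mono V.ι]
    simp only [Category.assoc, Scheme.Hom.resLE_comp_ι, Scheme.homOfLE_ι_assoc]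
  · rw [← Scheme.Hom.quasiFiniteLocus_eq_top_iff, Scheme.Hom.quasiFiniteLocus_comp, eq_top_iff]
    intro z _
    obtain ⟨w, hw, hwz⟩ := hUsub z.2
    have : (X.homOfLE hUU₀) z = w := by
      apply U₀.ι.isOpenEmbedding.injective
      rw [← Scheme.Hom.comp_apply, Scheme.homOfLE_ι]
      exact hwz.symm
    change (X.homOfLE hUU₀) z ∈ g.quasiFiniteLocus
    rw [this]
    exact hw
  · infer_instance

end Groth.Agent.H49.QFChart
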