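import Groth.Agent.H49.CMChartFlat
import Groth.Agent.H49.QFChart
import Groth.Agent.S0386
import Groth.Agent.H25.EtaleStalk

/-!
# EGA IV 15.4.2 / Stacks 045Q: Cohen–Macaulay at a point ⇔ flat quasi-finite chart over affine space
-/

set_option autoImplicit false
set_option linter.style.haveILetI false
universe u

open CategoryTheory CategoryTheory.Limits AlgebraicGeometry IsLocalRing TensorProduct

namespace Groth.Agent.H49.CMChartMain

open Groth.Agent.H49.FibreStalk Groth.Agent.H49.CMMor Groth.Agent.H49.CMChart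
  Groth.Agent.H49.CMChartFlat

variable {X Y Z : Scheme.{u}}

/-- invariance of `IsCMAt` under open immersions out of the target. -/
theorem isCMAt_comp_isOpenImmersion_right (h : X ⟶ Y) (j : Y ⟶ Z) [IsOpenImmersion j] (x : X) :
    MoreMor.IsCMAt (h ≫ j) x ↔ MoreMor.IsCMAt h x := by
  rw [isCMAt_iff, isCMAt_iff]
  haveI hiso : IsIso (j.stalkMap (h x)) := inferInstance
  have hI : fibreIdeal (h ≫ j) x = fibreIdeal h x := by
    rw [fibreIdeal_comp]
    congr 1
    exact IsLocalRing.map_maximalIdeal_of_surjective (j.stalkMap (h x)).hom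
      (ConcreteCategory.bijective_of_isIso (j.stalkMap (h x))).2
  refine and_congr ?_ ?_
  · rw [Scheme.Hom.stalkMap_comp]
    exact RingHom.Flat.respectsIso.cancel_left_isIso (j.stalkMap (h x)) (h.stalkMap x)
  · exact ⟨Groth.Agent.H49.isCohenMacaulayLocalRing_of_ringEquiv (Ideal.quotEquivOfEq hI),
      Groth.Agent.H49.isCohenMacaulayLocalRing_of_ringEquiv (Ideal.quotEquivOfEq hI).symm⟩

theorem fibreDimAt_affineSpace_le (n : Type u) [Finite n] (S : Scheme.{u}) (z : 𝔸(n; S)) :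
    FlatMor.fibreDimAt (𝔸(n; S) ↘ S) z ≤ (Nat.card n : WithBot ℕ∞) := by
  refine (Groth.Agent.H17.Chev.fibreDimAt_le_dim_fiber _ z).trans ?_
  haveI : IsAffine ((𝔸(n; S) ↘ S).fiber ((𝔸(n; S) ↘ S) z)) :=
    inferInstanceAs (IsAffine (pullback (𝔸(n; S) ↘ S) (S.fromSpecResidueField _)))
  rw [Groth.Agent.H17.topologicalKrullDim_of_isAffine,
    Groth.Agent.H17.ringKrullDim_Γ_fiber_affineSpace]

instance isOpenImmersion_affineSpace_map (n : Type u) {S T : Scheme.{u}} (j : S ⟶ T)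
    [IsOpenImmersion j] : IsOpenImmersion (AffineSpace.map n j) :=
  MorphismProperty.of_isPullback (P := @IsOpenImmersion) (AffineSpace.isPullback_map (n := n) j).flip
    inferInstance

/-- **EGA IV 15.4.2, a) ⇒ b)**: a morphism locally of finite presentation which is
Cohen–Macaulay at `x`, with fibre of dimension `d` at `x`, admits near `x` a locally quasi-finite
`Y`-morphism to `𝔸^d_Y` which is flat at `x`. -/
theorem exists_chart_of_isCMAt (f : X ⟶ Y) [LocallyOfFinitePresentation f] (x : X)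
    (hcm : MoreMor.IsCMAt f x) (d : ℕ) (hd : FlatMor.fibreDimAt f x = d) :
    ∃ (U : X.Opens) (hx : x ∈ U) (g : (U : Scheme.{u}) ⟶ 𝔸(ULift.{u} (Fin d); Y)),
      g ≫ (𝔸(ULift.{u} (Fin d); Y) ↘ Y) = U.ι ≫ f ∧ LocallyQuasiFinite g ∧
        LocallyOfFinitePresentation g ∧ (g.stalkMap ⟨x, hx⟩).hom.Flat := by
  obtain ⟨V, hV, hxV⟩ : ∃ V : Y.Opens, IsAffineOpen V ∧ f x ∈ V := by
    obtain ⟨_, ⟨V, hV, rfl⟩, hxV, -⟩ := Y.isBasis_affineOpens.exists_subset_of_mem_open
      (Set.mem_univ (f x)) isOpen_univ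
    exact ⟨V, hV, hxV⟩
  obtain ⟨U, hUV, hU, hxU, π, hπ, hqf, hft⟩ :=
    Groth.Agent.H49.QFChart.exists_lqf_chart f x d hd V hV hxV
  generalize hn : ULift.{u} (Fin d) = n at π hπ hqf hft ⊢
  haveI : Finite n := by rw [← hn]; infer_instance
  have hcard : Nat.card n = d := by rw [← hn]; simp
  generalize hp : (𝔸(n; (V : Scheme.{u})) ↘ (V : Scheme.{u})) = p at hπ
  obtain ⟨x', hx'⟩ : ∃ x' : (U : Scheme.{u}), (⟨x, hxU⟩ : (U : Scheme.{u})) = x' := ⟨_, rfl⟩
  haveI : Smooth p := hp ▸ Groth.Agent.H42.AffSmooth.smooth_over n _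
  haveI hlfp : LocallyOfFinitePresentation (π ≫ p) := by rw [hπ]; infer_instance
  have hcm' : MoreMor.IsCMAt (π ≫ p) x' := by
    rw [hπ, ← isCMAt_comp_isOpenImmersion_right _ V.ι, Scheme.Hom.resLE_comp_ι,
      isCMAt_comp_of_isOpenImmersion, ← hx']
    exact hcm
  have hd' : FlatMor.fibreDimAt p (π x') ≤ FlatMor.fibreDimAt (π ≫ p) x' := by
    have h1 : FlatMor.fibreDimAt (π ≫ p) x' = d := by
      rw [hπ, ← hx']
      exact (Groth.Agent.H17.Chev.fibreDimAt_resLE f V U hUV ⟨x, hxU⟩).trans hd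
    rw [h1, ← hp]
    refine (fibreDimAt_affineSpace_le n _ (π x')).trans ?_
    rw [hcard]
  have hfl := flat_stalkMap_of_isCMAt π p x' hcm' (π.quasiFiniteAt x') hd'
  refine ⟨U, hxU, π ≫ AffineSpace.map n V.ι, ?_, ?_, ?_, ?_⟩
  · rw [Category.assoc, AffineSpace.map_over, ← Category.assoc, hp, hπ, Scheme.Hom.resLE_comp_ι]
  · infer_instance
  · haveI : LocallyOfFinitePresentation π := by
      haveI : LocallyOfFiniteType p := inferInstance
      exact Groth.Agent.H25.EtaleStalk.lfp_of_comp π p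
    infer_instance
  · rw [hx', Scheme.Hom.stalkMap_comp]
    exact (RingHom.Flat.respectsIso.cancel_left_isIso _ _).mpr hfl

end Groth.Agent.H49.CMChartMain
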