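import Groth.Agent.H23.Geometrically

set_option autoImplicit false
universe u

namespace Groth.Agent.H49

open AlgebraicGeometry CategoryTheory CategoryTheory.Limits MorphismProperty

/-- Spec of a field map is surjective. -/
theorem surjective_specMap_residueFieldMap {Y' Y : Scheme.{u}} (g : Y' ⟶ Y) (y' : Y') :
    Surjective (Spec.map (g.residueFieldMap y')) :=
  ⟨fun _ => ⟨Nonempty.some inferInstance, Subsingleton.elim _ _⟩⟩

/-- `geometrically P` of fibres is invariant under base change, for `P` descending along
surjective flat morphisms. -/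
theorem geometrically_fibre_iff_of_flat {P : ObjectProperty Scheme.{u}}
    (hP : ∀ {A B : Scheme.{u}} (s : A ⟶ B), Flat s → Surjective s → P A → P B)
    {X Y X' Y' : Scheme.{u}} (f : X ⟶ Y) (g : Y' ⟶ Y) (f' : X' ⟶ Y') (g' : X' ⟶ X)
    (hc : IsPullback g' f' f g) (y' : Y') :
    geometrically P (f'.fiberToSpecResidueField y') ↔
      geometrically P (f.fiberToSpecResidueField (g y')) := by
  have hpb := isPullback_fiberToSpecResidueField_of_isPullback hc y'
  haveI := surjective_specMap_residueFieldMap g y'
  constructor
  · intro h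
    apply Groth.Agent.H23.geometrically_of_pullback_snd_of_flat hP _ (Spec.map (g.residueFieldMap y'))
    have e : hpb.isoPullback.hom ≫ pullback.snd _ _ = f'.fiberToSpecResidueField y' :=
      hpb.isoPullback_hom_snd
    rw [← e] at h
    exact ((geometrically P).cancel_left_of_respectsIso _ _).mp h
  · intro h
    exact (geometrically P).of_isPullback hpb h

theorem geometrically_fibre_iff {P : ObjectProperty Scheme.{u}}
    (hP : ∀ {A B : Scheme.{u}} (s : A ⟶ B), Surjective s → P A → P B)
    {X Y X' Y' : Scheme.{u}} (f : X ⟶ Y) (g : Y' ⟶ Y) (f' : X' ⟶ Y') (g' : X' ⟶ X)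
    (hc : IsPullback g' f' f g) (y' : Y') :
    geometrically P (f'.fiberToSpecResidueField y') ↔
      geometrically P (f.fiberToSpecResidueField (g y')) :=
  geometrically_fibre_iff_of_flat (fun s _ hs h => hP s hs h) f g f' g' hc y'

end Groth.Agent.H49
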