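import Mathlib
import Groth.Agent.H17.QFLocus
import Groth.Agent.H17.Chev.Main
import Groth.Agent.H49.FibreDimAtBC

/-!
# The locus `{fibreDimAt f ≤ n}` is a retrocompact open for `f` locally of finite presentation
(helper49)
-/

set_option autoImplicit false
universe u
open CategoryTheory CategoryTheory.Limits AlgebraicGeometry

namespace Groth.Agent.H49.FibreDimRetro

open Groth.Agent.H49.FibreDimAtBC

/-- Affine case. -/
theorem isCompact_setOf_fibreDimAt_le_of_isAffine {X S : Scheme.{u}} (g : X ⟶ S) [IsAffine X]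
    [IsAffine S] [LocallyOfFinitePresentation g] (n : ℕ) :
    IsCompact {x : X | FlatMor.fibreDimAt g x ≤ n} := by
  have hφ : g.appTop.hom.FinitePresentation :=
    (HasRingHomProperty.iff_of_isAffine (P := @LocallyOfFinitePresentation)).mp inferInstance
  obtain ⟨A₀, B₀, φ₀, α, β, hN, hN', hfp, hpb⟩ :=
    Groth.Agent.H17.exists_isPullback_noetherian g.appTop hφ
  have hft : LocallyOfFiniteType (Spec.map φ₀) := by
    rw [HasRingHomProperty.Spec_iff (P := @LocallyOfFiniteType)]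
    exact RingHom.FiniteType.of_finitePresentation hfp
  have hsq : IsPullback X.isoSpec.hom g (Spec.map g.appTop) S.isoSpec.hom :=
    IsPullback.of_horiz_isIso ⟨Scheme.isoSpec_hom_naturality g⟩
  have hbig := hsq.paste_horiz hpb
  have heq : {x : X | FlatMor.fibreDimAt g x ≤ n} =
      (X.isoSpec.hom ≫ Spec.map β).base ⁻¹' {x | FlatMor.fibreDimAt (Spec.map φ₀) x ≤ n} := by
    ext x
    simp only [Set.mem_ofPred_eq, Set.mem_preimage]
    rw [fibreDimAt_eq_of_isPullback (Spec.map φ₀) _ g _ hbig x]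
  rw [heq]
  have hNS : TopologicalSpace.NoetherianSpace ↥(Spec B₀) := inferInstanceAs (TopologicalSpace.NoetherianSpace (PrimeSpectrum B₀))
  exact QuasiCompact.isCompact_preimage (f := X.isoSpec.hom ≫ Spec.map β) _
    (Groth.Agent.H17.Chev.isOpen_setOf_fibreDimAt_le (Spec.map φ₀) n)
    (TopologicalSpace.NoetherianSpace.isCompact _)

/-- Affine-local case. -/
theorem isCompact_setOf_fibreDimAt_le_inter {X S : Scheme.{u}} (f : X ⟶ S)
    [LocallyOfFinitePresentation f] (n : ℕ) {V : X.Opens} {W : S.Opens} (hV : IsAffineOpen V)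
    (hW : IsAffineOpen W) (hVW : V ≤ f ⁻¹ᵁ W) :
    IsCompact ({x : X | FlatMor.fibreDimAt f x ≤ n} ∩ V) := by
  have : IsAffine (W : Scheme.{u}) := hW
  have : IsAffine (V : Scheme.{u}) := hV
  have : LocallyOfFinitePresentation (f.resLE W V hVW) := by
    have h1 : LocallyOfFinitePresentation (f.resLE W V hVW ≫ W.ι) := by
      rw [Scheme.Hom.resLE_comp_ι]; infer_instance
    exact Groth.Agent.H17.locallyOfFinitePresentation_of_comp (f.resLE W V hVW) W.ι
  have hc := isCompact_setOf_fibreDimAt_le_of_isAffine (f.resLE W V hVW) n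
  have heq : {x : X | FlatMor.fibreDimAt f x ≤ n} ∩ V =
      V.ι.base '' {v | FlatMor.fibreDimAt (f.resLE W V hVW) v ≤ n} := by
    ext x
    constructor
    · rintro ⟨hx, hxV⟩
      refine ⟨⟨x, hxV⟩, ?_, rfl⟩
      change FlatMor.fibreDimAt (f.resLE W V hVW) ⟨x, hxV⟩ ≤ n
      rw [Groth.Agent.H17.Chev.fibreDimAt_resLE]
      exact hx
    · rintro ⟨v, hv, rfl⟩
      refine ⟨?_, v.2⟩
      change FlatMor.fibreDimAt f v.1 ≤ n
      rw [← Groth.Agent.H17.Chev.fibreDimAt_resLE f W V hVW v]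
      exact hv
  rw [heq]
  exact hc.image V.ι.continuous

/-- **The locus of local fibre dimension `≤ n` is retrocompact.** -/
theorem isRetrocompact_setOf_fibreDimAt_le {X S : Scheme.{u}} (f : X ⟶ S)
    [LocallyOfFinitePresentation f] (n : ℕ) :
    IsRetrocompact {x : X | FlatMor.fibreDimAt f x ≤ n} := by
  intro U hUc hUo
  -- choose affine charts
  have hch : ∀ x : U, ∃ (V : X.Opens) (W : S.Opens), IsAffineOpen V ∧ IsAffineOpen W ∧
      V ≤ f ⁻¹ᵁ W ∧ x.1 ∈ V ∧ (V : Set X) ⊆ U := by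
    intro x
    obtain ⟨_, ⟨W : S.Opens, hW, rfl⟩, hxW, -⟩ :=
      S.isBasis_affineOpens.exists_subset_of_mem_open (Set.mem_univ (f.base x.1)) isOpen_univ
    have hopen : IsOpen ((f ⁻¹ᵁ W : Set X) ∩ U) := (f ⁻¹ᵁ W).2.inter hUo
    obtain ⟨_, ⟨V : X.Opens, hV, rfl⟩, hxV, hVW⟩ :=
      X.isBasis_affineOpens.exists_subset_of_mem_open (show x.1 ∈ (f ⁻¹ᵁ W : Set X) ∩ U from
        ⟨hxW, x.2⟩) hopen
    exact ⟨V, W, hV, hW, fun y hy => (hVW hy).1, hxV, fun y hy => (hVW hy).2⟩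
  choose V W hV hW hVW hxV hVU using hch
  obtain ⟨t, ht⟩ := hUc.elim_finite_subcover (fun x : U => (V x : Set X)) (fun x => (V x).2)
    (fun x hx => Set.mem_iUnion.mpr ⟨⟨x, hx⟩, hxV ⟨x, hx⟩⟩)
  have heq : {x : X | FlatMor.fibreDimAt f x ≤ n} ∩ U =
      ⋃ x ∈ t, ({x : X | FlatMor.fibreDimAt f x ≤ n} ∩ (V x : Set X)) := by
    ext y
    simp only [Set.mem_inter_iff, Set.mem_iUnion, exists_and_left, exists_prop]
    constructor
    · rintro ⟨hy, hyU⟩
      obtain ⟨x, hxt, hyx⟩ := Set.mem_iUnion₂.mp (ht hyU)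
      exact ⟨hy, x, hxt, hyx⟩
    · rintro ⟨hy, x, -, hyx⟩
      exact ⟨hy, hVU x hyx⟩
  rw [heq]
  exact t.finite_toSet.isCompact_biUnion fun x _ =>
    isCompact_setOf_fibreDimAt_le_inter f n (hV x) (hW x) (hVW x)

end Groth.Agent.H49.FibreDimRetro
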