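import Mathlib
import Groth.Agent.H49.FibreDimRetro

/-!
# Ring-level form of the local fibre dimension (helper49)

Bridge between `FlatMor.fibreDimAt (Spec.map _)` and `FlatMor.localDim` of the spectrum of the
fibre ring `κ(p) ⊗[R] S`.
-/

set_option autoImplicit false
universe u
open CategoryTheory CategoryTheory.Limits AlgebraicGeometry TensorProduct

namespace Groth.Agent.H49.FibreDimRing

/-- The local fibre dimension of `Spec S → Spec R` at `q` is the local dimension of the spectrum of
the fibre ring at the prime over `q`. -/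
theorem fibreDimAt_SpecMap (R S : Type u) [CommRing R] [CommRing S] [Algebra R S]
    (p : PrimeSpectrum R) (Q : PrimeSpectrum (p.asIdeal.Fiber S)) (q : PrimeSpectrum S)
    (hq : Q.asIdeal.comap (Algebra.TensorProduct.includeRight.toRingHom) = q.asIdeal) :
    FlatMor.fibreDimAt (Spec.map (CommRingCat.ofHom (algebraMap R S)))
      (show ↥(Spec (CommRingCat.of S)) from q) =
      FlatMor.localDim (PrimeSpectrum (p.asIdeal.Fiber S)) Q := by
  rw [Groth.Agent.H17.Chev.fibreDimAt_eq]
  let h := PrimeSpectrum.preimageHomeomorphFiber R S p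
  have hQ : (h.symm Q).1 = q := PrimeSpectrum.ext hq
  have hy : PrimeSpectrum.comap (algebraMap R S) q = p := by
    rw [← hQ]; exact (h.symm Q).2
  have aux : ∀ (y : PrimeSpectrum R) (hy : PrimeSpectrum.comap (algebraMap R S) q = y),
      FlatMor.localDim ↥((PrimeSpectrum.comap (algebraMap R S)) ⁻¹'
        {PrimeSpectrum.comap (algebraMap R S) q}) ⟨q, rfl⟩ =
      FlatMor.localDim ↥((PrimeSpectrum.comap (algebraMap R S)) ⁻¹' {y}) ⟨q, hy⟩ := by
    rintro _ rfl; rfl
  refine (aux p hy).trans ?_
  rw [Groth.Agent.H17.Chev.localDim_eq_of_isOpenEmbedding h.isOpenEmbedding ⟨q, hy⟩]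
  congr 1
  apply h.symm.injective
  rw [Homeomorph.symm_apply_apply]
  exact Subtype.ext hQ.symm

/-- The ring-level locus equals the scheme-level locus. -/
theorem setOf_eq (R S : Type u) [CommRing R] [CommRing S] [Algebra R S] (n : ℕ) :
    {q : PrimeSpectrum S | ∀ Q : PrimeSpectrum ((q.asIdeal.under R).Fiber S),
        Q.asIdeal.comap (Algebra.TensorProduct.includeRight.toRingHom) = q.asIdeal →
          FlatMor.localDim (PrimeSpectrum ((q.asIdeal.under R).Fiber S)) Q ≤ (n : WithBot ℕ∞)} =
      {q : ↥(Spec (CommRingCat.of S)) |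
        FlatMor.fibreDimAt (Spec.map (CommRingCat.ofHom (algebraMap R S))) q ≤ n} := by
  ext q
  let p : PrimeSpectrum R := ⟨q.asIdeal.under R, inferInstance⟩
  change (∀ Q : PrimeSpectrum ((q.asIdeal.under R).Fiber S),
        Q.asIdeal.comap (Algebra.TensorProduct.includeRight.toRingHom) = q.asIdeal →
          FlatMor.localDim (PrimeSpectrum ((q.asIdeal.under R).Fiber S)) Q ≤ (n : WithBot ℕ∞)) ↔
    FlatMor.fibreDimAt (Spec.map (CommRingCat.ofHom (algebraMap R S)))
      (show ↥(Spec (CommRingCat.of S)) from q) ≤ n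
  constructor
  · intro H
    let h := PrimeSpectrum.preimageHomeomorphFiber R S p
    let Q : PrimeSpectrum (p.asIdeal.Fiber S) := h ⟨q, rfl⟩
    have hQ : Q.asIdeal.comap (Algebra.TensorProduct.includeRight.toRingHom) = q.asIdeal := by
      have : (h.symm Q).1 = q := by rw [Homeomorph.symm_apply_apply]
      exact congrArg PrimeSpectrum.asIdeal this
    rw [fibreDimAt_SpecMap R S p Q q hQ]
    exact H Q hQ
  · intro H Q hQ
    rw [← fibreDimAt_SpecMap R S p Q q hQ]
    exact H

/-- **S9176**: openness and quasi-compactness of the locus of local fibre dimension `≤ n`. -/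
theorem main (R S : Type u) [CommRing R] [CommRing S] [Algebra R S]
    [Algebra.FinitePresentation R S] (n : ℕ) :
    IsOpen {q : PrimeSpectrum S | ∀ Q : PrimeSpectrum ((q.asIdeal.under R).Fiber S),
        Q.asIdeal.comap (Algebra.TensorProduct.includeRight.toRingHom) = q.asIdeal →
          FlatMor.localDim (PrimeSpectrum ((q.asIdeal.under R).Fiber S)) Q ≤ (n : WithBot ℕ∞)} ∧
      IsCompact {q : PrimeSpectrum S | ∀ Q : PrimeSpectrum ((q.asIdeal.under R).Fiber S),
        Q.asIdeal.comap (Algebra.TensorProduct.includeRight.toRingHom) = q.asIdeal →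
          FlatMor.localDim (PrimeSpectrum ((q.asIdeal.under R).Fiber S)) Q ≤ (n : WithBot ℕ∞)} := by
  have hfp : LocallyOfFinitePresentation (Spec.map (CommRingCat.ofHom (algebraMap R S))) := by
    rw [HasRingHomProperty.Spec_iff (P := @LocallyOfFinitePresentation)]
    exact RingHom.finitePresentation_algebraMap.mpr inferInstance
  rw [setOf_eq R S n]
  exact ⟨Groth.Agent.H17.Chev.isOpen_setOf_fibreDimAt_le _ n,
    FibreDimRetro.isCompact_setOf_fibreDimAt_le_of_isAffine _ n⟩

end Groth.Agent.H49.FibreDimRing
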