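import Groth.Agent.H49.RelGCIModel

set_option autoImplicit false
universe u

open CategoryTheory CategoryTheory.Limits AlgebraicGeometry Opposite TopologicalSpace Topology
open TensorProduct

namespace Groth.Agent.H49.RelGCIModelScheme

/-- The pushout square of a tensor product equivalence. -/
theorem isPushout_of_algEquiv {R₀ R₁ S₀ S₁ : Type u} [CommRing R₀] [CommRing R₁]
    [CommRing S₀] [CommRing S₁] [Algebra R₀ R₁] [Algebra R₀ S₀] [Algebra R₁ S₁]
    (e : R₁ ⊗[R₀] S₀ ≃ₐ[R₁] S₁) :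
    IsPushout (CommRingCat.ofHom (algebraMap R₀ R₁))
      (CommRingCat.ofHom (algebraMap R₀ S₀)) (CommRingCat.ofHom (algebraMap R₁ S₁))
      (CommRingCat.ofHom ((e.toRingEquiv.toRingHom).comp
        Algebra.TensorProduct.includeRight.toRingHom)) := by
  refine (CommRingCat.isPushout_tensorProduct R₀ R₁ S₀).of_iso (Iso.refl _) (Iso.refl _)
    (Iso.refl _) e.toRingEquiv.toCommRingCatIso (by simp) (by simp) ?_ ?_
  · ext a
    simp
    have h1 : (a ⊗ₜ[R₀] (1 : S₀)) = algebraMap R₁ (R₁ ⊗[R₀] S₀) a := rfl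
    rw [h1, AlgEquiv.commutes]
  · ext b
    simp

/-- Base change of `R₀[x]/(F₀)` along an injective ring map, as a pushout square. -/
theorem exists_isPushout_relGCIRing {R₀ R₁ : Type u} [CommRing R₀] [CommRing R₁]
    [Algebra R₀ R₁] (hinj : Function.Injective (algebraMap R₀ R₁)) (n c : ℕ)
    (F₀ : Fin c → MvPolynomial (Fin n) R₀) :
    ∃ β : Synt.RelGCIRing R₀ n c F₀ →+*
        Synt.RelGCIRing R₁ n c (fun i => MvPolynomial.map (algebraMap R₀ R₁) (F₀ i)),
      IsPushout (CommRingCat.ofHom (algebraMap R₀ R₁))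
        (CommRingCat.ofHom (algebraMap R₀ (Synt.RelGCIRing R₀ n c F₀)))
        (CommRingCat.ofHom (algebraMap R₁
          (Synt.RelGCIRing R₁ n c (fun i => MvPolynomial.map (algebraMap R₀ R₁) (F₀ i)))))
        (CommRingCat.ofHom β) := by
  let F₁ : Fin c → MvPolynomial (Fin n) R₁ := fun i => MvPolynomial.map (algebraMap R₀ R₁) (F₀ i)
  let P₁ : Algebra.Presentation R₁ (Synt.RelGCIRing R₁ n c F₁) (Fin n) (Fin c) :=
    Algebra.Presentation.naive (v := F₁)
  haveI : IsScalarTower R₀ R₁ (Synt.RelGCIRing R₁ n c F₁) := inferInstance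
  haveI : P₁.HasCoeffs R₀ := by
    refine ⟨?_⟩
    intro x hx
    obtain ⟨i, hi⟩ := Set.mem_iUnion.mp hx
    have hmem : F₁ i ∈ Set.range (MvPolynomial.map (algebraMap R₀ R₁)) := ⟨F₀ i, rfl⟩
    rw [MvPolynomial.mem_range_map_iff_coeffs_subset] at hmem
    exact hmem hi
  have hrel : P₁.relationOfHasCoeffs R₀ = F₀ := funext fun i =>
    MvPolynomial.map_injective _ hinj (P₁.map_relationOfHasCoeffs R₀ i)
  have key := isPushout_of_algEquiv (P₁.tensorModelOfHasCoeffsEquiv R₀)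
  have aux : ∀ (G : Fin c → MvPolynomial (Fin n) R₀), G = F₀ →
      (∃ β : Synt.RelGCIRing R₀ n c G →+* Synt.RelGCIRing R₁ n c F₁,
        IsPushout (CommRingCat.ofHom (algebraMap R₀ R₁))
          (CommRingCat.ofHom (algebraMap R₀ (Synt.RelGCIRing R₀ n c G)))
          (CommRingCat.ofHom (algebraMap R₁ (Synt.RelGCIRing R₁ n c F₁)))
          (CommRingCat.ofHom β)) →
      ∃ β : Synt.RelGCIRing R₀ n c F₀ →+* Synt.RelGCIRing R₁ n c F₁,
        IsPushout (CommRingCat.ofHom (algebraMap R₀ R₁))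
          (CommRingCat.ofHom (algebraMap R₀ (Synt.RelGCIRing R₀ n c F₀)))
          (CommRingCat.ofHom (algebraMap R₁ (Synt.RelGCIRing R₁ n c F₁)))
          (CommRingCat.ofHom β) := by
    rintro G rfl h
    exact h
  exact aux _ hrel ⟨_, key⟩


/-- Noetherian approximation of standard syntomic morphisms of affine schemes. -/
theorem main {X S : Scheme.{u}} (f : X ⟶ S) [IsAffine X] [IsAffine S]
    (hf : Synt.IsStandardSyntomic f) :
    ∃ (X₀ S₀ : Scheme.{u}) (f₀ : X₀ ⟶ S₀) (g : S ⟶ S₀) (g' : X ⟶ X₀), IsAffine X₀ ∧ IsAffine S₀ ∧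
      IsPullback g' f f₀ g ∧
      Algebra.FiniteType ℤ Γ(S₀, ⊤) ∧ LocallyOfFiniteType f₀ ∧ Synt.IsStandardSyntomic f₀ := by
  obtain ⟨R, _, n, c, F, hF, e₁, e₂, hcomm⟩ := hf
  obtain ⟨R₁, F₁, hft₁, hmap, hF₁⟩ := RelGCIModel.exists_model_isRelGCI R n c F hF
  have hFeq : F = fun i => MvPolynomial.map (algebraMap R₁ R) (F₁ i) :=
    funext fun i => (hmap i).symm
  subst hFeq
  obtain ⟨β, hpo⟩ := exists_isPushout_relGCIRing (R₀ := R₁) (R₁ := R) Subtype.val_injective n c F₁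
  have hpb := (isPullback_SpecMap_of_isPushout _ _ _ _ hpo).flip
  have hsq : IsPullback e₁.hom f (Spec.map (CommRingCat.ofHom (algebraMap R
      (Synt.RelGCIRing R n c (fun i => MvPolynomial.map (algebraMap R₁ R) (F₁ i)))))) e₂.hom :=
    IsPullback.of_horiz_isIso ⟨hcomm⟩
  have hpb' := hsq.paste_horiz hpb
  refine ⟨Spec (.of (Synt.RelGCIRing R₁ n c F₁)), Spec (.of R₁),
    Spec.map (CommRingCat.ofHom (algebraMap R₁ (Synt.RelGCIRing R₁ n c F₁))), _, _,
    inferInstance, inferInstance, hpb', ?_, ?_, ?_⟩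
  · exact Algebra.FiniteType.equiv hft₁
      ((Scheme.ΓSpecIso (.of R₁)).symm.commRingCatIsoToRingEquiv.toIntAlgEquiv)
  · rw [HasRingHomProperty.Spec_iff (P := @LocallyOfFiniteType)]
    exact RingHom.finiteType_algebraMap.mpr inferInstance
  · exact ⟨R₁, inferInstance, n, c, F₁, hF₁, Iso.refl _, Iso.refl _, by simp⟩

end Groth.Agent.H49.RelGCIModelScheme
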