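import Mathlib
import Groth.Prelude.Def_FlatCA
import Groth.Agent.H17.QFLocus
import Groth.Agent.H49.RelGCIModelScheme

/-!
# Noetherian approximation of flat finitely presented algebras (helper49)

Scaffolding on top of the statement of S4848 (EGA IV 11.2.6, proved by helper1), which is taken
here as a hypothesis `Hyp4848`; the statement files feed `Groth.Agent.S4848.result` into it.
-/

set_option autoImplicit false
universe u
open CategoryTheory CategoryTheory.Limits AlgebraicGeometry TensorProduct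

namespace Groth.Agent.H49.FlatApprox

/-- The statement of S4848. -/
def Hyp4848 : Prop :=
  ∀ {A₀ : Type u} [CommRing A₀]
    {ι : Type u} [Preorder ι] (G : ι → Type u) [∀ i, CommRing (G i)] [∀ i, Algebra A₀ (G i)]
    (g : ∀ i j, i ≤ j → G i →ₐ[A₀] G j)
    (A : Type u) [CommRing A] [Algebra A₀ A] [∀ i, Algebra (G i) A] [∀ i, IsScalarTower A₀ (G i) A]
    (_ : FlatCA.IsDirectedColimitRing G (fun i j h => (g i j h).toRingHom) A)
    {B₀ : Type u} [CommRing B₀] [Algebra A₀ B₀] [Algebra.FinitePresentation A₀ B₀]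
    (M₀ : Type u) [AddCommGroup M₀] [Module B₀ M₀] [Module A₀ M₀] [IsScalarTower A₀ B₀ M₀]
    [Module.FinitePresentation B₀ M₀],
    Module.Flat A (A ⊗[A₀] M₀) ↔ ∃ i : ι, Module.Flat (G i) (G i ⊗[A₀] M₀)

section system

variable (A₁ A : Type u) [CommRing A₁] [CommRing A] [Algebra A₁ A]

/-- The directed system of finitely generated subalgebras. -/
abbrev FGSub : Type u := {C : Subalgebra A₁ A // C.FG}

/-- The system of finitely generated `A₁`-subalgebras of `A` is a directed colimit system. -/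
theorem isDirectedColimitRing_fgSub :
    FlatCA.IsDirectedColimitRing (fun C : FGSub A₁ A => ↥C.1)
      (fun i j h => (Subalgebra.inclusion (show i.1 ≤ j.1 from h)).toRingHom) A := by
  refine ⟨⟨fun a b => ⟨⟨a.1 ⊔ b.1, a.2.sup b.2⟩, (le_sup_left : a.1 ≤ a.1 ⊔ b.1),
    (le_sup_right : b.1 ≤ a.1 ⊔ b.1)⟩⟩, ⟨⟨⊥, Subalgebra.fg_bot⟩⟩, ?_, ?_, ?_, ?_, ?_⟩
  · intro i; ext x; rfl
  · intro i j k hij hjk; ext x; rfl
  · intro i j h; ext x; rfl
  · intro a
    exact ⟨⟨Algebra.adjoin A₁ {a}, Subalgebra.fg_def.mpr ⟨{a}, Set.finite_singleton a, rfl⟩⟩,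
      ⟨a, Algebra.subset_adjoin (Set.mem_singleton a)⟩, rfl⟩
  · intro i x hx
    refine ⟨i, le_rfl, ?_⟩
    have : x = 0 := Subtype.ext hx
    rw [this, map_zero]

end system

/-- Ring-level Noetherian approximation of flat finitely presented algebras. -/
theorem exists_flat_model (H : Hyp4848.{u}) (A B : Type u) [CommRing A] [CommRing B] [Algebra A B]
    [Algebra.FinitePresentation A B] [Module.Flat A B] :
    ∃ (A₀ : Type u) (_ : CommRing A₀) (_ : Algebra A₀ A) (B₀ : Type u) (_ : CommRing B₀)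
      (_ : Algebra A₀ B₀), Algebra.FiniteType ℤ A₀ ∧ Algebra.FinitePresentation A₀ B₀ ∧
        Module.Flat A₀ B₀ ∧ Nonempty (A ⊗[A₀] B₀ ≃ₐ[A] B) := by
  obtain ⟨A₁, B₁, _, _, hfg, hfp, ⟨e₁⟩⟩ := Groth.Agent.H17.exists_noetherian_model A B
  have hft₁ : Algebra.FiniteType ℤ A₁ := (Subalgebra.fg_iff_finiteType A₁).mp hfg
  have hflat : Module.Flat A (A ⊗[A₁] B₁) :=
    Module.Flat.of_linearEquiv e₁.symm.toLinearEquiv
  obtain ⟨C, hC⟩ := (H (A₀ := A₁) (fun C : FGSub A₁ A => ↥C.1)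
    (fun i j h => Subalgebra.inclusion (show i.1 ≤ j.1 from h)) A
    (isDirectedColimitRing_fgSub A₁ A) (B₀ := B₁) B₁).mp hflat
  have hftC : Algebra.FiniteType ℤ C.1 := by
    have h1 : Algebra.FiniteType A₁ C.1 := (Subalgebra.fg_iff_finiteType C.1).mp C.2
    exact Algebra.FiniteType.trans hft₁ h1
  refine ⟨C.1, inferInstance, inferInstance, C.1 ⊗[A₁] B₁, inferInstance, inferInstance, hftC,
    inferInstance, hC, ⟨?_⟩⟩
  exact (Algebra.TensorProduct.cancelBaseChange A₁ C.1 A A B₁).trans e₁.symm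

open Groth.Agent.H49.RelGCIModelScheme in
/-- **S9759**, modulo S4848. -/
theorem main (H : Hyp4848.{u}) {X S : Scheme.{u}} (f : X ⟶ S) [IsAffine X] [IsAffine S]
    [LocallyOfFinitePresentation f] [Flat f] :
    ∃ (X₀ S₀ : Scheme.{u}) (f₀ : X₀ ⟶ S₀) (g : S ⟶ S₀) (g' : X ⟶ X₀), IsAffine X₀ ∧ IsAffine S₀ ∧
      IsPullback g' f f₀ g ∧
      Algebra.FiniteType ℤ Γ(S₀, ⊤) ∧ LocallyOfFiniteType f₀ ∧ Flat f₀ := by
  have hφ : f.appTop.hom.FinitePresentation :=
    (HasRingHomProperty.iff_of_isAffine (P := @LocallyOfFinitePresentation)).mp inferInstance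
  have hφfl : f.appTop.hom.Flat :=
    (HasRingHomProperty.iff_of_isAffine (P := @Flat)).mp inferInstance
  algebraize [f.appTop.hom]
  obtain ⟨A₀, _, _, B₀, _, _, hft, hfp, hfl, ⟨e⟩⟩ := exists_flat_model H Γ(S, ⊤) Γ(X, ⊤)
  have hpo := isPushout_of_algEquiv e
  have hpb := (isPullback_SpecMap_of_isPushout _ _ _ _ hpo).flip
  have hsq : IsPullback X.isoSpec.hom f (Spec.map (CommRingCat.ofHom (algebraMap Γ(S, ⊤) Γ(X, ⊤))))
      S.isoSpec.hom :=
    IsPullback.of_horiz_isIso ⟨Scheme.isoSpec_hom_naturality f⟩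
  have hpb' := hsq.paste_horiz hpb
  refine ⟨Spec (.of B₀), Spec (.of A₀), Spec.map (CommRingCat.ofHom (algebraMap A₀ B₀)), _, _,
    inferInstance, inferInstance, hpb', ?_, ?_, ?_⟩
  · exact Algebra.FiniteType.equiv hft
      ((Scheme.ΓSpecIso (.of A₀)).symm.commRingCatIsoToRingEquiv.toIntAlgEquiv)
  · rw [HasRingHomProperty.Spec_iff (P := @LocallyOfFiniteType)]
    exact RingHom.finiteType_algebraMap.mpr inferInstance
  · rw [HasRingHomProperty.Spec_iff (P := @Flat)]
    exact RingHom.flat_algebraMap_iff.mpr hfl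

end Groth.Agent.H49.FlatApprox
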