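import Mathlib.RingTheory.Spectrum.Prime.ConstructibleSet
import Mathlib.RingTheory.Adjoin.FG

set_option autoImplicit false
universe u

namespace Groth.Agent.H49.ConstrLimit

open PrimeSpectrum Topology

/-- Limit argument for constructible sets: if the image of `Spec A` in `Spec A₀` (with `A₀ ⊆ A` a
finitely generated subring) lies in a constructible set `E`, then so does the image of `Spec A₁` for
some finitely generated `A₁` with `A₀ ⊆ A₁ ⊆ A`. -/
theorem exists_fg_subalgebra_range_comap_subset {A : Type u} [CommRing A] (A₀ : Subalgebra ℤ A)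
    (hA₀ : A₀.FG) (E : Set (PrimeSpectrum A₀)) (hE : IsConstructible E)
    (h : Set.range (comap (algebraMap A₀ A)) ⊆ E) :
    ∃ (A₁ : Subalgebra ℤ A) (h₀₁ : A₀ ≤ A₁), A₁.FG ∧
      Set.range (comap (Subalgebra.inclusion h₀₁).toRingHom) ⊆ E := by
  classical
  obtain ⟨S, hS⟩ := exists_constructibleSetData_iff.mpr hE.compl
  have key : ∀ C ∈ S, ∃ (N : ℕ) (x : Fin C.n → A),
      (algebraMap A₀ A C.f) ^ N = ∑ j, x j * algebraMap A₀ A (C.g j) := by
    intro C hC
    have hsub : zeroLocus (Set.range (fun j => algebraMap A₀ A (C.g j))) ⊆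
        zeroLocus {algebraMap A₀ A C.f} := by
      intro q hq
      by_contra hqf
      have hmem : comap (algebraMap A₀ A) q ∈ C.toSet := by
        refine ⟨?_, ?_⟩
        · rintro _ ⟨j, rfl⟩
          exact hq ⟨j, rfl⟩
        · intro hf
          apply hqf
          intro _ hx
          rw [Set.mem_singleton_iff] at hx
          subst hx
          exact hf (Set.mem_singleton _)
      have h1 : comap (algebraMap A₀ A) q ∈ Eᶜ := by
        rw [← hS]
        exact Set.mem_biUnion hC hmem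
      exact h1 (h ⟨q, rfl⟩)
    rw [← zeroLocus_span (Set.range _), ← zeroLocus_span {_}, zeroLocus_subset_zeroLocus_iff,
      Ideal.span_le, Set.singleton_subset_iff, SetLike.mem_coe] at hsub
    obtain ⟨N, hN⟩ := hsub
    obtain ⟨x, hx⟩ := (Ideal.mem_span_range_iff_exists_fun).mp hN
    exact ⟨N, x, hx.symm⟩
  choose! N x hx using key
  let T : Set A := ⋃ C ∈ S, Set.range (x C)
  have hT : T.Finite := S.finite_toSet.biUnion (fun C _ => Set.finite_range _)
  let A₁ : Subalgebra ℤ A := A₀ ⊔ Algebra.adjoin ℤ T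
  have h₀₁ : A₀ ≤ A₁ := le_sup_left
  refine ⟨A₁, h₀₁, hA₀.sup ⟨hT.toFinset, by simp⟩, ?_⟩
  rintro _ ⟨q, rfl⟩
  by_contra hq
  have hq' : comap (Subalgebra.inclusion h₀₁).toRingHom q ∈ S.toSet := by
    rw [hS]; exact hq
  obtain ⟨C, hC, hg, hf⟩ := Set.mem_iUnion₂.mp hq'
  apply hf
  have hxmem : ∀ j, x C j ∈ A₁ := fun j =>
    (le_sup_right : Algebra.adjoin ℤ T ≤ A₁)
      (Algebra.subset_adjoin (Set.mem_biUnion hC ⟨j, rfl⟩))
  have hid : (Subalgebra.inclusion h₀₁ C.f) ^ (N C) =
      ∑ j, (⟨x C j, hxmem j⟩ : A₁) * Subalgebra.inclusion h₀₁ (C.g j) := by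
    apply Subtype.ext
    have := hx C hC
    simpa using this
  have hmem : (Subalgebra.inclusion h₀₁ C.f) ^ (N C) ∈ q.asIdeal := by
    rw [hid]
    refine sum_mem (fun j _ => Ideal.mul_mem_left _ _ ?_)
    exact hg ⟨j, rfl⟩
  intro _ hx'
  rw [Set.mem_singleton_iff] at hx'
  subst hx'
  exact q.2.mem_of_pow_mem _ hmem

end Groth.Agent.H49.ConstrLimit
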