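import Groth.Agent.H49.FibreDimConstr
import Groth.Agent.H49.ConstrLimit
import Groth.Prelude.Def_RegImm

set_option autoImplicit false
universe u

open CategoryTheory CategoryTheory.Limits AlgebraicGeometry Opposite TopologicalSpace Topology
open TensorProduct

namespace Groth.Agent.H49.RelGCIModel

/-- The fibre of `Spec S → Spec R` over `p` has the Krull dimension of the fibre ring. -/
theorem topologicalKrullDim_fiber_SpecMap (R S : Type u) [CommRing R] [CommRing S] [Algebra R S]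
    (p : PrimeSpectrum R) :
    topologicalKrullDim ↑((Spec.map (CommRingCat.ofHom (algebraMap R S))).fiber p) =
      ringKrullDim (p.asIdeal.Fiber S) := by
  let e := Arrow.leftFunc.mapIso (Spec.fiberToSpecResidueFieldIso R S p)
  have h1 : topologicalKrullDim ↑((Spec.map (CommRingCat.ofHom (algebraMap R S))).fiber p) =
      topologicalKrullDim ↥(Spec (CommRingCat.of (p.asIdeal.Fiber S))) :=
    IsHomeomorph.topologicalKrullDim_eq _ e.hom.homeomorph.isHomeomorph
  rw [h1]
  exact PrimeSpectrum.topologicalKrullDim_eq_ringKrullDim _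

/-- Ring form of the constructibility of conditions on the fibre dimension. -/
theorem isConstructible_setOf_ringKrullDim_fiber (R S : Type u) [CommRing R] [CommRing S]
    [Algebra R S] [IsNoetherianRing R] [Algebra.FiniteType R S] (P : WithBot ℕ∞ → Prop) :
    IsConstructible {p : PrimeSpectrum R | P (ringKrullDim (p.asIdeal.Fiber S))} := by
  have hft : LocallyOfFiniteType (Spec.map (CommRingCat.ofHom (algebraMap R S))) := by
    rw [HasRingHomProperty.Spec_iff (P := @LocallyOfFiniteType)]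
    exact RingHom.finiteType_algebraMap.mpr inferInstance
  have := FibreDimConstr.isConstructible_setOf_fiber_dim_Spec (.of R)
    (Spec.map (CommRingCat.ofHom (algebraMap R S))) P
  have key : ∀ p : PrimeSpectrum R, topologicalKrullDim
      ↑((Spec.map (CommRingCat.ofHom (algebraMap R S))).fiber p) =
        ringKrullDim (p.asIdeal.Fiber S) := topologicalKrullDim_fiber_SpecMap R S
  have h2 : {y : ↥(Spec (CommRingCat.of R)) | P (topologicalKrullDim
        ↑((Spec.map (CommRingCat.ofHom (algebraMap R S))).fiber y))} =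
      {y : ↥(Spec (CommRingCat.of R)) | P (ringKrullDim
        ((show PrimeSpectrum R from y).asIdeal.Fiber S))} := by
    ext y
    exact iff_of_eq (congrArg P (key y))
  rw [h2] at this
  exact this

/-- Fibre dimension is invariant under base change (ring form). -/
theorem ringKrullDim_fiber_eq_of_isPushout {R₀ R₁ S₀ S₁ : Type u} [CommRing R₀] [CommRing R₁]
    [CommRing S₀] [CommRing S₁] [Algebra R₀ R₁] [Algebra R₀ S₀] [Algebra R₁ S₁]
    [Algebra.FiniteType R₀ S₀] (β : S₀ →+* S₁)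
    (h : IsPushout (CommRingCat.ofHom (algebraMap R₀ R₁)) (CommRingCat.ofHom (algebraMap R₀ S₀))
      (CommRingCat.ofHom (algebraMap R₁ S₁)) (CommRingCat.ofHom β)) (p₁ : PrimeSpectrum R₁) :
    ringKrullDim (p₁.asIdeal.Fiber S₁) =
      ringKrullDim ((PrimeSpectrum.comap (algebraMap R₀ R₁) p₁).asIdeal.Fiber S₀) := by
  have hft : LocallyOfFiniteType (Spec.map (CommRingCat.ofHom (algebraMap R₀ S₀))) := by
    rw [HasRingHomProperty.Spec_iff (P := @LocallyOfFiniteType)]
    exact RingHom.finiteType_algebraMap.mpr inferInstance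
  have hpb := (isPullback_SpecMap_of_isPushout _ _ _ _ h).flip
  have := FibreDimBC.topologicalKrullDim_fiber_eq
    (Spec.map (CommRingCat.ofHom (algebraMap R₀ S₀))) (Spec.map (CommRingCat.ofHom (algebraMap R₀ R₁)))
    (Spec.map (CommRingCat.ofHom (algebraMap R₁ S₁))) (Spec.map (CommRingCat.ofHom β)) hpb p₁
  rw [topologicalKrullDim_fiber_SpecMap] at this
  rw [this]
  exact topologicalKrullDim_fiber_SpecMap R₀ S₀ _

/-- Fibre dimension is invariant under base change (ring form, tensor product). -/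
theorem ringKrullDim_fiber_eq_of_algEquiv {R₀ R₁ S₀ S₁ : Type u} [CommRing R₀] [CommRing R₁]
    [CommRing S₀] [CommRing S₁] [Algebra R₀ R₁] [Algebra R₀ S₀] [Algebra R₁ S₁]
    [Algebra.FiniteType R₀ S₀] (e : R₁ ⊗[R₀] S₀ ≃ₐ[R₁] S₁) (p₁ : PrimeSpectrum R₁) :
    ringKrullDim (p₁.asIdeal.Fiber S₁) =
      ringKrullDim ((PrimeSpectrum.comap (algebraMap R₀ R₁) p₁).asIdeal.Fiber S₀) := by
  let β : S₀ →+* S₁ := (e.toRingEquiv.toRingHom).comp Algebra.TensorProduct.includeRight.toRingHom
  have hpo : IsPushout (CommRingCat.ofHom (algebraMap R₀ R₁))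
      (CommRingCat.ofHom (algebraMap R₀ S₀)) (CommRingCat.ofHom (algebraMap R₁ S₁))
      (CommRingCat.ofHom β) := by
    refine (CommRingCat.isPushout_tensorProduct R₀ R₁ S₀).of_iso (Iso.refl _) (Iso.refl _)
      (Iso.refl _) e.toRingEquiv.toCommRingCatIso (by simp) (by simp) ?_ ?_
    · ext a
      simp
      have h1 : (a ⊗ₜ[R₀] (1 : S₀)) = algebraMap R₁ (R₁ ⊗[R₀] S₀) a := rfl
      rw [h1, AlgEquiv.commutes]
    · ext b
      simp [β]
  exact ringKrullDim_fiber_eq_of_isPushout β hpo p₁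

/-- Base change of a presented algebra `R[x]/(F)` along an injective ring map does not change the
fibre dimensions. -/
theorem ringKrullDim_fiber_relGCIRing_eq {R₀ R₁ : Type u} [CommRing R₀] [CommRing R₁]
    [Algebra R₀ R₁] (hinj : Function.Injective (algebraMap R₀ R₁)) (n c : ℕ)
    (F₀ : Fin c → MvPolynomial (Fin n) R₀) (p₁ : PrimeSpectrum R₁) :
    ringKrullDim (p₁.asIdeal.Fiber
        (Synt.RelGCIRing R₁ n c (fun i => MvPolynomial.map (algebraMap R₀ R₁) (F₀ i)))) =
      ringKrullDim ((PrimeSpectrum.comap (algebraMap R₀ R₁) p₁).asIdeal.Fiber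
        (Synt.RelGCIRing R₀ n c F₀)) := by
  let F₁ : Fin c → MvPolynomial (Fin n) R₁ := fun i => MvPolynomial.map (algebraMap R₀ R₁) (F₀ i)
  let P₁ : Algebra.Presentation R₁ (Synt.RelGCIRing R₁ n c F₁) (Fin n) (Fin c) :=
    Algebra.Presentation.naive (v := F₁)
  haveI : IsScalarTower R₀ R₁ (Synt.RelGCIRing R₁ n c F₁) := inferInstance
  haveI : P₁.HasCoeffs R₀ := by
    refine ⟨?_⟩
    intro x hx
    obtain ⟨i, hi⟩ := Set.mem_iUnion.mp hx
    have hmem : F₁ i ∈ Set.range (MvPolynomial.map (algebraMap R₀ R₁)) := ⟨F₀ i, rfl⟩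
    rw [MvPolynomial.mem_range_map_iff_coeffs_subset] at hmem
    exact hmem hi
  have hrel : P₁.relationOfHasCoeffs R₀ = F₀ := funext fun i =>
    MvPolynomial.map_injective _ hinj (P₁.map_relationOfHasCoeffs R₀ i)
  have key := ringKrullDim_fiber_eq_of_algEquiv (P₁.tensorModelOfHasCoeffsEquiv R₀) p₁
  have aux : ∀ (G : Fin c → MvPolynomial (Fin n) R₀), G = F₀ →
      ringKrullDim ((PrimeSpectrum.comap (algebraMap R₀ R₁) p₁).asIdeal.Fiber
        (Synt.RelGCIRing R₀ n c G)) =
      ringKrullDim ((PrimeSpectrum.comap (algebraMap R₀ R₁) p₁).asIdeal.Fiber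
        (Synt.RelGCIRing R₀ n c F₀)) := by
    rintro G rfl
    rfl
  exact key.trans (aux _ hrel)


theorem ringKrullDim_ne_bot_iff_nontrivial (A : Type*) [CommRing A] :
    ringKrullDim A ≠ ⊥ ↔ Nontrivial A := by
  constructor
  · intro h
    by_contra hA
    rw [not_nontrivial_iff_subsingleton] at hA
    exact h ringKrullDim_eq_bot_of_subsingleton
  · intro hA h
    have := ringKrullDim_nonneg_of_nontrivial (R := A)
    rw [h] at this
    exact absurd this (by simp)

/-- A relative global complete intersection descends to a finitely generated `ℤ`-subalgebra. -/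
theorem exists_model_isRelGCI (R : Type u) [CommRing R] (n c : ℕ)
    (F : Fin c → MvPolynomial (Fin n) R) (h : Synt.IsRelGCI R n c F) :
    ∃ (R₀ : Subalgebra ℤ R) (F₀ : Fin c → MvPolynomial (Fin n) R₀), Algebra.FiniteType ℤ R₀ ∧
      (∀ i, MvPolynomial.map (algebraMap R₀ R) (F₀ i) = F i) ∧ Synt.IsRelGCI R₀ n c F₀ := by
  classical
  let T : Set R := ⋃ i, ((F i).coeffs : Set R)
  have hT : T.Finite := Set.finite_iUnion fun _ => Finset.finite_toSet _
  let R₀ : Subalgebra ℤ R := Algebra.adjoin ℤ T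
  have hfg₀ : R₀.FG := ⟨hT.toFinset, by simp [R₀]⟩
  have hlift : ∀ i, F i ∈ Set.range (MvPolynomial.map (algebraMap R₀ R)) := by
    intro i
    rw [MvPolynomial.mem_range_map_iff_coeffs_subset]
    intro x hx
    exact ⟨⟨x, Algebra.subset_adjoin (Set.mem_iUnion.mpr ⟨i, hx⟩)⟩, rfl⟩
  choose F₀ hF₀ using hlift
  have hinj₀ : Function.Injective (algebraMap R₀ R) := Subtype.val_injective
  have hft₀ : Algebra.FiniteType ℤ R₀ := (Subalgebra.fg_iff_finiteType R₀).mp hfg₀
  have hN₀ : IsNoetherianRing R₀ := Algebra.FiniteType.isNoetherianRing ℤ R₀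
  let Q : WithBot ℕ∞ → Prop := fun δ => δ ≠ ⊥ → c ≤ n ∧ δ = ((n - c : ℕ) : WithBot ℕ∞)
  let E : Set (PrimeSpectrum R₀) :=
    {p | Q (ringKrullDim (p.asIdeal.Fiber (Synt.RelGCIRing R₀ n c F₀)))}
  have hE : IsConstructible E :=
    isConstructible_setOf_ringKrullDim_fiber R₀ (Synt.RelGCIRing R₀ n c F₀) Q
  have aux : ∀ (G : Fin c → MvPolynomial (Fin n) R), G = F → ∀ p : PrimeSpectrum R,
      Q (ringKrullDim (p.asIdeal.Fiber (Synt.RelGCIRing R n c G))) := by
    rintro G rfl p hne
    exact h p ((ringKrullDim_ne_bot_iff_nontrivial _).mp hne)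
  have himg : Set.range (PrimeSpectrum.comap (algebraMap R₀ R)) ⊆ E := by
    rintro _ ⟨p, rfl⟩
    change Q (ringKrullDim ((PrimeSpectrum.comap (algebraMap R₀ R) p).asIdeal.Fiber
      (Synt.RelGCIRing R₀ n c F₀)))
    rw [← ringKrullDim_fiber_relGCIRing_eq hinj₀ n c F₀ p]
    exact aux _ (funext hF₀) p
  obtain ⟨R₁, h₀₁, hfg₁, himg₁⟩ :=
    ConstrLimit.exists_fg_subalgebra_range_comap_subset R₀ hfg₀ E hE himg
  letI : Algebra R₀ R₁ := (Subalgebra.inclusion h₀₁).toRingHom.toAlgebra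
  let F₁ : Fin c → MvPolynomial (Fin n) R₁ :=
    fun i => MvPolynomial.map (algebraMap R₀ R₁) (F₀ i)
  refine ⟨R₁, F₁, (Subalgebra.fg_iff_finiteType R₁).mp hfg₁, ?_, ?_⟩
  · intro i
    simp only [F₁]
    rw [MvPolynomial.map_map]
    exact hF₀ i
  · intro p₁ hnt
    have hdim := ringKrullDim_fiber_relGCIRing_eq (Subalgebra.inclusion_injective h₀₁) n c F₀ p₁
    have hmem : PrimeSpectrum.comap (algebraMap R₀ R₁) p₁ ∈ E := himg₁ ⟨p₁, rfl⟩
    have hmem' : Q (ringKrullDim ((PrimeSpectrum.comap (algebraMap R₀ R₁) p₁).asIdeal.Fiber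
      (Synt.RelGCIRing R₀ n c F₀))) := hmem
    rw [← hdim] at hmem'
    have hne : ringKrullDim (p₁.asIdeal.Fiber (Synt.RelGCIRing R₁ n c F₁)) ≠ ⊥ :=
      (ringKrullDim_ne_bot_iff_nontrivial (p₁.asIdeal.Fiber (Synt.RelGCIRing R₁ n c F₁))).mpr hnt
    exact hmem' hne

end Groth.Agent.H49.RelGCIModel
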