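import Mathlib

/-!
# Base change of a slice (helper49)

* `base_change`: if `x` is regular on `C₀` with `C₀ ⧸ (x)` flat over `A₀`, then `1 ⊗ x` is regular on
  `A ⊗[A₀] C₀` and the quotient is flat over `A`.
* `isLocalization_away_tensor`: `A ⊗[A₀] (B₀)_g = (A ⊗[A₀] B₀)_{1 ⊗ g}`.
* `isLocalization_of_equiv`: transport of localizations along a ring isomorphism of the base.
-/

open TensorProduct
universe u
set_option autoImplicit false
set_option linter.style.haveILetI false

namespace Groth.Agent.H49.SliceBC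

/-- Base change of "regular element with flat quotient". -/
theorem base_change (A₀ A C₀ : Type u) [CommRing A₀] [CommRing A] [CommRing C₀] [Algebra A₀ A]
    [Algebra A₀ C₀] (x : C₀) (hx : x ∈ nonZeroDivisors C₀)
    (hfl : Module.Flat A₀ (C₀ ⧸ Ideal.span {x})) :
    ((1 : A) ⊗ₜ[A₀] x) ∈ nonZeroDivisors (A ⊗[A₀] C₀) ∧
      Module.Flat A ((A ⊗[A₀] C₀) ⧸ Ideal.span {((1 : A) ⊗ₜ[A₀] x)}) := by
  constructor
  · rw [mem_nonZeroDivisors_iff_right]
    intro y hy
    let μ : C₀ →ₗ[A₀] C₀ := (LinearMap.lsmul C₀ C₀ x).restrictScalars A₀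
    have hμa : ∀ b, μ b = x * b := fun b => rfl
    let π : C₀ →ₗ[A₀] C₀ ⧸ Ideal.span {x} := (Submodule.mkQ (Ideal.span {x})).restrictScalars A₀
    have hπ : Function.Surjective π := fun y => by
      obtain ⟨b, rfl⟩ := Submodule.Quotient.mk_surjective _ y
      exact ⟨b, rfl⟩
    have hμ : Function.Injective μ := by
      rw [injective_iff_map_eq_zero]
      intro b hb
      exact (mem_nonZeroDivisors_iff_left.mp hx) b hb
    have H : Function.Exact μ π := by
      intro b
      change Submodule.mkQ (Ideal.span {x}) b = 0 ↔ _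
      rw [Submodule.mkQ_apply, Submodule.Quotient.mk_eq_zero, Ideal.mem_span_singleton']
      constructor
      · rintro ⟨a, rfl⟩; exact ⟨a, mul_comm _ _⟩
      · rintro ⟨a, rfl⟩; exact ⟨a, mul_comm _ _⟩
    have hinj := LinearMap.lTensor_injective_of_exact_of_flat π hπ μ hμ H A
    have hmul : ∀ y : A ⊗[A₀] C₀, μ.lTensor A y = y * ((1 : A) ⊗ₜ[A₀] x) := by
      intro y
      induction y using TensorProduct.induction_on with
      | zero => simp
      | tmul a b =>
        simp only [LinearMap.lTensor_tmul, Algebra.TensorProduct.tmul_mul_tmul, mul_one, hμa]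
        rw [mul_comm]
      | add y₁ y₂ h₁ h₂ => rw [map_add, h₁, h₂, add_mul]
    apply hinj
    rw [hmul, hy, map_zero]
  · have hI : (Ideal.span {x}).map (Algebra.TensorProduct.includeRight (R := A₀) (A := A) (B := C₀)) =
        Ideal.span {((1 : A) ⊗ₜ[A₀] x)} := by
      rw [Ideal.map_span, Set.image_singleton, Algebra.TensorProduct.includeRight_apply]
    have e := Algebra.TensorProduct.tensorQuotientEquiv (R := A₀) A C₀ A (Ideal.span {x})
    rw [hI] at e
    exact Module.Flat.of_linearEquiv e.toLinearEquiv.symm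


section away
variable (A₀ A B₀ C : Type u) [CommRing A₀] [CommRing A] [CommRing B₀] [CommRing C]
  [Algebra A₀ A] [Algebra A₀ B₀] [Algebra A₀ C] [Algebra B₀ C] [IsScalarTower A₀ B₀ C]

/-- The `A ⊗ B₀`-algebra structure on `A ⊗ C` for a `B₀`-algebra `C`. -/
noncomputable abbrev tensorAlg : Algebra (A ⊗[A₀] B₀) (A ⊗[A₀] C) :=
  (Algebra.TensorProduct.map (AlgHom.id A A) (IsScalarTower.toAlgHom A₀ B₀ C)).toRingHom.toAlgebra

attribute [local instance] Algebra.TensorProduct.rightAlgebra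

theorem isLocalization_away_tensor (g₀ : B₀) [IsLocalization.Away g₀ C] :
    letI := tensorAlg A₀ A B₀ C
    IsLocalization.Away ((1 : A) ⊗ₜ[A₀] g₀) (A ⊗[A₀] C) := by
  letI := tensorAlg A₀ A B₀ C
  letI : Algebra B₀ (A ⊗[A₀] C) :=
    ((algebraMap C (A ⊗[A₀] C)).comp (algebraMap B₀ C)).toAlgebra
  haveI : IsScalarTower B₀ C (A ⊗[A₀] C) := IsScalarTower.of_algebraMap_eq (fun _ => rfl)
  haveI : IsScalarTower B₀ (A ⊗[A₀] B₀) (A ⊗[A₀] C) := IsScalarTower.of_algebraMap_eq (fun b => by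
    change (1 : A) ⊗ₜ[A₀] (algebraMap B₀ C b) =
      Algebra.TensorProduct.map (AlgHom.id A A) (IsScalarTower.toAlgHom A₀ B₀ C) ((1 : A) ⊗ₜ[A₀] b)
    simp)
  haveI : IsScalarTower A₀ (A ⊗[A₀] B₀) (A ⊗[A₀] C) := IsScalarTower.of_algebraMap_eq (fun a => by
    change _ = Algebra.TensorProduct.map (AlgHom.id A A) (IsScalarTower.toAlgHom A₀ B₀ C) _
    simp [Algebra.TensorProduct.algebraMap_apply])
  haveI : IsScalarTower A (A ⊗[A₀] B₀) (A ⊗[A₀] C) := IsScalarTower.of_algebraMap_eq (fun a => by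
    change _ = Algebra.TensorProduct.map (AlgHom.id A A) (IsScalarTower.toAlgHom A₀ B₀ C) _
    simp [Algebra.TensorProduct.algebraMap_apply])
  have h1 : Algebra.IsPushout B₀ C (A ⊗[A₀] B₀) (A ⊗[A₀] C) :=
    (Algebra.IsPushout.comp_iff A₀ B₀ A (A ⊗[A₀] B₀) (T := C) (T' := A ⊗[A₀] C)).mp inferInstance
  have h2 : IsLocalization (Algebra.algebraMapSubmonoid (A ⊗[A₀] B₀) (Submonoid.powers g₀))
      (A ⊗[A₀] C) :=
    (Algebra.isLocalization_iff_isPushout (Submonoid.powers g₀) C).mpr h1.symm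
  have h3 : Algebra.algebraMapSubmonoid (A ⊗[A₀] B₀) (Submonoid.powers g₀) =
      Submonoid.powers ((1 : A) ⊗ₜ[A₀] g₀) := by
    rw [Algebra.algebraMapSubmonoid, Submonoid.map_powers]
    rfl
  rw [h3] at h2
  exact h2

end away


/-- Transport of a localization along an isomorphism of the base ring. -/
theorem isLocalization_of_equiv {R R' L : Type*} [CommRing R] [CommRing R'] [CommRing L]
    [Algebra R L] [Algebra R' L] (e : R' ≃+* R)
    (hcomp : ∀ x, algebraMap R' L x = algebraMap R L (e x))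
    (M : Submonoid R) (M' : Submonoid R') (hM : ∀ x, x ∈ M' ↔ e x ∈ M) [IsLocalization M L] :
    IsLocalization M' L where
  map_units y := by
    rw [hcomp]
    exact IsLocalization.map_units L (⟨e y, (hM _).mp y.2⟩ : M)
  surj z := by
    obtain ⟨⟨r, m⟩, hrm⟩ := IsLocalization.surj M z
    refine ⟨⟨e.symm r, ⟨e.symm m, (hM _).mpr (by rw [RingEquiv.apply_symm_apply]; exact m.2)⟩⟩, ?_⟩
    simp only [hcomp, RingEquiv.apply_symm_apply]
    exact hrm
  exists_of_eq {a b} hab := by
    rw [hcomp, hcomp] at hab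
    obtain ⟨c, hc⟩ := IsLocalization.exists_of_eq (M := M) hab
    refine ⟨⟨e.symm c, (hM _).mpr (by rw [RingEquiv.apply_symm_apply]; exact c.2)⟩, ?_⟩
    apply e.injective
    simp only [map_mul, RingEquiv.apply_symm_apply]
    exact hc

end Groth.Agent.H49.SliceBC
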