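import Mathlib
import Groth.Agent.S0395
import Groth.Agent.H1.FlatLocusA
import Groth.Agent.H1.FlatLocusOpen
import Groth.Agent.H24.GenericFlat

/-!
# Slicing in a Noetherian model (helper49)

* `flat_of_isLocalizedModule_of_tor`: flatness of a localization of a `B`-module at a submonoid of
  `B` from torsion of the `Tor` kernels.
* `local_model`: S0395 at the local rings of a flat finite type algebra over a Noetherian ring.
* `spread_model`: spreading out regularity of `h₀` and flatness of the quotient from the local ring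
  at `q₀` to a principal open neighbourhood.
-/

open TensorProduct
universe u
set_option autoImplicit false

namespace Groth.Agent.H49.SliceModel

section crit
variable {A B M M' : Type*} [CommRing A] [CommRing B] [Algebra A B]
  [AddCommGroup M] [Module A M] [Module B M] [IsScalarTower A B M]
  [AddCommGroup M'] [Module A M'] [Module B M'] [IsScalarTower A B M']

/-- If the kernels of `M ⊗ I → M` are `T`-torsion (`T` a submonoid of the algebra `B`), then any
localization of `M` at `T` is `A`-flat. -/
theorem flat_of_isLocalizedModule_of_tor (T : Submonoid B) (g : M →ₗ[B] M') [IsLocalizedModule T g]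
    (h : ∀ (I : Ideal A) (z : M ⊗[A] I), LinearMap.lTensor M I.subtype z = 0 →
      ∃ t ∈ T, t • z = 0) : Module.Flat A M' := by
  rw [Module.Flat.iff_lTensor_injective']
  intro I
  rw [injective_iff_map_eq_zero]
  intro z hz
  have hlocI : IsLocalizedModule T (AlgebraTensorModule.rTensor A I g) := inferInstance
  have hlocA : IsLocalizedModule T (AlgebraTensorModule.rTensor A A g) := inferInstance
  have hB' : ∀ (b : B) (y : M' ⊗[A] I), LinearMap.lTensor M' I.subtype (b • y) =
      b • LinearMap.lTensor M' I.subtype y :=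
    fun b y => (AlgebraTensorModule.lTensor B M' I.subtype).map_smul b y
  have hB : ∀ (b : B) (y : M ⊗[A] I), LinearMap.lTensor M I.subtype (b • y) =
      b • LinearMap.lTensor M I.subtype y :=
    fun b y => (AlgebraTensorModule.lTensor B M I.subtype).map_smul b y
  obtain ⟨⟨w, s⟩, hw⟩ := hlocI.surj z
  have hw' : (s : B) • z = AlgebraTensorModule.rTensor A I g w := hw
  have hcomm : ∀ y : M ⊗[A] I,
      LinearMap.lTensor M' I.subtype (AlgebraTensorModule.rTensor A I g y) =
        AlgebraTensorModule.rTensor A A g (LinearMap.lTensor M I.subtype y) :=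
    fun y => Groth.Agent.H24.GenericFlat.rTensor_lTensor_comm I (g.restrictScalars A) y
  have h1 : AlgebraTensorModule.rTensor A A g (LinearMap.lTensor M I.subtype w) =
      AlgebraTensorModule.rTensor A A g 0 := by
    rw [map_zero, ← hcomm, ← hw', hB', hz, smul_zero]
  obtain ⟨t, ht⟩ := hlocA.exists_of_eq h1
  rw [smul_zero, Submonoid.smul_def, ← hB] at ht
  obtain ⟨t', ht'T, ht'⟩ := h I _ ht
  have h2 : (t' * t * s : B) • z = 0 := by
    rw [mul_smul, hw', ← map_smul, mul_smul, ht', map_zero]
  have hmem : t' * t * s ∈ T := T.mul_mem (T.mul_mem ht'T t.2) s.2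
  have := IsLocalizedModule.smul_injective (AlgebraTensorModule.rTensor A I g) ⟨_, hmem⟩
  apply this
  change (t' * t * s : B) • z = (t' * t * s : B) • 0
  rw [h2, smul_zero]

end crit

/-- If `M` is `A`-flat at all primes of `B` not containing `g`, the `Tor` kernels are `g`-power
torsion. -/
theorem tor_of_forall_flat {A B M : Type u} [CommRing A] [CommRing B] [Algebra A B]
    [AddCommGroup M] [Module A M] [Module B M] [IsScalarTower A B M] (g : B)
    (hsub : ∀ (q' : Ideal B) [q'.IsPrime], g ∉ q' →
      Module.Flat A (LocalizedModule q'.primeCompl M))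
    (I : Ideal A) (z : M ⊗[A] I) (hz : LinearMap.lTensor M I.subtype z = 0) :
    ∃ t ∈ Submonoid.powers g, t • z = 0 := by
  by_contra hcon
  push Not at hcon
  let J : Ideal B := LinearMap.ker (LinearMap.toSpanSingleton B _ z)
  have hJ : ∀ b : B, b ∈ J ↔ b • z = 0 := fun b => by
    simp [J, LinearMap.mem_ker, LinearMap.toSpanSingleton_apply]
  have hdisj : Disjoint (J : Set B) (Submonoid.powers g) := by
    rw [Set.disjoint_left]
    intro b hb hbT
    exact hcon b hbT ((hJ b).mp hb)
  obtain ⟨q', hq', hJq', hq'T⟩ := Ideal.exists_le_prime_disjoint J _ hdisj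
  have hgq' : g ∉ q' := fun h => Set.disjoint_left.mp hq'T h (Submonoid.mem_powers _)
  have := hq'
  have hflq' := hsub q' hgq'
  obtain ⟨g', hg', hgz⟩ := (Groth.Agent.H1.FlatLocus.flat_localizedModule_iff q').mp hflq' I z hz
  exact hg' (hJq' ((hJ g').mpr hgz))

theorem nzd_quotient_of_ideal_eq {R : Type*} [CommRing R] (I J : Ideal R) (h : I = J) (x : R)
    (hx : Ideal.Quotient.mk I x ∈ nonZeroDivisors (R ⧸ I)) :
    Ideal.Quotient.mk J x ∈ nonZeroDivisors (R ⧸ J) := by
  subst h; exact hx

/-- Local statement in the Noetherian model: S0395 at the local rings. -/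
theorem local_model (A₀ B₀ : Type u) [CommRing A₀] [CommRing B₀] [Algebra A₀ B₀]
    [IsNoetherianRing A₀] [Algebra.FiniteType A₀ B₀] [Module.Flat A₀ B₀]
    (q₀ : Ideal B₀) [q₀.IsPrime] (h₀ : B₀)
    (hreg : Ideal.Quotient.mk (((q₀.comap (algebraMap A₀ B₀)).map (algebraMap A₀ B₀)).map
        (algebraMap B₀ (Localization.AtPrime q₀))) (algebraMap B₀ (Localization.AtPrime q₀) h₀) ∈
      nonZeroDivisors _) :
    algebraMap B₀ (Localization.AtPrime q₀) h₀ ∈ nonZeroDivisors (Localization.AtPrime q₀) ∧
      Module.Flat A₀ (Localization.AtPrime q₀ ⧸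
        Ideal.span {algebraMap B₀ (Localization.AtPrime q₀) h₀}) := by
  have hB₀ : IsNoetherianRing B₀ := Algebra.FiniteType.isNoetherianRing A₀ B₀
  set p₀ := q₀.comap (algebraMap A₀ B₀) with hp₀
  have hfl : (algebraMap A₀ B₀).Flat := RingHom.flat_algebraMap_iff.mpr inferInstance
  have hfl' := RingHom.Flat.localRingHom hfl q₀ p₀ rfl
  have hloc := Localization.isLocalHom_localRingHom p₀ q₀ (algebraMap A₀ B₀) rfl
  algebraize [Localization.localRingHom p₀ q₀ (algebraMap A₀ B₀) rfl]
  have : IsLocalHom (algebraMap (Localization.AtPrime p₀) (Localization.AtPrime q₀)) := hloc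
  have : Module.Flat (Localization.AtPrime p₀) (Localization.AtPrime q₀) := hfl'
  have hN1 : IsNoetherianRing (Localization.AtPrime p₀) :=
    IsLocalization.isNoetherianRing p₀.primeCompl _ inferInstance
  have hN2 : IsNoetherianRing (Localization.AtPrime q₀) :=
    IsLocalization.isNoetherianRing q₀.primeCompl _ inferInstance
  have hcomp : (algebraMap (Localization.AtPrime p₀) (Localization.AtPrime q₀)).comp
      (algebraMap A₀ (Localization.AtPrime p₀)) =
      (algebraMap B₀ (Localization.AtPrime q₀)).comp (algebraMap A₀ B₀) := by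
    ext a
    exact Localization.localRingHom_to_map p₀ q₀ (algebraMap A₀ B₀) rfl a
  have hideal : ((p₀.map (algebraMap A₀ B₀)).map (algebraMap B₀ (Localization.AtPrime q₀))) =
      (IsLocalRing.maximalIdeal (Localization.AtPrime p₀)).map
        (algebraMap (Localization.AtPrime p₀) (Localization.AtPrime q₀)) := by
    rw [← Localization.AtPrime.map_eq_maximalIdeal, Ideal.map_map, Ideal.map_map, hcomp]
  have hreg' := nzd_quotient_of_ideal_eq _ _ hideal _ hreg
  obtain ⟨hflat, hnzd⟩ := Groth.Agent.S0395.result (R := Localization.AtPrime p₀)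
    (S := Localization.AtPrime q₀) (algebraMap B₀ (Localization.AtPrime q₀) h₀) hreg'
  refine ⟨hnzd, ?_⟩
  have hst : IsScalarTower A₀ (Localization.AtPrime p₀) (Localization.AtPrime q₀) :=
    IsScalarTower.of_algebraMap_eq (fun a => by
      rw [IsScalarTower.algebraMap_apply A₀ B₀ (Localization.AtPrime q₀)]
      exact (Localization.localRingHom_to_map p₀ q₀ (algebraMap A₀ B₀) rfl a).symm)
  exact Module.Flat.trans A₀ (Localization.AtPrime p₀) _


theorem localized'_span_singleton {R L : Type*} [CommRing R] [CommRing L] [Algebra R L]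
    (T : Submonoid R) [IsLocalization T L] (x : R) :
    Submodule.localized' L T (Algebra.linearMap R L) (Ideal.span {x}) =
      Ideal.span {algebraMap R L x} := by
  rw [Ideal.localized'_eq_map, Ideal.map_span, Set.image_singleton]

/-- Spreading out in the Noetherian model. -/
theorem spread_model (A₀ B₀ : Type u) [CommRing A₀] [CommRing B₀] [Algebra A₀ B₀]
    [IsNoetherianRing A₀] [Algebra.FiniteType A₀ B₀]
    (q₀ : Ideal B₀) [q₀.IsPrime] (h₀ : B₀)
    (hnzd : algebraMap B₀ (Localization.AtPrime q₀) h₀ ∈ nonZeroDivisors (Localization.AtPrime q₀))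
    (hflat : Module.Flat A₀ (Localization.AtPrime q₀ ⧸
        Ideal.span {algebraMap B₀ (Localization.AtPrime q₀) h₀})) :
    ∃ g₀ : B₀, g₀ ∉ q₀ ∧
      algebraMap B₀ (Localization.Away g₀) h₀ ∈ nonZeroDivisors (Localization.Away g₀) ∧
      Module.Flat A₀ (Localization.Away g₀ ⧸
        Ideal.span {algebraMap B₀ (Localization.Away g₀) h₀}) := by
  classical
  have hB₀ : IsNoetherianRing B₀ := Algebra.FiniteType.isNoetherianRing A₀ B₀
  -- (c) flatness at `q₀` in module terms
  have hflat_q : Module.Flat A₀ (LocalizedModule q₀.primeCompl (B₀ ⧸ Ideal.span {h₀})) := by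
    have hflat' : Module.Flat A₀ (Localization.AtPrime q₀ ⧸
        Submodule.localized' (Localization.AtPrime q₀) q₀.primeCompl
          (Algebra.linearMap B₀ (Localization.AtPrime q₀)) (Ideal.span {h₀})) := by
      rw [localized'_span_singleton]; exact hflat
    exact Module.Flat.of_linearEquiv ((IsLocalizedModule.iso q₀.primeCompl
      (Submodule.toLocalizedQuotient' (Localization.AtPrime q₀) q₀.primeCompl
        (Algebra.linearMap B₀ (Localization.AtPrime q₀)) (Ideal.span {h₀}))).restrictScalars A₀)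
  -- (d) openness of the flat locus
  have hopen := Groth.Agent.H1.FlatLocus.isOpen_flatLocus_of_isNoetherianRing
    (R := A₀) (S := B₀) (M := B₀ ⧸ Ideal.span {h₀})
  have hq₀mem : (⟨q₀, inferInstance⟩ : PrimeSpectrum B₀) ∈
      Groth.Agent.H1.FlatLocus.flatLocus A₀ (S := B₀) (B₀ ⧸ Ideal.span {h₀}) := hflat_q
  obtain ⟨_, ⟨_, ⟨g₂, rfl⟩, rfl⟩, hg₂q, hg₂sub⟩ :=
    PrimeSpectrum.isBasis_basic_opens.exists_subset_of_mem_open hq₀mem hopen
  have hg₂ : g₂ ∉ q₀ := hg₂q
  -- (e) the kernel of multiplication by `h₀`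
  have hK : (LinearMap.ker (LinearMap.mulLeft B₀ h₀)).FG := IsNoetherian.noetherian _
  obtain ⟨g₁, hg₁, hg₁K⟩ := Groth.Agent.H1.FlatLocus.exists_smul_eq_zero_of_fg q₀.primeCompl
    (LinearMap.ker (LinearMap.mulLeft B₀ h₀)) hK (by
      intro z hz
      have hz' : h₀ * z = 0 := hz
      have h1 : algebraMap B₀ (Localization.AtPrime q₀) z = 0 := by
        apply (mem_nonZeroDivisors_iff.mp hnzd).1
        rw [← map_mul, hz', map_zero]
      obtain ⟨s, hs⟩ := (IsLocalization.map_eq_zero_iff q₀.primeCompl _ z).mp h1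
      exact ⟨s.1, s.2, hs⟩)
  have hg₀ : g₁ * g₂ ∉ q₀ := fun h => (Ideal.IsPrime.mem_or_mem inferInstance h).elim hg₁ hg₂
  refine ⟨g₁ * g₂, hg₀, ?_, ?_⟩
  · -- regularity on `B₀[1/g₀]`
    rw [mem_nonZeroDivisors_iff_right]
    intro y hy
    obtain ⟨n, b, hb⟩ := IsLocalization.Away.surj (g₁ * g₂) y
    have h1 : algebraMap B₀ (Localization.Away (g₁ * g₂)) (b * h₀) =
        algebraMap B₀ (Localization.Away (g₁ * g₂)) 0 := by
      rw [map_mul, ← hb, map_zero, mul_right_comm, hy, zero_mul]
    obtain ⟨m, hm⟩ := IsLocalization.Away.exists_of_eq (g₁ * g₂) h1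
    rw [mul_zero] at hm
    have h2 : (g₁ * g₂) ^ m * b ∈ LinearMap.ker (LinearMap.mulLeft B₀ h₀) := by
      change h₀ * ((g₁ * g₂) ^ m * b) = 0
      rw [← hm]; ring
    have h3 : g₁ * ((g₁ * g₂) ^ m * b) = 0 := hg₁K _ h2
    have hu1 : IsUnit (algebraMap B₀ (Localization.Away (g₁ * g₂)) g₁) :=
      (IsLocalization.Away.algebraMap_isUnit_iff (g₁ * g₂)).mpr ⟨1, by rw [pow_one]; exact Dvd.intro _ rfl⟩
    have hu2 := IsLocalization.Away.algebraMap_pow_isUnit (S := Localization.Away (g₁ * g₂))
      (g₁ * g₂) m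
    have hu3 := IsLocalization.Away.algebraMap_pow_isUnit (S := Localization.Away (g₁ * g₂))
      (g₁ * g₂) n
    have h4 := congrArg (algebraMap B₀ (Localization.Away (g₁ * g₂))) h3
    rw [map_mul, map_mul, map_pow, map_zero] at h4
    have h5 : algebraMap B₀ (Localization.Away (g₁ * g₂)) b = 0 := by
      have := hu1.mul_right_eq_zero.mp h4
      exact hu2.mul_right_eq_zero.mp this
    rw [h5] at hb
    exact hu3.mul_left_eq_zero.mp hb
  · -- flatness of the quotient of `B₀[1/g₀]`
    have key : Module.Flat A₀ (Localization.Away (g₁ * g₂) ⧸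
        Submodule.localized' (Localization.Away (g₁ * g₂)) (Submonoid.powers (g₁ * g₂))
          (Algebra.linearMap B₀ (Localization.Away (g₁ * g₂))) (Ideal.span {h₀})) := by
      refine flat_of_isLocalizedModule_of_tor (Submonoid.powers (g₁ * g₂))
        (Submodule.toLocalizedQuotient' (Localization.Away (g₁ * g₂))
          (Submonoid.powers (g₁ * g₂))
          (Algebra.linearMap B₀ (Localization.Away (g₁ * g₂))) (Ideal.span {h₀})) ?_
      intro I z hz
      refine tor_of_forall_flat (g₁ * g₂) (fun q' hq' hg₀q' => ?_) I z hz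
      have hg₂q' : g₂ ∉ q' := fun h => hg₀q' (Ideal.mul_mem_left _ _ h)
      have hmem : (⟨q', hq'⟩ : PrimeSpectrum B₀) ∈
          Groth.Agent.H1.FlatLocus.flatLocus A₀ (S := B₀) (B₀ ⧸ Ideal.span {h₀}) :=
        hg₂sub hg₂q'
      exact hmem
    rw [localized'_span_singleton] at key
    exact key


end Groth.Agent.H49.SliceModel
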