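import Mathlib

/-!
# Transfer of fibrewise regularity to a model (helper49)

`A₀ → A`, `B₀` an `A₀`-algebra, `B = A ⊗[A₀] B₀`, `q` a prime of `B` with contractions `p`, `p₀`,
`q₀`.  If `1 ⊗ h₀` is a nonzerodivisor on `B_q / p B_q` then `h₀` is a nonzerodivisor on
`(B₀)_{q₀} / p₀ (B₀)_{q₀}`: the map between these rings is a flat local homomorphism
(localization of a base change of the field extension `κ(p₀) → κ(p)`), hence injective.
-/

open TensorProduct Algebra
universe u
set_option linter.style.haveILetI false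
set_option autoImplicit false

namespace Groth.Agent.H49.SliceTransfer

/-- flat + local ⇒ injective on localizations at corresponding primes -/
theorem localRingHom_injective_of_flat {R S : Type u} [CommRing R] [CommRing S] (ψ : R →+* S)
    (hψ : ψ.Flat) (Q : Ideal S) [Q.IsPrime] :
    Function.Injective (Localization.localRingHom (Q.comap ψ) Q ψ rfl) := by
  have hfl := RingHom.Flat.localRingHom hψ Q (Q.comap ψ) rfl
  have hloc := Localization.isLocalHom_localRingHom (Q.comap ψ) Q ψ rfl
  algebraize [Localization.localRingHom (Q.comap ψ) Q ψ rfl]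
  have : IsLocalHom (algebraMap (Localization.AtPrime (Q.comap ψ)) (Localization.AtPrime Q)) := hloc
  have : Module.Flat (Localization.AtPrime (Q.comap ψ)) (Localization.AtPrime Q) := hfl
  have := Module.FaithfullyFlat.of_flat_of_isLocalHom (A := Localization.AtPrime (Q.comap ψ))
    (B := Localization.AtPrime Q)
  exact FaithfulSMul.algebraMap_injective _ _

theorem nzd_iff_of_ringEquiv {R S : Type*} [CommRing R] [CommRing S] (e : R ≃+* S) (x : R) :
    e x ∈ nonZeroDivisors S ↔ x ∈ nonZeroDivisors R := by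
  constructor
  · exact mem_nonZeroDivisors_of_injective e.injective
  · intro h
    refine mem_nonZeroDivisors_of_injective e.symm.injective ?_
    rwa [RingEquiv.symm_apply_apply]

theorem nzd_of_equiv_apply {R S : Type*} [CommRing R] [CommRing S] (e : R ≃+* S) (x : R) (y : S)
    (hxy : e x = y) (hy : y ∈ nonZeroDivisors S) : x ∈ nonZeroDivisors R := by
  subst hxy
  exact (nzd_iff_of_ringEquiv e x).mp hy

theorem nzd_of_equiv_apply' {R S : Type*} [CommRing R] [CommRing S] (e : R ≃+* S) (x : R) (y : S)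
    (hxy : e x = y) (hx : x ∈ nonZeroDivisors R) : y ∈ nonZeroDivisors S := by
  subst hxy
  exact (nzd_iff_of_ringEquiv e x).mpr hx

/-- Regularity on a quotient of a localization does not depend on the chosen localization. -/
theorem nzd_quotient_iff_of_isLocalization {R : Type u} [CommRing R] (M : Submonoid R)
    (L₁ L₂ : Type u) [CommRing L₁] [CommRing L₂] [Algebra R L₁] [Algebra R L₂]
    [IsLocalization M L₁] [IsLocalization M L₂] (J : Ideal R) (x : R) :
    Ideal.Quotient.mk (J.map (algebraMap R L₁)) (algebraMap R L₁ x) ∈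
        nonZeroDivisors (L₁ ⧸ J.map (algebraMap R L₁)) ↔
      Ideal.Quotient.mk (J.map (algebraMap R L₂)) (algebraMap R L₂ x) ∈
        nonZeroDivisors (L₂ ⧸ J.map (algebraMap R L₂)) := by
  let e := IsLocalization.algEquiv M L₁ L₂
  have hJ : J.map (algebraMap R L₂) =
      (J.map (algebraMap R L₁)).map ((e : L₁ ≃+* L₂) : L₁ →+* L₂) := by
    rw [Ideal.map_map]
    congr 1
    ext r
    simp [e]
  let E := Ideal.quotientEquiv (J.map (algebraMap R L₁)) (J.map (algebraMap R L₂))
    (e : L₁ ≃+* L₂) hJ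
  have hE : E (Ideal.Quotient.mk _ (algebraMap R L₁ x)) =
      Ideal.Quotient.mk _ (algebraMap R L₂ x) := by
    rw [Ideal.quotientEquiv_mk]
    congr 1
    simp [e]
  rw [← hE, nzd_iff_of_ringEquiv]

section FiberAPI
variable {R S : Type u} [CommRing R] [CommRing S] [Algebra R S] (p : Ideal R) [p.IsPrime]

attribute [local instance] Algebra.TensorProduct.rightAlgebra

theorem aux1_apply (s : S) :
    Ideal.Fiber.algEquivAux₁ (S := S) p (1 ⊗ₜ s) = algebraMap S _ s := by
  have : (1 : p.ResidueField) ⊗ₜ[R] s = algebraMap S (p.Fiber S) s := by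
    rw [Algebra.TensorProduct.algebraMap_eq_includeRight]; rfl
  rw [this, AlgEquiv.commutes]

/-- Mathlib's identification `(κ(p) ⊗ S)_Q ≃ S_q ⧸ p S_q` on elements coming from `S`. -/
theorem aux2_apply (q : Ideal (p.Fiber S)) [q.IsPrime] (s : S) :
    Ideal.Fiber.algEquivAux₂ p q (algebraMap (p.Fiber S) (Localization.AtPrime q) (1 ⊗ₜ s)) =
      Ideal.Quotient.mk _
        (algebraMap S (Localization.AtPrime (q.comap Algebra.TensorProduct.includeRight)) s) := by
  simp only [Ideal.Fiber.algEquivAux₂, AlgEquiv.trans_apply, AlgEquiv.restrictScalars_apply]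
  have h1 : (Localization.localAlgEquiv (Ideal.comap (Ideal.Fiber.algEquivAux₁ p).symm q) q
      (Ideal.Fiber.algEquivAux₁ p).symm rfl).symm
        ((algebraMap (p.Fiber S) (Localization.AtPrime q)) (1 ⊗ₜ[R] s)) =
      algebraMap _ _ (Ideal.Fiber.algEquivAux₁ (S := S) p (1 ⊗ₜ s)) := by
    rw [AlgEquiv.symm_apply_eq]
    refine ((Localization.localRingHom_to_map
      (Ideal.comap (Ideal.Fiber.algEquivAux₁ (S := S) p).symm q) q
      ((Ideal.Fiber.algEquivAux₁ (S := S) p).symm : _ →+* _) rfl
      (Ideal.Fiber.algEquivAux₁ (S := S) p (1 ⊗ₜ s))).trans ?_).symm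
    simp
  rw [h1, aux1_apply]
  rw [← IsScalarTower.algebraMap_apply S _
    (Localization.AtPrime (Ideal.comap (Ideal.Fiber.algEquivAux₁ (S := S) p).symm q))]
  rw [IsScalarTower.algebraMap_apply S (S ⧸ Ideal.map (algebraMap R S) p)
    (Localization.AtPrime (Ideal.comap (Ideal.Fiber.algEquivAux₁ (S := S) p).symm q))]
  rw [AlgEquiv.commutes]
  rfl

theorem exists_fiber_prime {A B : Type u} [CommRing A] [CommRing B] [Algebra A B]
    (q : Ideal B) [q.IsPrime] (p : Ideal A) [p.IsPrime] (hp : p = q.comap (algebraMap A B)) :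
    ∃ Q : Ideal (p.Fiber B), Q.IsPrime ∧
      Q.comap (Algebra.TensorProduct.includeRight (R := A) (A := p.ResidueField) (B := B)) = q := by
  let x : PrimeSpectrum.comap (algebraMap A B) ⁻¹' {(⟨p, inferInstance⟩ : PrimeSpectrum A)} :=
    ⟨⟨q, inferInstance⟩, by
      simp only [Set.mem_preimage, Set.mem_singleton_iff]
      exact PrimeSpectrum.ext hp.symm⟩
  let Q := PrimeSpectrum.preimageEquivFiber A B ⟨p, inferInstance⟩ x
  refine ⟨Q.asIdeal, Q.isPrime, ?_⟩
  have := (PrimeSpectrum.preimageEquivFiber A B ⟨p, inferInstance⟩).symm_apply_apply x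
  exact congrArg (fun y => y.1.asIdeal) this

end FiberAPI

section Psi
variable (A₀ A B₀ : Type u) [CommRing A₀] [CommRing A] [CommRing B₀] [Algebra A₀ A] [Algebra A₀ B₀]
variable (p : Ideal A) [p.IsPrime]

/-- the residue field extension `κ(p₀) → κ(p)` -/
noncomputable def iota : (p.comap (algebraMap A₀ A)).ResidueField →+* p.ResidueField :=
  Ideal.ResidueField.map _ p (algebraMap A₀ A) rfl

attribute [local instance] Algebra.TensorProduct.rightAlgebra

/-- the map of fibres `κ(p₀) ⊗ B₀ → κ(p) ⊗_A (A ⊗ B₀)` -/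
noncomputable def Psi :
    (p.comap (algebraMap A₀ A)).Fiber B₀ →+* p.Fiber (A ⊗[A₀] B₀) :=
  letI : Algebra (p.comap (algebraMap A₀ A)).ResidueField p.ResidueField := (iota A₀ A p).toAlgebra
  letI : Algebra A₀ p.ResidueField :=
    ((algebraMap A p.ResidueField).comp (algebraMap A₀ A)).toAlgebra
  haveI : IsScalarTower A₀ A p.ResidueField := IsScalarTower.of_algebraMap_eq (fun _ => rfl)
  haveI : IsScalarTower A₀ (p.comap (algebraMap A₀ A)).ResidueField p.ResidueField :=
    IsScalarTower.of_algebraMap_eq (fun x => by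
      change _ = iota A₀ A p _
      rw [iota, Ideal.ResidueField.map_algebraMap]; rfl)
  ((Algebra.TensorProduct.cancelBaseChange A₀ A p.ResidueField p.ResidueField
      B₀).symm.toRingHom).comp
    (((Algebra.TensorProduct.cancelBaseChange A₀ (p.comap (algebraMap A₀ A)).ResidueField
      p.ResidueField p.ResidueField B₀).toRingHom).comp
      (Algebra.TensorProduct.includeRight (R := (p.comap (algebraMap A₀ A)).ResidueField)
        (A := p.ResidueField) (B := (p.comap (algebraMap A₀ A)).Fiber B₀)).toRingHom)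

theorem Psi_one_tmul (b : B₀) : Psi A₀ A B₀ p (1 ⊗ₜ b) = 1 ⊗ₜ (1 ⊗ₜ b) := by
  letI : Algebra (p.comap (algebraMap A₀ A)).ResidueField p.ResidueField := (iota A₀ A p).toAlgebra
  simp [Psi]

theorem Psi_flat : (Psi A₀ A B₀ p).Flat := by
  letI : Algebra (p.comap (algebraMap A₀ A)).ResidueField p.ResidueField := (iota A₀ A p).toAlgebra
  letI : Algebra A₀ p.ResidueField :=
    ((algebraMap A p.ResidueField).comp (algebraMap A₀ A)).toAlgebra
  haveI : IsScalarTower A₀ A p.ResidueField := IsScalarTower.of_algebraMap_eq (fun _ => rfl)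
  haveI : IsScalarTower A₀ (p.comap (algebraMap A₀ A)).ResidueField p.ResidueField :=
    IsScalarTower.of_algebraMap_eq (fun x => by
      change _ = iota A₀ A p _
      rw [iota, Ideal.ResidueField.map_algebraMap]; rfl)
  unfold Psi
  refine RingHom.Flat.comp (RingHom.Flat.comp ?_ ?_) ?_
  · have h1 : (algebraMap (p.comap (algebraMap A₀ A)).ResidueField p.ResidueField).Flat :=
      RingHom.flat_algebraMap_iff.mpr inferInstance
    exact RingHom.Flat.isStableUnderBaseChange (p.comap (algebraMap A₀ A)).ResidueField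
      p.ResidueField ((p.comap (algebraMap A₀ A)).Fiber B₀)
      (p.ResidueField ⊗[(p.comap (algebraMap A₀ A)).ResidueField]
        (p.comap (algebraMap A₀ A)).Fiber B₀) h1
  · exact RingHom.Flat.of_bijective (AlgEquiv.bijective _)
  · exact RingHom.Flat.of_bijective (AlgEquiv.bijective _)

theorem comap_Psi_comap (Q : Ideal (p.Fiber (A ⊗[A₀] B₀))) :
    (Q.comap (Psi A₀ A B₀ p)).comap Algebra.TensorProduct.includeRight =
      (Q.comap Algebra.TensorProduct.includeRight).comap
        (Algebra.TensorProduct.includeRight (R := A₀) (A := A) (B := B₀)) := by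
  ext b
  simp only [Ideal.mem_comap, Algebra.TensorProduct.includeRight_apply]
  rw [Psi_one_tmul]

set_option maxHeartbeats 1600000 in
/-- **Transfer**, in terms of a prime `Q` of the fibre ring. -/
theorem transfer (Q : Ideal (p.Fiber (A ⊗[A₀] B₀))) [Q.IsPrime] (h₀ : B₀)
    (hreg : Ideal.Quotient.mk
        ((p.map (algebraMap A (A ⊗[A₀] B₀))).map (algebraMap (A ⊗[A₀] B₀)
          (Localization.AtPrime (Q.comap Algebra.TensorProduct.includeRight))))
        (algebraMap (A ⊗[A₀] B₀)
          (Localization.AtPrime (Q.comap Algebra.TensorProduct.includeRight)) (1 ⊗ₜ h₀)) ∈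
      nonZeroDivisors _) :
    Ideal.Quotient.mk
        (((p.comap (algebraMap A₀ A)).map (algebraMap A₀ B₀)).map (algebraMap B₀
          (Localization.AtPrime ((Q.comap (Psi A₀ A B₀ p)).comap
            Algebra.TensorProduct.includeRight))))
        (algebraMap B₀ (Localization.AtPrime ((Q.comap (Psi A₀ A B₀ p)).comap
            Algebra.TensorProduct.includeRight)) h₀) ∈
      nonZeroDivisors _ := by
  have h1 : algebraMap (p.Fiber (A ⊗[A₀] B₀)) (Localization.AtPrime Q) (1 ⊗ₜ (1 ⊗ₜ h₀)) ∈
      nonZeroDivisors (Localization.AtPrime Q) := by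
    have e := aux2_apply p Q (1 ⊗ₜ[A₀] h₀)
    have h3 : Ideal.Fiber.algEquivAux₂ p Q
        (algebraMap (p.Fiber (A ⊗[A₀] B₀)) (Localization.AtPrime Q) (1 ⊗ₜ (1 ⊗ₜ h₀))) ∈
        nonZeroDivisors _ := by
      rw [e]; exact hreg
    exact mem_nonZeroDivisors_of_injective (Ideal.Fiber.algEquivAux₂ p Q).injective h3
  have h2 : algebraMap ((p.comap (algebraMap A₀ A)).Fiber B₀)
      (Localization.AtPrime (Q.comap (Psi A₀ A B₀ p))) (1 ⊗ₜ h₀) ∈ nonZeroDivisors _ := by
    refine mem_nonZeroDivisors_of_injective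
      (localRingHom_injective_of_flat (Psi A₀ A B₀ p) (Psi_flat A₀ A B₀ p) Q) ?_
    rw [Localization.localRingHom_to_map, Psi_one_tmul]
    exact h1
  have e := aux2_apply (p.comap (algebraMap A₀ A)) (Q.comap (Psi A₀ A B₀ p)) h₀
  rw [← e]
  refine mem_nonZeroDivisors_of_injective
    (Ideal.Fiber.algEquivAux₂ (p.comap (algebraMap A₀ A)) (Q.comap (Psi A₀ A B₀ p))).symm.injective ?_
  rw [AlgEquiv.symm_apply_apply]
  exact h2

theorem isLocalization_atPrime_of_eq {R L : Type*} [CommRing R] [CommRing L] [Algebra R L]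
    (I J : Ideal R) [I.IsPrime] [J.IsPrime] (h : I = J) [IsLocalization.AtPrime L I] :
    IsLocalization.AtPrime L J := by
  subst h; assumption

/-- **Transfer**, in terms of a prime `q` of `A ⊗ B₀` and arbitrary localizations. -/
theorem transfer' (q : Ideal (A ⊗[A₀] B₀)) [q.IsPrime]
    (Bq : Type u) [CommRing Bq] [Algebra (A ⊗[A₀] B₀) Bq] [IsLocalization.AtPrime Bq q]
    (h₀ : B₀)
    (hreg : Ideal.Quotient.mk
        (((q.comap (algebraMap A (A ⊗[A₀] B₀))).map (algebraMap A (A ⊗[A₀] B₀))).map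
          (algebraMap (A ⊗[A₀] B₀) Bq))
        (algebraMap (A ⊗[A₀] B₀) Bq (1 ⊗ₜ h₀)) ∈ nonZeroDivisors _)
    (B₀q : Type u) [CommRing B₀q] [Algebra B₀ B₀q]
    [IsLocalization.AtPrime B₀q
      (q.comap (Algebra.TensorProduct.includeRight (R := A₀) (A := A) (B := B₀)))] :
    Ideal.Quotient.mk
        ((((q.comap (Algebra.TensorProduct.includeRight (R := A₀) (A := A) (B := B₀))).comap
          (algebraMap A₀ B₀)).map (algebraMap A₀ B₀)).map (algebraMap B₀ B₀q))
        (algebraMap B₀ B₀q h₀) ∈ nonZeroDivisors _ := by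
  obtain ⟨Q, hQ, hQq⟩ := exists_fiber_prime q (q.comap (algebraMap A (A ⊗[A₀] B₀))) rfl
  haveI := hQ
  haveI : IsLocalization.AtPrime Bq (Q.comap Algebra.TensorProduct.includeRight) :=
    isLocalization_atPrime_of_eq q _ hQq.symm
  have h1 := (nzd_quotient_iff_of_isLocalization
    (Q.comap Algebra.TensorProduct.includeRight).primeCompl Bq
    (Localization.AtPrime (Q.comap Algebra.TensorProduct.includeRight))
    ((q.comap (algebraMap A (A ⊗[A₀] B₀))).map (algebraMap A (A ⊗[A₀] B₀))) (1 ⊗ₜ h₀)).mp hreg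
  have h2 := transfer A₀ A B₀ (q.comap (algebraMap A (A ⊗[A₀] B₀))) Q h₀ h1
  have hq₀ : (Q.comap (Psi A₀ A B₀ (q.comap (algebraMap A (A ⊗[A₀] B₀))))).comap
      Algebra.TensorProduct.includeRight =
      q.comap (Algebra.TensorProduct.includeRight (R := A₀) (A := A) (B := B₀)) := by
    rw [comap_Psi_comap, hQq]
  haveI : IsLocalization.AtPrime B₀q
      ((Q.comap (Psi A₀ A B₀ (q.comap (algebraMap A (A ⊗[A₀] B₀))))).comap
        Algebra.TensorProduct.includeRight) :=
    isLocalization_atPrime_of_eq _ _ hq₀.symm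
  have h3 := (nzd_quotient_iff_of_isLocalization
    ((Q.comap (Psi A₀ A B₀ (q.comap (algebraMap A (A ⊗[A₀] B₀))))).comap
        Algebra.TensorProduct.includeRight).primeCompl
    (Localization.AtPrime ((Q.comap (Psi A₀ A B₀ (q.comap (algebraMap A (A ⊗[A₀] B₀))))).comap
        Algebra.TensorProduct.includeRight)) B₀q
    (((q.comap (algebraMap A (A ⊗[A₀] B₀))).comap (algebraMap A₀ A)).map (algebraMap A₀ B₀))
    h₀).mp h2
  have hp₀ : (q.comap (algebraMap A (A ⊗[A₀] B₀))).comap (algebraMap A₀ A) =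
      (q.comap (Algebra.TensorProduct.includeRight (R := A₀) (A := A) (B := B₀))).comap
        (algebraMap A₀ B₀) := by
    ext a
    simp only [Ideal.mem_comap]
    rw [← IsScalarTower.algebraMap_apply A₀ A (A ⊗[A₀] B₀), AlgHom.commutes]
  rw [hp₀] at h3
  exact h3

end Psi

end Groth.Agent.H49.SliceTransfer
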