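import Mathlib
import Groth.Agent.H49.FlatApprox
import Groth.Agent.H49.SliceTransfer
import Groth.Agent.H49.SliceModel
import Groth.Agent.H49.SliceBC

/-!
# Slicing a flat finitely presented algebra by a fibrewise regular element (helper49)

`core`: `B` a flat finitely presented `A`-algebra, `q` a prime of `B`, `h ∈ B` regular on
`B_q ⧸ p B_q` (`p = q ∩ A`).  Then there is `g ∉ q` such that `h` is regular on `B_g` and
`B_g ⧸ (h)` is flat over `A` (EGA IV 11.3.8, by Noetherian approximation and S0395).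
-/

open TensorProduct
universe u
set_option autoImplicit false
set_option linter.style.haveILetI false

namespace Groth.Agent.H49.SliceCore

open Groth.Agent.H49.SliceTransfer Groth.Agent.H49.SliceModel Groth.Agent.H49.SliceBC

open Groth.Agent.H49.FlatApprox in
/-- Noetherian flat model in which a given element is defined. -/
theorem exists_flat_model_elem (H : Hyp4848.{u}) (A B : Type u) [CommRing A] [CommRing B]
    [Algebra A B] [Algebra.FinitePresentation A B] [Module.Flat A B] (h : B) :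
    ∃ (A₀ : Type u) (_ : CommRing A₀) (_ : Algebra A₀ A) (B₀ : Type u) (_ : CommRing B₀)
      (_ : Algebra A₀ B₀), Algebra.FiniteType ℤ A₀ ∧ Algebra.FinitePresentation A₀ B₀ ∧
        Module.Flat A₀ B₀ ∧ ∃ (e : A ⊗[A₀] B₀ ≃ₐ[A] B) (h₀ : B₀), e (1 ⊗ₜ h₀) = h := by
  classical
  obtain ⟨A₀, _, _, B₀, _, _, hft, hfp, hfl, ⟨e⟩⟩ := exists_flat_model H A B
  obtain ⟨S, hS⟩ := TensorProduct.exists_finset (e.symm h)
  let A₁ := MvPolynomial S A₀
  let φ : A₁ →ₐ[A₀] A := MvPolynomial.aeval (fun s : S => s.1.1)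
  letI : Algebra A₁ A := φ.toRingHom.toAlgebra
  haveI : IsScalarTower A₀ A₁ A := IsScalarTower.of_algebraMap_eq (fun a => (φ.commutes a).symm)
  have hft₁ : Algebra.FiniteType ℤ A₁ := Algebra.FiniteType.trans hft inferInstance
  let e' : A ⊗[A₁] (A₁ ⊗[A₀] B₀) ≃ₐ[A] A ⊗[A₀] B₀ :=
    Algebra.TensorProduct.cancelBaseChange A₀ A₁ A A B₀
  refine ⟨A₁, inferInstance, inferInstance, A₁ ⊗[A₀] B₀, inferInstance, inferInstance, hft₁,
    inferInstance, inferInstance, e'.trans e, ∑ s : S, (MvPolynomial.X s : A₁) ⊗ₜ[A₀] s.1.2, ?_⟩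
  rw [AlgEquiv.trans_apply, TensorProduct.tmul_sum, map_sum]
  have : ∀ s : S, e' ((1 : A) ⊗ₜ[A₁] ((MvPolynomial.X s : A₁) ⊗ₜ[A₀] s.1.2)) =
      s.1.1 ⊗ₜ[A₀] s.1.2 := by
    intro s
    simp only [e', Algebra.TensorProduct.cancelBaseChange_tmul]
    congr 1
    rw [Algebra.smul_def, mul_one]
    change φ (MvPolynomial.X s) = _
    exact MvPolynomial.aeval_X _ s
  simp only [this]
  rw [Finset.sum_coe_sort S (fun i => i.1 ⊗ₜ[A₀] i.2), ← hS, AlgEquiv.apply_symm_apply]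


/-- The slicing statement for `A ⊗[A₀] B₀` with `(A₀, B₀)` a Noetherian flat model. -/
theorem core_model (A₀ A B₀ : Type u) [CommRing A₀] [CommRing A] [CommRing B₀] [Algebra A₀ A]
    [Algebra A₀ B₀] [IsNoetherianRing A₀] [Algebra.FiniteType A₀ B₀] [Module.Flat A₀ B₀]
    (q : Ideal (A ⊗[A₀] B₀)) [q.IsPrime]
    (Bq : Type u) [CommRing Bq] [Algebra (A ⊗[A₀] B₀) Bq] [IsLocalization.AtPrime Bq q]
    (h₀ : B₀)
    (hreg : Ideal.Quotient.mk
        (((q.comap (algebraMap A (A ⊗[A₀] B₀))).map (algebraMap A (A ⊗[A₀] B₀))).map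
          (algebraMap (A ⊗[A₀] B₀) Bq))
        (algebraMap (A ⊗[A₀] B₀) Bq (1 ⊗ₜ h₀)) ∈ nonZeroDivisors _) :
    ∃ g₀ : B₀, ((1 : A) ⊗ₜ[A₀] g₀) ∉ q ∧
      ((1 : A) ⊗ₜ[A₀] (algebraMap B₀ (Localization.Away g₀) h₀)) ∈
        nonZeroDivisors (A ⊗[A₀] Localization.Away g₀) ∧
      Module.Flat A ((A ⊗[A₀] Localization.Away g₀) ⧸
        Ideal.span {(1 : A) ⊗ₜ[A₀] (algebraMap B₀ (Localization.Away g₀) h₀)}) := by
  have hreg₀ := transfer' A₀ A B₀ q Bq h₀ hreg
    (Localization.AtPrime (q.comap (Algebra.TensorProduct.includeRight (R := A₀) (A := A) (B := B₀))))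
  obtain ⟨hnzd, hflat⟩ := local_model A₀ B₀ _ h₀ hreg₀
  obtain ⟨g₀, hg₀, hnzd', hflat'⟩ := spread_model A₀ B₀ _ h₀ hnzd hflat
  refine ⟨g₀, hg₀, ?_⟩
  exact base_change A₀ A (Localization.Away g₀) _ hnzd' hflat'


attribute [local instance] Algebra.TensorProduct.rightAlgebra in
/-- From the concrete localization `A ⊗ (B₀)_g` to an arbitrary localization of `A ⊗ B₀`. -/
theorem abstract_of_model (A₀ A B₀ : Type u) [CommRing A₀] [CommRing A] [CommRing B₀]
    [Algebra A₀ A] [Algebra A₀ B₀] (g₀ h₀ : B₀)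
    (hnzd : ((1 : A) ⊗ₜ[A₀] (algebraMap B₀ (Localization.Away g₀) h₀)) ∈
        nonZeroDivisors (A ⊗[A₀] Localization.Away g₀))
    (hflat : Module.Flat A ((A ⊗[A₀] Localization.Away g₀) ⧸
        Ideal.span {(1 : A) ⊗ₜ[A₀] (algebraMap B₀ (Localization.Away g₀) h₀)}))
    (Bg : Type u) [CommRing Bg] [Algebra (A ⊗[A₀] B₀) Bg]
    [IsLocalization.Away ((1 : A) ⊗ₜ[A₀] g₀) Bg] [Algebra A Bg]
    [IsScalarTower A (A ⊗[A₀] B₀) Bg] :
    algebraMap (A ⊗[A₀] B₀) Bg (1 ⊗ₜ h₀) ∈ nonZeroDivisors Bg ∧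
      Module.Flat A (Bg ⧸ Ideal.span {algebraMap (A ⊗[A₀] B₀) Bg (1 ⊗ₜ h₀)}) := by
  letI := tensorAlg A₀ A B₀ (Localization.Away g₀)
  haveI := isLocalization_away_tensor A₀ A B₀ (Localization.Away g₀) g₀
  haveI : IsScalarTower A (A ⊗[A₀] B₀) (A ⊗[A₀] Localization.Away g₀) :=
    IsScalarTower.of_algebraMap_eq (fun a => by
      change _ = Algebra.TensorProduct.map (AlgHom.id A A)
        (IsScalarTower.toAlgHom A₀ B₀ (Localization.Away g₀)) _
      simp [Algebra.TensorProduct.algebraMap_apply])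
  let e := IsLocalization.algEquiv (Submonoid.powers ((1 : A) ⊗ₜ[A₀] g₀))
    (A ⊗[A₀] Localization.Away g₀) Bg
  have hx : ((1 : A) ⊗ₜ[A₀] (algebraMap B₀ (Localization.Away g₀) h₀)) =
      algebraMap (A ⊗[A₀] B₀) (A ⊗[A₀] Localization.Away g₀) (1 ⊗ₜ h₀) := by
    change _ = Algebra.TensorProduct.map (AlgHom.id A A)
        (IsScalarTower.toAlgHom A₀ B₀ (Localization.Away g₀)) _
    simp
  have he : e ((1 : A) ⊗ₜ[A₀] (algebraMap B₀ (Localization.Away g₀) h₀)) =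
      algebraMap (A ⊗[A₀] B₀) Bg (1 ⊗ₜ h₀) := by
    rw [hx, AlgEquiv.commutes]
  refine ⟨nzd_of_equiv_apply' e.toRingEquiv _ _ he hnzd, ?_⟩
  let eA : (A ⊗[A₀] Localization.Away g₀) ≃ₐ[A] Bg := e.restrictScalars A
  have hI : Ideal.span {algebraMap (A ⊗[A₀] B₀) Bg (1 ⊗ₜ h₀)} =
      (Ideal.span {(1 : A) ⊗ₜ[A₀] (algebraMap B₀ (Localization.Away g₀) h₀)}).map
        (eA : (A ⊗[A₀] Localization.Away g₀) →+* Bg) := by
    rw [Ideal.map_span, Set.image_singleton]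
    congr 2
    exact he.symm
  exact Module.Flat.of_linearEquiv (Ideal.quotientEquivAlg _ _ eA hI).symm.toLinearEquiv


open Groth.Agent.H49.FlatApprox in
/-- **Slicing**, ring level, flat finitely presented case. -/
theorem core (H : Hyp4848.{u}) (A B : Type u) [CommRing A] [CommRing B] [Algebra A B]
    [Algebra.FinitePresentation A B] [Module.Flat A B]
    (q : Ideal B) [q.IsPrime] (Bq : Type u) [CommRing Bq] [Algebra B Bq]
    [IsLocalization.AtPrime Bq q] (h : B)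
    (hreg : Ideal.Quotient.mk
        (((q.comap (algebraMap A B)).map (algebraMap A B)).map (algebraMap B Bq))
        (algebraMap B Bq h) ∈ nonZeroDivisors _) :
    ∃ g : B, g ∉ q ∧ ∀ (Bg : Type u) [CommRing Bg] [Algebra B Bg] [IsLocalization.Away g Bg]
      [Algebra A Bg] [IsScalarTower A B Bg],
      algebraMap B Bg h ∈ nonZeroDivisors Bg ∧
        Module.Flat A (Bg ⧸ Ideal.span {algebraMap B Bg h}) := by
  obtain ⟨A₀, _, _, B₀, _, _, hft, hfp, hfl, e, h₀, rfl⟩ := exists_flat_model_elem H A B h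
  haveI : IsNoetherianRing A₀ := Algebra.FiniteType.isNoetherianRing ℤ A₀
  haveI : Algebra.FiniteType A₀ B₀ := inferInstance
  -- transport the localization `Bq` to `A ⊗ B₀`
  letI algq : Algebra (A ⊗[A₀] B₀) Bq := ((algebraMap B Bq).comp e.toRingEquiv.toRingHom).toAlgebra
  have hcompq : ∀ x, algebraMap (A ⊗[A₀] B₀) Bq x = algebraMap B Bq (e.toRingEquiv x) :=
    fun _ => rfl
  haveI : (q.comap e.toRingEquiv.toRingHom).IsPrime := Ideal.comap_isPrime _ _
  haveI : IsLocalization.AtPrime Bq (q.comap e.toRingEquiv.toRingHom) :=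
    isLocalization_of_equiv e.toRingEquiv hcompq q.primeCompl _ (fun x => Iff.rfl)
  have hp : (q.comap e.toRingEquiv.toRingHom).comap (algebraMap A (A ⊗[A₀] B₀)) =
      q.comap (algebraMap A B) := by
    ext a
    simp only [Ideal.mem_comap]
    change e (algebraMap A (A ⊗[A₀] B₀) a) ∈ q ↔ _
    rw [e.commutes]
  have hideal : (((q.comap e.toRingEquiv.toRingHom).comap (algebraMap A (A ⊗[A₀] B₀))).map
      (algebraMap A (A ⊗[A₀] B₀))).map (algebraMap (A ⊗[A₀] B₀) Bq) =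
      ((q.comap (algebraMap A B)).map (algebraMap A B)).map (algebraMap B Bq) := by
    rw [hp, Ideal.map_map, Ideal.map_map]
    congr 1
    ext a
    change algebraMap B Bq (e (algebraMap A (A ⊗[A₀] B₀) a)) = _
    rw [e.commutes]; rfl
  have hreg' : Ideal.Quotient.mk
      ((((q.comap e.toRingEquiv.toRingHom).comap (algebraMap A (A ⊗[A₀] B₀))).map
      (algebraMap A (A ⊗[A₀] B₀))).map (algebraMap (A ⊗[A₀] B₀) Bq))
      (algebraMap (A ⊗[A₀] B₀) Bq (1 ⊗ₜ h₀)) ∈ nonZeroDivisors _ :=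
    nzd_quotient_of_ideal_eq _ _ hideal.symm _ hreg
  obtain ⟨g₀, hg₀, hnzd, hflat⟩ := core_model A₀ A B₀ (q.comap e.toRingEquiv.toRingHom) Bq h₀ hreg'
  refine ⟨e (1 ⊗ₜ g₀), hg₀, ?_⟩
  intro Bg _ _ _ _ _
  letI algg : Algebra (A ⊗[A₀] B₀) Bg := ((algebraMap B Bg).comp e.toRingEquiv.toRingHom).toAlgebra
  have hcompg : ∀ x, algebraMap (A ⊗[A₀] B₀) Bg x = algebraMap B Bg (e.toRingEquiv x) :=
    fun _ => rfl
  haveI : IsLocalization.Away ((1 : A) ⊗ₜ[A₀] g₀) Bg :=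
    isLocalization_of_equiv e.toRingEquiv hcompg (Submonoid.powers (e (1 ⊗ₜ g₀))) _ (fun x => by
      simp only [Submonoid.mem_powers_iff]
      constructor
      · rintro ⟨n, rfl⟩; exact ⟨n, by rw [map_pow]; rfl⟩
      · rintro ⟨n, hn⟩
        refine ⟨n, e.injective ?_⟩
        rw [map_pow]; exact hn)
  haveI : IsScalarTower A (A ⊗[A₀] B₀) Bg := IsScalarTower.of_algebraMap_eq (fun a => by
    rw [hcompg]
    change _ = algebraMap B Bg (e (algebraMap A (A ⊗[A₀] B₀) a))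
    rw [e.commutes, ← IsScalarTower.algebraMap_apply])
  exact abstract_of_model A₀ A B₀ g₀ h₀ hnzd hflat Bg

end Groth.Agent.H49.SliceCore
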