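import Mathlib
import Groth.Agent.H49.SliceModel
import Groth.Agent.H1.FlatLocusExists
open TensorProduct
universe u
set_option autoImplicit false
set_option linter.style.haveILetI false

namespace Groth.Agent.H49.SliceShrink

open Groth.Agent.H49.SliceModel

/-- Shrinking to the flat locus: if `B_q` is `A`-flat (`B` finitely presented over `A`), then
`B_g` is `A`-flat for some `g ∉ q`. -/
theorem exists_away_flat (A B : Type u) [CommRing A] [CommRing B] [Algebra A B]
    [Algebra.FinitePresentation A B] (q : Ideal B) [q.IsPrime]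
    (Bq : Type u) [CommRing Bq] [Algebra B Bq] [IsLocalization.AtPrime Bq q] [Algebra A Bq]
    [IsScalarTower A B Bq] (hflat : Module.Flat A Bq) :
    ∃ g : B, g ∉ q ∧ ∀ (Bg : Type u) [CommRing Bg] [Algebra B Bg] [IsLocalization.Away g Bg]
      [Algebra A Bg] [IsScalarTower A B Bg], Module.Flat A Bg := by
  have hflat_q : Module.Flat A (LocalizedModule q.primeCompl B) :=
    Module.Flat.of_linearEquiv ((IsLocalizedModule.iso q.primeCompl
      (Algebra.linearMap B Bq)).restrictScalars A)
  have hopen := Groth.Agent.H1.FlatLocus.isOpen_flatLocus_of_finitePresentation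
    (R := A) (S := B) (M := B)
  have hqmem : (⟨q, inferInstance⟩ : PrimeSpectrum B) ∈
      Groth.Agent.H1.FlatLocus.flatLocus A (S := B) B := hflat_q
  obtain ⟨_, ⟨_, ⟨g, rfl⟩, rfl⟩, hgq, hgsub⟩ :=
    PrimeSpectrum.isBasis_basic_opens.exists_subset_of_mem_open hqmem hopen
  refine ⟨g, hgq, ?_⟩
  intro Bg _ _ _ _ _
  refine flat_of_isLocalizedModule_of_tor (Submonoid.powers g) (Algebra.linearMap B Bg) ?_
  intro I z hz
  refine tor_of_forall_flat g (fun q' hq' hgq' => ?_) I z hz
  have hmem : (⟨q', hq'⟩ : PrimeSpectrum B) ∈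
      Groth.Agent.H1.FlatLocus.flatLocus A (S := B) B := hgsub hgq'
  exact hmem

end Groth.Agent.H49.SliceShrink
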