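import Mathlib
import Groth.Agent.H49.SliceCore
import Groth.Agent.H49.SliceShrink

/-!
# Slicing a morphism by a fibrewise regular element (helper49)

`slice` is the statement of S1348 (EGA IV 11.3.8 c) ⇒ a)), modulo `Hyp4848` (= S4848).
-/

open CategoryTheory AlgebraicGeometry TopologicalSpace
universe u
set_option autoImplicit false
set_option linter.style.haveILetI false

namespace Groth.Agent.H49.SliceScheme

open Groth.Agent.H49.FlatApprox Groth.Agent.H49.SliceCore Groth.Agent.H49.SliceModel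
  Groth.Agent.H49.SliceShrink

variable {X S : Scheme.{u}} (f : X ⟶ S) (x : X) {V : S.Opens} {U : X.Opens}

theorem appLE_germ (e : U ≤ f ⁻¹ᵁ V) (hx : x ∈ U) :
    f.appLE V U e ≫ X.presheaf.germ U x hx = S.presheaf.germ V (f x) (e hx) ≫ f.stalkMap x := by
  rw [Scheme.Hom.appLE, Category.assoc, X.presheaf.germ_res]
  exact (Scheme.Hom.germ_stalkMap f V x (e hx)).symm

theorem germ_comp_appLE (e : U ≤ f ⁻¹ᵁ V) (hx : x ∈ U) :
    (X.presheaf.germ U x hx).hom.comp (f.appLE V U e).hom =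
      (f.stalkMap x).hom.comp (S.presheaf.germ V (f x) (e hx)).hom := by
  rw [← CommRingCat.hom_comp, ← CommRingCat.hom_comp, appLE_germ]

/-- flatness of the stalk over the sections of an affine open of the base -/
theorem flat_stalk_of_flat_stalkMap (hV : IsAffineOpen V) (e : U ≤ f ⁻¹ᵁ V) (hx : x ∈ U)
    (hflat : (f.stalkMap x).hom.Flat) :
    ((X.presheaf.germ U x hx).hom.comp (f.appLE V U e).hom).Flat := by
  rw [germ_comp_appLE]
  refine RingHom.Flat.comp ?_ hflat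
  letI := TopCat.Presheaf.algebra_section_stalk S.presheaf ⟨f x, e hx⟩
  haveI := hV.isLocalization_stalk ⟨f x, e hx⟩
  have : Module.Flat Γ(S, V) (S.presheaf.stalk (f x)) :=
    IsLocalization.flat _ (hV.primeIdealOf ⟨f x, e hx⟩).asIdeal.primeCompl
  exact RingHom.flat_algebraMap_iff.mpr this

/-- the prime of `f x` is the preimage of the prime of `x` -/
theorem primeIdealOf_comap (hV : IsAffineOpen V) (hU : IsAffineOpen U) (e : U ≤ f ⁻¹ᵁ V)
    (hx : x ∈ U) :
    (hU.primeIdealOf ⟨x, hx⟩).asIdeal.comap (f.appLE V U e).hom =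
      (hV.primeIdealOf ⟨f x, e hx⟩).asIdeal := by
  letI := TopCat.Presheaf.algebra_section_stalk S.presheaf ⟨f x, e hx⟩
  haveI := hV.isLocalization_stalk ⟨f x, e hx⟩
  letI := TopCat.Presheaf.algebra_section_stalk X.presheaf ⟨x, hx⟩
  haveI := hU.isLocalization_stalk ⟨x, hx⟩
  ext a
  rw [Ideal.mem_comap,
    ← IsLocalization.AtPrime.to_map_mem_maximal_iff (X.presheaf.stalk x)
      (hU.primeIdealOf ⟨x, hx⟩).asIdeal,
    ← IsLocalization.AtPrime.to_map_mem_maximal_iff (S.presheaf.stalk (f x))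
      (hV.primeIdealOf ⟨f x, e hx⟩).asIdeal]
  change (X.presheaf.germ U x hx).hom ((f.appLE V U e).hom a) ∈ _ ↔
    (S.presheaf.germ V (f x) (e hx)).hom a ∈ _
  have h1 : (X.presheaf.germ U x hx).hom ((f.appLE V U e).hom a) =
      (f.stalkMap x).hom ((S.presheaf.germ V (f x) (e hx)).hom a) :=
    congrArg (fun φ : _ →+* _ => φ a) (germ_comp_appLE f x e hx)
  rw [h1]
  haveI : IsLocalHom (f.stalkMap x).hom := f.toLRSHom.prop x
  rw [IsLocalRing.mem_maximalIdeal, IsLocalRing.mem_maximalIdeal, map_mem_nonunits_iff]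

/-- the fibre ideal `m_{f x} O_{X,x}` in terms of an affine chart -/
theorem fibreIdeal_eq (hV : IsAffineOpen V) (hU : IsAffineOpen U) (e : U ≤ f ⁻¹ᵁ V)
    (hx : x ∈ U) :
    Ideal.map (f.stalkMap x).hom (IsLocalRing.maximalIdeal (S.presheaf.stalk (f x))) =
      ((((hU.primeIdealOf ⟨x, hx⟩).asIdeal.comap (f.appLE V U e).hom).map
        (f.appLE V U e).hom).map (X.presheaf.germ U x hx).hom) := by
  letI := TopCat.Presheaf.algebra_section_stalk S.presheaf ⟨f x, e hx⟩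
  haveI := hV.isLocalization_stalk ⟨f x, e hx⟩
  rw [primeIdealOf_comap f x hV hU e hx,
    ← IsLocalization.AtPrime.map_eq_maximalIdeal (hV.primeIdealOf ⟨f x, e hx⟩).asIdeal
      (S.presheaf.stalk (f x)), Ideal.map_map, Ideal.map_map, germ_comp_appLE]
  rfl


/-- flatness of a quotient as a ring hom -/
theorem flat_comp_quotient_mk {A B : Type u} [CommRing A] [CommRing B] (φ : A →+* B)
    (I : Ideal B)
    (h : letI := φ.toAlgebra; Module.Flat A (B ⧸ I)) : ((Ideal.Quotient.mk I).comp φ).Flat := by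
  letI := φ.toAlgebra
  have : (algebraMap A (B ⧸ I)).Flat := RingHom.flat_algebraMap_iff.mpr h
  exact this

theorem fp_comp_quotient_mk {A B : Type u} [CommRing A] [CommRing B] (φ : A →+* B)
    (hφ : φ.FinitePresentation) (b : B) :
    ((Ideal.Quotient.mk (Ideal.span {b})).comp φ).FinitePresentation := by
  refine RingHom.FinitePresentation.comp ?_ hφ
  refine RingHom.FinitePresentation.of_surjective _ Ideal.Quotient.mk_surjective ?_
  rw [Ideal.mk_ker]
  exact ⟨{b}, by simp⟩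

theorem slice_of_flat_chart (H : Hyp4848.{u}) [LocallyOfFinitePresentation f]
    (hV : IsAffineOpen V) (hU : IsAffineOpen U) (e : U ≤ f ⁻¹ᵁ V) (hx : x ∈ U)
    (hflatU : (f.appLE V U e).hom.Flat) (h' : Γ(X, U))
    (hreg : Ideal.Quotient.mk (Ideal.map (f.stalkMap x).hom
        (IsLocalRing.maximalIdeal (S.presheaf.stalk (f x)))) (X.presheaf.germ U x hx h') ∈
      nonZeroDivisors _) :
    ∃ (U' : X.Opens) (hU' : IsAffineOpen U') (hx' : x ∈ U') (h'' : Γ(X, U')),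
      X.presheaf.germ U' x hx' h'' = X.presheaf.germ U x hx h' ∧
      h'' ∈ nonZeroDivisors Γ(X, U') ∧
      Flat (Spec.map (CommRingCat.ofHom (Ideal.Quotient.mk (Ideal.span {h''}))) ≫
        hU'.fromSpec ≫ f) ∧
      LocallyOfFinitePresentation (Spec.map (CommRingCat.ofHom
        (Ideal.Quotient.mk (Ideal.span {h''}))) ≫ hU'.fromSpec ≫ f) := by
  letI algAB : Algebra Γ(S, V) Γ(X, U) := (f.appLE V U e).hom.toAlgebra
  have hfpU : (f.appLE V U e).hom.FinitePresentation :=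
    HasRingHomProperty.appLE (P := @LocallyOfFinitePresentation) f inferInstance ⟨V, hV⟩ ⟨U, hU⟩ e
  haveI : Algebra.FinitePresentation Γ(S, V) Γ(X, U) := hfpU
  haveI : Module.Flat Γ(S, V) Γ(X, U) := hflatU
  letI := TopCat.Presheaf.algebra_section_stalk X.presheaf ⟨x, hx⟩
  haveI := hU.isLocalization_stalk ⟨x, hx⟩
  have hreg' : Ideal.Quotient.mk
      ((((hU.primeIdealOf ⟨x, hx⟩).asIdeal.comap (algebraMap Γ(S, V) Γ(X, U))).map
        (algebraMap Γ(S, V) Γ(X, U))).map (algebraMap Γ(X, U) (X.presheaf.stalk x)))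
      (algebraMap Γ(X, U) (X.presheaf.stalk x) h') ∈ nonZeroDivisors _ :=
    nzd_quotient_of_ideal_eq _ _ (fibreIdeal_eq f x hV hU e hx) _ hreg
  obtain ⟨g, hg, hcore⟩ := core H Γ(S, V) Γ(X, U) (hU.primeIdealOf ⟨x, hx⟩).asIdeal
    (X.presheaf.stalk x) h' hreg'
  have hle : X.basicOpen g ≤ U := X.basicOpen_le g
  have hU' : IsAffineOpen (X.basicOpen g) := hU.basicOpen g
  have hx' : x ∈ X.basicOpen g := by
    rw [X.mem_basicOpen g x hx]
    exact (IsLocalization.AtPrime.isUnit_to_map_iff (X.presheaf.stalk x)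
      (hU.primeIdealOf ⟨x, hx⟩).asIdeal g).mpr hg
  have e' : X.basicOpen g ≤ f ⁻¹ᵁ V := hle.trans e
  letI algABg : Algebra Γ(S, V) Γ(X, X.basicOpen g) := (f.appLE V (X.basicOpen g) e').hom.toAlgebra
  haveI : IsScalarTower Γ(S, V) Γ(X, U) Γ(X, X.basicOpen g) :=
    IsScalarTower.of_algebraMap_eq (fun a => by
      change (f.appLE V (X.basicOpen g) e').hom a =
        (X.presheaf.map (homOfLE hle).op).hom ((f.appLE V U e).hom a)
      rw [← Scheme.Hom.appLE_map f e (homOfLE hle).op]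
      rfl)
  haveI := hU.isLocalization_basicOpen g
  obtain ⟨hnzd, hfl⟩ := hcore Γ(X, X.basicOpen g)
  refine ⟨X.basicOpen g, hU', hx', algebraMap Γ(X, U) Γ(X, X.basicOpen g) h', ?_, hnzd, ?_, ?_⟩
  · exact TopCat.Presheaf.germ_res_apply X.presheaf (homOfLE hle) x hx' h'
  · have hfac : hU'.fromSpec ≫ f = Spec.map (f.appLE V (X.basicOpen g) e') ≫ hV.fromSpec :=
      (IsAffineOpen.SpecMap_appLE_fromSpec f hV hU' e').symm
    rw [hfac, ← Spec.map_comp_assoc]
    haveI : Flat (Spec.map (f.appLE V (X.basicOpen g) e' ≫ CommRingCat.ofHom (Ideal.Quotient.mk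
        (Ideal.span {algebraMap Γ(X, U) Γ(X, X.basicOpen g) h'})))) := by
      rw [HasRingHomProperty.Spec_iff (P := @Flat)]
      exact flat_comp_quotient_mk _ _ hfl
    infer_instance
  · have hfac : hU'.fromSpec ≫ f = Spec.map (f.appLE V (X.basicOpen g) e') ≫ hV.fromSpec :=
      (IsAffineOpen.SpecMap_appLE_fromSpec f hV hU' e').symm
    rw [hfac, ← Spec.map_comp_assoc]
    haveI : LocallyOfFinitePresentation (Spec.map (f.appLE V (X.basicOpen g) e' ≫
        CommRingCat.ofHom (Ideal.Quotient.mk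
        (Ideal.span {algebraMap Γ(X, U) Γ(X, X.basicOpen g) h'})))) := by
      rw [HasRingHomProperty.Spec_iff (P := @LocallyOfFinitePresentation)]
      exact fp_comp_quotient_mk _ (HasRingHomProperty.appLE (P := @LocallyOfFinitePresentation) f
        inferInstance ⟨V, hV⟩ ⟨X.basicOpen g, hU'⟩ e') _
    infer_instance


/-- **S1348**, modulo S4848. -/
theorem slice (H : Hyp4848.{u}) [LocallyOfFinitePresentation f]
    (hflat : (f.stalkMap x).hom.Flat) (h : X.presheaf.stalk x)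
    (hreg : Ideal.Quotient.mk (Ideal.map (f.stalkMap x).hom
        (IsLocalRing.maximalIdeal (S.presheaf.stalk (f x)))) h ∈ nonZeroDivisors _) :
    ∃ (U : X.Opens) (hU : IsAffineOpen U) (hx : x ∈ U) (h' : Γ(X, U)),
      X.presheaf.germ U x hx h' = h ∧ h' ∈ nonZeroDivisors Γ(X, U) ∧
      Flat (Spec.map (CommRingCat.ofHom (Ideal.Quotient.mk (Ideal.span {h'}))) ≫
        hU.fromSpec ≫ f) ∧
      LocallyOfFinitePresentation (Spec.map (CommRingCat.ofHom
        (Ideal.Quotient.mk (Ideal.span {h'}))) ≫ hU.fromSpec ≫ f) := by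
  obtain ⟨V, hV, hfxV, -⟩ := Opens.isBasis_iff_nbhd.mp S.isBasis_affineOpens
    (show f x ∈ (⊤ : S.Opens) from trivial)
  obtain ⟨W, hxW, s, hs⟩ := X.presheaf.exists_germ_eq h
  obtain ⟨U₀, hU₀, hxU₀, hU₀le⟩ := Opens.isBasis_iff_nbhd.mp X.isBasis_affineOpens
    (show x ∈ W ⊓ f ⁻¹ᵁ V from ⟨hxW, hfxV⟩)
  have hU₀W : U₀ ≤ W := hU₀le.trans inf_le_left
  have e₀ : U₀ ≤ f ⁻¹ᵁ V := hU₀le.trans inf_le_right
  set h₀ : Γ(X, U₀) := X.presheaf.map (homOfLE hU₀W).op s with hh₀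
  have hgerm₀ : X.presheaf.germ U₀ x hxU₀ h₀ = h := by
    rw [hh₀, TopCat.Presheaf.germ_res_apply, hs]
  -- shrink to the flat locus
  letI algAB : Algebra Γ(S, V) Γ(X, U₀) := (f.appLE V U₀ e₀).hom.toAlgebra
  have hfpU : (f.appLE V U₀ e₀).hom.FinitePresentation :=
    HasRingHomProperty.appLE (P := @LocallyOfFinitePresentation) f inferInstance ⟨V, hV⟩
      ⟨U₀, hU₀⟩ e₀
  haveI : Algebra.FinitePresentation Γ(S, V) Γ(X, U₀) := hfpU
  letI := TopCat.Presheaf.algebra_section_stalk X.presheaf ⟨x, hxU₀⟩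
  haveI := hU₀.isLocalization_stalk ⟨x, hxU₀⟩
  letI algAq : Algebra Γ(S, V) (X.presheaf.stalk x) :=
    ((X.presheaf.germ U₀ x hxU₀).hom.comp (f.appLE V U₀ e₀).hom).toAlgebra
  haveI : IsScalarTower Γ(S, V) Γ(X, U₀) (X.presheaf.stalk x) :=
    IsScalarTower.of_algebraMap_eq (fun _ => rfl)
  have hflat' : Module.Flat Γ(S, V) (X.presheaf.stalk x) :=
    flat_stalk_of_flat_stalkMap f x hV e₀ hxU₀ hflat
  obtain ⟨g₁, hg₁, hshrink⟩ := exists_away_flat Γ(S, V) Γ(X, U₀)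
    (hU₀.primeIdealOf ⟨x, hxU₀⟩).asIdeal (X.presheaf.stalk x) hflat'
  have hle : X.basicOpen g₁ ≤ U₀ := X.basicOpen_le g₁
  have hU₁ : IsAffineOpen (X.basicOpen g₁) := hU₀.basicOpen g₁
  have hx₁ : x ∈ X.basicOpen g₁ := by
    rw [X.mem_basicOpen g₁ x hxU₀]
    exact (IsLocalization.AtPrime.isUnit_to_map_iff (X.presheaf.stalk x)
      (hU₀.primeIdealOf ⟨x, hxU₀⟩).asIdeal g₁).mpr hg₁
  have e₁ : X.basicOpen g₁ ≤ f ⁻¹ᵁ V := hle.trans e₀
  letI algABg : Algebra Γ(S, V) Γ(X, X.basicOpen g₁) :=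
    (f.appLE V (X.basicOpen g₁) e₁).hom.toAlgebra
  haveI : IsScalarTower Γ(S, V) Γ(X, U₀) Γ(X, X.basicOpen g₁) :=
    IsScalarTower.of_algebraMap_eq (fun a => by
      change (f.appLE V (X.basicOpen g₁) e₁).hom a =
        (X.presheaf.map (homOfLE hle).op).hom ((f.appLE V U₀ e₀).hom a)
      rw [← Scheme.Hom.appLE_map f e₀ (homOfLE hle).op]
      rfl)
  haveI := hU₀.isLocalization_basicOpen g₁
  have hflatU₁ : (f.appLE V (X.basicOpen g₁) e₁).hom.Flat := hshrink Γ(X, X.basicOpen g₁)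
  set h₁ : Γ(X, X.basicOpen g₁) := algebraMap Γ(X, U₀) Γ(X, X.basicOpen g₁) h₀ with hh₁
  have hgerm₁ : X.presheaf.germ (X.basicOpen g₁) x hx₁ h₁ = h := by
    rw [← hgerm₀]
    exact TopCat.Presheaf.germ_res_apply X.presheaf (homOfLE hle) x hx₁ h₀
  rw [← hgerm₁] at hreg
  obtain ⟨U, hU, hx, h', hgerm, hnzd, hfl, hfp⟩ :=
    slice_of_flat_chart f x H hV hU₁ e₁ hx₁ hflatU₁ h₁ hreg
  exact ⟨U, hU, hx, h', hgerm.trans hgerm₁, hnzd, hfl, hfp⟩


end Groth.Agent.H49.SliceScheme
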