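import Groth.Agent.H49.CMMor
import Groth.Agent.H42.AffSmooth
import Groth.Agent.H53.SmoothFieldRegular
import Groth.Agent.H53.QfLocus
import Groth.Agent.H46.CIField
import Groth.Agent.S9766
import Groth.Agent.H51.FibCompMain

/-!
# Cohen–Macaulay morphisms and quasi-finite flat charts over affine space

* `isCMAt_comp_of_isOpenImmersion`: `IsCMAt` is insensitive to open immersions into the source;
* `isCMAt_of_smooth`: smooth morphisms are Cohen–Macaulay at every point;
* `isCMAt_of_lqf_of_flat`: a locally quasi-finite morphism is CM at every point where it is flat;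
* `isCMAt_of_chart`: (EGA IV 15.4.2 b ⇒ a) a morphism admitting near `x` a locally quasi-finite
  `Y`-morphism to `𝔸ⁿ_Y`, flat at `x`, is Cohen–Macaulay at `x`.
-/

set_option autoImplicit false
set_option linter.style.haveILetI false
universe u

open CategoryTheory CategoryTheory.Limits AlgebraicGeometry IsLocalRing

namespace Groth.Agent.H49.CMChart

open Groth.Agent.H49.FibreStalk Groth.Agent.H49.CMMor

variable {X Y Z : Scheme.{u}}

/-- invariance of `IsCMAt` under open immersions into the source. -/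
theorem isCMAt_comp_of_isOpenImmersion (j : X ⟶ Y) [IsOpenImmersion j] (f : Y ⟶ Z) (x : X) :
    MoreMor.IsCMAt (j ≫ f) x ↔ MoreMor.IsCMAt f (j x) := by
  rw [isCMAt_iff, isCMAt_iff]
  haveI hiso : IsIso (j.stalkMap x) := inferInstance
  let e : Y.presheaf.stalk (j x) ≃+* X.presheaf.stalk x :=
    (asIso (j.stalkMap x)).commRingCatIsoToRingEquiv
  refine and_congr ?_ ?_
  · rw [Scheme.Hom.stalkMap_comp]
    exact RingHom.Flat.respectsIso.cancel_right_isIso (f.stalkMap (j x)) (j.stalkMap x)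
  · have hI : fibreIdeal (j ≫ f) x = (fibreIdeal f (j x)).map (e : _ →+* _) :=
      fibreIdeal_comp j f x
    let e' := Ideal.quotientEquiv (fibreIdeal f (j x)) (fibreIdeal (j ≫ f) x) e hI
    exact ⟨Groth.Agent.H49.isCohenMacaulayLocalRing_of_ringEquiv e'.symm,
      Groth.Agent.H49.isCohenMacaulayLocalRing_of_ringEquiv e'⟩

/-- smooth morphisms are Cohen–Macaulay at every point. -/
theorem isCMAt_of_smooth (f : X ⟶ Y) [Smooth f] (x : X) : MoreMor.IsCMAt f x := by
  refine ⟨Flat.stalkMap f x, ?_⟩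
  haveI : Smooth (f.fiberToSpecResidueField (f x)) :=
    (inferInstance : Smooth (pullback.snd f (Y.fromSpecResidueField (f x))))
  haveI := Groth.Agent.H53.isRegularLocalRing_stalk_of_smooth_field (Y.residueField (f x))
    (f.fiberToSpecResidueField (f x)) (f.asFiber x)
  exact Groth.Agent.H46.CIField.isCM_of_isRegularLocalRing _

/-- the fibre of a morphism locally of finite type through any point is locally Noetherian. -/
theorem isLocallyNoetherian_fiber (g : X ⟶ Y) [LocallyOfFiniteType g] (y : Y) :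
    IsLocallyNoetherian (g.fiber y) := by
  haveI : LocallyOfFiniteType (g.fiberToSpecResidueField y) :=
    (inferInstance : LocallyOfFiniteType (pullback.snd g (Y.fromSpecResidueField y)))
  exact LocallyOfFiniteType.isLocallyNoetherian (g.fiberToSpecResidueField y)

/-- at a quasi-finite point, the local ring of the fibre is zero-dimensional. -/
theorem ringKrullDim_fiber_stalk_eq_zero (g : X ⟶ Y) [LocallyOfFiniteType g] (x : X)
    (hq : g.QuasiFiniteAt x) :
    ringKrullDim ((g.fiber (g x)).presheaf.stalk (g.asFiber x)) = 0 := by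
  have h0 := (Groth.Agent.H53.quasiFiniteAt_iff_fibreDimAt_eq_zero g x).mp hq
  have h1 := Groth.Agent.H51.fibreDimAt_eq_dim_stalk_add_trdeg g x
  rw [h0] at h1
  have hnn : (0 : WithBot ℕ∞) ≤ ringKrullDim ((g.fiber (g x)).presheaf.stalk (g.asFiber x)) :=
    ringKrullDim_nonneg_of_nontrivial
  refine le_antisymm ?_ hnn
  calc ringKrullDim ((g.fiber (g x)).presheaf.stalk (g.asFiber x))
      ≤ ringKrullDim ((g.fiber (g x)).presheaf.stalk (g.asFiber x)) +
        ((Cardinal.toENat (Dual3.resTrdeg g x) : ℕ∞) : WithBot ℕ∞) :=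
        le_add_of_nonneg_right (by exact_mod_cast (zero_le : (0 : ℕ∞) ≤ _))
    _ = 0 := h1.symm

/-- a morphism locally of finite type is Cohen–Macaulay at every quasi-finite point at which it is
flat. -/
theorem isCMAt_of_quasiFiniteAt_of_flat (g : X ⟶ Y) [LocallyOfFiniteType g] (x : X)
    (hq : g.QuasiFiniteAt x) (hfl : (g.stalkMap x).hom.Flat) : MoreMor.IsCMAt g x := by
  refine ⟨hfl, ?_⟩
  haveI := isLocallyNoetherian_fiber g (g x)
  exact Groth.Agent.H72.FlatCM.isCohenMacaulayLocalRing_of_ringKrullDim_eq_zero _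
    (ringKrullDim_fiber_stalk_eq_zero g x hq)

/-- **EGA IV 15.4.2, b) ⇒ a)**: a morphism locally of finite type admitting, on a neighbourhood
`U` of `x`, a `Y`-morphism to affine space over `Y` which is quasi-finite and flat at `x`, is
Cohen–Macaulay at `x`. -/
theorem isCMAt_of_chart (f : X ⟶ Y) [LocallyOfFiniteType f] (x : X) (n : Type u) [Finite n]
    (U : X.Opens) (hx : x ∈ U) (g : (U : Scheme.{u}) ⟶ 𝔸(n; Y))
    (hg : g ≫ (𝔸(n; Y) ↘ Y) = U.ι ≫ f) (hq : g.QuasiFiniteAt ⟨x, hx⟩)
    (hfl : (g.stalkMap ⟨x, hx⟩).hom.Flat) : MoreMor.IsCMAt f x := by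
  haveI : Smooth (𝔸(n; Y) ↘ Y) := Groth.Agent.H42.AffSmooth.smooth_over n Y
  haveI h1 : LocallyOfFiniteType (g ≫ (𝔸(n; Y) ↘ Y)) := by rw [hg]; infer_instance
  haveI : LocallyOfFiniteType g := locallyOfFiniteType_of_comp g (𝔸(n; Y) ↘ Y)
  have h2 : MoreMor.IsCMAt (g ≫ (𝔸(n; Y) ↘ Y)) ⟨x, hx⟩ :=
    Groth.Agent.S9766.result g (𝔸(n; Y) ↘ Y) ⟨x, hx⟩ (isLocallyNoetherian_fiber _ _)
      (isCMAt_of_quasiFiniteAt_of_flat g _ hq hfl) (isCMAt_of_smooth _ _)
  rw [hg] at h2
  exact (isCMAt_comp_of_isOpenImmersion U.ι f ⟨x, hx⟩).mp h2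

end Groth.Agent.H49.CMChart
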