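import Mathlib.RingTheory.Extension.Presentation.Core
import Mathlib.Algebra.Module.FinitePresentation
import Mathlib.LinearAlgebra.TensorProduct.RightExactness
import Mathlib.LinearAlgebra.TensorProduct.Pi
import Mathlib.RingTheory.TensorProduct.Pi

set_option autoImplicit false
universe u
open TensorProduct

namespace Groth.Agent.H49.ModuleModel

/-- Two quotients by the same kernel. -/
theorem nonempty_linearEquiv_of_surjective_of_ker_eq {R : Type*} [CommRing R]
    {L M N : Type*} [AddCommGroup L] [AddCommGroup M] [AddCommGroup N] [Module R L] [Module R M]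
    [Module R N] (p : L →ₗ[R] M) (q : L →ₗ[R] N) (hp : Function.Surjective p)
    (hq : Function.Surjective q) (h : LinearMap.ker p = LinearMap.ker q) :
    Nonempty (M ≃ₗ[R] N) :=
  ⟨(p.quotKerEquivOfSurjective hp).symm ≪≫ₗ Submodule.quotEquivOfEq _ _ h ≪≫ₗ
    q.quotKerEquivOfSurjective hq⟩

section
variable {B₀ B : Type u} [CommRing B₀] [CommRing B] [Algebra B₀ B]
variable {M : Type u} [AddCommGroup M] [Module B M]

/-- Base change of a cokernel presentation: if `M = coker (g : B^m → B^n)` and the matrix of `g`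
comes from a matrix `g₀` over `B₀`, then `B ⊗[B₀] coker g₀ ≃ M`. -/
theorem nonempty_tensor_coker_equiv {n m : ℕ} (f : (Fin n → B) →ₗ[B] M)
    (g : (Fin m → B) →ₗ[B] (Fin n → B)) (hf : Function.Surjective f) (hfg : Function.Exact g f)
    (g₀ : (Fin m → B₀) →ₗ[B₀] (Fin n → B₀))
    (hg : ∀ j i, algebraMap B₀ B (g₀ (Pi.single j 1) i) = g (Pi.single j 1) i) :
    Nonempty (B ⊗[B₀] ((Fin n → B₀) ⧸ LinearMap.range g₀) ≃ₗ[B] M) := by
  classical
  let K₀ := LinearMap.range g₀
  let en : B ⊗[B₀] (Fin n → B₀) ≃ₗ[B] (Fin n → B) := TensorProduct.piScalarRight B₀ B B (Fin n)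
  let em : B ⊗[B₀] (Fin m → B₀) ≃ₗ[B] (Fin m → B) := TensorProduct.piScalarRight B₀ B B (Fin m)
  -- the two surjections from `B ⊗ B₀^n`
  let p : B ⊗[B₀] (Fin n → B₀) →ₗ[B] B ⊗[B₀] ((Fin n → B₀) ⧸ K₀) := K₀.mkQ.baseChange B
  let q : B ⊗[B₀] (Fin n → B₀) →ₗ[B] M := f ∘ₗ en.toLinearMap
  have hp : Function.Surjective p := by
    have := LinearMap.lTensor_surjective B (K₀.mkQ_surjective)
    exact this
  have hq : Function.Surjective q := hf.comp en.surjective
  -- compatibility of `g₀` and `g`
  have hcomm : en.toLinearMap ∘ₗ g₀.baseChange B = g ∘ₗ em.toLinearMap := by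
    apply TensorProduct.AlgebraTensorModule.curry_injective
    apply LinearMap.ext_ring
    apply LinearMap.pi_ext'
    intro j
    apply LinearMap.ext_ring
    ext i
    simp only [TensorProduct.AlgebraTensorModule.curry_apply, LinearMap.restrictScalars_comp,
      TensorProduct.curry_apply, LinearMap.coe_comp, LinearMap.coe_restrictScalars,
      LinearEquiv.coe_coe, Function.comp_apply, LinearMap.baseChange_tmul, LinearMap.coe_single,
      en, em, TensorProduct.piScalarRight_apply, TensorProduct.piScalarRightHom_tmul]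
    have h1 : (fun j_1 => (Pi.single j (1 : B₀) : Fin m → B₀) j_1 • (1 : B)) = Pi.single j 1 := by
      ext k
      by_cases hk : k = j
      · subst hk; simp
      · simp [Pi.single_eq_of_ne hk]
    rw [h1, ← hg, Algebra.smul_def, mul_one]
  have hker : LinearMap.ker p = LinearMap.ker q := by
    have h1 : LinearMap.ker p = LinearMap.range (g₀.baseChange B) := by
      have hex : Function.Exact (g₀.lTensor B) (K₀.mkQ.lTensor B) :=
        lTensor_exact B (LinearMap.exact_map_mkQ_range g₀) K₀.mkQ_surjective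
      ext x
      rw [LinearMap.mem_ker, LinearMap.mem_range]
      exact hex x
    rw [h1]
    ext x
    rw [LinearMap.mem_ker, LinearMap.mem_range]
    constructor
    · rintro ⟨y, rfl⟩
      have := congrArg (fun l => l y) hcomm
      simp only [LinearMap.coe_comp, LinearEquiv.coe_coe, Function.comp_apply] at this
      show f (en _) = 0
      rw [this]
      exact hfg.apply_apply_eq_zero _
    · intro hx
      have hx' : f (en x) = 0 := hx
      obtain ⟨z, hz⟩ := (hfg (en x)).mp hx'
      refine ⟨em.symm z, ?_⟩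
      apply en.injective
      have := congrArg (fun l => l (em.symm z)) hcomm
      simp only [LinearMap.coe_comp, LinearEquiv.coe_coe, Function.comp_apply,
        LinearEquiv.apply_symm_apply] at this
      rw [this, hz]
  exact nonempty_linearEquiv_of_surjective_of_ker_eq p q hp hq hker


/-- Noetherian approximation of a finitely presented algebra together with a finitely presented
module. -/
theorem exists_model (A B : Type u) [CommRing A] [CommRing B] [Algebra A B]
    [Algebra.FinitePresentation A B] (M : Type u) [AddCommGroup M] [Module B M]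
    [Module.FinitePresentation B M] :
    ∃ (A₀ : Subalgebra ℤ A) (B₀ : Type u) (_ : CommRing B₀) (_ : Algebra A₀ B₀)
      (e : B ≃ₐ[A] A ⊗[A₀] B₀) (M₀ : Type u) (_ : AddCommGroup M₀) (_ : Module B₀ M₀),
      A₀.FG ∧ Algebra.FinitePresentation A₀ B₀ ∧ Module.Finite B₀ M₀ ∧
      (letI : Algebra B₀ B := ((e.symm.toRingEquiv.toRingHom).comp
          Algebra.TensorProduct.includeRight.toRingHom).toAlgebra;
        Nonempty (B ⊗[B₀] M₀ ≃ₗ[B] M)) := by
  classical
  obtain ⟨n, m, f, g, hf, hfg⟩ := Module.FinitePresentation.exists_fin' B M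
  let P := Algebra.Presentation.ofFinitePresentation A B
  choose q hq using fun (ji : Fin m × Fin n) =>
    P.aeval_val_surjective (g (Pi.single ji.1 1) ji.2)
  let T : Set A := P.coeffs ∪ ⋃ ji, ((q ji).coeffs : Set A)
  have hT : T.Finite :=
    P.finite_coeffs.union (Set.finite_iUnion fun _ => Finset.finite_toSet _)
  let A₀ : Subalgebra ℤ A := Algebra.adjoin ℤ T
  have hco : P.HasCoeffs A₀ := ⟨fun x hx => ⟨⟨x, Algebra.subset_adjoin (Or.inl hx)⟩, rfl⟩⟩
  have hq₀ : ∀ ji, q ji ∈ Set.range (MvPolynomial.map (algebraMap A₀ A)) := by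
    intro ji
    rw [MvPolynomial.mem_range_map_iff_coeffs_subset]
    intro x hx
    exact ⟨⟨x, Algebra.subset_adjoin (Or.inr (Set.mem_iUnion.mpr ⟨ji, hx⟩))⟩, rfl⟩
  choose q₀ hq₀' using hq₀
  let e : B ≃ₐ[A] A ⊗[A₀] P.ModelOfHasCoeffs A₀ := (P.tensorModelOfHasCoeffsEquiv A₀).symm
  letI : Algebra (P.ModelOfHasCoeffs A₀) B := ((e.symm.toRingEquiv.toRingHom).comp
          Algebra.TensorProduct.includeRight.toRingHom).toAlgebra
  let k₀ : Fin m → (Fin n → P.ModelOfHasCoeffs A₀) := fun j i => Ideal.Quotient.mk _ (q₀ (j, i))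
  let g₀ : (Fin m → P.ModelOfHasCoeffs A₀) →ₗ[P.ModelOfHasCoeffs A₀] (Fin n → P.ModelOfHasCoeffs A₀) :=
    (Pi.basisFun (P.ModelOfHasCoeffs A₀) (Fin m)).constr (P.ModelOfHasCoeffs A₀) k₀
  have hg : ∀ j i, algebraMap (P.ModelOfHasCoeffs A₀) B (g₀ (Pi.single j 1) i) =
      g (Pi.single j 1) i := by
    intro j i
    have h1 : g₀ (Pi.single j 1) = k₀ j := by
      have := (Pi.basisFun (P.ModelOfHasCoeffs A₀) (Fin m)).constr_basis (P.ModelOfHasCoeffs A₀)
        k₀ j
      rw [Pi.basisFun_apply] at this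
      exact this
    rw [h1]
    show (P.tensorModelOfHasCoeffsEquiv A₀) (1 ⊗ₜ (Ideal.Quotient.mk _ (q₀ (j, i)))) = _
    rw [Algebra.Presentation.tensorModelOfHasCoeffsEquiv_tmul, map_one, one_mul,
      ← MvPolynomial.aeval_map_algebraMap A, hq₀', hq]
  obtain ⟨eM⟩ := nonempty_tensor_coker_equiv f g hf hfg g₀ hg
  exact ⟨A₀, P.ModelOfHasCoeffs A₀, _, _, e, _, _, _, ⟨hT.toFinset, by simp [A₀]⟩, inferInstance,
    inferInstance, ⟨eM⟩⟩

end

end Groth.Agent.H49.ModuleModel
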