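import Groth.Agent.H91.MvPolyStdSmooth
import Groth.Agent.S2768
import Mathlib.AlgebraicGeometry.AffineSpace
import Mathlib.AlgebraicGeometry.Morphisms.Smooth

/-!
# Affine space is smooth of relative dimension `card n`; its fibres are equidimensional
-/

set_option autoImplicit false
universe u

open CategoryTheory CategoryTheory.Limits AlgebraicGeometry MvPolynomial

namespace Groth.Agent.H49.AffSpaceRelDim

variable (n : Type u) (S : Scheme.{u})

set_option backward.isDefEq.respectTransparency.types false in
theorem smoothOfRelativeDimension_over [Finite n] :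
    SmoothOfRelativeDimension (Nat.card n) (𝔸(n; S) ↘ S) := by
  have := smoothOfRelativeDimension_isStableUnderBaseChange (n := Nat.card n)
  refine MorphismProperty.pullback_fst (P := @SmoothOfRelativeDimension (Nat.card n)) _ _ ?_
  have := isIso_of_isTerminal specULiftZIsTerminal.{u} terminalIsTerminal (terminal.from _)
  rw [← terminal.comp_from (Spec.map (CommRingCat.ofHom C)),
    MorphismProperty.cancel_right_of_respectsIso (P := @SmoothOfRelativeDimension (Nat.card n)),
    HasRingHomProperty.Spec_iff (P := @SmoothOfRelativeDimension (Nat.card n))]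
  apply RingHom.locally_of RingHom.isStandardSmoothOfRelativeDimension_respectsIso
  rw [RingHom.IsStandardSmoothOfRelativeDimension]
  convert! ((Groth.Agent.H91.MvPolyStdSmooth.subPres (ULift.{u} ℤ) n).isStandardSmoothOfRelativeDimension
    (by simp [Algebra.Presentation.dimension]) :
    Algebra.IsStandardSmoothOfRelativeDimension (Nat.card n) (ULift.{u} ℤ)
      (MvPolynomial n (ULift.{u} ℤ)))
  exact Algebra.algebra_ext _ _ fun _ ↦ rfl

/-- every point of a fibre of affine `n`-space has local dimension `card n`. -/
theorem fibreDimAt_affineSpace [Finite n] (z : 𝔸(n; S)) :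
    FlatMor.fibreDimAt (𝔸(n; S) ↘ S) z = (Nat.card n : WithBot ℕ∞) := by
  have := smoothOfRelativeDimension_over n S
  exact Groth.Agent.S2768.result (Nat.card n) (𝔸(n; S) ↘ S) z

end Groth.Agent.H49.AffSpaceRelDim
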