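import Mathlib.AlgebraicGeometry.AffineScheme
import Mathlib.RingTheory.Localization.Away.Basic

set_option autoImplicit false
universe u

namespace Groth.Agent.H49

open AlgebraicGeometry CategoryTheory TopologicalSpace

/-- A property of rings which is invariant under isomorphism, passes to localizations away from
an element, and can be checked on a finite principal cover, holds on all affine opens as soon as
it holds on an affine open cover. -/
theorem ring_property_of_affine_cover (P : ∀ (R : Type u) [CommRing R], Prop)
    (hiso : ∀ {R S : Type u} [CommRing R] [CommRing S], (R ≃+* S) → P R → P S)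
    (hloc : ∀ (R : Type u) [CommRing R] (f : R), P R → P (Localization.Away f))
    (hcov : ∀ (R : Type u) [CommRing R] {ι : Type u} [Finite ι] (f : ι → R),
      Ideal.span (Set.range f) = ⊤ → (∀ i, P (Localization.Away (f i))) → P R)
    (X : Scheme.{u}) {ι : Type u} (U : ι → X.Opens) (hU : iSup U = ⊤)
    (haff : ∀ i, IsAffineOpen (U i)) (h : ∀ i, P Γ(X, U i)) (V : X.Opens) (hV : IsAffineOpen V) :
    P Γ(X, V) := by
  let U' : ι → X.affineOpens := fun i => ⟨U i, haff i⟩
  have hU' : (⨆ i, (U' i : X.Opens)) = ⊤ := hU
  refine of_affine_open_cover (P := fun W => P Γ(X, W.1)) U' hU' ⟨V, hV⟩ ?_ ?_ h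
  · intro W f hW
    haveI := W.2.isLocalization_basicOpen f
    exact hiso (IsLocalization.algEquiv (Submonoid.powers f) (Localization.Away f)
      Γ(X, X.basicOpen f)).toRingEquiv (hloc _ f hW)
  · intro W s hs hW
    refine hcov Γ(X, W.1) (ι := ↥s) (fun f => f.1) ?_ ?_
    · rw [← hs]
      congr 1
      ext x
      simp
    · intro f
      haveI := W.2.isLocalization_basicOpen f.1
      exact hiso (IsLocalization.algEquiv (Submonoid.powers f.1) (Localization.Away f.1)
        Γ(X, X.basicOpen f.1)).symm.toRingEquiv (hW f)

end Groth.Agent.H49
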