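import Groth.Agent.H49.AlgSpOpen
import Groth.Agent.H49.AlgSpPoints
import Mathlib.AlgebraicGeometry.Morphisms.UniversallyClosed

set_option autoImplicit false
universe u
open CategoryTheory CategoryTheory.Limits AlgebraicGeometry Opposite

namespace Groth.Agent.H49

open AlgSp

variable {S : Scheme.{u}}

/-- Closedness of a subset of the points of a sheaf can be tested on a jointly surjective family
of étale charts. -/
theorem isClosed_points_of_charts {F : Sp S} {ι : Type*} (W : ι → Over S)
    (a : ∀ i, (yon S).obj (W i) ⟶ F) (ha : ∀ i, RepWith @Etale (a i))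
    (hsurj : ∀ y : Points F, ∃ i w, Points.map (a i) w = y) (B : Set (Points F))
    (hB : ∀ i, IsClosed (Points.map (a i) ⁻¹' B)) : IsClosed B := by
  rw [← isOpen_compl_iff]
  have : Bᶜ = ⋃ i, Points.map (a i) '' (Points.map (a i) ⁻¹' B)ᶜ := by
    ext y
    simp only [Set.mem_compl_iff, Set.mem_iUnion, Set.mem_image, Set.mem_preimage]
    constructor
    · intro hy
      obtain ⟨i, w, rfl⟩ := hsurj y
      exact ⟨i, w, hy, rfl⟩
    · rintro ⟨i, w, hw, rfl⟩
      exact hw
  rw [this]
  exact isOpen_iUnion fun i =>
    isOpenMap_points_map_of_etale (a i) (ha i) _ (hB i).isOpen_compl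

/-- Closedness on points can be checked on a jointly surjective family of étale charts of the
target, after base change. -/
theorem isClosedMap_points_of_squares {F' F : Sp S} (φ : F' ⟶ F) {ι : Type*} (W : ι → Over S)
    (Q : ι → Sp S) (a : ∀ i, (yon S).obj (W i) ⟶ F) (b : ∀ i, Q i ⟶ F')
    (c : ∀ i, Q i ⟶ (yon S).obj (W i)) (sq : ∀ i, IsPullback (b i) (c i) φ (a i))
    (ha : ∀ i, RepWith @Etale (a i))
    (hsurj : ∀ y : Points F, ∃ i w, Points.map (a i) w = y)
    (hc : ∀ i, IsClosedMap (Points.map (c i))) : IsClosedMap (Points.map φ) := by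
  intro C hC
  refine isClosed_points_of_charts W a ha hsurj _ fun i => ?_
  have : Points.map (a i) ⁻¹' (Points.map φ '' C) =
      Points.map (c i) '' (Points.map (b i) ⁻¹' C) := by
    ext w
    simp only [Set.mem_preimage, Set.mem_image]
    constructor
    · rintro ⟨x, hx, hxw⟩
      obtain ⟨z, hz1, hz2⟩ := Groth.Agent.H53.exists_point_of_isPullback (sq i) x w hxw
      exact ⟨z, by rwa [hz1], hz2⟩
    · rintro ⟨z, hz, rfl⟩
      refine ⟨Points.map (b i) z, hz, ?_⟩
      rw [← Points.map_comp, ← Points.map_comp, (sq i).w]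
  rw [this]
  exact hc i _ (hC.preimage (Points.continuous_map (b i)))

/-- A representable universally closed morphism is universally closed on points. -/
theorem isUnivClosedMor_of_repWith {F G : Sp S} {f : F ⟶ G} (hf : RepWith @UniversallyClosed f) :
    IsUnivClosedMor f := by
  intro Z Z' hZ g fst snd sq
  obtain ⟨W, a, hae, has⟩ := hZ.atlas
  obtain ⟨W', ψ, a', sq1, sq2⟩ := exists_chart_of_isPullback_representable hf.rep sq a
  have hψ : UniversallyClosed ψ.left := hf.property _ _ _ sq2
  change IsClosedMap (Points.map snd)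
  refine isClosedMap_points_of_squares snd (ι := Unit) (fun _ => W) (fun _ => (yon S).obj W')
    (fun _ => a) (fun _ => a') (fun _ => (yon S).map ψ) (fun _ => sq1) (fun _ => hae) ?_ ?_
  · intro y
    obtain ⟨w, hw⟩ := points_surjective_of_repWith_surjective a has y
    exact ⟨(), w, hw⟩
  · intro _
    exact (isClosedMap_points_yon_map_iff ψ).2 ψ.left.isClosedMap

/-- A representable morphism that is universally closed on points is representably universally
closed. -/
theorem repWith_universallyClosed_of_isUnivClosedMor {F G : Sp S} {f : F ⟶ G}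
    (hf : Representable f) (h : IsUnivClosedMor f) : RepWith @UniversallyClosed f := by
  have h1 : RepWith (AlgebraicGeometry.topologically @IsClosedMap) f :=
    ⟨hf, fun T V g fst snd sq => (isClosedMap_points_yon_map_iff snd).1
      (h (IsAlgSpace.yon_obj T) g fst ((yon S).map snd) sq)⟩
  have h2 := repWith_universally _ h1
  rwa [← universallyClosed_eq] at h2

/-- Universal closedness on points can be tested on affine schemes. -/
theorem isUnivClosedMor_of_affine {F G : Sp S} (f : F ⟶ G)
    (h : ∀ (Z : Over S), IsAffine Z.left → ∀ (g : (yon S).obj Z ⟶ G) (P : Sp S)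
      (fst : P ⟶ F) (snd : P ⟶ (yon S).obj Z), IsPullback fst snd f g →
      IsClosedMap (Points.map snd)) : IsUnivClosedMor f := by
  intro Z Z' hZ g fst snd sq
  obtain ⟨W, a, hae, has⟩ := hZ.atlas
  let 𝒰 := W.left.affineCover
  let Wi : 𝒰.I₀ → Over S := fun i => Over.mk (𝒰.f i ≫ W.hom)
  let j : ∀ i, Wi i ⟶ W := fun i => Over.homMk (𝒰.f i)
  have hj : ∀ i, Etale (j i).left := fun i => by
    change Etale (𝒰.f i)
    infer_instance
  let ai : ∀ i, (yon S).obj (Wi i) ⟶ Z := fun i => (yon S).map (j i) ≫ a
  change IsClosedMap (Points.map snd)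
  refine isClosedMap_points_of_squares snd Wi (fun i => pullback snd (ai i)) ai
    (fun i => pullback.fst _ _) (fun i => pullback.snd _ _)
    (fun i => IsPullback.of_hasPullback _ _)
    (fun i => repWith_etale_yon_map_comp (j i) a hae) ?_ ?_
  · intro y
    obtain ⟨w, hw⟩ := Groth.Agent.H52.ofPt_surjective_of_repWith_surjective a has y
    obtain ⟨i, wi, hwi⟩ := 𝒰.exists_eq w
    refine ⟨i, Points.ofScheme (Wi i) wi, ?_⟩
    rw [← Points.ofPt_eq_map_ofScheme, Groth.Agent.H52.ofPt_yon_map_comp, ← hw]
    congr 1
  · intro i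
    have hWi : IsAffine (Wi i).left := by
      change IsAffine (𝒰.X i)
      infer_instance
    have sqi := (IsPullback.of_hasPullback snd (ai i)).flip.paste_vert sq.flip
    exact h (Wi i) hWi (ai i ≫ g) _ _ _ sqi.flip

/-- Universal closedness on points descends along an étale surjective base change from a
scheme. -/
theorem isUnivClosedMor_of_etale_cover {X Y P : Sp S} (f : X ⟶ Y) {V : Over S}
    (p : (yon S).obj V ⟶ Y) (hp : RepWith @Etale p) (hps : RepWith @Surjective p)
    (fst : P ⟶ X) (snd : P ⟶ (yon S).obj V) (sq : IsPullback fst snd f p)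
    (h : IsUnivClosedMor snd) : IsUnivClosedMor f := by
  intro Z Z' hZ g fst' snd' sq'
  obtain ⟨W, a, α, hae, has, hcomm⟩ := exists_chart_lift hZ g p hp hps
  change IsClosedMap (Points.map snd')
  refine isClosedMap_points_of_squares snd' (ι := Unit) (fun _ => W) (fun _ => pullback snd' a)
    (fun _ => a) (fun _ => pullback.fst _ _) (fun _ => pullback.snd _ _)
    (fun _ => IsPullback.of_hasPullback _ _) (fun _ => hae) ?_ ?_
  · intro y
    obtain ⟨w, hw⟩ := points_surjective_of_repWith_surjective a has y
    exact ⟨(), w, hw⟩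
  · intro _
    have outer := ((IsPullback.of_hasPullback snd' a).flip.paste_vert sq'.flip).flip
    rw [hcomm] at outer
    exact h (IsAlgSpace.yon_obj W) ((yon S).map α) _ _ (IsPullback.of_right' outer sq)

end Groth.Agent.H49
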