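import Groth.Agent.H49.SheafCoprod
import Groth.Agent.H49.AlgSpLocal
import Groth.Prelude.Def_AlgSp
import Mathlib.AlgebraicGeometry.Morphisms.UniversallyOpen
import Mathlib.AlgebraicGeometry.Morphisms.FlatDescent

/-!
# Coproducts of fppf sheaves over a scheme

A map from a representable sheaf `h_T` to a coproduct `∐ F_i` of fppf sheaves decomposes `T` into
pairwise disjoint open subschemes `T_i` with `h_{T_i} = h_T ×_{∐ F_i} F_i`.
-/

set_option autoImplicit false
universe u t w
open CategoryTheory CategoryTheory.Limits AlgebraicGeometry Opposite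

namespace Groth.Agent.H49

open AlgSp

/-- A commutative square of sheaves of sets which is sectionwise a pullback is a pullback. -/
theorem isPullback_sheaf_of_sections {C : Type*} [Category C] {J : GrothendieckTopology C}
    {P X Y Z : Sheaf J (Type w)} {fst : P ⟶ X} {snd : P ⟶ Y} {f : X ⟶ Z} {g : Y ⟶ Z}
    (hw : fst ≫ f = snd ≫ g)
    (hinj : ∀ (U : Cᵒᵖ) (p p' : P.obj.obj U), fst.hom.app U p = fst.hom.app U p' →
      snd.hom.app U p = snd.hom.app U p' → p = p')
    (hsurj : ∀ (U : Cᵒᵖ) (a : X.obj.obj U) (b : Y.obj.obj U), f.hom.app U a = g.hom.app U b →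
      ∃ p : P.obj.obj U, fst.hom.app U p = a ∧ snd.hom.app U p = b) :
    IsPullback fst snd f g := by
  apply IsPullback.of_map (sheafToPresheaf J _) hw
  refine IsPullback.of_forall_isPullback_app fun U => ?_
  rw [Types.isPullback_iff]
  refine ⟨?_, fun p p' ⟨h1, h2⟩ => hinj U p p' h1 h2, fun a b h => hsurj U a b h⟩
  have := congrArg (fun k => k.hom.app U) hw
  exact this

variable {S : Scheme.{u}}

/-- An object of the big fppf site covered by the empty sieve is the empty scheme. -/
theorem isEmpty_of_bot_mem {P : Over S} (h : (⊥ : Sieve P) ∈ J S P) : IsEmpty P.left := by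
  rw [GrothendieckTopology.mem_over_iff,
    Precoverage.mem_toGrothendieck_iff_of_isStableUnderComposition] at h
  obtain ⟨R, hR, hle⟩ := h
  refine ⟨fun p => ?_⟩
  obtain ⟨Y, g, hg, -⟩ :=
    (Presieve.mem_comap_jointlySurjectivePrecoverage_iff Scheme.forget).1 hR.1 p
  have := hle _ _ hg
  rw [Sieve.overEquiv_iff] at this
  exact this

/-- A covering sieve of the big fppf site contains an fppf covering family. -/
theorem exists_fppf_cover_of_mem {T : Over S} (R : Sieve T) (hR : R ∈ J S T) :
    ∃ R' ∈ Scheme.fppfPrecoverage T.left, ∀ ⦃U' : Scheme.{u}⦄ (g : U' ⟶ T.left), R' g →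
      R (Over.homMk g : Over.mk (g ≫ T.hom) ⟶ T) := by
  rw [GrothendieckTopology.mem_over_iff,
    Precoverage.mem_toGrothendieck_iff_of_isStableUnderComposition] at hR
  obtain ⟨R', hR', hle⟩ := hR
  refine ⟨R', hR', fun U' g hg => ?_⟩
  have := hle _ _ hg
  rwa [Sieve.overEquiv_iff] at this

section Decomp

variable {ι : Type t} {F : Discrete ι ⥤ Sp S} {c : Cocone F}

/-- `f : Y ⟶ T` is good for `i` if the restriction of `x` along `f` comes from `F i`. -/
def Good (c : Cocone F) {T : Over S} (x : c.pt.obj.obj (op T)) (i : Discrete ι) {Y : Over S}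
    (f : Y ⟶ T) : Prop :=
  ∃ y : (F.obj i).obj.obj (op Y), (c.ι.app i).hom.app (op Y) y = c.pt.obj.map f.op x

theorem Good.comp {T : Over S} {x : c.pt.obj.obj (op T)} {i : Discrete ι} {Y Z : Over S}
    {f : Y ⟶ T} (h : Good c x i f) (g : Z ⟶ Y) : Good c x i (g ≫ f) := by
  obtain ⟨y, hy⟩ := h
  refine ⟨(F.obj i).obj.map g.op y, ?_⟩
  rw [NatTrans.naturality_apply, hy, op_comp, Functor.map_comp_apply]
  rfl

variable [HasColimitsOfShape (Discrete ι) (Type (u + 1))] (hc : IsColimit c)
include hc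

theorem Good.isEmpty {T : Over S} {x : c.pt.obj.obj (op T)} {i j : Discrete ι} (hij : i ≠ j)
    {Y : Over S} {f : Y ⟶ T} (hi : Good c x i f) (hj : Good c x j f) : IsEmpty Y.left := by
  obtain ⟨y, hy⟩ := hi
  obtain ⟨y', hy'⟩ := hj
  exact isEmpty_of_bot_mem (coprod_bot_mem hc hij Y y y' (hy.trans hy'.symm))

/-- Two good morphisms whose images meet are good for the same index. -/
theorem Good.eq_of_meet {T : Over S} {x : c.pt.obj.obj (op T)} {i j : Discrete ι}
    {Y Y' : Over S} {f : Y ⟶ T} {f' : Y' ⟶ T} (hi : Good c x i f) (hj : Good c x j f')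
    (y : Y.left) (y' : Y'.left) (h : f.left y = f'.left y') : i = j := by
  by_contra hij
  obtain ⟨z, -, -⟩ := Scheme.Pullback.exists_preimage_pullback y y' h
  let P : Over S := Over.mk (pullback.fst f.left f'.left ≫ Y.hom)
  let p1 : P ⟶ Y := Over.homMk (pullback.fst f.left f'.left)
  let p2 : P ⟶ Y' := Over.homMk (pullback.snd f.left f'.left) (by
    have h1 := Over.w f
    have h2 := Over.w f'
    change pullback.snd f.left f'.left ≫ Y'.hom = pullback.fst f.left f'.left ≫ Y.hom
    rw [← h1, ← h2, pullback.condition_assoc])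
  have e : p1 ≫ f = p2 ≫ f' := by
    ext
    exact pullback.condition
  have h1 := hi.comp p1
  have h2 := hj.comp p2
  rw [← e] at h2
  exact (Good.isEmpty hc hij h1 h2).false z

omit hc [HasColimitsOfShape (Discrete ι) (Type (u + 1))] in
theorem Good.of_fac {T : Over S} {x : c.pt.obj.obj (op T)} {i : Discrete ι} {Y Z : Over S}
    {f : Y ⟶ T} (h : Good c x i f) (g : Z ⟶ Y) (f' : Z ⟶ T) (e : g ≫ f = f') : Good c x i f' :=
  e ▸ h.comp g

omit hc in
/-- The open subset of points of `T` near which `x` comes from `F i`. -/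
def goodOpen (c : Cocone F) {T : Over S} (x : c.pt.obj.obj (op T)) (i : Discrete ι) :
    T.left.Opens :=
  ⟨{t | ∃ (U' : Scheme.{u}) (g : U' ⟶ T.left), Flat g ∧ LocallyOfFinitePresentation g ∧
      Good c x i (Over.homMk g : Over.mk (g ≫ T.hom) ⟶ T) ∧ t ∈ Set.range g}, by
    rw [isOpen_iff_forall_mem_open]
    rintro t ⟨U', g, h1, h2, h3, h4⟩
    exact ⟨Set.range g, fun t' ht' => ⟨U', g, h1, h2, h3, ht'⟩, g.isOpenMap.isOpen_range, h4⟩⟩

theorem exists_mem_goodOpen {T : Over S} (x : c.pt.obj.obj (op T)) (t : T.left) :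
    ∃ i, t ∈ goodOpen c x i := by
  obtain ⟨R, hR, h⟩ := coprod_locally_surjective hc T x
  obtain ⟨R', hR', hle⟩ := exists_fppf_cover_of_mem R hR
  obtain ⟨U', g, hg, ht⟩ :=
    (Presieve.mem_comap_jointlySurjectivePrecoverage_iff Scheme.forget).1 hR'.1 t
  obtain ⟨i, y, hy⟩ := h _ (hle g hg)
  have hfl := hR'.2 hg
  exact ⟨i, U', g, hfl.1, hfl.2, ⟨y, hy⟩, ht⟩

theorem Good.mem_goodOpen {T : Over S} {x : c.pt.obj.obj (op T)} {i : Discrete ι} {Y : Over S}
    {f : Y ⟶ T} (h : Good c x i f) (y : Y.left) : f.left y ∈ goodOpen c x i := by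
  obtain ⟨j, hj⟩ := exists_mem_goodOpen hc x (f.left y)
  obtain ⟨U', g, h1, h2, h3, ⟨u', hu'⟩⟩ := hj
  have : i = j := Good.eq_of_meet hc h h3 y u' hu'.symm
  subst this
  exact ⟨U', g, h1, h2, h3, ⟨u', hu'⟩⟩

theorem goodOpen_disjoint {T : Over S} (x : c.pt.obj.obj (op T)) {i j : Discrete ι}
    (hij : i ≠ j) : Disjoint (goodOpen c x i) (goodOpen c x j) := by
  rw [← TopologicalSpace.Opens.coe_disjoint, Set.disjoint_left]
  rintro t ⟨U', g, -, -, h3, ⟨u', hu'⟩⟩ ⟨U'', g', -, -, h3', ⟨u'', hu''⟩⟩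
  exact hij (Good.eq_of_meet hc h3 h3' u' u'' (hu'.trans hu''.symm))

theorem iSup_goodOpen {T : Over S} (x : c.pt.obj.obj (op T)) : ⨆ i, goodOpen c x i = ⊤ := by
  rw [eq_top_iff]
  intro t _
  obtain ⟨i, hi⟩ := exists_mem_goodOpen hc x t
  exact TopologicalSpace.Opens.mem_iSup.2 ⟨i, hi⟩

omit hc [HasColimitsOfShape (Discrete ι) (Type (u + 1))] in
/-- The open subscheme `goodOpen c x i` as an object over `S`. -/
abbrev goodOver (c : Cocone F) {T : Over S} (x : c.pt.obj.obj (op T)) (i : Discrete ι) : Over S :=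
  Over.mk ((goodOpen c x i).ι ≫ T.hom)

omit hc [HasColimitsOfShape (Discrete ι) (Type (u + 1))] in
/-- The inclusion of `goodOpen c x i`. -/
abbrev goodIncl (c : Cocone F) {T : Over S} (x : c.pt.obj.obj (op T)) (i : Discrete ι) :
    goodOver c x i ⟶ T :=
  Over.homMk (goodOpen c x i).ι

omit hc [HasColimitsOfShape (Discrete ι) (Type (u + 1))] in
/-- The sieve of morphisms to `goodOpen c x i` which are good for `i`. -/
def goodSieve (c : Cocone F) {T : Over S} (x : c.pt.obj.obj (op T)) (i : Discrete ι) :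
    Sieve (goodOver c x i) where
  arrows Y h := Good c x i (h ≫ goodIncl c x i)
  downward_closed hh g := by
    rw [Category.assoc]
    exact hh.comp g

/-- The presieve of flat, locally finitely presented good morphisms to `goodOpen c x i`. -/
def goodPresieve (c : Cocone F) {T : Over S} (x : c.pt.obj.obj (op T)) (i : Discrete ι) :
    Presieve (goodOver c x i).left :=
  fun U' g => Flat g ∧ LocallyOfFinitePresentation g ∧
    Good c x i ((Over.homMk g : Over.mk (g ≫ (goodOver c x i).hom) ⟶ goodOver c x i) ≫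
      goodIncl c x i)

theorem goodSieve_mem {T : Over S} (x : c.pt.obj.obj (op T)) (i : Discrete ι) :
    goodSieve c x i ∈ J S (goodOver c x i) := by
  rw [GrothendieckTopology.mem_over_iff,
    Precoverage.mem_toGrothendieck_iff_of_isStableUnderComposition]
  refine ⟨goodPresieve c x i, ⟨?_, fun {U'} g hg => ⟨hg.1, hg.2.1⟩⟩, ?_⟩
  · rw [Scheme.jointlySurjectivePrecoverage, Presieve.mem_comap_jointlySurjectivePrecoverage_iff]
    intro w
    have hw : (goodOpen c x i).ι w ∈ goodOpen c x i := by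
      have h0 : (goodOpen c x i).ι w ∈ Set.range (goodOpen c x i).ι := Set.mem_range_self w
      rwa [Scheme.Opens.range_ι] at h0
    obtain ⟨U', g, h1, h2, h3, ⟨u', hu'⟩⟩ := hw
    have hr : Set.range g ⊆ Set.range (goodOpen c x i).ι := by
      rw [Scheme.Opens.range_ι]
      rintro _ ⟨u, rfl⟩
      exact Good.mem_goodOpen hc h3 u
    obtain ⟨g', hg'⟩ : ∃ g' : U' ⟶ (goodOpen c x i).toScheme, g = g' ≫ (goodOpen c x i).ι :=
      ⟨IsOpenImmersion.lift (goodOpen c x i).ι g hr, (IsOpenImmersion.lift_fac _ _ _).symm⟩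
    subst hg'
    have hf1 : Flat g' :=
      MorphismProperty.of_postcomp (W := @Flat) (W' := @IsOpenImmersion) g' (goodOpen c x i).ι
        inferInstance h1
    have hf2 : LocallyOfFinitePresentation g' :=
      MorphismProperty.of_postcomp (W := @LocallyOfFinitePresentation) (W' := @IsOpenImmersion)
        g' (goodOpen c x i).ι inferInstance h2
    refine ⟨U', g', ⟨hf1, hf2, ?_⟩, u', ?_⟩
    · refine h3.of_fac (Over.homMk (𝟙 _) (by simp)) _ ?_
      ext
      simp
    · apply (goodOpen c x i).ι.injective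
      rw [← hu']
      rfl
  · intro U' g hg
    rw [Sieve.overEquiv_iff]
    exact hg.2.2

/-- The restriction of `x` to `goodOpen c x i` comes from `F i`. -/
theorem good_goodIncl {T : Over S} (x : c.pt.obj.obj (op T)) (i : Discrete ι) :
    Good c x i (goodIncl c x i) := by
  have hcov := goodSieve_mem hc x i
  have hsheaf : Presieve.IsSheaf (J S) (F.obj i).obj :=
    (isSheaf_iff_isSheaf_of_type _ _).1 (F.obj i).property
  have hsep : Presieve.IsSeparated (J S) c.pt.obj :=
    ((isSheaf_iff_isSheaf_of_type _ _).1 c.pt.property).isSeparated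
  let fam : Presieve.FamilyOfElements (F.obj i).obj (goodSieve c x i).arrows :=
    fun Y h hh => Exists.choose hh
  have hfam : ∀ {Y : Over S} (h : Y ⟶ goodOver c x i) (hh : goodSieve c x i h),
      (c.ι.app i).hom.app (op Y) (fam h hh) = c.pt.obj.map (h ≫ goodIncl c x i).op x :=
    fun h hh => Exists.choose_spec hh
  have hcompat : fam.Compatible := by
    intro Y₁ Y₂ Z g₁ g₂ f₁ f₂ h₁ h₂ e
    apply coprod_ι_injective hc i Z
    rw [NatTrans.naturality_apply, NatTrans.naturality_apply, hfam, hfam]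
    change c.pt.obj.map g₁.op _ = c.pt.obj.map g₂.op _
    rw [← Functor.map_comp_apply, ← Functor.map_comp_apply, ← op_comp, ← op_comp,
      ← Category.assoc, ← Category.assoc, e]
  refine ⟨(hsheaf _ hcov).amalgamate fam hcompat, ?_⟩
  refine (hsep _ hcov).ext ?_
  intro Y h hh
  have h1 := NatTrans.naturality_apply (c.ι.app i).hom h.op ((hsheaf _ hcov).amalgamate fam hcompat)
  have h2 : (F.obj i).obj.map h.op ((hsheaf _ hcov).amalgamate fam hcompat) = fam h hh :=
    (hsheaf _ hcov).valid_glue hcompat h hh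
  rw [h2, hfam] at h1
  refine Eq.trans h1.symm ?_
  rw [op_comp, Functor.map_comp_apply]

/-- The open subscheme `goodOpen` represents the fibre product `h_T ×_{∐ F} F i`. -/
theorem exists_isPullback_goodIncl {T : Over S} (ξ : (yon S).obj T ⟶ c.pt) (i : Discrete ι) :
    ∃ b : (yon S).obj (goodOver c ((J S).uliftYonedaEquiv ξ) i) ⟶ F.obj i,
      IsPullback b ((yon S).map (goodIncl c ((J S).uliftYonedaEquiv ξ) i)) (c.ι.app i) ξ := by
  set x := (J S).uliftYonedaEquiv ξ with hx
  obtain ⟨y, hy⟩ := good_goodIncl hc x i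
  let b : (yon S).obj (goodOver c x i) ⟶ F.obj i := (J S).uliftYonedaEquiv.symm y
  refine ⟨b, ?_⟩
  have hw : b ≫ c.ι.app i = (yon S).map (goodIncl c x i) ≫ ξ := by
    apply (J S).uliftYonedaEquiv.injective
    rw [(J S).uliftYonedaEquiv_comp, Equiv.apply_symm_apply, ← (J S).uliftYonedaEquiv_naturality]
    exact hy
  refine isPullback_sheaf_of_sections hw ?_ ?_
  · intro U p p' _ h2
    have h3 : p.down ≫ goodIncl c x i = p'.down ≫ goodIncl c x i := congrArg ULift.down h2
    have hmono : Mono (goodIncl c x i) := by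
      have : Mono ((Over.forget S).map (goodIncl c x i)) :=
        inferInstanceAs (Mono (goodOpen c x i).ι)
      exact (Over.forget S).mono_of_mono_map this
    exact ULift.ext _ _ ((cancel_mono _).1 h3)
  · intro U a q h
    have hq : ξ.hom.app U q = c.pt.obj.map q.down.op x :=
      ((J S).map_uliftYonedaEquiv ξ q.down).symm
    have hgood : Good c x i q.down := ⟨a, h.trans hq⟩
    have hr : Set.range q.down.left ⊆ Set.range (goodOpen c x i).ι := by
      rw [Scheme.Opens.range_ι]
      rintro _ ⟨u, rfl⟩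
      exact Good.mem_goodOpen hc hgood u
    let p : U.unop ⟶ goodOver c x i :=
      Over.homMk (IsOpenImmersion.lift (goodOpen c x i).ι q.down.left hr) (by
        change IsOpenImmersion.lift (goodOpen c x i).ι q.down.left hr ≫
          (goodOpen c x i).ι ≫ T.hom = _
        rw [IsOpenImmersion.lift_fac_assoc]
        exact Over.w q.down)
    have hp : p ≫ goodIncl c x i = q.down := by
      ext
      exact IsOpenImmersion.lift_fac _ _ _
    refine ⟨⟨p⟩, ?_, ?_⟩
    · apply coprod_ι_injective hc i U.unop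
      have h1 : b.hom.app U ⟨p⟩ = (F.obj i).obj.map p.op y := rfl
      rw [h1, NatTrans.naturality_apply, hy, h, hq, ← hp, op_comp, Functor.map_comp_apply]
      rfl
    · exact ULift.ext _ _ hp

theorem isClosed_goodOpen {T : Over S} (x : c.pt.obj.obj (op T)) (i : Discrete ι) :
    IsClosed (goodOpen c x i : Set T.left) := by
  rw [← isOpen_compl_iff, isOpen_iff_forall_mem_open]
  intro t ht
  obtain ⟨j, hj⟩ := exists_mem_goodOpen hc x t
  have hij : i ≠ j := by
    rintro rfl
    exact ht hj
  refine ⟨goodOpen c x j, ?_, (goodOpen c x j).isOpen, hj⟩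
  intro t' ht' hti
  exact Set.disjoint_left.1
    ((TopologicalSpace.Opens.coe_disjoint).2 (goodOpen_disjoint hc x hij)) hti ht'

/-- The coprojections of a coproduct of fppf sheaves are representable by open and closed
immersions. -/
theorem repWith_open_closed_ι (i : Discrete ι) :
    RepWith (@IsOpenImmersion ⊓ @IsClosedImmersion) (c.ι.app i) := by
  apply MorphismProperty.relative.of_exists
  intro T ξ
  obtain ⟨b, sq⟩ := exists_isPullback_goodIncl hc ξ i
  refine ⟨_, b, goodIncl c _ i, sq, ?_⟩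
  change (@IsOpenImmersion ⊓ @IsClosedImmersion) (goodOpen c _ i).ι
  refine ⟨inferInstance, ?_⟩
  apply IsClosedImmersion.of_isPreimmersion
  rw [Scheme.Opens.range_ι]
  exact isClosed_goodOpen hc _ i

end Decomp

end Groth.Agent.H49
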