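import Groth.Agent.H49.AlgSpCoprod
import Groth.Agent.H49.AlgSpRep

/-!
# Coproducts of algebraic spaces

* `yon` turns coproducts of schemes over `S` into coproducts of fppf sheaves.
* A coproduct of algebraic spaces is an algebraic space.
-/

set_option autoImplicit false
universe u
open CategoryTheory CategoryTheory.Limits AlgebraicGeometry Opposite

namespace Groth.Agent.H49

open AlgSp

variable {S : Scheme.{u}} {ι : Type u}

/-- An empty scheme over `S` is covered by the empty sieve. -/
theorem bot_mem_J_of_isEmpty (Z : Over S) [IsEmpty Z.left] : (⊥ : Sieve Z) ∈ J S Z := by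
  rw [GrothendieckTopology.mem_over_iff]
  refine GrothendieckTopology.superset_covering _ ?_
    (Precoverage.generate_mem_toGrothendieck
      (Scheme.bot_mem_precoverage (@Flat ⊓ @LocallyOfFinitePresentation) Z.left))
  rw [Sieve.generate_le_iff]
  rintro Y f ⟨⟩

section OverCofan

variable {X : ι → Over S} {d : Cofan X} (hd : IsColimit d)
include hd

/-- The underlying scheme of a coproduct in `Over S` is the coproduct of the underlying schemes. -/
theorem exists_sigma_iso : ∃ e : (∐ fun i => (X i).left) ≅ d.pt.left,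
    ∀ i, Sigma.ι (fun i => (X i).left) i ≫ e.hom = (d.inj i).left := by
  have h1 : IsColimit (Cofan.mk d.pt d.inj) :=
    hd.ofIsoColimit (Cocone.ext (Iso.refl _) (by rintro ⟨i⟩; simp [Cofan.inj]))
  have h2 := isColimitCofanMkObjOfIsColimit (Over.forget S) X d.inj h1
  refine ⟨(colimit.isColimit _).coconePointUniqueUpToIso h2, fun i => ?_⟩
  exact (colimit.isColimit _).comp_coconePointUniqueUpToIso_hom h2 ⟨i⟩

theorem isOpenImmersion_inj_left (i : ι) : IsOpenImmersion (d.inj i).left := by
  obtain ⟨e, he⟩ := exists_sigma_iso hd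
  rw [← he i]
  infer_instance

theorem exists_inj_left_eq (z : d.pt.left) : ∃ (i : ι) (y : (X i).left), (d.inj i).left y = z := by
  obtain ⟨e, he⟩ := exists_sigma_iso hd
  obtain ⟨i, y, hy⟩ := (sigmaOpenCover fun i => (X i).left).exists_eq (e.inv z)
  refine ⟨i, y, ?_⟩
  rw [← he i, Scheme.Hom.comp_apply]
  change Sigma.ι (fun i => (X i).left) i y = e.inv z at hy
  rw [hy, ← Scheme.Hom.comp_apply, Iso.inv_hom_id]
  rfl

theorem isEmpty_of_inj_comp_eq {Z : Over S} {i j : ι} (a : Z ⟶ X i) (b : Z ⟶ X j)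
    (h : a ≫ d.inj i = b ≫ d.inj j) (hij : i ≠ j) : IsEmpty Z.left := by
  obtain ⟨e, he⟩ := exists_sigma_iso hd
  refine isEmpty_of_commSq_sigmaι_of_ne (g := fun i => (X i).left) (a := a.left) (b := b.left)
    ⟨?_⟩ hij
  rw [← cancel_mono e.hom, Category.assoc, Category.assoc, he i, he j]
  exact congrArg CommaMorphism.left h

theorem mono_inj (i : ι) : Mono (d.inj i) := by
  have := isOpenImmersion_inj_left hd i
  have : Mono ((Over.forget S).map (d.inj i)) := inferInstanceAs (Mono (d.inj i).left)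
  exact (Over.forget S).mono_of_mono_map this

/-- The sieve of morphisms to `T` whose composite with `q : T ⟶ ∐ X` factors through a summand. -/
def factorSieve (d : Cofan X) {T : Over S} (q : T ⟶ d.pt) : Sieve T where
  arrows Y f := ∃ (i : ι) (y : Y ⟶ X i), y ≫ d.inj i = f ≫ q
  downward_closed := by
    rintro Y Z f ⟨i, y, hy⟩ g
    exact ⟨i, g ≫ y, by rw [Category.assoc, hy, Category.assoc]⟩

theorem factorSieve_mem {T : Over S} (q : T ⟶ d.pt) : factorSieve d q ∈ J S T := by
  rw [GrothendieckTopology.mem_over_iff,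
    Precoverage.mem_toGrothendieck_iff_of_isStableUnderComposition]
  have hoi := isOpenImmersion_inj_left hd
  let W : ι → T.left.Opens := fun i => q.left ⁻¹ᵁ (d.inj i).left.opensRange
  refine ⟨Presieve.ofArrows (fun i => ((W i : T.left.Opens) : Scheme.{u})) (fun i => (W i).ι),
    ?_, ?_⟩
  · change _ ∈ Scheme.precoverage (@Flat ⊓ @LocallyOfFinitePresentation) _
    rw [Scheme.ofArrows_mem_precoverage_iff]
    refine ⟨fun t => ?_, fun i => ⟨inferInstance, inferInstance⟩⟩
    obtain ⟨i, y, hy⟩ := exists_inj_left_eq hd (q.left t)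
    refine ⟨i, ⟨t, ?_⟩, rfl⟩
    exact ⟨y, hy⟩
  · rintro _ _ ⟨i⟩
    rw [Sieve.overEquiv_iff]
    have hr : Set.range ((W i).ι ≫ q.left) ⊆ Set.range (d.inj i).left := by
      rintro _ ⟨w, rfl⟩
      exact w.2
    refine ⟨i, Over.homMk (IsOpenImmersion.lift (d.inj i).left ((W i).ι ≫ q.left) hr) ?_, ?_⟩
    · have h1 := Over.w (d.inj i)
      have h2 := Over.w q
      change IsOpenImmersion.lift (d.inj i).left ((W i).ι ≫ q.left) hr ≫ (X i).hom =
        (W i).ι ≫ T.hom
      rw [← h1, IsOpenImmersion.lift_fac_assoc, Category.assoc, h2]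
    · ext
      exact IsOpenImmersion.lift_fac _ _ _

/-- `h_{∐ X_i} = ∐ h_{X_i}` as fppf sheaves. -/
theorem nonempty_isColimit_yon_mapCocone : Nonempty (IsColimit ((yon S).mapCocone d)) := by
  refine nonempty_isColimit_of_coprod_conditions _ ?_ ?_ ?_
  · intro T x
    refine ⟨factorSieve d x.down, factorSieve_mem hd x.down, ?_⟩
    rintro Y f ⟨i, y, hy⟩
    exact ⟨⟨i⟩, ⟨y⟩, ULift.ext _ _ hy⟩
  · rintro ⟨i⟩ T a b hab
    have := mono_inj hd i
    have h : a.down ≫ d.inj i = b.down ≫ d.inj i := congrArg ULift.down hab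
    exact ULift.ext _ _ ((cancel_mono _).1 h)
  · rintro ⟨i⟩ ⟨j⟩ hij T a b hab
    have h : a.down ≫ d.inj i = b.down ≫ d.inj j := congrArg ULift.down hab
    have := isEmpty_of_inj_comp_eq hd a.down b.down h (fun e => hij (congrArg Discrete.mk e))
    exact bot_mem_J_of_isEmpty T

end OverCofan

/-- `(T ×_c T') ×_c Fi = (T ×_c Fi) ×_{Fi} (Fi ×_c T')`. -/
theorem isPullback_of_three {C : Type*} [Category C] {T T' Q c Fi A B P : C} {a : T ⟶ c}
    {b : T' ⟶ c} {k : Fi ⟶ c} {q1 : Q ⟶ T} {q2 : Q ⟶ T'} (sqQ : IsPullback q1 q2 a b)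
    {ai : A ⟶ Fi} {jA : A ⟶ T} (sqA : IsPullback ai jA k a)
    {bi : B ⟶ Fi} {jB : B ⟶ T'} (sqB : IsPullback bi jB k b)
    {p1 : P ⟶ A} {p2 : P ⟶ B} (sqP : IsPullback p1 p2 ai bi)
    (l : P ⟶ Q) (hl1 : l ≫ q1 = p1 ≫ jA) (hl2 : l ≫ q2 = p2 ≫ jB) :
    IsPullback l (p1 ≫ ai) (q1 ≫ a) k := by
  have hw : l ≫ q1 ≫ a = (p1 ≫ ai) ≫ k := by
    rw [reassoc_of% hl1, Category.assoc, sqA.w]
  refine ⟨⟨hw⟩, ⟨PullbackCone.IsLimit.mk _ (fun s => ?_) (fun s => ?_) (fun s => ?_)
    (fun s m h1 h2 => ?_)⟩⟩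
  · refine sqP.lift (sqA.lift s.snd (s.fst ≫ q1) (by rw [Category.assoc, s.condition]))
      (sqB.lift s.snd (s.fst ≫ q2) (by rw [Category.assoc, ← sqQ.w, s.condition])) ?_
    rw [sqA.lift_fst, sqB.lift_fst]
  · apply sqQ.hom_ext
    · rw [Category.assoc, hl1, sqP.lift_fst_assoc, sqA.lift_snd]
    · rw [Category.assoc, hl2, sqP.lift_snd_assoc, sqB.lift_snd]
  · rw [sqP.lift_fst_assoc, sqA.lift_fst]
  · apply sqP.hom_ext
    · rw [sqP.lift_fst]
      apply sqA.hom_ext
      · rw [sqA.lift_fst, Category.assoc]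
        exact h2
      · rw [sqA.lift_snd, Category.assoc, ← hl1, reassoc_of% h1]
    · rw [sqP.lift_snd]
      apply sqB.hom_ext
      · rw [sqB.lift_fst, Category.assoc, ← sqP.w]
        exact h2
      · rw [sqB.lift_snd, Category.assoc, ← hl2, reassoc_of% h1]

section Main

variable {F : ι → Sp S} {c : Cofan F} (hc : IsColimit c)
include hc

/-- Fibre products over a coproduct of sheaves, summand by summand. -/
theorem exists_rep_of_decomp {T T' : Over S} (a : (yon S).obj T ⟶ c.pt)
    (b : (yon S).obj T' ⟶ c.pt) (A : ι → Over S) (jA : ∀ i, A i ⟶ T)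
    (ai : ∀ i, (yon S).obj (A i) ⟶ F i)
    (sqA : ∀ i, IsPullback (ai i) ((yon S).map (jA i)) (c.inj i) a)
    (hrep : ∀ i, Representable (ai i)) :
    ∃ (V : Over S) (fst : V ⟶ T) (snd : V ⟶ T'),
      IsPullback ((yon S).map fst) ((yon S).map snd) a b ∧
      ∃ (P B : ι → Over S) (inj : ∀ i, P i ⟶ V) (jB : ∀ i, B i ⟶ T')
        (bi : ∀ i, (yon S).obj (B i) ⟶ F i) (p1 : ∀ i, P i ⟶ A i) (p2 : ∀ i, P i ⟶ B i),
        (∀ i, IsPullback ((yon S).map (p1 i)) ((yon S).map (p2 i)) (ai i) (bi i)) ∧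
        (∀ i, inj i ≫ snd = p2 i ≫ jB i) ∧
        (∀ i, IsOpenImmersion (inj i).left) ∧ (∀ v : V.left, ∃ i y, (inj i).left y = v) ∧
        (∀ i, IsOpenImmersion (jB i).left) ∧ (∀ t : T'.left, ∃ i y, (jB i).left y = t) := by
  classical
  set xb := (J S).uliftYonedaEquiv b with hxb
  have keyB : ∀ i : ι, ∃ bi : (yon S).obj (goodOver c xb ⟨i⟩) ⟶ F i,
      IsPullback bi ((yon S).map (goodIncl c xb ⟨i⟩)) (c.inj i) b :=
    fun i => exists_isPullback_goodIncl (F := Discrete.functor F) (c := c) hc b ⟨i⟩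
  choose bi sqB using keyB
  have keyP := fun i : ι => hrep i (bi i)
  choose P p2 fst' sqP using keyP
  let p1 : ∀ i, P i ⟶ A i := fun i => (yon S).preimage (fst' i)
  have hp1 : ∀ i, (yon S).map (p1 i) = fst' i := fun i => (yon S).map_preimage _
  let dP : Cofan P := colimit.cocone (Discrete.functor P)
  have hdP : IsColimit dP := colimit.isColimit _
  have sqQ := IsPullback.of_hasPullback a b
  have hcompat : ∀ i, ((yon S).map (p1 i) ≫ (yon S).map (jA i)) ≫ a =
      ((yon S).map (p2 i) ≫ (yon S).map (goodIncl c xb ⟨i⟩)) ≫ b := by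
    intro i
    rw [Category.assoc, Category.assoc, ← (sqA i).w, ← (sqB i).w, hp1, ← Category.assoc,
      ← Category.assoc, (sqP i).w]
  let pi : ∀ i, (yon S).obj (P i) ⟶ pullback a b := fun i => sqQ.lift _ _ (hcompat i)
  have hCL : ∀ i, IsPullback (pi i) ((yon S).map (p1 i) ≫ ai i) (pullback.fst a b ≫ a)
      (c.inj i) := fun i =>
    isPullback_of_three sqQ (sqA i) (sqB i) (hp1 i ▸ sqP i) (pi i) (sqQ.lift_fst _ _ _)
      (sqQ.lift_snd _ _ _)
  let c' : Cocone (Discrete.functor P ⋙ yon S) :=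
    { pt := pullback a b
      ι := Discrete.natTrans (fun i => pi i.as) }
  obtain ⟨hc'⟩ := nonempty_isColimit_of_isPullback (F := Discrete.functor F) hc c'
    (fun i => (yon S).map (p1 i.as) ≫ ai i.as) (pullback.fst a b ≫ a) (fun i => hCL i.as)
  obtain ⟨hY⟩ := nonempty_isColimit_yon_mapCocone hdP
  let e : (yon S).obj dP.pt ≅ pullback a b := hY.coconePointUniqueUpToIso hc'
  have he : ∀ i, (yon S).map (dP.inj i) ≫ e.hom = pi i :=
    fun i => hY.comp_coconePointUniqueUpToIso_hom hc' ⟨i⟩
  refine ⟨dP.pt, (yon S).preimage (e.hom ≫ pullback.fst a b),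
    (yon S).preimage (e.hom ≫ pullback.snd a b), ?_, P, fun i => goodOver c xb ⟨i⟩, dP.inj,
    fun i => goodIncl c xb ⟨i⟩, bi, p1, p2, fun i => hp1 i ▸ sqP i, ?_,
    isOpenImmersion_inj_left hdP, exists_inj_left_eq hdP,
    fun i => inferInstanceAs (IsOpenImmersion (goodOpen c xb ⟨i⟩).ι), ?_⟩
  · rw [Functor.map_preimage, Functor.map_preimage]
    exact IsPullback.of_iso sqQ e.symm (Iso.refl _) (Iso.refl _) (Iso.refl _) (by simp) (by simp)
      (by simp) (by simp)
  · intro i
    apply (yon S).map_injective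
    rw [Functor.map_comp, Functor.map_preimage, ← Category.assoc, he, Functor.map_comp]
    exact sqQ.lift_snd _ _ _
  · intro t
    obtain ⟨⟨i⟩, hi⟩ := exists_mem_goodOpen (F := Discrete.functor F) hc xb t
    exact ⟨i, ⟨t, hi⟩, rfl⟩

omit hc in
/-- A sheaf of sets has a section over an object covered by the empty sieve. -/
theorem nonempty_section_of_bot_mem (A : Sp S) {X : Over S} (h : (⊥ : Sieve X) ∈ J S X) :
    Nonempty (A.obj.obj (op X)) := by
  have hsheaf : Presieve.IsSheaf (J S) A.obj := (isSheaf_iff_isSheaf_of_type _ _).1 A.property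
  let fam : Presieve.FamilyOfElements A.obj (⊥ : Sieve X).arrows := fun Y g hg => False.elim hg
  have hcompat : fam.Compatible := fun Y₁ Y₂ Z g₁ g₂ f₁ f₂ h₁ h₂ e => False.elim h₁
  exact ⟨(hsheaf _ h).amalgamate fam hcompat⟩

/-- The square over a summand for a map out of `h_{∐ U_i}` defined summandwise. -/
theorem isPullback_inj_desc {U : ι → Over S} {dU : Cofan U} (hdU : IsColimit dU)
    (pi : ∀ i, (yon S).obj (U i) ⟶ F i) (p : (yon S).obj dU.pt ⟶ c.pt)
    (hp : ∀ i, (yon S).map (dU.inj i) ≫ p = pi i ≫ c.inj i) (i : ι) :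
    IsPullback (pi i) ((yon S).map (dU.inj i)) (c.inj i) p := by
  obtain ⟨hY⟩ := nonempty_isColimit_yon_mapCocone hdU
  have hps : ∀ (j : ι) (W : (Over S)ᵒᵖ) (r : ((yon S).obj (U j)).obj.obj W),
      p.hom.app W (((yon S).map (dU.inj j)).hom.app W r) =
        (c.inj j).hom.app W ((pi j).hom.app W r) := by
    intro j W r
    have := congrArg (fun k => k.hom.app W r) (hp j)
    exact this
  refine isPullback_sheaf_of_sections (hp i).symm ?_ ?_
  · intro W r r' _ h2
    have := mono_inj hdU i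
    have h : r.down ≫ dU.inj i = r'.down ≫ dU.inj i := congrArg ULift.down h2
    exact ULift.ext _ _ ((cancel_mono _).1 h)
  · intro W y q h
    have hloc : ∃ r : ((yon S).obj (U i)).obj.obj W, ((yon S).map (dU.inj i)).hom.app W r = q := by
      obtain ⟨R, hR, hRq⟩ := coprod_locally_surjective hY W.unop q
      refine exists_preimage_of_locally ((yon S).map (dU.inj i))
        (fun X => coprod_ι_injective hY ⟨i⟩ X) q R hR ?_
      intro Y f hf
      obtain ⟨⟨j⟩, r, hr⟩ := hRq f hf
      by_cases hij : j = i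
      · subst hij
        exact ⟨r, hr⟩
      · have e : (c.inj i).hom.app (op Y) (F i |>.obj.map f.op y) =
            (c.inj j).hom.app (op Y) ((pi j).hom.app (op Y) r) := by
          rw [← hps j (op Y) r]
          have hr' : ((yon S).map (dU.inj j)).hom.app (op Y) r =
              ((yon S).obj dU.pt).obj.map f.op q := hr
          rw [hr', NatTrans.naturality_apply, NatTrans.naturality_apply, h]
        have hbot : (⊥ : Sieve Y) ∈ J S Y :=
          coprod_bot_mem (F := Discrete.functor F) hc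
            (fun e' => hij (congrArg Discrete.as e').symm) Y _ _ e
        obtain ⟨r'⟩ := nonempty_section_of_bot_mem ((yon S).obj (U i)) hbot
        exact ⟨r', eq_of_bot_mem hbot _ _⟩
    obtain ⟨r, hr⟩ := hloc
    refine ⟨r, ?_, hr⟩
    apply coprod_ι_injective (F := Discrete.functor F) hc ⟨i⟩ W.unop
    have h3 := hps i W r
    rw [hr] at h3
    exact h3.symm.trans h.symm

/-- Every map from a representable sheaf to a coproduct of algebraic spaces is representable. -/
theorem representable_to_coprod (h : ∀ i, IsAlgSpace (F i)) {T : Over S}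
    (a : (yon S).obj T ⟶ c.pt) : Representable a := by
  intro T' b
  have keyA : ∀ i : ι, ∃ ai : (yon S).obj (goodOver c ((J S).uliftYonedaEquiv a) ⟨i⟩) ⟶ F i,
      IsPullback ai ((yon S).map (goodIncl c ((J S).uliftYonedaEquiv a) ⟨i⟩)) (c.inj i) a :=
    fun i => exists_isPullback_goodIncl (F := Discrete.functor F) (c := c) hc a ⟨i⟩
  choose ai sqA using keyA
  obtain ⟨V, fst, snd, sq, -⟩ := exists_rep_of_decomp hc a b _ _ ai sqA
    (fun i => (h i).representable_from_yon _)
  exact ⟨V, snd, (yon S).map fst, sq⟩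

/-- A coproduct of algebraic spaces is an algebraic space. -/
theorem isAlgSpace_coprod (h : ∀ i, IsAlgSpace (F i)) : IsAlgSpace c.pt where
  diag := Functor.relativelyRepresentable.diag_iff.2 fun T a => representable_to_coprod hc h a
  atlas := by
    have key := fun i => (h i).atlas
    choose U pi hpE hpS using key
    let dU : Cofan U := colimit.cocone (Discrete.functor U)
    have hdU : IsColimit dU := colimit.isColimit _
    obtain ⟨hY⟩ := nonempty_isColimit_yon_mapCocone hdU
    let s : Cocone (Discrete.functor U ⋙ yon S) :=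
      { pt := c.pt
        ι := Discrete.natTrans (fun i => pi i.as ≫ c.inj i.as) }
    let p : (yon S).obj dU.pt ⟶ c.pt := hY.desc s
    have hp : ∀ i, (yon S).map (dU.inj i) ≫ p = pi i ≫ c.inj i := fun i => hY.fac s ⟨i⟩
    have sqU := isPullback_inj_desc hc hdU pi p hp
    refine ⟨dU.pt, p, ?_, ?_⟩
    · apply MorphismProperty.relative.of_exists
      intro T' b
      obtain ⟨V, fst, snd, sq, P, B, inj, jB, bi, p1, p2, sqP, hsnd, hoi, hcov, hjB, hcovB⟩ :=
        exists_rep_of_decomp hc p b U dU.inj pi sqU (fun i => (hpE i).rep)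
      refine ⟨V, (yon S).map fst, snd, sq, ?_⟩
      change Etale snd.left
      let 𝒰 : V.left.OpenCover :=
        { I₀ := ι
          X := fun i => (P i).left
          f := fun i => (inj i).left
          mem₀ := by
            rw [Scheme.presieve₀_mem_precoverage_iff]
            exact ⟨fun v => hcov v, hoi⟩ }
      rw [IsZariskiLocalAtSource.iff_of_openCover (P := @Etale) 𝒰]
      intro i
      change Etale ((inj i).left ≫ snd.left)
      have e : (inj i).left ≫ snd.left = (p2 i).left ≫ (jB i).left :=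
        congrArg CommaMorphism.left (hsnd i)
      rw [e]
      have h1 : Etale (p2 i).left := (hpE i).property _ _ _ (sqP i)
      have := hjB i
      infer_instance
    · apply MorphismProperty.relative.of_exists
      intro T' b
      obtain ⟨V, fst, snd, sq, P, B, inj, jB, bi, p1, p2, sqP, hsnd, hoi, hcov, hjB, hcovB⟩ :=
        exists_rep_of_decomp hc p b U dU.inj pi sqU (fun i => (hpE i).rep)
      refine ⟨V, (yon S).map fst, snd, sq, ?_⟩
      change Surjective snd.left
      refine ⟨fun t => ?_⟩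
      obtain ⟨i, y, hy⟩ := hcovB t
      have h1 : Surjective (p2 i).left := (hpS i).property _ _ _ (sqP i)
      obtain ⟨z, hz⟩ := h1.surj y
      refine ⟨(inj i).left z, ?_⟩
      have e : (inj i).left ≫ snd.left = (p2 i).left ≫ (jB i).left :=
        congrArg CommaMorphism.left (hsnd i)
      rw [← Scheme.Hom.comp_apply, e, Scheme.Hom.comp_apply, hz, hy]

end Main

end Groth.Agent.H49
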