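import Groth.Prelude.Def_AlgSp3
import Groth.Agent.H49.AlgSpRep

set_option autoImplicit false
universe u
open CategoryTheory CategoryTheory.Limits AlgebraicGeometry Opposite

namespace Groth.Agent.H49

open AlgSp

variable {S : Scheme.{u}}

/-- For a representable morphism `f` of sheaves, the relative diagonal of `f` has `Q` in the
representable sense iff `f` has `Q.diagonal` in the representable sense. -/
theorem repWith_diagonal_iff (Q : MorphismProperty Scheme.{u}) [Q.IsStableUnderBaseChange]
    {F G : Sp S} (f : F ⟶ G) (hf : Representable f) :
    RepWith Q (pullback.diagonal f) ↔ RepWith Q.diagonal f := by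
  have : Q.RespectsIso := MorphismProperty.IsStableUnderBaseChange.respectsIso
  constructor
  · intro h
    refine ⟨hf, ?_⟩
    intro U V ξ fst snd sq
    have h1 : (RepWith (S := S) Q).diagonal ((yon S).map snd) :=
      MorphismProperty.of_isPullback (P := (RepWith (S := S) Q).diagonal) sq h
    exact (repWith_diagonal_yon_map_iff Q snd).1 h1
  · intro h
    refine MorphismProperty.relative.of_exists ?_
    intro T ζ
    obtain ⟨V, p, q, sq⟩ := hf ((ζ ≫ pullback.fst f f) ≫ f)
    have hQ : Q (pullback.diagonal p.left) := h.property _ q p sq
    obtain ⟨s₁, s₂, h₁, h₂, hpb⟩ := exists_isPullback_diagonal_equalizer (yon S) f ζ sq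
    refine ⟨equalizer s₁ s₂, _, equalizer.ι s₁ s₂, hpb, ?_⟩
    have hpb' := isPullback_equalizer_diagonal p s₁ s₂ h₁ h₂
    have hd : (Q.inverseImage (Over.forget S)) (pullback.diagonal p) := by
      change Q ((Over.forget S).map (pullback.diagonal p))
      have e := diagonal_forget_map p
      rw [← Q.cancel_right_of_respectsIso _ (PreservesPullback.iso (Over.forget S) p p).hom, ← e]
      exact hQ
    exact MorphismProperty.of_isPullback (P := Q.inverseImage (Over.forget S)) hpb' hd

end Groth.Agent.H49
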