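import Groth.Agent.H49.AlgSpClosed
import Groth.Agent.H49.AlgSpCover
import Mathlib.AlgebraicGeometry.Morphisms.LocalFlatDescent

set_option autoImplicit false
universe u
open CategoryTheory CategoryTheory.Limits AlgebraicGeometry Opposite

namespace Groth.Agent.H49

open AlgSp

variable {S : Scheme.{u}}

/-- Composing the legs of a pullback square with a monomorphism keeps it a pullback square. -/
theorem isPullback_comp_mono {C : Type*} [Category C] {P X Y Z Z' : C} {fst : P ⟶ X}
    {snd : P ⟶ Y} {f : X ⟶ Z} {g : Y ⟶ Z} (i : Z ⟶ Z') [Mono i] (h : IsPullback fst snd f g) :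
    IsPullback fst snd (f ≫ i) (g ≫ i) := by
  refine ⟨⟨by rw [← Category.assoc, h.w, Category.assoc]⟩, ⟨PullbackCone.IsLimit.mk _
    (fun s => h.lift s.fst s.snd (by
      have := s.condition
      simp only [← Category.assoc] at this
      exact (cancel_mono i).1 this))
    (fun s => h.lift_fst _ _ _) (fun s => h.lift_snd _ _ _) (fun s m h1 h2 => ?_)⟩⟩
  apply h.hom_ext
  · simpa using h1
  · simpa using h2

/-- A scheme `U` over a field `k` such that a projection `U ×_k U ⟶ U` is étale is étale over
`k`. -/
theorem etale_of_isPullback_self_field {k : Type u} [Field k] {U R : Scheme.{u}}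
    (υ : U ⟶ Spec (CommRingCat.of k)) (t s : R ⟶ U) (sq : IsPullback t s υ υ) [Etale s] :
    Etale υ := by
  by_cases hU : Nonempty ↥U
  · obtain ⟨u⟩ := hU
    obtain ⟨_, ⟨V, hV, rfl⟩, huV, -⟩ :=
      U.isBasis_affineOpens.exists_subset_of_mem_open (Set.mem_univ u) isOpen_univ
    have hV' : IsAffineOpen (V : U.Opens) := hV
    have hVa : IsAffine ↑(V : U.Opens) := hV'
    obtain ⟨V, rfl⟩ : ∃ V' : U.Opens, V' = V := ⟨V, rfl⟩
    have sq1 : IsPullback (pullback.fst s V.ι) (pullback.snd s V.ι) s V.ι :=
      IsPullback.of_hasPullback _ _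
    have big := (sq1.paste_horiz sq).flip
    have hcover : (@Surjective ⊓ @Flat ⊓ @QuasiCompact : MorphismProperty Scheme.{u})
        (V.ι ≫ υ) := by
      refine ⟨⟨⟨fun y => ⟨⟨u, huV⟩, Subsingleton.elim _ _⟩⟩, inferInstance⟩, inferInstance⟩
    have hfst : Etale (pullback.snd s V.ι) := inferInstance
    exact MorphismProperty.of_isPullback_of_descendsAlong (P := @Etale)
      (Q := (@Surjective ⊓ @Flat ⊓ @QuasiCompact : MorphismProperty Scheme.{u})) big hcover hfst
  · have : IsEmpty ↥U := not_nonempty_iff.1 hU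
    infer_instance

/-- A monomorphism from an algebraic space to the spectrum of a field is an isomorphism as soon as
the algebraic space has a point. -/
theorem isIso_of_mono_to_field {Z : Sp S} (hZ : IsAlgSpace Z) {k : Type u} [Field k]
    (str : Spec (CommRingCat.of k) ⟶ S) (f : Z ⟶ (yon S).obj (Over.mk str)) [Mono f]
    (x : Points Z) : IsIso f := by
  obtain ⟨U, p, hpe, hps⟩ := hZ.atlas
  obtain ⟨u, -⟩ := Groth.Agent.H52.ofPt_surjective_of_repWith_surjective p hps x
  obtain ⟨υ, hυ⟩ := (yon S).map_surjective (p ≫ f)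
  obtain ⟨R, s, fst, sq⟩ := hpe.rep p
  obtain ⟨t, rfl⟩ := (yon S).map_surjective fst
  have hse : Etale s.left := hpe.property p _ s sq
  have sq' : IsPullback ((yon S).map t) ((yon S).map s) ((yon S).map υ) ((yon S).map υ) := by
    rw [hυ]
    exact isPullback_comp_mono f sq
  have hw : t ≫ υ = s ≫ υ := (yon S).map_injective (by
    rw [Functor.map_comp, Functor.map_comp]; exact sq'.w)
  have sqO : IsPullback t s υ υ := IsPullback.of_map (yon S) hw sq'
  have sql : IsPullback t.left s.left υ.left υ.left := sqO.map (Over.forget S)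
  have hυe : Etale υ.left := by
    have key : ∀ (υ' : U.left ⟶ Spec (CommRingCat.of k)) (t' s' : R.left ⟶ U.left),
        IsPullback t' s' υ' υ' → Etale s' → Etale υ' :=
      fun υ' t' s' h _ => etale_of_isPullback_self_field υ' t' s' h
    exact key _ _ _ sql hse
  have hυs : Surjective υ.left := by
    refine ⟨fun y => ⟨u, ?_⟩⟩
    have key : ∀ (a b : ↥(Spec (CommRingCat.of k))), a = b := fun a b => Subsingleton.elim a b
    exact key _ _
  have h1 : RepWith @Etale ((yon S).map υ) := (repWith_yon_map_iff @Etale υ).2 hυe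
  have h2 : RepWith @Surjective ((yon S).map υ) := (repWith_yon_map_iff @Surjective υ).2 hυs
  have hls : Sheaf.IsLocallySurjective ((yon S).map υ) :=
    isLocallySurjective_of_repWith_etale_surjective _ h1 h2
  have hepi : Epi ((yon S).map υ) := inferInstance
  rw [hυ] at hepi
  have : Epi f := epi_of_epi p f
  exact isIso_of_mono_of_epi f

end Groth.Agent.H49
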