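import Groth.Agent.H30.ShfQuot
import Groth.Agent.H49.AlgSpLocal
import Groth.Agent.H49.FppfLocal2
import Groth.Prelude.Def_AlgSp

set_option autoImplicit false
universe u
open CategoryTheory CategoryTheory.Limits AlgebraicGeometry Opposite

namespace Groth.Agent.H49

open AlgSp

variable {S : Scheme.{u}}

/-- Naturality of the inverse of the sheafification isomorphism. -/
theorem sheafificationIso_inv_naturality {C : Type*} [Category C] (J : GrothendieckTopology C)
    {D : Type*} [Category D] [HasWeakSheafify J D] {A B : Sheaf J D} (φ : A ⟶ B) :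
    (presheafToSheaf J D).map φ.hom ≫ (sheafificationIso B).inv =
      (sheafificationIso A).inv ≫ φ := by
  have h := (sheafificationNatIso J D).inv.naturality φ
  simpa [sheafificationNatIso] using h

/-- Naturality of the identification of `QuotSh.rep` with `AlgSp.yon`. -/
theorem repMap_comp_repIso_hom {V W : Over S} (g : V ⟶ W) :
    QuotSh.repMap Scheme.fppfPrecoverage g ≫
        (QuotSh.repIsoUliftYoneda Scheme.fppfPrecoverage W).hom =
      (QuotSh.repIsoUliftYoneda Scheme.fppfPrecoverage V).hom ≫ (yon S).map g :=
  sheafificationIso_inv_naturality (J S) ((yon S).map g)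

theorem repIso_inv_comp_repMap {V W : Over S} (g : V ⟶ W) :
    (QuotSh.repIsoUliftYoneda Scheme.fppfPrecoverage V).inv ≫
        QuotSh.repMap Scheme.fppfPrecoverage g =
      (yon S).map g ≫ (QuotSh.repIsoUliftYoneda Scheme.fppfPrecoverage W).inv := by
  rw [Iso.inv_comp_eq, ← Category.assoc, Iso.eq_comp_inv, repMap_comp_repIso_hom]

variable {R U : Over S} (s t : R ⟶ U)

/-- The quotient map `h_U ⟶ U/R`, on `AlgSp.yon`. -/
noncomputable def quotMap : (yon S).obj U ⟶ QuotSh.quot Scheme.fppfPrecoverage s t :=
  (QuotSh.repIsoUliftYoneda Scheme.fppfPrecoverage U).inv ≫ QuotSh.quotπ Scheme.fppfPrecoverage s t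

theorem quotMap_condition : (yon S).map s ≫ quotMap s t = (yon S).map t ≫ quotMap s t := by
  unfold quotMap
  rw [← Category.assoc, ← repIso_inv_comp_repMap, Category.assoc, QuotSh.quot_condition,
    ← Category.assoc, repIso_inv_comp_repMap, Category.assoc]

/-- The quotient map exhibits `U/R` as the coequalizer of `h_s, h_t` on `AlgSp.yon`. -/
noncomputable def quotMapIsColimit :
    IsColimit (Cofork.ofπ (quotMap s t) (quotMap_condition s t)) :=
  Cofork.IsColimit.mk _
    (fun c => coequalizer.desc ((QuotSh.repIsoUliftYoneda Scheme.fppfPrecoverage U).hom ≫ c.π) (by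
      rw [← Category.assoc, repMap_comp_repIso_hom, ← Category.assoc, repMap_comp_repIso_hom,
        Category.assoc, Category.assoc, c.condition]))
    (fun c => by
      change ((QuotSh.repIsoUliftYoneda Scheme.fppfPrecoverage U).inv ≫
        coequalizer.π (QuotSh.repMap Scheme.fppfPrecoverage s)
          (QuotSh.repMap Scheme.fppfPrecoverage t)) ≫ coequalizer.desc _ _ = _
      rw [Category.assoc, coequalizer.π_desc, Iso.inv_hom_id_assoc])
    (fun c m hm => by
      change ((QuotSh.repIsoUliftYoneda Scheme.fppfPrecoverage U).inv ≫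
        coequalizer.π (QuotSh.repMap Scheme.fppfPrecoverage s)
          (QuotSh.repMap Scheme.fppfPrecoverage t)) ≫ m = c.π at hm
      refine coequalizer.hom_ext (f := QuotSh.repMap Scheme.fppfPrecoverage s)
        (g := QuotSh.repMap Scheme.fppfPrecoverage t) ?_
      rw [coequalizer.π_desc, ← hm, Category.assoc, Iso.hom_inv_id_assoc])

instance quotMap_epi : Epi (quotMap s t) := by
  unfold quotMap
  have : Epi (QuotSh.quotπ Scheme.fppfPrecoverage s t) :=
    coequalizer.π_epi (f := QuotSh.repMap Scheme.fppfPrecoverage s)
      (g := QuotSh.repMap Scheme.fppfPrecoverage t)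
  exact epi_comp _ _

instance quotMap_isLocallySurjective : Sheaf.IsLocallySurjective (quotMap s t) :=
  (Sheaf.isLocallySurjective_iff_epi _).2 inferInstance

variable {s t}

/-- An equivalence relation of schemes (on points) gives an internal equivalence relation of
sheaves. -/
noncomputable def equivalenceRelation_yon (h : IsEqvRel s t) :
    EquivalenceRelation ((yon S).map s) ((yon S).map t) := by
  have hjm : JointlyMono₂ ((yon S).map s) ((yon S).map t) := by
    refine ⟨fun A a b h1 h2 => ?_⟩
    apply GrothendieckTopology.hom_ext_uliftYoneda.{u+1} (J S)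
    intro T c
    obtain ⟨a', ha'⟩ := (yon S).map_surjective (c ≫ a)
    obtain ⟨b', hb'⟩ := (yon S).map_surjective (c ≫ b)
    rw [← ha', ← hb']
    congr 1
    apply h.injective T a' b'
    · apply (yon S).map_injective
      rw [Functor.map_comp, Functor.map_comp, ha', hb', Category.assoc, Category.assoc, h2]
    · apply (yon S).map_injective
      rw [Functor.map_comp, Functor.map_comp, ha', hb', Category.assoc, Category.assoc, h1]
  have hrefl := (h.equivalence U).refl (𝟙 U)
  have hsymm := (h.equivalence R).symm (⟨𝟙 R, Category.id_comp _, Category.id_comp _⟩ :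
    ∃ r : R ⟶ R, r ≫ t = t ∧ r ≫ s = s)
  have sqP : IsPullback (pullback.fst t s) (pullback.snd t s) t s := IsPullback.of_hasPullback _ _
  have htrans := (h.equivalence (pullback t s)).trans
    (⟨pullback.snd t s, rfl, rfl⟩ :
      ∃ r : pullback t s ⟶ R, r ≫ t = pullback.snd t s ≫ t ∧ r ≫ s = pullback.snd t s ≫ s)
    (⟨pullback.fst t s, sqP.w, rfl⟩ :
      ∃ r : pullback t s ⟶ R, r ≫ t = pullback.snd t s ≫ s ∧ r ≫ s = pullback.fst t s ≫ s)
  exact
    { toJointlyMono₂ := hjm
      r := (yon S).map hrefl.choose
      reflexivity₁ := by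
        rw [← Functor.map_comp, hrefl.choose_spec.2, CategoryTheory.Functor.map_id]
      reflexivity₂ := by
        rw [← Functor.map_comp, hrefl.choose_spec.1, CategoryTheory.Functor.map_id]
      s := (yon S).map hsymm.choose
      symmetry₁ := by rw [← Functor.map_comp, hsymm.choose_spec.2]
      symmetry₂ := by rw [← Functor.map_comp, hsymm.choose_spec.1]
      c := PullbackCone.mk ((yon S).map (pullback.fst t s)) ((yon S).map (pullback.snd t s))
        (by rw [← Functor.map_comp, ← Functor.map_comp, sqP.w])
      isLimit := (sqP.map (yon S)).isLimit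
      t := (yon S).map htrans.choose
      transitivity₁ := by
        change (yon S).map _ ≫ (yon S).map s = (yon S).map (pullback.fst t s) ≫ (yon S).map s
        rw [← Functor.map_comp, ← Functor.map_comp, htrans.choose_spec.2]
      transitivity₂ := by
        change (yon S).map _ ≫ (yon S).map t = (yon S).map (pullback.snd t s) ≫ (yon S).map t
        rw [← Functor.map_comp, ← Functor.map_comp, htrans.choose_spec.1] }

/-- For an equivalence relation of schemes, `h_R` is the fibre product `h_U ×_{U/R} h_U`. -/
theorem isPullback_quotMap (h : IsEqvRel s t) :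
    IsPullback ((yon S).map t) ((yon S).map s) (quotMap s t) (quotMap s t) := by
  have := Groth.Agent.H30.ShfQuot.isKernelPair_of_equivalenceRelation (equivalenceRelation_yon h)
    (Cofork.ofπ (quotMap s t) (quotMap_condition s t)) (quotMapIsColimit s t)
  exact this.flip

/-- If `U/R` is an algebraic space for an étale equivalence relation, then `(U, R, h_U ⟶ U/R)` is
a presentation. -/
theorem isPresentation_quotMap (h : IsEtaleEqvRel s t)
    (hq : IsAlgSpace (QuotSh.quot Scheme.fppfPrecoverage s t)) :
    IsPresentation s t (quotMap s t) := by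
  have sq := isPullback_quotMap h.toIsEqvRel
  have hrep : Representable (quotMap s t) := hq.representable_from_yon _
  have he : RepWith @Etale ((yon S).map s) := (repWith_yon_map_iff @Etale s).2 h.etale_left
  have hsurj : Surjective s.left := by
    obtain ⟨r, -, hr⟩ := (h.equivalence U).refl (𝟙 U)
    refine ⟨fun x => ⟨r.left x, ?_⟩⟩
    rw [← Scheme.Hom.comp_apply, ← Over.comp_left, hr]
    rfl
  have hs : RepWith @Surjective ((yon S).map s) := (repWith_yon_map_iff @Surjective s).2 hsurj
  exact
    { eqvRel := h
      etale := repWith_of_isLocallySurjective_base (quotMap s t) hrep (quotMap s t) _ _ sq _ he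
      surjective := repWith_of_isLocallySurjective_base (quotMap s t) hrep (quotMap s t) _ _ sq _ hs
      isPullback := sq }

end Groth.Agent.H49
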