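import Mathlib
import Groth.Agent.S9218
import Groth.Agent.H24.LimitIso
import Groth.Agent.H50.LfpCancel

/-!
# Descent of isomorphisms of finitely presented schemes along a cofiltered limit (helper49)

`S = lim S_i` with affine transition maps, `X_i, Y_i` qcqs and l.f.p. over `S_i`.  If the base
changes of `X_i` and `Y_i` to `S` are isomorphic over `S`, then so are the base changes to some
stage `S_j`.  Built on helper46's hom descent (S9218) and helper24's iso descent.
-/

set_option autoImplicit false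
universe u
open CategoryTheory CategoryTheory.Limits AlgebraicGeometry

namespace Groth.Agent.H49.IsoDescent

set_option backward.isDefEq.respectTransparency false in
theorem exists_iso_stage {I : Type u} [SmallCategory I] [IsCofiltered I]
    (D : I ⥤ Scheme.{u}) (c : Cone D) (hc : IsLimit c)
    [∀ (i j : I) (f : i ⟶ j), IsAffineHom (D.map f)] (i : I)
    {Xi Yi : Scheme.{u}} (xi : Xi ⟶ D.obj i) (yi : Yi ⟶ D.obj i)
    [CompactSpace Xi] [QuasiSeparatedSpace Xi] [LocallyOfFinitePresentation xi]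
    [CompactSpace Yi] [QuasiSeparatedSpace Yi] [LocallyOfFinitePresentation yi]
    {X Y : Scheme.{u}} (qX : X ⟶ Xi) (pX : X ⟶ c.pt) (hX : IsPullback qX pX xi (c.π.app i))
    (qY : Y ⟶ Yi) (pY : Y ⟶ c.pt) (hY : IsPullback qY pY yi (c.π.app i))
    (e : X ≅ Y) (he : e.hom ≫ pY = pX) :
    ∃ (j : I) (φ : j ⟶ i) (Xj Yj : Scheme.{u}) (a : Xj ⟶ Xi) (xj : Xj ⟶ D.obj j)
      (b : Yj ⟶ Yi) (yj : Yj ⟶ D.obj j) (ej : Xj ≅ Yj),
      IsPullback a xj xi (D.map φ) ∧ IsPullback b yj yi (D.map φ) ∧ ej.hom ≫ yj = xj := by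
  obtain ⟨j, φ, fj, sX, sY, hfj, hsX1, hsX2, hsY1, hsY2, hsf⟩ :=
    Groth.Agent.S9218.result D c hc i xi yi qX pX hX qY pY hY e.hom he
  have haff : ∀ {i j : I} (f : i ⟶ j), IsAffineHom (D.map f) := fun f => inferInstance
  -- the stage-`j` objects
  let X₀ := pullback xi (D.map φ)
  let Y₀ := pullback yi (D.map φ)
  let g₀ : Y₀ ⟶ D.obj j := pullback.snd yi (D.map φ)
  have hcX₀ : CompactSpace X₀ :=
    QuasiCompact.compactSpace_of_compactSpace (pullback.fst xi (D.map φ))
  have hcY₀ : CompactSpace Y₀ :=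
    QuasiCompact.compactSpace_of_compactSpace (pullback.fst yi (D.map φ))
  have hqY₀ : QuasiSeparatedSpace Y₀ :=
    quasiSeparatedSpace_of_quasiSeparated (pullback.fst yi (D.map φ))
  have hlfp : LocallyOfFinitePresentation fj := by
    apply Groth.Agent.H50.locallyOfFinitePresentation_of_comp fj g₀
    · rw [hfj]; infer_instance
    · infer_instance
  -- pullback squares to the limit
  have hY' : IsPullback sY pY g₀ (c.π.app j) := by
    refine IsPullback.of_right ?_ hsY2 (IsPullback.of_hasPullback yi (D.map φ))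
    rw [hsY1, c.w]; exact hY
  have hX'' : IsPullback sX pX (pullback.snd xi (D.map φ)) (c.π.app j) := by
    refine IsPullback.of_right ?_ hsX2 (IsPullback.of_hasPullback xi (D.map φ))
    rw [hsX1, c.w]; exact hX
  have hX' : IsPullback sX e.hom fj sY := by
    refine IsPullback.of_bot ?_ hsf hY'
    rw [he, hfj]; exact hX''
  obtain ⟨e₁, e₂, hlim, -, -⟩ :=
    Groth.Agent.H24.exists_iso_limMap D c j fj g₀ e.hom pY sY sX hY' hX'
  have hiso : IsIso (Groth.Agent.H24.limMap D c j fj g₀) := by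
    rw [hlim]; infer_instance
  obtain ⟨ψ, hψ⟩ := Groth.Agent.H24.exists_isIso_stageMap_of_isIso_limMap D c j fj g₀ hc hiso
  refine ⟨ψ.left, ψ.hom ≫ φ, pullback (D.map ψ.hom) (fj ≫ g₀), pullback (D.map ψ.hom) g₀,
    pullback.snd _ _ ≫ pullback.fst xi (D.map φ), pullback.fst _ _,
    pullback.snd _ _ ≫ pullback.fst yi (D.map φ), pullback.fst _ _,
    asIso (Groth.Agent.H24.stageMap D j fj g₀ ψ), ?_, ?_, ?_⟩
  · rw [D.map_comp]
    have h1 := (IsPullback.of_hasPullback (D.map ψ.hom) (fj ≫ g₀)).flip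
    rw [hfj] at h1 ⊢
    exact h1.paste_horiz (IsPullback.of_hasPullback xi (D.map φ))
  · rw [D.map_comp]
    exact (IsPullback.of_hasPullback (D.map ψ.hom) g₀).flip.paste_horiz
      (IsPullback.of_hasPullback yi (D.map φ))
  · exact Groth.Agent.H24.stageMap_fst D j fj g₀ ψ

end Groth.Agent.H49.IsoDescent
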