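import Mathlib
import Groth.Agent.H49.IsoDescent
import Groth.Agent.H24.UnivOpen

/-!
# Combining two Noetherian approximations of the same morphism (helper49)
-/

set_option autoImplicit false
universe u
open CategoryTheory CategoryTheory.Limits AlgebraicGeometry

namespace Groth.Agent.H49.ApproxCombine

/-- The image of a finitely generated `ℤ`-algebra lands in the `A`-subalgebra generated by the
images of a finite generating set. -/
theorem exists_fg_subalgebra_range_le {A B C : Type u} [CommRing A] [CommRing B] [CommRing C]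
    [Algebra A C] (hB : Algebra.FiniteType ℤ B) (θ : B →+* C) :
    ∃ C' : Subalgebra A C, C'.FG ∧ ∀ b, θ b ∈ C' := by
  obtain ⟨s, hs⟩ := hB.out
  refine ⟨Algebra.adjoin A (θ '' (s : Set B)), ?_, ?_⟩
  · exact Subalgebra.fg_def.mpr ⟨_, (s.finite_toSet.image θ), rfl⟩
  · intro b
    have hb : b ∈ Algebra.adjoin ℤ (s : Set B) := by rw [hs]; trivial
    induction hb using Algebra.adjoin_induction with
    | mem x hx => exact Algebra.subset_adjoin ⟨x, hx, rfl⟩
    | algebraMap r =>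
      rw [eq_intCast, map_intCast]
      exact intCast_mem _ r
    | add x y _ _ hx hy => rw [map_add]; exact add_mem hx hy
    | mul x y _ _ hx hy => rw [map_mul]; exact mul_mem hx hy

open Groth.Agent in
set_option backward.isDefEq.respectTransparency false in
theorem main (P Q : MorphismProperty Scheme.{u}) [P.IsStableUnderBaseChange]
    [Q.IsStableUnderBaseChange]
    {X S : Scheme.{u}} (f : X ⟶ S) [IsAffine X] [IsAffine S]
    {X₁ S₁ X₂ S₂ : Scheme.{u}} [IsAffine X₁] [IsAffine S₁] [IsAffine X₂] [IsAffine S₂]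
    (f₁ : X₁ ⟶ S₁) (g₁ : S ⟶ S₁) (g₁' : X ⟶ X₁) (h₁ : IsPullback g₁' f f₁ g₁)
    (f₂ : X₂ ⟶ S₂) (g₂ : S ⟶ S₂) (g₂' : X ⟶ X₂) (h₂ : IsPullback g₂' f f₂ g₂)
    (hS₁ : Algebra.FiniteType ℤ Γ(S₁, ⊤)) (hS₂ : Algebra.FiniteType ℤ Γ(S₂, ⊤))
    [LocallyOfFiniteType f₁] [LocallyOfFiniteType f₂] (hP : P f₁) (hQ : Q f₂) :
    ∃ (X₀ S₀ : Scheme.{u}) (f₀ : X₀ ⟶ S₀) (g : S ⟶ S₀) (g' : X ⟶ X₀), IsAffine X₀ ∧ IsAffine S₀ ∧
      IsPullback g' f f₀ g ∧
      Algebra.FiniteType ℤ Γ(S₀, ⊤) ∧ LocallyOfFiniteType f₀ ∧ P f₀ ∧ Q f₀ := by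
  let φ : Γ(S₁, ⊤) ⟶ Γ(S, ⊤) := g₁.appTop
  letI := φ.hom.toAlgebra
  let F := H24.fgSubDiagram φ
  let D : (H24.FGSub φ)ᵒᵖ ⥤ Scheme.{u} := F.op ⋙ Scheme.Spec
  obtain ⟨hc₀⟩ := H24.isColimit_fgSubCocone φ
  let c₀ : Cone D := Scheme.Spec.mapCone (H24.fgSubCocone φ).op
  have hc₀' : IsLimit c₀ := isLimitOfPreserves Scheme.Spec hc₀.op
  let c : Cone D := c₀.extend S.isoSpec.hom
  have hc : IsLimit c := IsLimit.extendIso _ hc₀'
  have haff : ∀ (i j : (H24.FGSub φ)ᵒᵖ) (g : i ⟶ j), IsAffineHom (D.map g) := fun _ _ g => by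
    dsimp [D]; infer_instance
  have hDaff : ∀ i, IsAffine (D.obj i) := fun i => by dsimp [D]; infer_instance
  -- Noetherianity
  have hN₁ : IsNoetherianRing Γ(S₁, ⊤) := Algebra.FiniteType.isNoetherianRing ℤ _
  have hN₂ : IsNoetherianRing Γ(S₂, ⊤) := Algebra.FiniteType.isNoetherianRing ℤ _
  have hLN₁ : IsLocallyNoetherian S₁ := isLocallyNoetherian_of_isOpenImmersion S₁.isoSpec.hom
  have hLN₂ : IsLocallyNoetherian S₂ := isLocallyNoetherian_of_isOpenImmersion S₂.isoSpec.hom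
  have hfp₁ : LocallyOfFinitePresentation f₁ := inferInstance
  have hfp₂ : LocallyOfFinitePresentation f₂ := inferInstance
  -- the stage containing the image of Γ(S₂)
  obtain ⟨C', hC'fg, hC'⟩ := exists_fg_subalgebra_range_le (A := Γ(S₁, ⊤)) hS₂ g₂.appTop.hom
  let i₀ : (H24.FGSub φ)ᵒᵖ := Opposite.op ⟨C', hC'fg⟩
  let θ : Γ(S₂, ⊤) ⟶ F.obj ⟨C', hC'fg⟩ :=
    CommRingCat.ofHom (g₂.appTop.hom.codRestrict C' hC')
  let s₁ : ∀ i, D.obj i ⟶ S₁ := fun i => Spec.map (H24.fgSubStr φ i.unop) ≫ S₁.isoSpec.inv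
  let s₂ : D.obj i₀ ⟶ S₂ := Spec.map θ ≫ S₂.isoSpec.inv
  have hs₁ : ∀ i, c.π.app i ≫ s₁ i = g₁ := by
    intro i
    change (S.isoSpec.hom ≫ Spec.map ((H24.fgSubCocone φ).ι.app i.unop)) ≫
      Spec.map (H24.fgSubStr φ i.unop) ≫ S₁.isoSpec.inv = g₁
    rw [Category.assoc, ← Category.assoc (Spec.map _), ← Spec.map_comp, H24.fgSubStr_ι,
      ← Category.assoc, Scheme.isoSpec_hom_naturality, Category.assoc, Iso.hom_inv_id,
      Category.comp_id]
  have hθ : θ ≫ (H24.fgSubCocone φ).ι.app ⟨C', hC'fg⟩ = g₂.appTop := by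
    ext x; rfl
  have hs₂ : c.π.app i₀ ≫ s₂ = g₂ := by
    change (S.isoSpec.hom ≫ Spec.map ((H24.fgSubCocone φ).ι.app ⟨C', hC'fg⟩)) ≫
      Spec.map θ ≫ S₂.isoSpec.inv = g₂
    rw [Category.assoc, ← Category.assoc (Spec.map _), ← Spec.map_comp, hθ,
      ← Category.assoc, Scheme.isoSpec_hom_naturality, Category.assoc, Iso.hom_inv_id,
      Category.comp_id]
  -- the two models at stage `i₀`
  let xi : pullback f₁ (s₁ i₀) ⟶ D.obj i₀ := pullback.snd _ _
  let yi : pullback f₂ s₂ ⟶ D.obj i₀ := pullback.snd _ _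
  have hxi : LocallyOfFinitePresentation xi := inferInstance
  have hyi : LocallyOfFinitePresentation yi := inferInstance
  let a₁ : X ⟶ pullback f₁ (s₁ i₀) := pullback.lift g₁' (f ≫ c.π.app i₀)
    (by rw [Category.assoc, hs₁, h₁.w])
  let a₂ : X ⟶ pullback f₂ s₂ := pullback.lift g₂' (f ≫ c.π.app i₀)
    (by rw [Category.assoc, hs₂, h₂.w])
  have ha₁ : IsPullback a₁ f xi (c.π.app i₀) := by
    refine IsPullback.of_right ?_ (pullback.lift_snd _ _ _) (IsPullback.of_hasPullback f₁ (s₁ i₀))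
    rw [pullback.lift_fst, hs₁]; exact h₁
  have ha₂ : IsPullback a₂ f yi (c.π.app i₀) := by
    refine IsPullback.of_right ?_ (pullback.lift_snd _ _ _) (IsPullback.of_hasPullback f₂ s₂)
    rw [pullback.lift_fst, hs₂]; exact h₂
  obtain ⟨j, ψ, Xj, Yj, a, xj, b, yj, ej, hXj, hYj, hej⟩ :=
    IsoDescent.exists_iso_stage D c hc i₀ xi yi a₁ f ha₁ a₂ f ha₂ (Iso.refl X)
      (by rw [Iso.refl_hom, Category.id_comp])
  have hw : a₁ ≫ xi = (f ≫ c.π.app j) ≫ D.map ψ := by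
    rw [Category.assoc, c.w]; exact ha₁.w
  have hXjaff : IsAffineHom xj :=
    MorphismProperty.of_isPullback (P := @IsAffineHom) hXj
      (MorphismProperty.of_isPullback (P := @IsAffineHom) (IsPullback.of_hasPullback f₁ (s₁ i₀))
        inferInstance)
  have hXjA : IsAffine Xj := isAffine_of_isAffineHom xj
  refine ⟨Xj, D.obj j, xj, c.π.app j, hXj.lift a₁ (f ≫ c.π.app j) hw, hXjA, hDaff j, ?_, ?_, ?_, ?_,
    ?_⟩
  · refine IsPullback.of_right ?_ (hXj.lift_snd _ _ _) hXj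
    rw [hXj.lift_fst, c.w]; exact ha₁
  · have hft : Algebra.FiniteType ℤ j.unop.1 := by
      have h1 : Algebra.FiniteType Γ(S₁, ⊤) j.unop.1 :=
        (Subalgebra.fg_iff_finiteType j.unop.1).mp j.unop.2
      exact Algebra.FiniteType.trans hS₁ h1
    exact Algebra.FiniteType.equiv hft
      ((Scheme.ΓSpecIso (.of j.unop.1)).symm.commRingCatIsoToRingEquiv.toIntAlgEquiv)
  · exact MorphismProperty.of_isPullback (P := @LocallyOfFiniteType) hXj inferInstance
  · exact MorphismProperty.of_isPullback (P := P) hXj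
      (MorphismProperty.of_isPullback (P := P) (IsPullback.of_hasPullback f₁ (s₁ i₀)) hP)
  · have hQy : Q yj := MorphismProperty.of_isPullback (P := Q) hYj
      (MorphismProperty.of_isPullback (P := Q) (IsPullback.of_hasPullback f₂ s₂) hQ)
    rw [← hej]
    exact (Q.cancel_left_of_respectsIso ej.hom yj).mpr hQy

end Groth.Agent.H49.ApproxCombine
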