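import Groth.Agent.H72.Miracle
import Groth.Agent.H49.FibreCM

/-!
# Miracle flatness for quotients along a local homomorphism

For a local homomorphism `B → C` of local rings and a proper ideal `J` of `B` with `B/J` regular,
`C/JC` Cohen–Macaulay of the same dimension as `B/J` and `C/m_B C` zero-dimensional:
`C/JC` (equivalently `(B/J) ⊗_B C`) is flat over `B/J`.
-/

set_option autoImplicit false
set_option linter.style.haveILetI false
universe u

open IsLocalRing TensorProduct

namespace Groth.Agent.H49.MiracleQuot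

open Groth.Agent.H49.FibreCM

variable {B C : Type u} [CommRing B] [CommRing C] [Algebra B C] [IsLocalRing B] [IsLocalRing C]
  [IsLocalHom (algebraMap B C)]

theorem flat_quotient_of_cm (J : Ideal B) (hJ : J ≠ ⊤) [IsRegularLocalRing (B ⧸ J)]
    (hCM : LocCoh.IsCohenMacaulayLocalRing (C ⧸ J.map (algebraMap B C)))
    (hdim : ringKrullDim (C ⧸ J.map (algebraMap B C)) = ringKrullDim (B ⧸ J))
    (h0 : ringKrullDim (C ⧸ (maximalIdeal B).map (algebraMap B C)) = 0) :
    Module.Flat (B ⧸ J) (C ⧸ J.map (algebraMap B C)) := by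
  haveI := hCM.toIsNoetherian
  haveI := hCM.toIsLocalRing
  haveI := isLocalHom_quotient (C := C) J hJ
  refine Groth.Agent.H72.Miracle.flat_of_isCohenMacaulay (B ⧸ J) (C ⧸ J.map (algebraMap B C))
    (C ⧸ J.map (algebraMap B C)) hCM.supportDim_eq_depth ?_
  rw [Module.supportDim_self_eq_ringKrullDim, hdim]
  have e := quotQuotEquiv (C := C) J hJ
  have h1 : (Ideal.map (algebraMap (B ⧸ J) (C ⧸ J.map (algebraMap B C))) (maximalIdeal (B ⧸ J)) •
      (⊤ : Submodule (C ⧸ J.map (algebraMap B C)) (C ⧸ J.map (algebraMap B C)))) =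
      Ideal.map (algebraMap (B ⧸ J) (C ⧸ J.map (algebraMap B C))) (maximalIdeal (B ⧸ J)) := by
    rw [smul_eq_mul, Ideal.mul_top]
  rw [h1, Module.supportDim_quotient_eq_ringKrullDim, ringKrullDim_eq_of_ringEquiv e, h0, add_zero]

theorem flat_tensor_of_cm (J : Ideal B) (hJ : J ≠ ⊤) [IsRegularLocalRing (B ⧸ J)]
    (hCM : LocCoh.IsCohenMacaulayLocalRing (C ⧸ J.map (algebraMap B C)))
    (hdim : ringKrullDim (C ⧸ J.map (algebraMap B C)) = ringKrullDim (B ⧸ J))
    (h0 : ringKrullDim (C ⧸ (maximalIdeal B).map (algebraMap B C)) = 0) :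
    Module.Flat (B ⧸ J) ((B ⧸ J) ⊗[B] C) := by
  haveI := flat_quotient_of_cm (C := C) J hJ hCM hdim h0
  have e := Algebra.TensorProduct.quotIdealMapEquivQuotTensor C J
  exact Module.Flat.of_linearEquiv e.symm.toLinearEquiv

end Groth.Agent.H49.MiracleQuot
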