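import Groth.Agent.H49.CMChart
import Groth.Agent.H49.MiracleQuot
import Groth.Agent.H1.FibreCritScheme
import Groth.Agent.H51.DimIneq

/-!
# Flatness of quasi-finite charts of Cohen–Macaulay morphisms (miracle flatness + fibre criterion)
-/

set_option autoImplicit false
set_option linter.style.haveILetI false
universe u

open CategoryTheory CategoryTheory.Limits AlgebraicGeometry IsLocalRing TensorProduct

namespace Groth.Agent.H49.CMChartFlat

open Groth.Agent.H49.FibreStalk Groth.Agent.H49.CMMor Groth.Agent.H49.CMChart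

variable {X Y Z : Scheme.{u}}

/-- cancellation of a finite summand in `WithBot ℕ∞`. -/
theorem le_of_add_natCast_le {a b : WithBot ℕ∞} (n : ℕ) (ha : 0 ≤ a)
    (h : a + (n : WithBot ℕ∞) ≤ b + (n : WithBot ℕ∞)) : a ≤ b := by
  induction b with
  | bot =>
    exfalso
    rw [WithBot.bot_add, le_bot_iff] at h
    induction a with
    | bot => exact absurd ha (by simp)
    | coe a => exact absurd h (by exact_mod_cast WithBot.coe_ne_bot)
  | coe b =>
    induction a with
    | bot => exact bot_le
    | coe a =>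
      have h' : a + (n : ℕ∞) ≤ b + (n : ℕ∞) := by exact_mod_cast h
      have : a ≤ b := (ENat.add_le_add_iff_right (ENat.natCast_ne_top n)).mp h'
      exact_mod_cast this

/-- **Miracle flatness for charts**: let `π : X ⟶ Z` be quasi-finite at `x`, `p : Z ⟶ Y` smooth, with
`π ≫ p` locally of finite presentation and Cohen–Macaulay at `x`, and suppose the fibre of `p` at
`π x` has dimension at most that of the fibre of `π ≫ p` at `x`. Then `π` is flat at `x`. -/
theorem flat_stalkMap_of_isCMAt (π : X ⟶ Z) (p : Z ⟶ Y) [LocallyOfFinitePresentation (π ≫ p)]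
    [Smooth p] [LocallyOfFiniteType π] (x : X) (hcm : MoreMor.IsCMAt (π ≫ p) x)
    (hq : π.QuasiFiniteAt x)
    (hd : FlatMor.fibreDimAt p (π x) ≤ FlatMor.fibreDimAt (π ≫ p) x) :
    (π.stalkMap x).hom.Flat := by
  letI : Algebra (Z.presheaf.stalk (π x)) (X.presheaf.stalk x) := (π.stalkMap x).hom.toAlgebra
  haveI : IsLocalHom (algebraMap (Z.presheaf.stalk (π x)) (X.presheaf.stalk x)) :=
    (inferInstance : IsLocalHom (π.stalkMap x).hom)
  have hJ : fibreIdeal p (π x) ≠ ⊤ := fibreIdeal_ne_top p (π x)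
  -- regularity of the fibre ring of `p`
  haveI : Smooth (p.fiberToSpecResidueField (p (π x))) :=
    (inferInstance : Smooth (pullback.snd p (Y.fromSpecResidueField (p (π x)))))
  haveI hreg0 := Groth.Agent.H53.isRegularLocalRing_stalk_of_smooth_field (Y.residueField (p (π x)))
    (p.fiberToSpecResidueField (p (π x))) (p.asFiber (π x))
  haveI hreg : IsRegularLocalRing (Z.presheaf.stalk (π x) ⧸ fibreIdeal p (π x)) :=
    IsRegularLocalRing.of_ringEquiv (quotientEquivStalkAsFiber p (π x)).symm
  -- the CM hypothesis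
  have hcomp : fibreIdeal (π ≫ p) x = Ideal.map (algebraMap (Z.presheaf.stalk (π x))
      (X.presheaf.stalk x)) (fibreIdeal p (π x)) := fibreIdeal_comp π p x
  have hCM0 := ((isCMAt_iff (π ≫ p) x).mp hcm).2
  have hCM : LocCoh.IsCohenMacaulayLocalRing (X.presheaf.stalk x ⧸ Ideal.map (algebraMap
      (Z.presheaf.stalk (π x)) (X.presheaf.stalk x)) (fibreIdeal p (π x))) :=
    Groth.Agent.H49.isCohenMacaulayLocalRing_of_ringEquiv (Ideal.quotEquivOfEq hcomp) hCM0
  -- dimensions
  have e1 := ringKrullDim_eq_of_ringEquiv (quotientEquivStalkAsFiber π x)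
  have e2 := ringKrullDim_eq_of_ringEquiv (quotientEquivStalkAsFiber p (π x))
  have e3 := ringKrullDim_eq_of_ringEquiv (quotientEquivStalkAsFiber (π ≫ p) x)
  have e4 := ringKrullDim_eq_of_ringEquiv (Ideal.quotEquivOfEq hcomp)
  have hc0 := ringKrullDim_fiber_stalk_eq_zero π x hq
  have h0 : ringKrullDim (X.presheaf.stalk x ⧸ (maximalIdeal (Z.presheaf.stalk (π x))).map
      (algebraMap (Z.presheaf.stalk (π x)) (X.presheaf.stalk x))) = 0 := e1.trans hc0
  haveI : LocallyOfFiniteType (π ≫ p) := inferInstance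
  haveI : LocallyOfFiniteType p := inferInstance
  have hle := (Groth.Agent.H51.dim_stalk_fiber_comp π p x).1
  rw [hc0, add_zero] at hle
  have hge : ringKrullDim ((p.fiber (p (π x))).presheaf.stalk (p.asFiber (π x))) ≤
      ringKrullDim (((π ≫ p).fiber ((π ≫ p) x)).presheaf.stalk ((π ≫ p).asFiber x)) := by
    have f1 := Groth.Agent.H51.fibreDimAt_eq_dim_stalk_add_trdeg p (π x)
    have f2 := Groth.Agent.H51.fibreDimAt_eq_dim_stalk_add_trdeg (π ≫ p) x
    have ht := Groth.Agent.H51.resTrdeg_comp π p x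
    rw [Groth.Agent.H51.resTrdeg_eq_zero_of_quasiFiniteAt π x hq, add_zero] at ht
    rw [f1, f2, ht] at hd
    obtain ⟨n, hn⟩ := Groth.Agent.H51.exists_nat_resTrdeg p (π x)
    rw [hn] at hd
    exact le_of_add_natCast_le n ringKrullDim_nonneg_of_nontrivial hd
  have hdim : ringKrullDim (X.presheaf.stalk x ⧸ Ideal.map (algebraMap
      (Z.presheaf.stalk (π x)) (X.presheaf.stalk x)) (fibreIdeal p (π x))) =
      ringKrullDim (Z.presheaf.stalk (π x) ⧸ fibreIdeal p (π x)) := by
    rw [← e4, e3, e2]
    exact le_antisymm hle hge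
  have h2 := Groth.Agent.H49.MiracleQuot.flat_tensor_of_cm (C := X.presheaf.stalk x)
    (fibreIdeal p (π x)) hJ hCM hdim h0
  exact (Groth.Agent.H1.FibreCrit.flat_stalkMap_of_flat_fibre π p x hcm.1 h2).2

end Groth.Agent.H49.CMChartFlat
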