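import Groth.Agent.H49.CMLocusOpen
import Groth.Agent.H49.AffSpaceRelDim
import Groth.Agent.H51.FlatDimFormula

/-!
# Local constancy of the fibre dimension of a Cohen–Macaulay morphism and the dimension formula
-/

set_option autoImplicit false
set_option linter.style.haveILetI false
universe u

open CategoryTheory CategoryTheory.Limits AlgebraicGeometry IsLocalRing

namespace Groth.Agent.H49.CMDimFormula

variable {X Y : Scheme.{u}}

/-- fibre dimension read off from a quasi-finite flat chart. -/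
theorem fibreDimAt_eq_of_chart (f : X ⟶ Y) [LocallyOfFiniteType f] (n : Type u) [Finite n]
    (U : X.Opens) (g : (U : Scheme.{u}) ⟶ 𝔸(n; Y)) (hg : g ≫ (𝔸(n; Y) ↘ Y) = U.ι ≫ f)
    (z : (U : Scheme.{u})) (hq : g.QuasiFiniteAt z) (hfl : (g.stalkMap z).hom.Flat) :
    FlatMor.fibreDimAt f (U.ι z) = (Nat.card n : WithBot ℕ∞) := by
  have h1 : LocallyOfFiniteType (g ≫ (𝔸(n; Y) ↘ Y)) := by rw [hg]; infer_instance
  have : LocallyOfFiniteType g := locallyOfFiniteType_of_comp g (𝔸(n; Y) ↘ Y)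
  have h2 := (Groth.Agent.H51.fibreDimAt_comp_le g (𝔸(n; Y) ↘ Y) z).2 hfl
  rw [(Groth.Agent.H53.quasiFiniteAt_iff_fibreDimAt_eq_zero g z).mp hq, zero_add,
    Groth.Agent.H49.AffSpaceRelDim.fibreDimAt_affineSpace] at h2
  rw [← h2]
  have h3 := Groth.Agent.H17.Chev.fibreDimAt_ι_comp f U z
  rw [← hg] at h3
  exact h3.symm

/-- the fibre dimension of a morphism locally of finite presentation is locally constant on the
Cohen–Macaulay locus. -/
theorem exists_open_fibreDimAt_eq (f : X ⟶ Y) [LocallyOfFinitePresentation f] (x : X)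
    (hcm : MoreMor.IsCMAt f x) (d : ℕ) (hd : FlatMor.fibreDimAt f x = d) :
    ∃ U : X.Opens, x ∈ U ∧ ∀ z ∈ U, FlatMor.fibreDimAt f z = d := by
  have hlft : LocallyOfFiniteType f := inferInstance
  obtain ⟨U, hx, g, hg, hq, hlfp, hfl⟩ :=
    Groth.Agent.H49.CMChartMain.exists_chart_of_isCMAt f x hcm d hd
  have hopen : IsOpen {z : (U : Scheme.{u}) | (g.stalkMap z).hom.Flat} :=
    Groth.Agent.S0386.result g
  refine ⟨U.ι ''ᵁ ⟨_, hopen⟩, ⟨⟨x, hx⟩, hfl, rfl⟩, ?_⟩
  rintro _ ⟨z, hz, rfl⟩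
  have := fibreDimAt_eq_of_chart f (ULift.{u} (Fin d)) U g hg z (g.quasiFiniteAt z) hz
  refine this.trans ?_
  simp

/-- **Dimension formula for Cohen–Macaulay morphisms** between locally Noetherian schemes. -/
theorem localDim_eq_add (f : X ⟶ Y) [IsLocallyNoetherian X] [IsLocallyNoetherian Y]
    [LocallyOfFiniteType f] (hf : ∀ x : X, MoreMor.IsCMAt f x) (x : X) :
    FlatMor.localDim X x = FlatMor.localDim Y (f x) + FlatMor.fibreDimAt f x := by
  haveI := Groth.Agent.H51.locallyOfFinitePresentation_of_isLocallyNoetherian f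
  haveI : Flat f := by
    rw [Flat.iff_flat_stalkMap]
    exact fun x => (hf x).1
  obtain ⟨d, hd⟩ := Groth.Agent.H17.Chev.exists_nat_eq_fibreDimAt f x
  obtain ⟨U, hxU, hU⟩ := exists_open_fibreDimAt_eq f x (hf x) d hd
  have key := Groth.Agent.H51.localDim_eq_add_of_flat (U.ι ≫ f) d
    (fun z => (Groth.Agent.H17.Chev.fibreDimAt_ι_comp f U z).trans (hU z.1 z.2)) ⟨x, hxU⟩
  have h2 := Groth.Agent.H17.Chev.localDim_eq_of_isOpenEmbedding U.ι.isOpenEmbedding ⟨x, hxU⟩
  rw [hd]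
  exact h2.symm.trans key

end Groth.Agent.H49.CMDimFormula
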