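import Groth.Agent.H49.CMChartMain
import Groth.Agent.H17.Chev.MaxPt
import Groth.Agent.H17.QFlat.Components
import Groth.Agent.S3386
import Groth.Agent.H51.FlatDimFormula

/-!
# Cohen–Macaulay morphisms are equidimensional (EGA IV 15.4.3)
-/

set_option autoImplicit false
set_option linter.style.haveILetI false
universe u

open CategoryTheory CategoryTheory.Limits AlgebraicGeometry IsLocalRing

namespace Groth.Agent.H49.CMEquidim

variable {X Y : Scheme.{u}}

/-- a flat, locally quasi-finite chart on a neighbourhood of a Cohen–Macaulay point. -/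
theorem exists_flat_chart_of_isCMAt (f : X ⟶ Y) [LocallyOfFinitePresentation f] (x : X)
    (hcm : MoreMor.IsCMAt f x) (d : ℕ) (hd : FlatMor.fibreDimAt f x = d) :
    ∃ (U : X.Opens) (g : (U : Scheme.{u}) ⟶ 𝔸(ULift.{u} (Fin d); Y)), x ∈ U ∧
      g ≫ (𝔸(ULift.{u} (Fin d); Y) ↘ Y) = U.ι ≫ f ∧ Flat g ∧ LocallyQuasiFinite g := by
  obtain ⟨U, hx, g, hg, hq, hlfp, hfl⟩ :=
    Groth.Agent.H49.CMChartMain.exists_chart_of_isCMAt f x hcm d hd
  have hopen : IsOpen {z : (U : Scheme.{u}) | (g.stalkMap z).hom.Flat} :=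
    Groth.Agent.S0386.result g
  let W : (U : Scheme.{u}).Opens := ⟨_, hopen⟩
  let U' : X.Opens := U.ι ''ᵁ W
  have hU'U : U' ≤ U := by
    rintro _ ⟨w, -, rfl⟩
    exact w.2
  have hxU' : x ∈ U' := ⟨⟨x, hx⟩, hfl, rfl⟩
  refine ⟨U', X.homOfLE hU'U ≫ g, hxU', ?_, ?_, inferInstance⟩
  · rw [Category.assoc, hg, Scheme.homOfLE_ι_assoc]
  · rw [Flat.iff_flat_stalkMap]
    intro z
    rw [Scheme.Hom.stalkMap_comp]
    refine (RingHom.Flat.respectsIso.cancel_right_isIso _ _).mpr ?_
    obtain ⟨w, hw, hwz⟩ := z.2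
    have : (X.homOfLE hU'U) z = w := by
      apply U.ι.isOpenEmbedding.injective
      rw [← Scheme.Hom.comp_apply, Scheme.homOfLE_ι]
      exact hwz.symm
    rw [this]
    exact hw

/-- a flat morphism maps irreducible components onto dense subsets of irreducible components. -/
theorem closure_image_mem_irreducibleComponents {P Q : Scheme.{u}} (g : P ⟶ Q) [Flat g]
    (Z : Set P) (hZ : Z ∈ irreducibleComponents (P : Type u)) :
    closure (g.base '' Z) ∈ irreducibleComponents (Q : Type u) := by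
  have hZc : IsClosed Z := isClosed_of_mem_irreducibleComponents Z hZ
  obtain ⟨ζ, hζ⟩ : ∃ ζ, IsGenericPoint ζ Z := ⟨_, hZ.1.isGenericPoint_genericPoint hZc⟩
  have hmax : IsMax ζ :=
    Groth.Agent.H17.Chev.isMax_of_isGenericPoint_irreducibleComponent P Z hZ ζ hζ
  have hmax' : IsMax (g.base ζ) :=
    Groth.Agent.H17.QFlat.isMax_map_of_generalizingMap g (Flat.generalizingMap g) ζ hmax
  have h1 := Groth.Agent.H17.Chev.closure_mem_irreducibleComponents_of_isMax Q (g.base ζ) hmax'
  have h2 : closure (g.base '' Z) = closure {g.base ζ} := by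
    apply subset_antisymm
    · apply closure_minimal _ isClosed_closure
      rw [← hζ.def]
      exact (image_closure_subset_closure_image g.continuous).trans (by simp)
    · apply closure_mono
      rintro _ rfl
      exact ⟨ζ, hζ.mem, rfl⟩
  rw [h2]
  exact h1

/-- **EGA IV 15.4.3**: a morphism locally of finite type to a locally Noetherian scheme which is
Cohen–Macaulay at `x` is equidimensional at `x`. -/
theorem isEquidimAt_of_isCMAt [IsLocallyNoetherian Y] (f : X ⟶ Y) [LocallyOfFiniteType f] (x : X)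
    (hcm : MoreMor.IsCMAt f x) : EGA43.IsEquidimAt f x := by
  haveI := Groth.Agent.H51.locallyOfFinitePresentation_of_isLocallyNoetherian f
  obtain ⟨d, hd⟩ := Groth.Agent.H17.Chev.exists_nat_eq_fibreDimAt f x
  obtain ⟨U, g, hxU, hg, hfl, hq⟩ := exists_flat_chart_of_isCMAt f x hcm d hd
  refine (Groth.Agent.S3386.result f x).2 inferInstance ⟨d, U, g, hxU, hg, hq, ?_⟩
  intro Z hZ
  exact closure_image_mem_irreducibleComponents g Z hZ

end Groth.Agent.H49.CMEquidim
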