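import Groth.Agent.H49.CMDimFormula
import Groth.Agent.H49.FibreDimRing
import Groth.Agent.H49.CMMorBC
import Groth.Agent.H49.CMLocalize
import Groth.Agent.H29.ClopenIdem
import Groth.Agent.H11.FtDim

/-!
# Decomposition of a flat finitely presented algebra with Cohen–Macaulay fibres by fibre dimension
(Stacks 00RH / 045U), helper49
-/

set_option autoImplicit false
set_option linter.style.haveILetI false
universe u

open CategoryTheory CategoryTheory.Limits AlgebraicGeometry IsLocalRing TensorProduct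

namespace Groth.Agent.H49.CMFibreDecomp

section bridge

set_option backward.isDefEq.respectTransparency.types false in
/-- the stalks of a scheme isomorphic to the spectrum of a Cohen–Macaulay ring are Cohen–Macaulay. -/
theorem isCM_stalk_of_iso_Spec {F : Scheme.{u}} (A : Type u) [CommRing A]
    (φ : F ≅ Spec (CommRingCat.of A)) [hA : LocCoh.IsCohenMacaulayRing A] (z : F) :
    LocCoh.IsCohenMacaulayLocalRing (F.presheaf.stalk z) := by
  have key : ∀ x : PrimeSpectrum A,
      LocCoh.IsCohenMacaulayLocalRing ((Spec (CommRingCat.of A)).presheaf.stalk x) := by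
    intro x
    have h1 : LocCoh.IsCohenMacaulayLocalRing (Localization.AtPrime x.asIdeal) :=
      hA.isCohenMacaulayLocalRing_localization _
    let ε : Localization.AtPrime x.asIdeal ≃+* (Spec (CommRingCat.of A)).presheaf.stalk x :=
      (AlgebraicGeometry.StructureSheaf.stalkIso A x).toRingEquiv
    exact Groth.Agent.H49.isCohenMacaulayLocalRing_of_ringEquiv ε h1
  exact Groth.Agent.H49.isCohenMacaulayLocalRing_of_ringEquiv
    (asIso (φ.hom.stalkMap z)).commRingCatIsoToRingEquiv (key (φ.hom z))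

set_option backward.isDefEq.respectTransparency.types false in
/-- conversely, if all stalks of a scheme isomorphic to `Spec A` (`A` Noetherian) are
Cohen–Macaulay then `A` is a Cohen–Macaulay ring. -/
theorem isCohenMacaulayRing_of_iso_Spec {F : Scheme.{u}} (A : Type u) [CommRing A]
    [IsNoetherianRing A] (φ : F ≅ Spec (CommRingCat.of A))
    (h : ∀ z : F, LocCoh.IsCohenMacaulayLocalRing (F.presheaf.stalk z)) :
    LocCoh.IsCohenMacaulayRing A := by
  refine ⟨fun p hp => ?_⟩
  let x : PrimeSpectrum A := ⟨p, hp⟩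
  have h1 := h (φ.inv x)
  haveI : IsIso (φ.inv.stalkMap x) := inferInstance
  have h2 : LocCoh.IsCohenMacaulayLocalRing ((Spec (CommRingCat.of A)).presheaf.stalk x) :=
    Groth.Agent.H49.isCohenMacaulayLocalRing_of_ringEquiv
      (asIso (φ.inv.stalkMap x)).commRingCatIsoToRingEquiv h1
  let ε : Localization.AtPrime x.asIdeal ≃+* (Spec (CommRingCat.of A)).presheaf.stalk x :=
    (AlgebraicGeometry.StructureSheaf.stalkIso A x).toRingEquiv
  exact Groth.Agent.H49.isCohenMacaulayLocalRing_of_ringEquiv ε.symm h2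

/-- the fibre of `Spec S → Spec R` over `p` is the spectrum of the fibre ring. -/
noncomputable def fiberIsoSpec (R S : Type u) [CommRing R] [CommRing S] [Algebra R S]
    (p : PrimeSpectrum R) :
    (Spec.map (CommRingCat.ofHom (algebraMap R S))).fiber p ≅
      Spec (CommRingCat.of (p.asIdeal.Fiber S)) :=
  Arrow.leftFunc.mapIso (Spec.fiberToSpecResidueFieldIso R S p)

end bridge

section main
variable (R S : Type u) [CommRing R] [CommRing S] [Algebra R S]

/-- `Spec S → Spec R` -/
noncomputable abbrev sm : Spec (CommRingCat.of S) ⟶ Spec (CommRingCat.of R) :=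
  Spec.map (CommRingCat.ofHom (algebraMap R S))

theorem flat_sm [Module.Flat R S] : Flat (sm R S) := by
  rw [HasRingHomProperty.Spec_iff (P := @Flat)]
  exact RingHom.flat_algebraMap_iff.mpr inferInstance

theorem lofp_sm [Algebra.FinitePresentation R S] : LocallyOfFinitePresentation (sm R S) := by
  rw [HasRingHomProperty.Spec_iff (P := @LocallyOfFinitePresentation)]
  exact RingHom.finitePresentation_algebraMap.mpr inferInstance

theorem loft_sm [Algebra.FiniteType R S] : LocallyOfFiniteType (sm R S) := by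
  rw [HasRingHomProperty.Spec_iff (P := @LocallyOfFiniteType)]
  exact RingHom.finiteType_algebraMap.mpr inferInstance

/-- Cohen–Macaulay fibre rings give a Cohen–Macaulay morphism. -/
theorem isCMAt_sm [Module.Flat R S]
    (hCM : ∀ p : PrimeSpectrum R, LocCoh.IsCohenMacaulayRing (p.asIdeal.Fiber S))
    (q : Spec (CommRingCat.of S)) : MoreMor.IsCMAt (sm R S) q := by
  haveI := flat_sm R S
  refine ⟨Flat.stalkMap _ q, ?_⟩
  haveI := hCM ((sm R S) q)
  exact isCM_stalk_of_iso_Spec _ (fiberIsoSpec R S ((sm R S) q)) _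

/-- a Cohen–Macaulay morphism of affine schemes has Cohen–Macaulay fibre rings. -/
theorem isCohenMacaulayRing_fiber [Algebra.FiniteType R S]
    (h : ∀ q : Spec (CommRingCat.of S), MoreMor.IsCMAt (sm R S) q) (p : PrimeSpectrum R) :
    LocCoh.IsCohenMacaulayRing (p.asIdeal.Fiber S) := by
  haveI : IsNoetherianRing (p.asIdeal.Fiber S) :=
    Algebra.FiniteType.isNoetherianRing p.asIdeal.ResidueField _
  refine isCohenMacaulayRing_of_iso_Spec _ (fiberIsoSpec R S p) fun z => ?_
  have hy : (sm R S) ((sm R S).fiberι p z) = p := by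
    have : (sm R S).fiberι p z ∈ Set.range ((sm R S).fiberι p) := Set.mem_range_self z
    rw [(sm R S).range_fiberι p] at this
    exact this
  exact (Groth.Agent.H49.CMMorBC.cm_fiber_stalk_iff_asFiber (sm R S) _ p hy z rfl).mpr (h _).2

/-- the quotient by a minimal prime of a finite type algebra over a field has the local dimension
at that prime as its dimension. -/
theorem ringKrullDim_quotient_minimalPrime (k A : Type u) [Field k] [CommRing A] [Algebra k A]
    [Algebra.FiniteType k A] (P : Ideal A) (hP : P ∈ minimalPrimes A) :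
    haveI : P.IsPrime := hP.1.1
    ringKrullDim (A ⧸ P) = FlatMor.localDim (PrimeSpectrum A) ⟨P, hP.1.1⟩ := by
  haveI : P.IsPrime := hP.1.1
  apply le_antisymm
  · exact Groth.Agent.H11.FtDim.localDim_ge (k := k) ⟨P, inferInstance⟩ P le_rfl
  · refine Groth.Agent.H11.FtDim.localDim_le (k := k) ⟨P, inferInstance⟩ _ ?_
    intro q hq hqP
    have : q = P := le_antisymm hqP (hP.2 ⟨hq.1.1, bot_le⟩ hqP)
    subst this
    exact le_rfl

/-- the properties of one factor -/
theorem factor_props [Module.Flat R S] [Algebra.FinitePresentation R S]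
    (hcm : ∀ q : Spec (CommRingCat.of S), MoreMor.IsCMAt (sm R S) q)
    (e : S) (he : IsIdempotentElem e) (d : ℕ)
    (hd : ∀ q : PrimeSpectrum S, e ∉ q.asIdeal →
      FlatMor.fibreDimAt (sm R S) (show ↥(Spec (CommRingCat.of S)) from q) = d) :
    Module.Flat R (S ⧸ Ideal.span {1 - e}) ∧
      Algebra.FinitePresentation R (S ⧸ Ideal.span {1 - e}) ∧
      (∀ p : PrimeSpectrum R, LocCoh.IsCohenMacaulayRing (p.asIdeal.Fiber (S ⧸ Ideal.span {1 - e}))) ∧
      ∀ (p : PrimeSpectrum R), ∀ P ∈ minimalPrimes (p.asIdeal.Fiber (S ⧸ Ideal.span {1 - e})),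
        ringKrullDim (p.asIdeal.Fiber (S ⧸ Ideal.span {1 - e}) ⧸ P) = (d : WithBot ℕ∞) := by
  haveI hloc : IsLocalization.Away e (S ⧸ Ideal.span {1 - e}) :=
    IsLocalization.Away.quotient_of_isIdempotentElem he
  haveI hflatS : Module.Flat S (S ⧸ Ideal.span {1 - e}) :=
    IsLocalization.flat _ (Submonoid.powers e)
  haveI hflat : Module.Flat R (S ⧸ Ideal.span {1 - e}) := Module.Flat.trans R S _
  haveI hfp : Algebra.FinitePresentation R (S ⧸ Ideal.span {1 - e}) :=
    Algebra.FinitePresentation.quotient (Submodule.fg_span_singleton _)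
  haveI hj : IsOpenImmersion (sm S (S ⧸ Ideal.span {1 - e})) :=
    IsOpenImmersion.of_isLocalization e
  have hcomp : sm R (S ⧸ Ideal.span {1 - e}) = sm S (S ⧸ Ideal.span {1 - e}) ≫ sm R S := by
    rw [sm, sm, sm, ← Spec.map_comp, ← CommRingCat.ofHom_comp,
      ← IsScalarTower.algebraMap_eq]
  have hcmT : ∀ z : Spec (CommRingCat.of (S ⧸ Ideal.span {1 - e})),
      MoreMor.IsCMAt (sm R (S ⧸ Ideal.span {1 - e})) z := by
    intro z
    rw [hcomp, Groth.Agent.H49.CMChart.isCMAt_comp_of_isOpenImmersion]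
    exact hcm _
  refine ⟨hflat, hfp, isCohenMacaulayRing_fiber R _ hcmT, ?_⟩
  intro p P hP
  haveI : P.IsPrime := hP.1.1
  rw [ringKrullDim_quotient_minimalPrime p.asIdeal.ResidueField _ P hP]
  let Q : PrimeSpectrum (p.asIdeal.Fiber (S ⧸ Ideal.span {1 - e})) := ⟨P, inferInstance⟩
  let q' : PrimeSpectrum (S ⧸ Ideal.span {1 - e}) :=
    ⟨Q.asIdeal.comap (Algebra.TensorProduct.includeRight.toRingHom), inferInstance⟩
  have h1 := Groth.Agent.H49.FibreDimRing.fibreDimAt_SpecMap R (S ⧸ Ideal.span {1 - e}) p Q q' rfl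
  rw [← h1]
  have h2 := Groth.Agent.H17.Chev.fibreDimAt_eq_of_isOpenImmersion (sm R S)
    (sm R (S ⧸ Ideal.span {1 - e})) (sm S (S ⧸ Ideal.span {1 - e})) (𝟙 _) Function.injective_id
    (by rw [Category.comp_id, hcomp]) (show ↥(Spec (CommRingCat.of (S ⧸ Ideal.span {1 - e}))) from q')
  rw [h2]
  refine hd (PrimeSpectrum.comap (algebraMap S (S ⧸ Ideal.span {1 - e})) q') ?_
  intro hmem
  have h3 : algebraMap S (S ⧸ Ideal.span {1 - e}) e ∈ q'.asIdeal := hmem
  have h4 : algebraMap S (S ⧸ Ideal.span {1 - e}) e = 1 := by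
    have : algebraMap S (S ⧸ Ideal.span {1 - e}) (1 - e) = 0 :=
      Ideal.Quotient.eq_zero_iff_mem.mpr (Ideal.subset_span rfl)
    rw [map_sub, map_one, sub_eq_zero] at this
    exact this.symm
  rw [h4] at h3
  exact q'.2.ne_top ((Ideal.eq_top_iff_one _).mpr h3)

/-- **S9165**. -/
theorem main [Module.Flat R S] [Algebra.FinitePresentation R S]
    (hCM : ∀ p : PrimeSpectrum R, LocCoh.IsCohenMacaulayRing (p.asIdeal.Fiber S)) :
    ∃ (N : ℕ) (T : Fin (N + 1) → Type u) (_ : ∀ d, CommRing (T d)) (_ : ∀ d, Algebra R (T d)),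
      Nonempty (S ≃ₐ[R] ((d : Fin (N + 1)) → T d)) ∧
        ∀ d : Fin (N + 1), Module.Flat R (T d) ∧ Algebra.FinitePresentation R (T d) ∧
          (∀ p : PrimeSpectrum R, LocCoh.IsCohenMacaulayRing (p.asIdeal.Fiber (T d))) ∧
          ∀ (p : PrimeSpectrum R), ∀ P ∈ minimalPrimes (p.asIdeal.Fiber (T d)),
            ringKrullDim (p.asIdeal.Fiber (T d) ⧸ P) = ((d : ℕ) : WithBot ℕ∞) := by
  classical
  haveI := flat_sm R S
  haveI := lofp_sm R S
  have hcm : ∀ q : Spec (CommRingCat.of S), MoreMor.IsCMAt (sm R S) q := isCMAt_sm R S hCM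
  have hδ : ∀ q : PrimeSpectrum S, ∃ n : ℕ,
      FlatMor.fibreDimAt (sm R S) (show ↥(Spec (CommRingCat.of S)) from q) = n :=
    fun q => Groth.Agent.H17.Chev.exists_nat_eq_fibreDimAt (sm R S) _
  choose δ hδ using hδ
  have hopen : ∀ n : ℕ, IsOpen {q : PrimeSpectrum S | δ q = n} := by
    intro n
    rw [isOpen_iff_forall_mem_open]
    intro q hq
    obtain ⟨U, hqU, hU⟩ := Groth.Agent.H49.CMDimFormula.exists_open_fibreDimAt_eq (sm R S)
      (show ↥(Spec (CommRingCat.of S)) from q) (hcm _) (δ q) (hδ q)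
    refine ⟨(U.1 : Set ↥(Spec (CommRingCat.of S))), ?_, U.2, hqU⟩
    intro z hz
    have h1 := hU z hz
    rw [hδ z] at h1
    have h2 : δ z = δ q := by exact_mod_cast h1
    exact h2.trans hq
  obtain ⟨N, hN⟩ : ∃ N : ℕ, ∀ q : PrimeSpectrum S, δ q ≤ N := by
    obtain ⟨t, ht⟩ := isCompact_univ.elim_finite_subcover
      (fun n : ℕ => {q : PrimeSpectrum S | δ q = n}) hopen
      (fun q _ => Set.mem_iUnion.mpr ⟨δ q, rfl⟩)
    refine ⟨t.sup id, fun q => ?_⟩
    have := ht (Set.mem_univ q)
    simp only [Set.mem_iUnion, exists_prop] at this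
    obtain ⟨n, hn, hqn⟩ := this
    have hqn' : δ q = n := hqn
    rw [hqn']
    exact Finset.le_sup (f := id) hn
  let Y : Fin (N + 1) → Set (PrimeSpectrum S) := fun d => {q | δ q = (d : ℕ)}
  have hY : ∀ d, IsClopen (Y d) := by
    intro d
    refine ⟨?_, hopen d⟩
    rw [← isOpen_compl_iff]
    have : (Y d)ᶜ = ⋃ n ∈ {n : ℕ | n ≠ (d : ℕ)}, {q : PrimeSpectrum S | δ q = n} := by
      ext q
      simp only [Y, Set.mem_compl_iff, Set.mem_ofPred_eq, Set.mem_iUnion, exists_prop]
      constructor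
      · intro h
        exact ⟨δ q, h, rfl⟩
      · rintro ⟨n, hn, hqn⟩
        rw [hqn]
        exact hn
    rw [this]
    exact isOpen_biUnion fun n _ => hopen n
  have hdisj : ∀ i j, i ≠ j → Disjoint (Y i) (Y j) := by
    intro i j hij
    rw [Set.disjoint_left]
    intro q hi hj
    have h1 : δ q = (i : ℕ) := hi
    have h2 : δ q = (j : ℕ) := hj
    exact hij (Fin.ext (h1.symm.trans h2))
  have hcov : ⋃ i, Y i = Set.univ := by
    rw [Set.eq_univ_iff_forall]
    intro q
    rw [Set.mem_iUnion]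
    exact ⟨⟨δ q, Nat.lt_succ_of_le (hN q)⟩, rfl⟩
  obtain ⟨e, hcoi, heq⟩ := Groth.Agent.H29.ClopenIdem.exists_completeOrthogonalIdempotents Y hY
    hdisj hcov
  refine ⟨N, fun d => S ⧸ Ideal.span {1 - e d}, fun d => inferInstance, fun d => inferInstance,
    ?_, ?_⟩
  · let φ : S →ₐ[R] ((d : Fin (N + 1)) → S ⧸ Ideal.span {1 - e d}) :=
      AlgHom.pi (fun d => Ideal.Quotient.mkₐ R (Ideal.span {1 - e d}))
    have hφ : Function.Bijective φ := hcoi.bijective_pi
    exact ⟨AlgEquiv.ofBijective φ hφ⟩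
  · intro d
    refine factor_props R S hcm (e d) (hcoi.idem d) (d : ℕ) ?_
    intro q hq
    have hqY : q ∈ Y d := by
      rw [heq d]
      exact hq
    have h1 : δ q = (d : ℕ) := hqY
    rw [hδ q, h1]

end main

end Groth.Agent.H49.CMFibreDecomp
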