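import Groth.Agent.H29.CM

/-!
# Regular sequences in a Cohen–Macaulay local ring are detected by the dimension drop (helper49)
-/

set_option autoImplicit false
set_option linter.style.haveILetI false
set_option linter.deprecated false
universe u

open RingTheory.Sequence IsLocalRing

namespace Groth.Agent.H49.CMRegSeqDim

variable {A : Type u} [CommRing A]

/-- general inequality: `dim A ≤ dim A/(xs) + length xs` for a Noetherian local ring. -/
theorem ringKrullDim_le_quotient_ofList_add_length [IsLocalRing A] [IsNoetherianRing A]
    (xs : List A) (hxs : ∀ x ∈ xs, x ∈ maximalIdeal A) :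
    ringKrullDim A ≤ ringKrullDim (A ⧸ Ideal.ofList xs) + (xs.length : WithBot ℕ∞) := by
  classical
  have h1 := ringKrullDim_le_ringKrullDim_add_card (R := A) (S := xs.toFinset)
    (by intro x hx; exact hxs x (by simpa using hx))
  have h2 : Ideal.span (SetLike.coe xs.toFinset) = Ideal.ofList xs := by
    unfold Ideal.ofList
    congr 1
    ext x
    simp
  rw [h2] at h1
  refine h1.trans ?_
  gcongr
  exact_mod_cast List.toFinset_card_le xs

/-- In a Cohen–Macaulay local ring a sequence in the maximal ideal is regular iff it cuts the
dimension down by its length. -/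
theorem isRegular_iff_dim (hA : LocCoh.IsCohenMacaulayLocalRing A) (xs : List A)
    (hxs : ∀ x ∈ xs, x ∈ maximalIdeal A) :
    IsRegular A xs ↔
      ringKrullDim (A ⧸ Ideal.ofList xs) + (xs.length : WithBot ℕ∞) ≤ ringKrullDim A := by
  haveI : IsLocalRing A := hA.toIsLocalRing
  haveI : IsNoetherianRing A := hA.toIsNoetherian
  constructor
  · intro h
    exact (ringKrullDim_add_length_eq_ringKrullDim_of_isRegular xs h).le
  · intro h
    have heq : ringKrullDim (A ⧸ Ideal.ofList xs) + (xs.length : WithBot ℕ∞) = ringKrullDim A :=
      le_antisymm h (ringKrullDim_le_quotient_ofList_add_length xs hxs)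
    have eq : Ideal.ofList xs = Ideal.ofList xs • (⊤ : Ideal A) := by simp
    have hsd : Module.supportDim A (A ⧸ (Ideal.ofList xs • ⊤ : Submodule A A)) + xs.length =
        Module.supportDim A A := by
      rw [Module.supportDim_self_eq_ringKrullDim, ← heq,
        ringKrullDim_eq_of_ringEquiv (Ideal.quotientEquivAlgOfEq A eq).toRingEquiv,
        ← Module.supportDim_quotient_eq_ringKrullDim]
    have hcm : LocCoh.IsCohenMacaulayModule A A := hA.supportDim_eq_depth
    refine ⟨Groth.Agent.H29.CML.isWeaklyRegular_of_supportDim_eq xs A hcm hxs hsd, ?_⟩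
    intro htop
    have hle : Ideal.ofList xs ≤ maximalIdeal A := by
      unfold Ideal.ofList
      rw [Ideal.span_le]
      intro x hx
      exact hxs x hx
    have h1 : (Ideal.ofList xs • ⊤ : Submodule A A) ≤ maximalIdeal A := by
      rw [← eq]
      exact hle
    rw [← htop] at h1
    exact (maximalIdeal.isMaximal A).ne_top (top_le_iff.mp h1)

end Groth.Agent.H49.CMRegSeqDim
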