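import Mathlib.Topology.KrullDimension
import Mathlib.Topology.Sober

set_option autoImplicit false

namespace Groth.Agent.H49

open TopologicalSpace Order

/-- In a T0 space of Krull dimension at most zero, specialization implies equality. -/
theorem eq_of_specializes_of_krullDim_le_zero {X : Type*} [TopologicalSpace X] [T0Space X]
    (h : topologicalKrullDim X ≤ 0) {x y : X} (hxy : x ⤳ y) : x = y := by
  by_contra hne
  let Zx : IrreducibleCloseds X := ⟨closure {x}, isIrreducible_singleton.closure, isClosed_closure⟩
  let Zy : IrreducibleCloseds X := ⟨closure {y}, isIrreducible_singleton.closure, isClosed_closure⟩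
  have hle : Zy ≤ Zx := by
    change closure {y} ⊆ closure {x}
    exact closure_minimal (Set.singleton_subset_iff.mpr hxy.mem_closure) isClosed_closure
  have hne' : Zy ≠ Zx := by
    intro heq
    have h1 : closure ({y} : Set X) = closure {x} := congrArg (fun Z : IrreducibleCloseds X => (Z : Set X)) heq
    have : y ⤳ x := by
      rw [specializes_iff_mem_closure, h1]
      exact subset_closure rfl
    exact hne ((hxy.antisymm this).eq)
  have hlt : Zy < Zx := lt_of_le_of_ne hle hne'
  have hmax := krullDim_nonpos_iff_forall_isMax.mp h Zy
  exact absurd hlt hmax.not_lt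

/-- In a T0 space of Krull dimension at most zero, every point is closed. -/
theorem t1Space_of_krullDim_le_zero {X : Type*} [TopologicalSpace X] [T0Space X]
    (h : topologicalKrullDim X ≤ 0) : T1Space X := by
  rw [t1Space_iff_specializes_imp_eq]
  intro x y hxy
  exact eq_of_specializes_of_krullDim_le_zero h hxy

end Groth.Agent.H49
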