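import Mathlib.AlgebraicGeometry.Morphisms.UnderlyingMap
import Mathlib.AlgebraicGeometry.Morphisms.UniversallyOpen
import Mathlib.AlgebraicGeometry.Morphisms.Flat
import Mathlib.AlgebraicGeometry.Sites.Fpqc
import Mathlib.AlgebraicGeometry.PullbackCarrier

set_option autoImplicit false
universe u
open CategoryTheory CategoryTheory.Limits AlgebraicGeometry Opposite

namespace Groth.Agent.H49

/-- The base change of a dominant morphism along an open map is dominant. -/
theorem isDominant_pullback_snd_of_isOpenMap {X Y Y' : Scheme.{u}} (f : X ⟶ Y) (g : Y' ⟶ Y)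
    [IsDominant f] (hg : IsOpenMap g) : IsDominant (pullback.snd f g) := by
  refine ⟨?_⟩
  rw [DenseRange, dense_iff_inter_open]
  intro V hV ⟨v, hv⟩
  have hgV : IsOpen (g '' V) := hg V hV
  obtain ⟨_, ⟨v', hv', rfl⟩, ⟨x, hx⟩⟩ :=
    (dense_iff_inter_open.1 f.denseRange) (g '' V) hgV ⟨g v, v, hv, rfl⟩
  obtain ⟨z, -, hz⟩ := Scheme.Pullback.exists_preimage_pullback x v' hx
  exact ⟨v', hv', z, hz⟩

/-- Dominance can be checked after a jointly surjective family of base changes. -/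
theorem isDominant_of_pullback_snd {ι : Type*} {X Y : Scheme.{u}} (f : X ⟶ Y)
    (Yi : ι → Scheme.{u}) (g : ∀ i, Yi i ⟶ Y) (hsurj : ∀ y : Y, ∃ i, y ∈ Set.range (g i))
    (h : ∀ i, IsDominant (pullback.snd f (g i))) : IsDominant f := by
  refine ⟨?_⟩
  rw [DenseRange, dense_iff_inter_open]
  intro V hV ⟨y, hy⟩
  obtain ⟨i, y', rfl⟩ := hsurj y
  have hV' : IsOpen ((g i) ⁻¹' V) := hV.preimage (g i).continuous
  obtain ⟨_, hw, ⟨z, rfl⟩⟩ :=
    (dense_iff_inter_open.1 (h i).denseRange) ((g i) ⁻¹' V) hV' ⟨y', hy⟩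
  refine ⟨g i (pullback.snd f (g i) z), hw, pullback.fst f (g i) z, ?_⟩
  rw [← Scheme.Hom.comp_apply, pullback.condition, Scheme.Hom.comp_apply]

end Groth.Agent.H49
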