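import Mathlib.AlgebraicGeometry.Gluing
import Mathlib.AlgebraicGeometry.Cover.Open
import Mathlib.AlgebraicGeometry.AffineScheme
import Mathlib.CategoryTheory.Sites.EffectiveEpimorphic

/-!
# Effective epimorphic sieves of schemes can be tested on affine schemes
-/

set_option autoImplicit false
universe u
open CategoryTheory CategoryTheory.Limits AlgebraicGeometry Opposite

namespace Groth.Agent.H49

section

variable {Y Z : Scheme.{u}} (S : Sieve Y)
  (x : Presieve.FamilyOfElements (yoneda.obj Z) S.arrows)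

/-- `t` is an amalgamation of the family `x` pulled back along `k`. -/
def Amalg {W : Scheme.{u}} (k : W ⟶ Y) (t : W ⟶ Z) : Prop :=
  ∀ ⦃V : Scheme.{u}⦄ (l : V ⟶ W) (hl : S (l ≫ k)), l ≫ t = x (l ≫ k) hl

variable {S x}

theorem fam_congr {V : Scheme.{u}} {a b : V ⟶ Y} (e : a = b) (ha : S a) (hb : S b) :
    x a ha = x b hb := by
  subst e
  rfl

theorem amalg_iff {W : Scheme.{u}} (k : W ⟶ Y) (t : W ⟶ Z) :
    Amalg S x k t ↔ (x.pullback k).IsAmalgamation t := by
  constructor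
  · intro h V l hl
    exact h l hl
  · intro h V l hl
    exact h l hl

theorem Amalg.comp {W W' : Scheme.{u}} {k : W ⟶ Y} {t : W ⟶ Z} (h : Amalg S x k t)
    (l : W' ⟶ W) : Amalg S x (l ≫ k) (l ≫ t) := by
  intro V m hm
  have hm' : S ((m ≫ l) ≫ k) := by rwa [Category.assoc]
  rw [← Category.assoc, h (m ≫ l) hm']
  exact fam_congr (Category.assoc _ _ _) _ _

theorem Amalg.congr {W : Scheme.{u}} {k k' : W ⟶ Y} {t : W ⟶ Z} (e : k = k')
    (h : Amalg S x k t) : Amalg S x k' t := by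
  subst e
  exact h

end

/-- A representable presheaf on schemes is a sheaf for a sieve as soon as it is one for all
pullbacks of the sieve to affine schemes. -/
theorem isSheafFor_yoneda_of_affine {Y Z : Scheme.{u}} (S : Sieve Y)
    (h : ∀ (W : Scheme.{u}) (k : W ⟶ Y), IsAffine W →
      Presieve.IsSheafFor (yoneda.obj Z) (S.pullback k).arrows) :
    Presieve.IsSheafFor (yoneda.obj Z) S.arrows := by
  intro x hx
  -- uniqueness on affines, then on all schemes
  have hsepA : ∀ (W : Scheme.{u}) (k : W ⟶ Y), IsAffine W → ∀ (t₁ t₂ : W ⟶ Z),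
      Amalg S x k t₁ → Amalg S x k t₂ → t₁ = t₂ := by
    intro W k hW t₁ t₂ h₁ h₂
    exact (h W k hW).isSeparatedFor (x.pullback k) t₁ t₂ ((amalg_iff k t₁).1 h₁)
      ((amalg_iff k t₂).1 h₂)
  have hsep : ∀ (W : Scheme.{u}) (k : W ⟶ Y) (t₁ t₂ : W ⟶ Z),
      Amalg S x k t₁ → Amalg S x k t₂ → t₁ = t₂ := by
    intro W k t₁ t₂ h₁ h₂
    refine Scheme.Cover.hom_ext W.affineCover _ _ fun c => ?_
    exact hsepA _ (W.affineCover.f c ≫ k) inferInstance _ _ (h₁.comp _) (h₂.comp _)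
  let 𝒰 := Y.affineCover
  have hsh : ∀ j, Presieve.IsSheafFor (yoneda.obj Z) (S.pullback (𝒰.f j)).arrows :=
    fun j => h _ _ inferInstance
  let ψ : ∀ j, 𝒰.X j ⟶ Z := fun j => (hsh j).amalgamate (x.pullback (𝒰.f j)) (hx.pullback _)
  have hψ : ∀ j, Amalg S x (𝒰.f j) (ψ j) :=
    fun j => (amalg_iff _ _).2 ((hsh j).isAmalgamation (hx.pullback _))
  have hglue : ∀ i j, pullback.fst (𝒰.f i) (𝒰.f j) ≫ ψ i = pullback.snd (𝒰.f i) (𝒰.f j) ≫ ψ j := by
    intro i j
    refine hsep _ (pullback.fst (𝒰.f i) (𝒰.f j) ≫ 𝒰.f i) _ _ ((hψ i).comp _) ?_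
    exact ((hψ j).comp _).congr pullback.condition.symm
  refine ⟨𝒰.glueMorphisms ψ hglue, ?_, ?_⟩
  · intro V k hk
    change k ≫ _ = _
    refine Scheme.Cover.hom_ext (𝒰.pullback₁ k) _ _ fun j => ?_
    change pullback.fst k (𝒰.f j) ≫ k ≫ _ = pullback.fst k (𝒰.f j) ≫ _
    rw [pullback.condition_assoc, Scheme.Cover.ι_glueMorphisms]
    have hs : S (pullback.snd k (𝒰.f j) ≫ 𝒰.f j) := by
      rw [← pullback.condition]
      exact S.downward_closed hk _
    rw [hψ j (pullback.snd k (𝒰.f j)) hs]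
    have h1 := (Presieve.compatible_iff_sieveCompatible x).1 hx k (pullback.fst k (𝒰.f j)) hk
    refine Eq.trans (fam_congr pullback.condition.symm _ _) (h1.trans ?_)
    rfl
  · intro t ht
    refine Scheme.Cover.hom_ext 𝒰 _ _ fun j => ?_
    rw [Scheme.Cover.ι_glueMorphisms]
    refine hsep _ (𝒰.f j) _ _ ?_ (hψ j)
    intro V l hl
    rw [← Category.assoc]
    exact ht (l ≫ 𝒰.f j) hl

end Groth.Agent.H49
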