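import Groth.Prelude.Def_AlgSp
import Mathlib.AlgebraicGeometry.Morphisms.Etale

set_option autoImplicit false
universe u
open CategoryTheory CategoryTheory.Limits AlgebraicGeometry Opposite

namespace Groth.Agent.H49

open AlgSp

set_option backward.isDefEq.respectTransparency false in
/-- Universal property of the restriction of a pre-relation, extracted from the defining
pullback square. -/
theorem restrict_existsUnique {C : Type*} [Category C] [HasBinaryProducts C] {R U R' U' : C}
    {s t : R ⟶ U} {g : U' ⟶ U} {s' t' : R' ⟶ U'} {r : R' ⟶ R}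
    (hsq : IsPullback (prod.lift t' s') r (prod.map g g) (prod.lift t s)) :
    t' ≫ g = r ≫ t ∧ s' ≫ g = r ≫ s ∧
      ∀ {T : C} (a b : T ⟶ U') (x : T ⟶ R), x ≫ t = a ≫ g → x ≫ s = b ≫ g →
        ∃ r' : T ⟶ R', (r' ≫ t' = a ∧ r' ≫ s' = b ∧ r' ≫ r = x) ∧
          ∀ m : T ⟶ R', m ≫ t' = a → m ≫ s' = b → m ≫ r = x → m = r' := by
  have e1 : t' ≫ g = r ≫ t := by
    have := hsq.w =≫ prod.fst
    simpa using this
  have e2 : s' ≫ g = r ≫ s := by
    have := hsq.w =≫ prod.snd
    simpa using this
  refine ⟨e1, e2, fun {T} a b x h1 h2 => ?_⟩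
  have hw : prod.lift a b ≫ prod.map g g = x ≫ prod.lift t s := by
    apply Limits.prod.hom_ext
    · simp [h1]
    · simp [h2]
  refine ⟨hsq.lift (prod.lift a b) x hw, ⟨?_, ?_, hsq.lift_snd _ _ _⟩, ?_⟩
  · have := hsq.lift_fst (prod.lift a b) x hw =≫ prod.fst
    simpa using this
  · have := hsq.lift_fst (prod.lift a b) x hw =≫ prod.snd
    simpa using this
  · intro m hm1 hm2 hm3
    apply hsq.hom_ext
    · rw [hsq.lift_fst]
      apply Limits.prod.hom_ext
      · simp [hm1]
      · simp [hm2]
    · rw [hsq.lift_snd, hm3]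

/-- In the situation of `restrict_existsUnique`, `R' = U' ×_{g, U, t} (R ×_{s, U, g} U')`. -/
theorem restrict_isPullback {C : Type*} [Category C] [HasPullbacks C] {R U R' U' : C}
    {s t : R ⟶ U} {g : U' ⟶ U} {s' t' : R' ⟶ U'} {r : R' ⟶ R}
    (e1 : t' ≫ g = r ≫ t) (e2 : s' ≫ g = r ≫ s)
    (hex : ∀ {T : C} (a b : T ⟶ U') (x : T ⟶ R), x ≫ t = a ≫ g → x ≫ s = b ≫ g →
        ∃ r' : T ⟶ R', (r' ≫ t' = a ∧ r' ≫ s' = b ∧ r' ≫ r = x) ∧
          ∀ m : T ⟶ R', m ≫ t' = a → m ≫ s' = b → m ≫ r = x → m = r') :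
    IsPullback t' (pullback.lift r s' e2.symm) g (pullback.fst s g ≫ t) := by
  have w : t' ≫ g = pullback.lift r s' e2.symm ≫ pullback.fst s g ≫ t := by
    rw [pullback.lift_fst_assoc, e1]
  refine ⟨⟨w⟩, ⟨PullbackCone.IsLimit.mk _
    (fun c => (hex c.fst (c.snd ≫ pullback.snd s g) (c.snd ≫ pullback.fst s g)
      (by rw [Category.assoc, ← c.condition])
      (by rw [Category.assoc, Category.assoc, pullback.condition])).choose)
    (fun c => ?_) (fun c => ?_) (fun c m h1 h2 => ?_)⟩⟩
  · exact (hex c.fst (c.snd ≫ pullback.snd s g) (c.snd ≫ pullback.fst s g)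
      (by rw [Category.assoc, ← c.condition])
      (by rw [Category.assoc, Category.assoc, pullback.condition])).choose_spec.1.1
  · have hs := (hex c.fst (c.snd ≫ pullback.snd s g) (c.snd ≫ pullback.fst s g)
      (by rw [Category.assoc, ← c.condition])
      (by rw [Category.assoc, Category.assoc, pullback.condition])).choose_spec.1
    apply pullback.hom_ext
    · rw [Category.assoc, pullback.lift_fst, hs.2.2]
    · rw [Category.assoc, pullback.lift_snd, hs.2.1]
  · refine (hex c.fst (c.snd ≫ pullback.snd s g) (c.snd ≫ pullback.fst s g)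
      (by rw [Category.assoc, ← c.condition])
      (by rw [Category.assoc, Category.assoc, pullback.condition])).choose_spec.2 m h1 ?_ ?_
    · rw [← h2, Category.assoc, pullback.lift_snd]
    · rw [← h2, Category.assoc, pullback.lift_fst]

variable {S : Scheme.{u}}

/-- The restriction of an étale equivalence relation along an étale morphism is an étale
equivalence relation. -/
theorem isEtaleEqvRel_restrict {R U R' U' : Over S} (s t : R ⟶ U) (g : U' ⟶ U)
    (s' t' : R' ⟶ U') (r : R' ⟶ R)
    (hsq : IsPullback (prod.lift t' s') r (prod.map g g) (prod.lift t s))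
    (h : IsEtaleEqvRel s t) [Etale g.left] : IsEtaleEqvRel s' t' := by
  obtain ⟨e1, e2, hex⟩ := restrict_existsUnique hsq
  have hrel : ∀ (T : Over S) (a b : T ⟶ U'),
      (∃ r' : T ⟶ R', r' ≫ t' = a ∧ r' ≫ s' = b) ↔
        ∃ x : T ⟶ R, x ≫ t = a ≫ g ∧ x ≫ s = b ≫ g := by
    intro T a b
    constructor
    · rintro ⟨r', rfl, rfl⟩
      exact ⟨r' ≫ r, by rw [Category.assoc, ← e1, Category.assoc],
        by rw [Category.assoc, ← e2, Category.assoc]⟩
    · rintro ⟨x, h1, h2⟩
      obtain ⟨r', ⟨h3, h4, -⟩, -⟩ := hex a b x h1 h2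
      exact ⟨r', h3, h4⟩
  let E : MorphismProperty (Over S) := MorphismProperty.inverseImage (@Etale) (Over.forget S)
  have hg : E g := (inferInstance : Etale g.left)
  have hs : E s := h.etale_left
  have ht : E t := h.etale_right
  refine ⟨⟨?_, ?_⟩, ?_, ?_⟩
  · intro T r₁ r₂ h1 h2
    have hr : r₁ ≫ r = r₂ ≫ r := by
      apply h.injective T
      · rw [Category.assoc, Category.assoc, ← e1, ← Category.assoc, ← Category.assoc, h1]
      · rw [Category.assoc, Category.assoc, ← e2, ← Category.assoc, ← Category.assoc, h2]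
    obtain ⟨r', -, huniq⟩ := hex (r₁ ≫ t') (r₁ ≫ s') (r₁ ≫ r)
      (by rw [Category.assoc, Category.assoc, e1]) (by rw [Category.assoc, Category.assoc, e2])
    rw [huniq r₁ rfl rfl rfl, huniq r₂ h1.symm h2.symm hr.symm]
  · intro T
    have hE := h.equivalence T
    refine ⟨fun a => ?_, fun {a b} hab => ?_, fun {a b c} hab hbc => ?_⟩
    · exact (hrel T a a).2 (hE.refl (a ≫ g))
    · exact (hrel T b a).2 (hE.symm ((hrel T a b).1 hab))
    · exact (hrel T a c).2 (hE.trans ((hrel T a b).1 hab) ((hrel T b c).1 hbc))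
  · -- `s'` is étale
    have sq := restrict_isPullback e1 e2 hex
    have hk : E (pullback.lift r s' e2.symm) := MorphismProperty.of_isPullback sq hg
    have hq : E (pullback.snd s g) := MorphismProperty.pullback_snd _ _ hs
    have : E (pullback.lift r s' e2.symm ≫ pullback.snd s g) := E.comp_mem _ _ hk hq
    rw [pullback.lift_snd] at this
    exact this
  · -- `t'` is étale
    have sq := restrict_isPullback (s := t) (t := s) (s' := t') (t' := s') e2 e1
      (fun a b x h1 h2 => by
        obtain ⟨r', ⟨h3, h4, h5⟩, huniq⟩ := hex b a x h2 h1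
        exact ⟨r', ⟨h4, h3, h5⟩, fun m m1 m2 m3 => huniq m m2 m1 m3⟩)
    have hk : E (pullback.lift r t' e1.symm) := MorphismProperty.of_isPullback sq hg
    have hq : E (pullback.snd t g) := MorphismProperty.pullback_snd _ _ ht
    have : E (pullback.lift r t' e1.symm ≫ pullback.snd t g) := E.comp_mem _ _ hk hq
    rw [pullback.lift_snd] at this
    exact this

end Groth.Agent.H49
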