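import Groth.Agent.H49.SliceGrpdFlat

/-!
# Slicing equivalence relations: scheme level (helper49)

Towards Stacks 04S6: for a groupoid `(U, R, s, t, c)` with `s, t` flat and locally of finite
presentation and `j` a monomorphism, there is `g : U' → U` with `h = s ∘ pr₁ : U' ×_{g,U,t} R → U`
flat, locally of finite presentation, locally quasi-finite and surjective.
-/

set_option autoImplicit false
set_option linter.style.haveILetI false
set_option maxHeartbeats 400000

universe u

open CategoryTheory CategoryTheory.Limits AlgebraicGeometry Topology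

namespace Groth.Agent.H49.EqvSlice

open Groth.Agent.H49.SliceGrpdTrans Groth.Agent.H49.SliceGrpdRestrict Groth.Agent.H49.SliceGrpdMain
  Groth.Agent.H90

/-- a closed point of an open subscheme is a finite type point of the scheme. -/
theorem locallyOfFiniteType_fromSpecResidueField_of_isClosed {X : Scheme.{u}} (W : X.Opens)
    (z : (W : Scheme.{u})) (hz : IsClosed ({z} : Set (W : Scheme.{u}))) :
    LocallyOfFiniteType (X.fromSpecResidueField (W.ι z)) := by
  haveI : IsClosedImmersion ((W : Scheme.{u}).fromSpecResidueField z) :=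
    isClosed_singleton_iff_isClosedImmersion.mp hz
  have e := Scheme.Hom.SpecMap_residueFieldMap_fromSpecResidueField (f := W.ι) z
  have e' : X.fromSpecResidueField (W.ι z) =
      inv (Spec.map (W.ι.residueFieldMap z)) ≫ (W : Scheme.{u}).fromSpecResidueField z ≫ W.ι := by
    rw [← e, IsIso.inv_hom_id_assoc]
  rw [e']
  infer_instance

/-- an open subset containing all the finite type points lying in an open `U₁` contains `U₁`. -/
theorem le_of_forall_ftPoint {X : Scheme.{u}} (U₁ Ω : X.Opens)
    (h : ∀ u : X, u ∈ U₁ → LocallyOfFiniteType (X.fromSpecResidueField u) → u ∈ Ω) : U₁ ≤ Ω := by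
  intro x hx
  by_contra hxΩ
  obtain ⟨W, hW, hxW, hWU⟩ := exists_isAffineOpen_mem_and_subset hx
  haveI : IsAffine (W : Scheme.{u}) := hW
  have hZ : IsClosed {w : (W : Scheme.{u}) | (W.ι w) ∉ Ω} :=
    (Ω.isOpen.isClosed_compl).preimage W.ι.continuous
  have hne : {w : (W : Scheme.{u}) | (W.ι w) ∉ Ω}.Nonempty := ⟨⟨x, hxW⟩, hxΩ⟩
  obtain ⟨z, hzZ, hzcl⟩ := IsClosed.exists_closed_singleton hZ hne
  exact hzZ (h _ (hWU z.2) (locallyOfFiniteType_fromSpecResidueField_of_isClosed W z hzcl))

variable {S : Scheme.{u}} (G : Grpd.GroupoidScheme S)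

/-- for a groupoid with `j` a monomorphism the stabilizer is trivial. -/
theorem isIso_stabilizerToU [Mono G.j] : IsIso G.stabilizerToU := by
  haveI : Mono G.stabilizerToU :=
    (pullback.snd_of_mono : Mono (pullback.snd G.j G.diag))
  haveI : IsSplitEpi G.stabilizerToU :=
    ⟨⟨G.eStab, by
      unfold Grpd.GroupoidScheme.stabilizerToU Grpd.GroupoidScheme.eStab
      exact pullback.lift_snd _ _ _⟩⟩
  exact isIso_of_mono_of_isSplitEpi _

theorem dim_fiber_stabilizer_le [Mono G.j] (u : G.U) :
    topologicalKrullDim ↥(G.stabilizerToU.fiber u) ≤ 0 := by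
  haveI := isIso_stabilizerToU G
  exact topologicalKrullDim_zero_of_discreteTopology _

theorem hh_congr {U' : Scheme.{u}} {g₁ g₂ : U' ⟶ G.U} (e : g₁ = g₂)
    (P : MorphismProperty Scheme.{u}) (h : P (hh G g₁)) : P (hh G g₂) := by
  subst e; exact h

/-- the image of `h` contains the image of `g`. -/
theorem range_subset_range_hh {U' : Scheme.{u}} (g : U' ⟶ G.U) :
    Set.range g ⊆ Set.range (hh G g) := by
  rintro _ ⟨x, rfl⟩
  refine ⟨σ G g x, ?_⟩
  change (σ G g ≫ pullback.snd g G.t ≫ G.s) x = g x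
  rw [σ_snd_assoc, G.e_s, Category.comp_id]

/-- the image of `h` is saturated. -/
theorem mem_range_hh_of_rel {U' : Scheme.{u}} (g : U' ⟶ G.U) (r : G.R)
    (hr : G.t r ∈ Set.range (hh G g)) : G.s r ∈ Set.range (hh G g) := by
  obtain ⟨p, hp⟩ := hr
  -- `r₁ = snd p`, `s r₁ = t r`
  have h1 : G.s (pullback.snd g G.t p) = G.t r := hp
  obtain ⟨z, hz1, hz2⟩ := Scheme.Pullback.exists_preimage_pullback (f := G.s) (g := G.t)
    (pullback.snd g G.t p) r h1
  have hct : G.c ≫ G.t = pullback.fst G.s G.t ≫ G.t := by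
    rw [c_eq_gcomp, gcomp_t]
  have hcs : G.c ≫ G.s = pullback.snd G.s G.t ≫ G.s := by
    rw [c_eq_gcomp, gcomp_s]
  have h2 : g (pullback.fst g G.t p) = G.t (G.c z) := by
    have : G.t (G.c z) = G.t (pullback.fst G.s G.t z) := by
      rw [← Scheme.Hom.comp_apply, hct]; rfl
    rw [this, hz1, ← Scheme.Hom.comp_apply, ← Scheme.Hom.comp_apply, pullback.condition]
  obtain ⟨p₂, hp₂1, hp₂2⟩ := Scheme.Pullback.exists_preimage_pullback (f := g) (g := G.t)
    (pullback.fst g G.t p) (G.c z) h2
  refine ⟨p₂, ?_⟩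
  change G.s (pullback.snd g G.t p₂) = G.s r
  rw [hp₂2, ← Scheme.Hom.comp_apply, hcs, Scheme.Hom.comp_apply, hz2]

end Groth.Agent.H49.EqvSlice
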