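import Groth.Agent.H49.EqvSliceA

/-!
# Slicing equivalence relations: the quasi-finite flat cover (helper49)
-/

set_option autoImplicit false
set_option linter.style.haveILetI false
set_option maxHeartbeats 400000

universe u

open CategoryTheory CategoryTheory.Limits AlgebraicGeometry Topology

namespace Groth.Agent.H49.EqvSlice

open Groth.Agent.H49.SliceGrpdTrans Groth.Agent.H49.SliceGrpdRestrict Groth.Agent.H49.SliceGrpdMain
  Groth.Agent.H90

variable {S : Scheme.{u}} (G : Grpd.GroupoidScheme S)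

/-- a property local at the source passes from the `h` of the members of a family to the `h` of
their coproduct. -/
theorem hh_sigma_desc (P : MorphismProperty Scheme.{u}) [IsZariskiLocalAtSource P]
    {I : Type u} (U' : I → Scheme.{u}) (g : ∀ i, U' i ⟶ G.U) (h : ∀ i, P (hh G (g i))) :
    P (hh G (Sigma.desc g)) := by
  rw [IsZariskiLocalAtSource.iff_of_openCover (P := P)
    (Scheme.Pullback.openCoverOfLeft (sigmaOpenCover U') (Sigma.desc g) G.t)]
  intro i
  have key : ∀ j : I, P (pullback.map (Sigma.ι U' j ≫ Sigma.desc g) G.t (Sigma.desc g) G.t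
      (Sigma.ι U' j) (𝟙 _) (𝟙 _) (by simp) (by simp) ≫ hh G (Sigma.desc g)) := by
    intro j
    have e : pullback.map (Sigma.ι U' j ≫ Sigma.desc g) G.t (Sigma.desc g) G.t
        (Sigma.ι U' j) (𝟙 _) (𝟙 _) (by simp) (by simp) ≫ hh G (Sigma.desc g) =
        hh G (Sigma.ι U' j ≫ Sigma.desc g) :=
      (pullback.lift_snd_assoc _ _ _ _).trans (by rw [Category.comp_id])
    rw [e]
    exact hh_congr G (Sigma.ι_desc g j).symm P (h j)
  exact key i

/-- **The quasi-finite flat cover.** -/
theorem exists_qf_cover [Flat G.s] [Flat G.t] [LocallyOfFinitePresentation G.s]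
    [LocallyOfFinitePresentation G.t] [Mono G.j] :
    ∃ (U' : Scheme.{u}) (g : U' ⟶ G.U), Flat (hh G g) ∧ LocallyOfFinitePresentation (hh G g) ∧
      LocallyQuasiFinite (hh G g) ∧ Surjective (hh G g) := by
  obtain ⟨U₁, h1, -, -, h4⟩ := Groth.Agent.H49.GrpdCM.exists_open_cm G
  have key : ∀ i : {u : G.U // u ∈ U₁ ∧ LocallyOfFiniteType (G.U.fromSpecResidueField u)},
      ∃ (U' : Scheme.{u}) (g : U' ⟶ G.U), i.1 ∈ Set.range g ∧ Flat (hh G g) ∧
        LocallyOfFinitePresentation (hh G g) ∧ LocallyQuasiFinite (hh G g) := by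
    rintro ⟨u, huU, hu⟩
    have hcm : Grpd.IsCMAt G.s (G.e u) := by
      have : G.e u ∈ (G.t ⁻¹ᵁ U₁ : Set G.R) := by
        change G.t (G.e u) ∈ U₁
        rw [e_t_apply]; exact huU
      rw [h1] at this
      exact this
    obtain ⟨U', _, g, u', _, _, hgu, hf, hp, hq⟩ :=
      Groth.Agent.H49.SliceGrpdFlat.exists_qf_slice' G u hcm hu (dim_fiber_stabilizer_le G u)
    exact ⟨U', g, ⟨u', hgu⟩, hf, hp, hq⟩
  choose U' g hmem hflat hlfp hlqf using key
  haveI i1 : IsZariskiLocalAtSource (@Flat : MorphismProperty Scheme.{u}) :=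
    HasRingHomProperty.instIsZariskiLocalAtSource
  haveI i2 : IsZariskiLocalAtSource (@LocallyOfFinitePresentation : MorphismProperty Scheme.{u}) :=
    HasRingHomProperty.instIsZariskiLocalAtSource
  haveI i3 : IsZariskiLocalAtSource (@LocallyQuasiFinite : MorphismProperty Scheme.{u}) :=
    HasRingHomProperty.instIsZariskiLocalAtSource
  have hF : Flat (hh G (Sigma.desc g)) := hh_sigma_desc G @Flat U' g hflat
  have hL : LocallyOfFinitePresentation (hh G (Sigma.desc g)) :=
    hh_sigma_desc G @LocallyOfFinitePresentation U' g hlfp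
  have hQ : LocallyQuasiFinite (hh G (Sigma.desc g)) :=
    hh_sigma_desc G @LocallyQuasiFinite U' g hlqf
  refine ⟨∐ U', Sigma.desc g, hF, hL, hQ, ⟨?_⟩⟩
  -- surjectivity
  have hopen : IsOpen (Set.range (hh G (Sigma.desc g))) := (hh G (Sigma.desc g)).isOpenMap.isOpen_range
  have hle : U₁ ≤ ⟨_, hopen⟩ := by
    apply le_of_forall_ftPoint
    intro u huU hu
    apply range_subset_range_hh G (Sigma.desc g)
    obtain ⟨x, hx⟩ := hmem ⟨u, huU, hu⟩
    refine ⟨Sigma.ι U' ⟨u, huU, hu⟩ x, ?_⟩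
    rw [← Scheme.Hom.comp_apply, Sigma.ι_desc]
    exact hx
  intro x
  have hx : x ∈ ⇑G.s '' (G.t ⁻¹ᵁ U₁ : Set G.R) := by rw [h4]; trivial
  obtain ⟨r, hr, rfl⟩ := hx
  exact mem_range_hh_of_rel G (Sigma.desc g) r (hle hr)

end Groth.Agent.H49.EqvSlice
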