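import Groth.Agent.H49.AlgSpQuot
import Groth.Agent.H51.SpQuotChart3
import Groth.Agent.H53.Epi
import Groth.Agent.H53.ZMT.GrpdOfEqv

/-!
# Restriction of an equivalence relation along `g : U' → U` and the quotient sheaves (helper49)

For `s, t : R ⇉ U` an equivalence relation of schemes over `S` and `g : U' ⟶ U`, the restriction
`R' = (U' ×_{g,U,t} R) ×_{s∘pr₁,U,g} U'` is an equivalence relation on `U'`, and if
`s ∘ pr₁ : U' ×_{g,U,t} R → U` is an fppf covering then `U'/R' ⟶ U/R` is an isomorphism of fppf
sheaves.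
-/

set_option autoImplicit false
set_option linter.style.haveILetI false

universe u

open CategoryTheory CategoryTheory.Limits AlgebraicGeometry

namespace Groth.Agent.H49.EqvSlice.Restr

open AlgSp

variable {S : Scheme.{u}} {R U U' : Over S} (s t : R ⟶ U) (g : U' ⟶ U)

/-- `h = s ∘ pr₁ : U' ×_{g,U,t} R → U`. -/
noncomputable abbrev Hs : pullback g.left t.left ⟶ U.left := pullback.snd g.left t.left ≫ s.left

/-- the restricted relation. -/
noncomputable def R' : Over S := Over.mk (pullback.snd (Hs s t g) g.left ≫ U'.hom)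

noncomputable def s' : R' s t g ⟶ U' := Over.homMk (pullback.snd (Hs s t g) g.left) rfl

theorem chain : (pullback.fst (Hs s t g) g.left ≫ pullback.snd g.left t.left) ≫ R.hom =
    pullback.snd (Hs s t g) g.left ≫ U'.hom := by
  rw [← Over.w g, ← Over.w s, Category.assoc, ← Category.assoc (pullback.snd g.left t.left),
    ← Category.assoc (pullback.fst (Hs s t g) g.left), pullback.condition, Category.assoc]

theorem t'_w : (pullback.fst (Hs s t g) g.left ≫ pullback.fst g.left t.left) ≫ U'.hom =
    (R' s t g).hom := by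
  change _ = pullback.snd (Hs s t g) g.left ≫ U'.hom
  rw [← chain, ← Over.w g, ← Over.w t, Category.assoc, Category.assoc,
    ← Category.assoc (pullback.fst g.left t.left), pullback.condition, Category.assoc]

noncomputable def t' : R' s t g ⟶ U' :=
  Over.homMk (pullback.fst (Hs s t g) g.left ≫ pullback.fst g.left t.left) (t'_w s t g)

noncomputable def r : R' s t g ⟶ R :=
  Over.homMk (pullback.fst (Hs s t g) g.left ≫ pullback.snd g.left t.left) (chain s t g)

theorem r_s : r s t g ≫ s = s' s t g ≫ g := by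
  ext1
  change (pullback.fst (Hs s t g) g.left ≫ pullback.snd g.left t.left) ≫ s.left =
    pullback.snd (Hs s t g) g.left ≫ g.left
  rw [Category.assoc, pullback.condition]

theorem r_t : r s t g ≫ t = t' s t g ≫ g := by
  ext1
  change (pullback.fst (Hs s t g) g.left ≫ pullback.snd g.left t.left) ≫ t.left =
    (pullback.fst (Hs s t g) g.left ≫ pullback.fst g.left t.left) ≫ g.left
  rw [Category.assoc, Category.assoc, pullback.condition]

variable {s t g}

/-- lifting related points. -/
noncomputable def lift {T : Over S} (a b : T ⟶ U') (ρ : T ⟶ R) (h1 : ρ ≫ t = a ≫ g)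
    (h2 : ρ ≫ s = b ≫ g) : T ⟶ R' s t g :=
  Over.homMk
    (pullback.lift (pullback.lift a.left ρ.left (congrArg CommaMorphism.left h1).symm) b.left (by
      change pullback.lift _ _ _ ≫ pullback.snd g.left t.left ≫ s.left = _
      rw [pullback.lift_snd_assoc]
      exact congrArg CommaMorphism.left h2)) (by
    change pullback.lift _ _ _ ≫ pullback.snd (Hs s t g) g.left ≫ U'.hom = T.hom
    rw [pullback.lift_snd_assoc]
    exact Over.w b)

theorem lift_s' {T : Over S} (a b : T ⟶ U') (ρ : T ⟶ R) (h1 : ρ ≫ t = a ≫ g)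
    (h2 : ρ ≫ s = b ≫ g) : lift a b ρ h1 h2 ≫ s' s t g = b := by
  ext1
  exact pullback.lift_snd _ _ _

theorem lift_t' {T : Over S} (a b : T ⟶ U') (ρ : T ⟶ R) (h1 : ρ ≫ t = a ≫ g)
    (h2 : ρ ≫ s = b ≫ g) : lift a b ρ h1 h2 ≫ t' s t g = a := by
  ext1
  change pullback.lift _ _ _ ≫ pullback.fst (Hs s t g) g.left ≫ pullback.fst g.left t.left = _
  rw [pullback.lift_fst_assoc, pullback.lift_fst]

variable (s t g)

/-- **the restriction is an equivalence relation.** -/
theorem isEqvRel (h : IsEqvRel s t) : IsEqvRel (s' s t g) (t' s t g) := by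
  have hiff : ∀ (T : Over S) (a b : T ⟶ U'),
      (∃ ρ' : T ⟶ R' s t g, ρ' ≫ t' s t g = a ∧ ρ' ≫ s' s t g = b) ↔
        ∃ ρ : T ⟶ R, ρ ≫ t = a ≫ g ∧ ρ ≫ s = b ≫ g := by
    intro T a b
    constructor
    · rintro ⟨ρ', rfl, rfl⟩
      exact ⟨ρ' ≫ r s t g, by rw [Category.assoc, r_t, Category.assoc],
        by rw [Category.assoc, r_s, Category.assoc]⟩
    · rintro ⟨ρ, h1, h2⟩
      exact ⟨lift a b ρ h1 h2, lift_t' a b ρ h1 h2, lift_s' a b ρ h1 h2⟩
  refine ⟨?_, ?_⟩
  · intro T ρ ρ' ht hs
    let ρl : T.left ⟶ pullback (Hs s t g) g.left := ρ.left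
    let ρl' : T.left ⟶ pullback (Hs s t g) g.left := ρ'.left
    have hs' : ρl ≫ pullback.snd (Hs s t g) g.left = ρl' ≫ pullback.snd (Hs s t g) g.left :=
      congrArg CommaMorphism.left hs
    have ht' : ρl ≫ pullback.fst (Hs s t g) g.left ≫ pullback.fst g.left t.left =
        ρl' ≫ pullback.fst (Hs s t g) g.left ≫ pullback.fst g.left t.left :=
      congrArg CommaMorphism.left ht
    have key : ρl = ρl' := by
      clear_value ρl ρl'
      apply pullback.hom_ext
      · apply pullback.hom_ext
        · rw [Category.assoc, Category.assoc]; exact ht'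
        · rw [Category.assoc, Category.assoc]
          apply Groth.Agent.H53.ZMT.IsEqvRel.inj h
          · rw [Category.assoc, Category.assoc, Category.assoc, Category.assoc,
              ← pullback.condition]
            have := congrArg (· ≫ g.left) ht'
            simpa only [Category.assoc] using this
          · rw [Category.assoc, Category.assoc, Category.assoc, Category.assoc]
            change ρl ≫ pullback.fst (Hs s t g) g.left ≫ Hs s t g =
              ρl' ≫ pullback.fst (Hs s t g) g.left ≫ Hs s t g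
            rw [pullback.condition, ← Category.assoc, ← Category.assoc, hs']
      · exact hs'
    ext1
    exact key
  · intro T
    have he := h.equivalence T
    refine ⟨fun a => ?_, fun {a b} hab => ?_, fun {a b c} hab hbc => ?_⟩
    · exact (hiff T a a).2 (he.refl (a ≫ g))
    · exact (hiff T b a).2 (he.symm ((hiff T a b).1 hab))
    · exact (hiff T a c).2 (he.trans ((hiff T a b).1 hab) ((hiff T b c).1 hbc))

/-- `U' ×_{g,U,t} R` over `S`. -/
noncomputable def P : Over S := Over.mk (Hs s t g ≫ U.hom)

noncomputable def Hov : P s t g ⟶ U := Over.homMk (Hs s t g) rfl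

noncomputable def pr₂ : P s t g ⟶ R := Over.homMk (pullback.snd g.left t.left) (by
  change pullback.snd g.left t.left ≫ R.hom = (pullback.snd g.left t.left ≫ s.left) ≫ U.hom
  rw [Category.assoc, Over.w s])

noncomputable def pr₁ : P s t g ⟶ U' := Over.homMk (pullback.fst g.left t.left) (by
  change pullback.fst g.left t.left ≫ U'.hom = (pullback.snd g.left t.left ≫ s.left) ≫ U.hom
  rw [← Over.w g, ← Category.assoc, pullback.condition, Category.assoc, Over.w t, Category.assoc,
    Over.w s])

theorem pr₂_s : pr₂ s t g ≫ s = Hov s t g := by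
  ext1; rfl

theorem pr₂_t : pr₂ s t g ≫ t = pr₁ s t g ≫ g := by
  ext1
  exact pullback.condition.symm

/-- **the quotient sheaves agree** when `h` is an fppf covering. -/
theorem exists_quot_iso (h : IsEqvRel s t) (hflat : Flat (Hs s t g))
    (hlfp : LocallyOfFinitePresentation (Hs s t g)) (hsurj : Surjective (Hs s t g)) :
    ∃ ψ : QuotSh.quot Scheme.fppfPrecoverage (s' s t g) (t' s t g) ⟶
        QuotSh.quot Scheme.fppfPrecoverage s t,
      QuotSh.quotπ Scheme.fppfPrecoverage (s' s t g) (t' s t g) ≫ ψ =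
        QuotSh.repMap Scheme.fppfPrecoverage g ≫ QuotSh.quotπ Scheme.fppfPrecoverage s t ∧
      IsIso ψ := by
  have w : (yon S).map (s' s t g) ≫ (yon S).map g ≫ quotMap s t =
      (yon S).map (t' s t g) ≫ (yon S).map g ≫ quotMap s t := by
    rw [← Category.assoc, ← Functor.map_comp, ← r_s, ← Category.assoc, ← Functor.map_comp, ← r_t,
      Functor.map_comp, Functor.map_comp, Category.assoc, Category.assoc, quotMap_condition]
  let ψ := (quotMapIsColimit (s' s t g) (t' s t g)).desc
    (Cofork.ofπ ((yon S).map g ≫ quotMap s t) w)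
  have hψ : quotMap (s' s t g) (t' s t g) ≫ ψ = (yon S).map g ≫ quotMap s t :=
    Cofork.IsColimit.π_desc (quotMapIsColimit (s' s t g) (t' s t g))
  have hpre := Groth.Agent.H51.isPreEqvRelSp_of_equivalence h.equivalence
  haveI hmono : Mono ψ := by
    refine Groth.Agent.H51.mono_quot_of_lift s t g (s' s t g) (t' s t g) hpre ?_ ψ hψ
    intro T a b ρ h1 h2
    exact ⟨lift a b ρ h1 h2, lift_t' a b ρ h1 h2, lift_s' a b ρ h1 h2⟩
  -- epi
  haveI hH : Epi ((yon S).map (Hov s t g)) := by
    have := Groth.Agent.H53.isLocallySurjective_of_repWith ((yon S).map (Hov s t g))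
      ((repWith_yon_map_iff @Flat (Hov s t g)).2 hflat)
      ((repWith_yon_map_iff @LocallyOfFinitePresentation (Hov s t g)).2 hlfp)
      ((repWith_yon_map_iff @Surjective (Hov s t g)).2 hsurj)
    exact (Sheaf.isLocallySurjective_iff_epi _).1 this
  have hfac : (yon S).map (pr₁ s t g) ≫ ((yon S).map g ≫ quotMap s t) =
      (yon S).map (Hov s t g) ≫ quotMap s t := by
    rw [← Category.assoc, ← Functor.map_comp, ← pr₂_t, Functor.map_comp, Category.assoc,
      ← quotMap_condition, ← Category.assoc, ← Functor.map_comp, pr₂_s]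
  haveI : Epi ((yon S).map (pr₁ s t g) ≫ ((yon S).map g ≫ quotMap s t)) := by
    rw [hfac]; infer_instance
  haveI : Epi ((yon S).map g ≫ quotMap s t) := epi_of_epi ((yon S).map (pr₁ s t g)) _
  haveI : Epi (quotMap (s' s t g) (t' s t g) ≫ ψ) := by rw [hψ]; infer_instance
  haveI hepi : Epi ψ := epi_of_epi (quotMap (s' s t g) (t' s t g)) ψ
  refine ⟨ψ, ?_, Groth.Agent.H53.sp_isIso_of_mono_of_epi ψ⟩
  have h1 : QuotSh.quotπ Scheme.fppfPrecoverage (s' s t g) (t' s t g) =
      (QuotSh.repIsoUliftYoneda Scheme.fppfPrecoverage U').hom ≫ quotMap (s' s t g) (t' s t g) := by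
    unfold quotMap
    rw [Iso.hom_inv_id_assoc]
  have h2 : QuotSh.quotπ Scheme.fppfPrecoverage s t =
      (QuotSh.repIsoUliftYoneda Scheme.fppfPrecoverage U).hom ≫ quotMap s t := by
    unfold quotMap
    rw [Iso.hom_inv_id_assoc]
  rw [h1, Category.assoc, hψ, h2, ← Category.assoc, ← Category.assoc, repMap_comp_repIso_hom]

end Groth.Agent.H49.EqvSlice.Restr
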