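import Groth.Agent.H49.EqvSliceB
import Groth.Agent.H49.EqvSliceC

/-!
# Slicing equivalence relations: assembly (helper49)
-/

set_option autoImplicit false
set_option linter.style.haveILetI false

universe u

open CategoryTheory CategoryTheory.Limits AlgebraicGeometry

namespace Groth.Agent.H49.EqvSlice

open AlgSp

variable {S : Scheme.{u}} {R U : Over S} (s t : R ⟶ U)

/-- the quasi-finite flat cover, in `Over S`. -/
theorem exists_qf_cover_over (h : IsEqvRel s t) [Flat s.left] [LocallyOfFinitePresentation s.left]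
    [Flat t.left] [LocallyOfFinitePresentation t.left] :
    ∃ (U' : Over S) (g : U' ⟶ U), Flat (Restr.Hs s t g) ∧
      LocallyOfFinitePresentation (Restr.Hs s t g) ∧ LocallyQuasiFinite (Restr.Hs s t g) ∧
      Surjective (Restr.Hs s t g) := by
  let G := Groth.Agent.H53.ZMT.grpdOfEqv s t h
  haveI : Flat G.s := (inferInstance : Flat s.left)
  haveI : Flat G.t := (inferInstance : Flat t.left)
  haveI : LocallyOfFinitePresentation G.s := (inferInstance : LocallyOfFinitePresentation s.left)
  haveI : LocallyOfFinitePresentation G.t := (inferInstance : LocallyOfFinitePresentation t.left)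
  haveI : Mono G.j := Groth.Agent.H53.ZMT.mono_j_grpdOfEqv h
  obtain ⟨U'sch, gsch, hF, hL, hQ, hSurj⟩ := exists_qf_cover G
  exact ⟨Over.mk (gsch ≫ U.hom), Over.homMk gsch rfl, hF, hL, hQ, hSurj⟩

variable {U' : Over S} (g : U' ⟶ U)

theorem t'_left_eq (h : IsEqvRel s t) :
    (Restr.t' s t g).left =
      Groth.Agent.H49.SliceGrpdRestrict.inv' (Groth.Agent.H53.ZMT.grpdOfEqv s t h) g.left ≫
        pullback.snd (Restr.Hs s t g) g.left :=
  (Groth.Agent.H49.SliceGrpdRestrict.inv'_snd (Groth.Agent.H53.ZMT.grpdOfEqv s t h) g.left).symm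

theorem props_s' (P : MorphismProperty Scheme.{u}) [P.IsStableUnderBaseChange]
    (hP : P (Restr.Hs s t g)) : P (Restr.s' s t g).left :=
  MorphismProperty.pullback_snd (P := P) (Restr.Hs s t g) g.left hP

theorem props_t' (h : IsEqvRel s t) (P : MorphismProperty Scheme.{u}) [P.IsStableUnderBaseChange]
    (hP : P (Restr.Hs s t g)) : P (Restr.t' s t g).left := by
  rw [t'_left_eq s t g h]
  haveI : P.RespectsIso := MorphismProperty.IsStableUnderBaseChange.respectsIso
  haveI : IsIso (Groth.Agent.H49.SliceGrpdRestrict.inv'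
      (Groth.Agent.H53.ZMT.grpdOfEqv s t h) g.left) :=
    ⟨Groth.Agent.H49.SliceGrpdRestrict.inv' (Groth.Agent.H53.ZMT.grpdOfEqv s t h) g.left,
      Groth.Agent.H49.SliceGrpdRestrict.inv'_inv' (Groth.Agent.H53.ZMT.grpdOfEqv s t h) g.left,
      Groth.Agent.H49.SliceGrpdRestrict.inv'_inv' (Groth.Agent.H53.ZMT.grpdOfEqv s t h) g.left⟩
  exact (MorphismProperty.cancel_left_of_respectsIso P
    (Groth.Agent.H49.SliceGrpdRestrict.inv' (Groth.Agent.H53.ZMT.grpdOfEqv s t h) g.left)
    (pullback.snd (Restr.Hs s t g) g.left)).2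
    (MorphismProperty.pullback_snd (P := P) (Restr.Hs s t g) g.left hP)

end Groth.Agent.H49.EqvSlice
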