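import Groth.Agent.S9435
import Mathlib.AlgebraicGeometry.ResidueField
import Mathlib.AlgebraicGeometry.Morphisms.Etale

/-!
# Étale neighbourhoods with prescribed finite separable residue field extension
-/

set_option autoImplicit false
universe u

open CategoryTheory CategoryTheory.Limits AlgebraicGeometry IsLocalRing

namespace Groth.Agent.H49.EtaleNbhdRes

/-- `k` is finite and separable over `K` via `θ`. -/
def FinSep {K k : Type u} [Field K] [Field k] (θ : K →+* k) : Prop :=
  letI := θ.toAlgebra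
  Module.Finite K k ∧ Algebra.IsSeparable K k

theorem FinSep.comp_equiv {K' K k : Type u} [Field K'] [Field K] [Field k] (e : K' ≃+* K)
    (θ : K →+* k) (h : FinSep θ) : FinSep (θ.comp (e : K' →+* K)) := by
  letI a1 : Algebra K k := θ.toAlgebra
  letI a2 : Algebra K' k := (θ.comp (e : K' →+* K)).toAlgebra
  obtain ⟨h1, h2⟩ := h
  have he : RingHom.comp (algebraMap K' k) ↑e.symm =
      RingHom.comp ↑(RingEquiv.refl k) (algebraMap K k) := by
    ext x
    simp [RingHom.algebraMap_toAlgebra]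
  exact ⟨Module.Finite.of_equiv_equiv e.symm (RingEquiv.refl k) he,
    Algebra.IsSeparable.of_equiv_equiv e.symm (RingEquiv.refl k) he⟩

theorem FinSep.of_comp_equiv {K' K k : Type u} [Field K'] [Field K] [Field k] (e : K' ≃+* K)
    (θ : K →+* k) (h : FinSep (θ.comp (e : K' →+* K))) : FinSep θ := by
  have := FinSep.comp_equiv e.symm _ h
  have h2 : (θ.comp (e : K' →+* K)).comp (e.symm : K →+* K') = θ := by
    ext x; simp
  rwa [h2] at this

/-- the residue field map of a `k`-point. -/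
noncomputable abbrev ptMap {S : Scheme.{u}} {k : Type u} [Field k] (x : Spec (.of k) ⟶ S) :
    S.residueField (x (closedPoint k)) ⟶ .of k :=
  S.descResidueField (Scheme.stalkClosedPointTo x)

theorem ΓSpecIso_inv_germ_residue_ptMap (R : CommRingCat.{u}) (k : Type u) [Field k]
    (φ : R ⟶ .of k) :
    (Scheme.ΓSpecIso R).inv ≫ (Spec R).presheaf.germ ⊤ (Spec.map φ (closedPoint k)) trivial ≫
      (Spec R).residue _ ≫ ptMap (Spec.map φ) = φ := by
  rw [Scheme.residue_descResidueField, Scheme.germ_stalkClosedPointTo_Spec, Iso.inv_hom_id_assoc]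

set_option backward.isDefEq.respectTransparency.types false in
/-- affine case. -/
theorem exists_etale_affine (R : CommRingCat.{u}) (k : Type u) [Field k] (φ : R ⟶ .of k)
    (h : FinSep (ptMap (Spec.map φ)).hom) :
    ∃ (R' : CommRingCat.{u}) (a : R ⟶ R') (ψ : R' ⟶ .of k), a.hom.Etale ∧ a ≫ ψ = φ ∧
      Function.Surjective (ptMap (Spec.map ψ)).hom := by
  set x : Spec R := Spec.map φ (closedPoint k) with hx
  let iso := Scheme.Spec.residueFieldIso R x
  letI a1 : Algebra R k := φ.hom.toAlgebra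
  letI a2 : Algebra x.asIdeal.ResidueField k := (iso.inv ≫ ptMap (Spec.map φ)).hom.toAlgebra
  haveI : IsScalarTower R x.asIdeal.ResidueField k := by
    refine IsScalarTower.of_algebraMap_eq fun r => ?_
    have h1 := Scheme.Spec.algebraMap_residueFieldIso_inv R x
    have h2 := ΓSpecIso_inv_germ_residue_ptMap R k φ
    have h3 : CommRingCat.ofHom (algebraMap R x.asIdeal.ResidueField) ≫ iso.inv ≫
        ptMap (Spec.map φ) = φ := by
      rw [reassoc_of% h1]
      exact h2
    exact (congrArg (fun f => f.hom r) h3).symm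
  have hfs : FinSep (iso.inv ≫ ptMap (Spec.map φ)).hom :=
    FinSep.comp_equiv iso.symm.commRingCatIsoToRingEquiv _ h
  obtain ⟨hfin, hsep⟩ := hfs
  haveI : Module.Finite x.asIdeal.ResidueField k := hfin
  haveI : Algebra.IsSeparable x.asIdeal.ResidueField k := hsep
  obtain ⟨R', _, _, hét, ψ, hψ⟩ := Groth.Agent.S9435.result R x.asIdeal k
  refine ⟨CommRingCat.of R', CommRingCat.ofHom (algebraMap R R'), CommRingCat.ofHom ψ.toRingHom,
    ?_, ?_, ?_⟩
  · exact RingHom.etale_algebraMap.mpr hét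
  · ext r
    exact ψ.commutes r
  · have h2 := ΓSpecIso_inv_germ_residue_ptMap (CommRingCat.of R') k
      (CommRingCat.ofHom ψ.toRingHom)
    rw [← RingHom.fieldRange_eq_top_iff, eq_top_iff, ← hψ, Subfield.closure_le]
    rintro _ ⟨r, rfl⟩
    rw [SetLike.mem_coe, RingHom.mem_fieldRange]
    refine ⟨((Scheme.ΓSpecIso (CommRingCat.of R')).inv ≫ (Spec (CommRingCat.of R')).presheaf.germ ⊤
      (Spec.map (CommRingCat.ofHom ψ.toRingHom) (closedPoint k)) trivial ≫
      (Spec (CommRingCat.of R')).residue _).hom r, ?_⟩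
    exact congrArg (fun f => f.hom r) h2

theorem ptMap_comp {S T : Scheme.{u}} {k : Type u} [Field k] (x : Spec (.of k) ⟶ T) (j : T ⟶ S) :
    ptMap (x ≫ j) = j.residueFieldMap (x (closedPoint k)) ≫ ptMap x :=
  Scheme.descResidueField_stalkClosedPointTo_comp j x

/-- points formulation. -/
theorem exists_etale_point (S : Scheme.{u}) (k : Type u) [Field k] (x₀ : Spec (.of k) ⟶ S)
    (h : FinSep (ptMap x₀).hom) :
    ∃ (U : Scheme.{u}) (g : U ⟶ S) (x₁ : Spec (.of k) ⟶ U), Etale g ∧ x₁ ≫ g = x₀ ∧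
      Function.Surjective (ptMap x₁).hom := by
  obtain ⟨_, ⟨V, hV, rfl⟩, hsV, -⟩ := S.isBasis_affineOpens.exists_subset_of_mem_open
    (Set.mem_univ (x₀ (closedPoint k))) isOpen_univ
  have hrange : Set.range x₀ ⊆ Set.range hV.fromSpec := by
    rw [hV.range_fromSpec]
    rintro _ ⟨t, rfl⟩
    obtain rfl : t = closedPoint k := Subsingleton.elim _ _
    exact hsV
  obtain ⟨y₀, hy₀⟩ : ∃ y₀ : Spec (.of k) ⟶ Spec Γ(S, V), y₀ ≫ hV.fromSpec = x₀ :=
    ⟨IsOpenImmersion.lift hV.fromSpec x₀ hrange, IsOpenImmersion.lift_fac _ _ _⟩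
  subst hy₀
  obtain ⟨φ, rfl⟩ : ∃ φ, y₀ = Spec.map φ := ⟨Spec.preimage y₀, (Spec.map_preimage y₀).symm⟩
  rw [ptMap_comp] at h
  have h' : FinSep (ptMap (Spec.map φ)).hom :=
    FinSep.of_comp_equiv
      (asIso (hV.fromSpec.residueFieldMap (Spec.map φ (closedPoint k)))).commRingCatIsoToRingEquiv
      _ h
  obtain ⟨R', a, ψ, ha, haψ, hsurj⟩ := exists_etale_affine Γ(S, V) k φ h'
  haveI : Etale (Spec.map a) := (HasRingHomProperty.Spec_iff (P := @Etale)).mpr ha
  refine ⟨Spec R', Spec.map a ≫ hV.fromSpec, Spec.map ψ, inferInstance, ?_, hsurj⟩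
  rw [← Category.assoc, ← Spec.map_comp, haψ]

end Groth.Agent.H49.EtaleNbhdRes
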