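import Groth.Agent.H49.GenericFibreDim
import Groth.Agent.H12.Constr
import Groth.Agent.H17.QFLocus

/-!
# Level sets of the fibre dimension are locally constructible (helper49)
-/

set_option autoImplicit false
universe u

open CategoryTheory CategoryTheory.Limits AlgebraicGeometry Opposite TopologicalSpace Topology

namespace Groth.Agent.H49.FibreDimConstr

/-- Generic constancy of the fibre dimension, for an arbitrary value of the generic fibre
dimension (including `⊥`, i.e. empty generic fibre). -/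
theorem exists_open_fiber_dim_eq_generic {X Y : Scheme.{u}} (f : X ⟶ Y) [IrreducibleSpace ↑Y]
    [LocallyOfFiniteType f] [QuasiCompact f] :
    ∃ V : Y.Opens, (V : Set ↑Y).Nonempty ∧ ∀ y ∈ V, topologicalKrullDim ↑(f.fiber y) =
      topologicalKrullDim ↑(f.fiber (genericPoint ↑Y)) := by
  classical
  let η := genericPoint ↑Y
  obtain ⟨_, ⟨V₀, hV₀, rfl⟩, hηV, -⟩ :=
    Y.isBasis_affineOpens.exists_subset_of_mem_open (Set.mem_univ η) isOpen_univ
  have hV₀ : IsAffineOpen V₀ := hV₀
  have hηV : η ∈ V₀ := hηV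
  -- the nilradical of `Γ(Y, V₀)` is prime
  have hnil : (nilradical Γ(Y, V₀)).IsPrime := by
    have : Nonempty ↥V₀ := ⟨⟨η, hηV⟩⟩
    have h1 : IrreducibleSpace ↥V₀ := V₀.isOpen.isOpenEmbedding_subtypeVal.irreducibleSpace
    have h2 : IrreducibleSpace (Spec Γ(Y, V₀)) :=
      (hV₀.isoSpec.hom.homeomorph.irreducibleSpace_iff).mp h1
    exact PrimeSpectrum.irreducibleSpace_iff_isPrime_nilradical.mp h2
  -- a finite affine cover of the preimage
  have hc : IsCompact ((f ⁻¹ᵁ V₀ : X.Opens) : Set X) :=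
    QuasiCompact.isCompact_preimage _ V₀.isOpen hV₀.isCompact
  obtain ⟨s, hs, hcov⟩ := isCompact_iff_finite_and_eq_biUnion_affineOpens.mp hc
  have := hs.fintype
  have hle : ∀ U : s, (U.1 : X.Opens) ≤ f ⁻¹ᵁ V₀ := fun U => by
    rw [hcov]
    exact le_iSup₂ (f := fun (i : X.affineOpens) (_ : i ∈ s) => (i : X.Opens)) U.1 U.2
  choose g hg d hd using fun U : s =>
    GenericFibreDim.exists_dim_fiber_preimage_eq f hV₀ hnil U.1.2 (hle U)
  let g₀ : Γ(Y, V₀) := ∏ U : s, g U
  have hg₀ : g₀ ∉ nilradical Γ(Y, V₀) := by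
    intro hmem
    obtain ⟨U, -, hU⟩ := (Ideal.IsPrime.prod_mem_iff (hp := hnil)).mp hmem
    exact hg U hU
  -- the formula for the fibre dimension
  have key : ∀ (y : Y) (hy : y ∈ V₀), Y.evaluation V₀ y hy g₀ ≠ 0 →
      topologicalKrullDim ↑(f.fiber y) = ⨆ U : s, d U := by
    intro y hy hgy
    have hcov' : (⨆ U : s, (f.fiberι y) ⁻¹ᵁ (U.1 : X.Opens)) = ⊤ := by
      rw [← Scheme.Hom.preimage_iSup, eq_top_iff]
      intro z _
      have hz : f (f.fiberι y z) = y := by
        have := f.range_fiberι y ▸ Set.mem_range_self z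
        exact this
      have hz' : f.fiberι y z ∈ f ⁻¹ᵁ V₀ := by
        change f (f.fiberι y z) ∈ V₀
        rw [hz]; exact hy
      rw [hcov] at hz'
      change f.fiberι y z ∈ (⨆ U : s, (U.1 : X.Opens))
      rwa [iSup_subtype']  at hz'
    rw [FibreDimBC.topologicalKrullDim_eq_iSup_of_openCover _ _ hcov']
    refine iSup_congr fun U => ?_
    refine hd U y hy ?_
    intro h0
    apply hgy
    change Y.evaluation V₀ y hy (∏ U : s, g U) = 0
    rw [map_prod]
    exact Finset.prod_eq_zero (Finset.mem_univ U) h0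
  have hmem : ∀ y ∈ Y.basicOpen g₀, ∃ hy : y ∈ V₀, Y.evaluation V₀ y hy g₀ ≠ 0 := fun y hy =>
    ⟨Y.basicOpen_le g₀ hy, (Y.evaluation_ne_zero_iff_mem_basicOpen y _ g₀).mpr hy⟩
  have hne : ((Y.basicOpen g₀ : Y.Opens) : Set Y).Nonempty := by
    by_contra hcon
    rw [Set.not_nonempty_iff_eq_empty] at hcon
    have hbot : Y.basicOpen g₀ = ⊥ := TopologicalSpace.Opens.ext (by simpa using hcon)
    rw [← Scheme.isNilpotent_iff_basicOpen_eq_bot_of_isCompact hV₀.isCompact] at hbot
    exact hg₀ (mem_nilradical.mpr hbot)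
  have hη : η ∈ Y.basicOpen g₀ := by
    change genericPoint ↑Y ∈ ((Y.basicOpen g₀ : Y.Opens) : Set Y)
    rw [(genericPoint_spec ↑Y).mem_open_set_iff (Y.basicOpen g₀).isOpen]
    simpa using hne
  refine ⟨Y.basicOpen g₀, hne, fun y hy => ?_⟩
  obtain ⟨hy0, hy1⟩ := hmem y hy
  obtain ⟨hη0, hη1⟩ := hmem η hη
  rw [key y hy0 hy1, ← key η hη0 hη1]


/-- Over a Noetherian affine base, any set described by a condition on the fibre dimension is
constructible. -/
theorem isConstructible_setOf_fiber_dim_Spec (A : CommRingCat.{u}) [IsNoetherianRing A]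
    {X : Scheme.{u}} (f : X ⟶ Spec A) [LocallyOfFiniteType f] [QuasiCompact f]
    (P : WithBot ℕ∞ → Prop) :
    IsConstructible {y : ↥(Spec A) | P (topologicalKrullDim ↑(f.fiber y))} := by
  have : NoetherianSpace ↥(Spec A) := inferInstanceAs (NoetherianSpace (PrimeSpectrum A))
  apply Groth.Agent.H12.isConstructible_of_forall_irreducible
  intro Z hZc hZi
  let p : Ideal A := PrimeSpectrum.vanishingIdeal (Z : Set (PrimeSpectrum A))
  have hp : p.IsPrime := PrimeSpectrum.isIrreducible_iff_vanishingIdeal_isPrime.mp hZi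
  have hZ : PrimeSpectrum.zeroLocus (p : Set A) = Z :=
    (PrimeSpectrum.zeroLocus_vanishingIdeal_eq_closure _).trans hZc.closure_eq
  let ι : Spec (.of (A ⧸ p)) ⟶ Spec A := Spec.map (CommRingCat.ofHom (Ideal.Quotient.mk p))
  have hrange : Set.range ι = Z := by
    have := _root_.range_comap_of_surjective (A ⧸ p) (Ideal.Quotient.mk p)
      Ideal.Quotient.mk_surjective
    rw [Ideal.mk_ker] at this
    rw [← hZ, ← this]
    rfl
  have : IsDomain (A ⧸ p) := Ideal.Quotient.isDomain p
  have : IrreducibleSpace ↥(Spec (.of (A ⧸ p))) :=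
    inferInstanceAs (IrreducibleSpace (PrimeSpectrum (A ⧸ p)))
  let fZ := pullback.snd f ι
  obtain ⟨V', hV'ne, hV'⟩ := exists_open_fiber_dim_eq_generic fZ
  set m := topologicalKrullDim ↑(fZ.fiber (genericPoint ↥(Spec (.of (A ⧸ p))))) with hm
  have hdim : ∀ z, topologicalKrullDim ↑(f.fiber (ι z)) = topologicalKrullDim ↑(fZ.fiber z) :=
    fun z => (FibreDimBC.topologicalKrullDim_fiber_eq f ι fZ (pullback.fst f ι)
      (IsPullback.of_hasPullback f ι) z).symm
  obtain ⟨U, hUo, hUV⟩ := ι.isEmbedding.isInducing.isOpen_iff.mp V'.isOpen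
  have hUZ : ∀ y ∈ U ∩ Z, topologicalKrullDim ↑(f.fiber y) = m := by
    rintro y ⟨hyU, hyZ⟩
    rw [← hrange] at hyZ
    obtain ⟨z, rfl⟩ := hyZ
    rw [hdim]
    apply hV'
    change z ∈ (V' : Set _)
    rw [← hUV]
    exact hyU
  have hne : (U ∩ Z).Nonempty := by
    obtain ⟨z, hz⟩ := hV'ne
    rw [← hUV] at hz
    exact ⟨ι z, hz, hrange ▸ Set.mem_range_self z⟩
  by_cases hPm : P m
  · right
    exact ⟨U, hUo, hne, fun y hy => by
      change P _
      rw [hUZ y hy]
      exact hPm⟩
  · left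
    have : IrreducibleSpace Z := Subtype.irreducibleSpace hZi
    have hsub : (Subtype.val ⁻¹' {y : ↥(Spec A) | P (topologicalKrullDim ↑(f.fiber y))} : Set Z) ⊆
        (Subtype.val ⁻¹' U : Set Z)ᶜ := fun z hz hzU => hPm (by
      rw [← hUZ z.1 ⟨hzU, z.2⟩]
      exact hz)
    have hopen : IsOpen (Subtype.val ⁻¹' U : Set Z) := hUo.preimage continuous_subtype_val
    have hne' : (Subtype.val ⁻¹' U : Set Z).Nonempty := by
      obtain ⟨y, hyU, hyZ⟩ := hne
      exact ⟨⟨y, hyZ⟩, hyU⟩
    have hdense : Dense (Subtype.val ⁻¹' U : Set Z) := hopen.dense hne'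
    have hnd : IsNowhereDense (Subtype.val ⁻¹' U : Set Z)ᶜ :=
      (isClosed_isNowhereDense_iff_compl.mpr ⟨by simpa using hopen, by simpa using hdense⟩).2
    exact hnd.mono hsub

/-- Conditions on the fibre dimension are compatible with base change. -/
theorem setOf_fiber_dim_eq_preimage {X Y X' Y' : Scheme.{u}} (f : X ⟶ Y) [LocallyOfFiniteType f]
    (g : Y' ⟶ Y) (f' : X' ⟶ Y') (g' : X' ⟶ X) (hc : IsPullback g' f' f g)
    (P : WithBot ℕ∞ → Prop) :
    {y' : Y' | P (topologicalKrullDim ↑(f'.fiber y'))} =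
      g ⁻¹' {y : Y | P (topologicalKrullDim ↑(f.fiber y))} := by
  ext y'
  simp only [Set.mem_ofPred_eq, Set.mem_preimage]
  rw [FibreDimBC.topologicalKrullDim_fiber_eq f g f' g' hc y']

/-- For a finitely presented morphism of affine schemes, any set described by a condition on the
fibre dimension is constructible. -/
theorem isConstructible_setOf_fiber_dim_of_isAffine {X Y : Scheme.{u}} (f : X ⟶ Y) [IsAffine X]
    [IsAffine Y] [LocallyOfFinitePresentation f] (P : WithBot ℕ∞ → Prop) :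
    IsConstructible {y : Y | P (topologicalKrullDim ↑(f.fiber y))} := by
  have hφ : f.appTop.hom.FinitePresentation :=
    (HasRingHomProperty.iff_of_isAffine (P := @LocallyOfFinitePresentation)).mp inferInstance
  obtain ⟨A₀, B₀, φ₀, α, β, hN, hN', hfp, hpb⟩ :=
    Groth.Agent.H17.exists_isPullback_noetherian f.appTop hφ
  have hsq : IsPullback X.isoSpec.hom f (Spec.map f.appTop) Y.isoSpec.hom :=
    IsPullback.of_horiz_isIso ⟨Scheme.isoSpec_hom_naturality f⟩
  have hpb' := hsq.paste_horiz hpb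
  have hft : LocallyOfFiniteType (Spec.map φ₀) := by
    rw [HasRingHomProperty.Spec_iff (P := @LocallyOfFiniteType)]
    exact RingHom.FiniteType.of_finitePresentation hfp
  rw [setOf_fiber_dim_eq_preimage (Spec.map φ₀) _ f _ hpb' P]
  exact Scheme.Hom.isConstructible_preimage _
    (isConstructible_setOf_fiber_dim_Spec A₀ (Spec.map φ₀) P)

/-- The part of the fibre lying over an open `U` of the source is the fibre of the restriction. -/
theorem topologicalKrullDim_fiber_preimage_eq {X Y : Scheme.{u}} (f : X ⟶ Y) (y : Y)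
    (U : X.Opens) :
    topologicalKrullDim ↥((f.fiberι y) ⁻¹ᵁ U) = topologicalKrullDim ↑((U.ι ≫ f).fiber y) := by
  let e : ((f.fiberι y) ⁻¹ᵁ U : Scheme.{u}) ≅ (U.ι ≫ f).fiber y :=
    (pullbackRestrictIsoRestrict (f.fiberι y) U).symm ≪≫ pullbackSymmetry _ _ ≪≫
      pullbackRightPullbackFstIso f (Y.fromSpecResidueField y) U.ι
  exact IsHomeomorph.topologicalKrullDim_eq _ e.hom.homeomorph.isHomeomorph

/-- Elementary: when is a finite supremum in a complete linear order equal to `n`. -/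
theorem iSup_eq_iff_of_finite {ι : Type*} [Finite ι] (d : ι → WithBot ℕ∞) (n : WithBot ℕ∞)
    (hn : n ≠ ⊥) : (⨆ i, d i) = n ↔ (∀ i, d i ≤ n) ∧ ∃ i, d i = n := by
  constructor
  · intro h
    refine ⟨fun i => h ▸ le_iSup d i, ?_⟩
    by_cases hι : Nonempty ι
    · obtain ⟨i, hi⟩ := exists_eq_ciSup_of_finite (f := d)
      exact ⟨i, hi.trans h⟩
    · rw [not_nonempty_iff] at hι
      rw [iSup_of_empty] at h
      exact absurd h.symm hn
  · rintro ⟨h1, i, hi⟩
    exact le_antisymm (iSup_le h1) (hi ▸ le_iSup d i)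

/-- Level sets of the fibre dimension over an affine base. -/
theorem isConstructible_setOf_fiber_dim_eq_of_isAffine {X Y : Scheme.{u}} (f : X ⟶ Y) [IsAffine Y]
    [LocallyOfFinitePresentation f] [QuasiCompact f] (n : WithBot ℕ∞) :
    IsConstructible {y : Y | topologicalKrullDim ↑(f.fiber y) = n} := by
  classical
  have hc : IsCompact ((⊤ : X.Opens) : Set X) := by
    have h1 : IsCompact ((f ⁻¹ᵁ (⊤ : Y.Opens) : X.Opens) : Set X) :=
      QuasiCompact.isCompact_preimage (f := f) _ (⊤ : Y.Opens).isOpen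
        (isAffineOpen_top Y).isCompact
    simpa using h1
  obtain ⟨s, hs, hcov⟩ := isCompact_iff_finite_and_eq_biUnion_affineOpens.mp hc
  have := hs.fintype
  let d : s → Y → WithBot ℕ∞ := fun U y => topologicalKrullDim ↑(((U.1 : X.Opens).ι ≫ f).fiber y)
  have hdc : ∀ (U : s) (P : WithBot ℕ∞ → Prop), IsConstructible {y : Y | P (d U y)} := by
    intro U P
    have : IsAffine ((U.1 : X.Opens) : Scheme.{u}) := U.1.2
    exact isConstructible_setOf_fiber_dim_of_isAffine ((U.1 : X.Opens).ι ≫ f) P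
  have key : ∀ y : Y, topologicalKrullDim ↑(f.fiber y) = ⨆ U : s, d U y := by
    intro y
    have hcov' : (⨆ U : s, (f.fiberι y) ⁻¹ᵁ (U.1 : X.Opens)) = ⊤ := by
      rw [← Scheme.Hom.preimage_iSup, eq_top_iff]
      intro z _
      have hz' : f.fiberι y z ∈ (⊤ : X.Opens) := trivial
      rw [hcov] at hz'
      change f.fiberι y z ∈ (⨆ U : s, (U.1 : X.Opens))
      rwa [iSup_subtype'] at hz'
    rw [FibreDimBC.topologicalKrullDim_eq_iSup_of_openCover _ _ hcov']
    exact iSup_congr fun U => topologicalKrullDim_fiber_preimage_eq f y U.1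
  by_cases hn : n = ⊥
  · subst hn
    have heq : {y : Y | topologicalKrullDim ↑(f.fiber y) = ⊥} = ⋂ U : s, {y : Y | d U y = ⊥} := by
      ext y
      simp only [Set.mem_ofPred_eq, Set.mem_iInter]
      rw [key y, iSup_eq_bot]
    rw [heq]
    exact IsConstructible.iInter fun U => hdc U (· = ⊥)
  · have heq : {y : Y | topologicalKrullDim ↑(f.fiber y) = n} =
        (⋂ U : s, {y : Y | d U y ≤ n}) ∩ ⋃ U : s, {y : Y | d U y = n} := by
      ext y
      simp only [Set.mem_ofPred_eq, Set.mem_inter_iff, Set.mem_iInter, Set.mem_iUnion]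
      rw [key y, iSup_eq_iff_of_finite _ n hn]
    rw [heq]
    exact (IsConstructible.iInter fun U => hdc U (· ≤ n)).inter
      (IsConstructible.iUnion fun U => hdc U (· = n))

/-- **Level sets of the fibre dimension are locally constructible** for a quasi-compact morphism
locally of finite presentation. -/
theorem isLocallyConstructible_setOf_fiber_dim_eq {X Y : Scheme.{u}} (f : X ⟶ Y)
    [LocallyOfFinitePresentation f] [QuasiCompact f] (n : WithBot ℕ∞) :
    IsLocallyConstructible {y : Y | topologicalKrullDim ↑(f.fiber y) = n} := by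
  intro y
  obtain ⟨_, ⟨V : Y.Opens, hV, rfl⟩, hyV, -⟩ :=
    Y.isBasis_affineOpens.exists_subset_of_mem_open (Set.mem_univ y) isOpen_univ
  refine ⟨V, V.2.mem_nhds hyV, V.2, ?_⟩
  have : IsAffine (V : Scheme.{u}) := hV
  have hc := isConstructible_setOf_fiber_dim_eq_of_isAffine (f ∣_ V) n
  rw [setOf_fiber_dim_eq_preimage f V.ι (f ∣_ V) (f ⁻¹ᵁ V).ι
    (isPullback_morphismRestrict f V).flip (· = n)] at hc
  exact hc

end Groth.Agent.H49.FibreDimConstr
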