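import Groth.Agent.H49.FibreDimConstr
import Groth.Agent.H49.ConstrLimit

set_option autoImplicit false
universe u

open CategoryTheory CategoryTheory.Limits AlgebraicGeometry Opposite TopologicalSpace Topology
open TensorProduct

namespace Groth.Agent.H49.FibreDimModel

theorem main {X S : Scheme.{u}} (f : X ⟶ S) [IsAffine X] [IsAffine S]
    [LocallyOfFinitePresentation f] (d : ℕ)
    (hd : ∀ s : S, topologicalKrullDim ↑(f.fiber s) = d) :
    ∃ (X₀ S₀ : Scheme.{u}) (f₀ : X₀ ⟶ S₀) (g : S ⟶ S₀) (g' : X ⟶ X₀), IsAffine X₀ ∧ IsAffine S₀ ∧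
      IsPullback g' f f₀ g ∧
      Algebra.FiniteType ℤ Γ(S₀, ⊤) ∧ LocallyOfFiniteType f₀ ∧
      ∀ s₀ : S₀, topologicalKrullDim ↑(f₀.fiber s₀) = d := by
  have hφ : f.appTop.hom.FinitePresentation :=
    (HasRingHomProperty.iff_of_isAffine (P := @LocallyOfFinitePresentation)).mp inferInstance
  let A : CommRingCat.{u} := Γ(S, ⊤)
  let B : CommRingCat.{u} := Γ(X, ⊤)
  let φ : A ⟶ B := f.appTop
  algebraize [φ.hom]
  obtain ⟨A₀, B₀, _, _, hfg, hfp, ⟨e⟩⟩ := Groth.Agent.H17.exists_noetherian_model A B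
  have hft : Algebra.FiniteType ℤ A₀ := (Subalgebra.fg_iff_finiteType A₀).mp hfg
  have hN : IsNoetherianRing A₀ := Algebra.FiniteType.isNoetherianRing ℤ A₀
  let β : CommRingCat.of B₀ ⟶ B := CommRingCat.ofHom
      ((e.symm.toRingEquiv.toRingHom).comp Algebra.TensorProduct.includeRight.toRingHom)
  let α : CommRingCat.of A₀ ⟶ A := CommRingCat.ofHom (algebraMap A₀ A)
  let φ₀ : CommRingCat.of A₀ ⟶ CommRingCat.of B₀ := CommRingCat.ofHom (algebraMap A₀ B₀)
  have hpo : IsPushout α φ₀ φ β := by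
    refine (CommRingCat.isPushout_tensorProduct A₀ A B₀).of_iso (Iso.refl _) (Iso.refl _)
      (Iso.refl _) e.symm.toRingEquiv.toCommRingCatIso (by simp [α]) (by simp [φ₀]) ?_ ?_
    · ext a
      simp
      have h1 : (a ⊗ₜ[↥A₀] (1 : B₀)) = algebraMap A (A ⊗[↥A₀] B₀) a := rfl
      rw [h1, AlgEquiv.commutes]
      rfl
    · ext b
      simp [β]
  have hpb : IsPullback (Spec.map β) (Spec.map φ) (Spec.map φ₀) (Spec.map α) :=
    (isPullback_SpecMap_of_isPushout _ _ _ _ hpo).flip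
  have hft₀ : LocallyOfFiniteType (Spec.map φ₀) := by
    rw [HasRingHomProperty.Spec_iff (P := @LocallyOfFiniteType)]
    exact RingHom.FiniteType.of_finitePresentation (RingHom.finitePresentation_algebraMap.mpr hfp)
  have hftφ : LocallyOfFiniteType (Spec.map φ) := by
    rw [HasRingHomProperty.Spec_iff (P := @LocallyOfFiniteType)]
    exact RingHom.FiniteType.of_finitePresentation hφ
  have hsq : IsPullback X.isoSpec.hom f (Spec.map φ) S.isoSpec.hom :=
    IsPullback.of_horiz_isIso ⟨Scheme.isoSpec_hom_naturality f⟩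
  -- the constructible set
  let E : Set ↥(Spec (.of A₀)) :=
    {y | topologicalKrullDim ↑((Spec.map φ₀).fiber y) = (d : WithBot ℕ∞)}
  have hE : IsConstructible E :=
    FibreDimConstr.isConstructible_setOf_fiber_dim_Spec (.of A₀) (Spec.map φ₀) (· = (d : WithBot ℕ∞))
  have himg : Set.range (PrimeSpectrum.comap (algebraMap A₀ A)) ⊆ E := by
    rintro _ ⟨q, rfl⟩
    let q' : ↥(Spec A) := q
    change topologicalKrullDim ↑((Spec.map φ₀).fiber ((Spec.map α) q')) = (d : WithBot ℕ∞)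
    rw [← FibreDimBC.topologicalKrullDim_fiber_eq (Spec.map φ₀) (Spec.map α) (Spec.map φ)
      (Spec.map β) hpb q']
    obtain ⟨s, hs⟩ : ∃ s : S, S.isoSpec.hom s = q' :=
      ⟨S.isoSpec.inv q', by
        change (S.isoSpec.inv ≫ S.isoSpec.hom) q' = q'
        rw [Iso.inv_hom_id]
        rfl⟩
    rw [← hs, ← FibreDimBC.topologicalKrullDim_fiber_eq (Spec.map φ) S.isoSpec.hom f X.isoSpec.hom
      hsq s]
    exact hd s
  obtain ⟨A₁, h₀₁, hfg₁, himg₁⟩ :=
    ConstrLimit.exists_fg_subalgebra_range_comap_subset A₀ hfg E hE himg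
  have hft₁ : Algebra.FiniteType ℤ A₁ := (Subalgebra.fg_iff_finiteType A₁).mp hfg₁
  let i₀₁ : CommRingCat.of A₀ ⟶ CommRingCat.of A₁ :=
    CommRingCat.ofHom (Subalgebra.inclusion h₀₁).toRingHom
  let v₁ : CommRingCat.of A₁ ⟶ A := CommRingCat.ofHom (algebraMap A₁ A)
  have hα : Spec.map α = Spec.map v₁ ≫ Spec.map i₀₁ := by
    rw [← Spec.map_comp]
    rfl
  have t := IsPullback.of_hasPullback (Spec.map φ₀) (Spec.map i₀₁)
  have hleft := IsPullback.of_right' (hα ▸ hpb) t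
  have hpb' := hsq.paste_horiz hleft
  refine ⟨pullback (Spec.map φ₀) (Spec.map i₀₁), Spec (.of A₁), pullback.snd _ _, _, _,
    inferInstance, inferInstance, hpb', ?_, inferInstance, ?_⟩
  · exact Algebra.FiniteType.equiv hft₁
      ((Scheme.ΓSpecIso (.of A₁)).symm.commRingCatIsoToRingEquiv.toIntAlgEquiv)
  · intro s₁
    rw [FibreDimBC.topologicalKrullDim_fiber_eq (Spec.map φ₀) (Spec.map i₀₁) (pullback.snd _ _)
      (pullback.fst _ _) t s₁]
    exact himg₁ ⟨s₁, rfl⟩

end Groth.Agent.H49.FibreDimModel
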