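import Groth.Agent.H49.FittThick2
import Groth.Agent.H40.GQ.InvNbhd

/-!
# Invariant affine opens inside the thickening `W` of a finite groupoid (helper49)

The norm argument for the finite locally free restriction of `s` to `W'`.
-/

set_option autoImplicit false
set_option linter.style.haveILetI false

universe u

open CategoryTheory CategoryTheory.Limits AlgebraicGeometry TopologicalSpace

namespace Groth.Agent.H49.FittThick

open Groth.Agent.H40.GQ Groth.Agent.H49.FittFinite Groth.Agent.H49.IdealGlue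

section general

variable {X : Scheme.{u}}

theorem ι_image_preimage_of_le (U V : X.Opens) (h : V ≤ U) : U.ι ''ᵁ U.ι ⁻¹ᵁ V = V := by
  rw [Scheme.Hom.image_preimage_eq_opensRange_inf, Scheme.Opens.opensRange_ι]
  exact inf_eq_right.mpr h

theorem ι_app_bijective (U V : X.Opens) (h : V ≤ U) : Function.Bijective (U.ι.app V).hom := by
  rw [Scheme.Opens.ι_app]
  have e := ι_image_preimage_of_le U V h
  have h1 : (homOfLE (x := U.ι ''ᵁ U.ι ⁻¹ᵁ V) (y := V)
      (Set.image_preimage_subset _ _)) = eqToHom e := Subsingleton.elim _ _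
  rw [h1]
  exact ConcreteCategory.bijective_of_isIso (X.presheaf.map (eqToHom e).op)

theorem isAffineOpen_ι_preimage (U V : X.Opens) (h : V ≤ U) (hV : IsAffineOpen V) :
    IsAffineOpen (U.ι ⁻¹ᵁ V) := by
  rw [← U.ι.isAffineOpen_iff_of_isOpenImmersion, ι_image_preimage_of_le U V h]
  exact hV

end general

variable {S : Scheme.{u}} (G : Grpd.GroupoidScheme S) [IsFinite G.s]

theorem exists_ι'_eq (w : G.U) (hw : w ∈ W G) : ∃ w' : (K G).subscheme, ι' G w' = w := by
  have h1 : (⟨w, hw⟩ : (W G).toScheme) ∈ Set.range (K G).subschemeι := by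
    rw [Scheme.IdealSheafData.range_subschemeι, K_support]
    trivial
  obtain ⟨w', hw'⟩ := h1
  refine ⟨w', ?_⟩
  change (W G).ι ((K G).subschemeι w') = w
  rw [hw']
  rfl

theorem app_ι'_surjective (V : G.U.Opens) (hV : IsAffineOpen V) (hVW : V ≤ W G) :
    Function.Surjective ((ι' G).app V).hom := by
  have h1 : (ι' G).app V = (W G).ι.app V ≫ (K G).subschemeι.app ((W G).ι ⁻¹ᵁ V) :=
    Scheme.Hom.comp_app _ _ _
  intro y
  obtain ⟨x, hx⟩ := Scheme.Hom.app_surjective (K G).subschemeι _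
    (isAffineOpen_ι_preimage _ _ hVW hV) y
  obtain ⟨z, hz⟩ := (ι_app_bijective _ _ hVW).2 x
  refine ⟨z, ?_⟩
  rw [h1]
  change ((K G).subschemeι.app _).hom (((W G).ι.app V).hom z) = y
  rw [hz, hx]

set_option backward.isDefEq.respectTransparency.types false in
/-- **a finite orbit-closed subset of `W` lying in an affine open has an invariant affine open
neighbourhood inside `W`.** -/
theorem exists_invariant_affine_open [IsFinite G.t] (T : Set G.U) (hT : T.Finite)
    (hTorb : ∀ x ∈ T, ∀ y, Orb G x y → y ∈ T) (hTW : T ⊆ W G) (V₀ : G.U.Opens)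
    (hV₀ : IsAffineOpen V₀) (hTV : T ⊆ V₀) :
    ∃ V : G.U.Opens, IsAffineOpen V ∧ T ⊆ V ∧ V ≤ W G ∧ IsInv G V := by
  set O₁ := core G (V₀ ⊓ W G) with hO₁
  have hO₁inv : IsInv G O₁ := isInv_core _
  have hO₁le : O₁ ≤ V₀ ⊓ W G := core_le _
  have hTO₁ : T ⊆ (O₁ : Set G.U) := by
    intro y hy
    rw [SetLike.mem_coe, mem_core]
    intro z hz
    exact ⟨hTV (hTorb y hy z hz), hTW (hTorb y hy z hz)⟩
  obtain ⟨f, hfO, hfT⟩ := exists_basicOpen_le_of_finite hV₀ O₁ T hT hTV hTO₁
  set V₁ := G.U.basicOpen f with hV₁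
  have hV₁aff : IsAffineOpen V₁ := hV₀.basicOpen f
  have hV₁W : V₁ ≤ W G := hfO.trans (hO₁le.trans inf_le_right)
  -- the finite locally free restriction
  have hflf := isFinLocFree_of_fitt_eq G G.s (fun _ => rfl)
  haveI : Flat (pullback.snd G.s (ι' G)) := hflf.2.1
  haveI : LocallyOfFinitePresentation (pullback.snd G.s (ι' G)) := hflf.2.2
  set V₁' : (K G).subscheme.Opens := (ι' G) ⁻¹ᵁ V₁ with hV₁'
  have hV₁'aff : IsAffineOpen V₁' :=
    (isAffineOpen_ι_preimage _ _ hV₁W hV₁aff).preimage (K G).subschemeι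
  have hcond : ∀ x : ↥(pullback G.s (ι' G)),
      G.s (pullback.fst G.s (ι' G) x) = ι' G (pullback.snd G.s (ι' G) x) := by
    intro x
    rw [← Scheme.Hom.comp_apply, ← Scheme.Hom.comp_apply, pullback.condition]
  have hle : (pullback.snd G.s (ι' G)) ⁻¹ᵁ V₁' ≤ (pullback.fst G.s (ι' G) ≫ G.t) ⁻¹ᵁ V₀ := by
    intro x hx
    have h1 : G.s (pullback.fst G.s (ι' G) x) ∈ O₁ := by
      rw [hcond]; exact hfO hx
    have h2 : G.t (pullback.fst G.s (ι' G) x) ∈ O₁ := (hO₁inv.mem_iff ⟨_, rfl, rfl⟩).mp h1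
    exact (hO₁le h2).1
  set b := (pullback.fst G.s (ι' G) ≫ G.t).appLE V₀ ((pullback.snd G.s (ι' G)) ⁻¹ᵁ V₁') hle f
    with hb
  have hbo : (pullback G.s (ι' G)).basicOpen b =
      (pullback.snd G.s (ι' G)) ⁻¹ᵁ V₁' ⊓ (pullback.fst G.s (ι' G) ≫ G.t) ⁻¹ᵁ V₁ :=
    Scheme.basicOpen_appLE _ _ _ _ _
  obtain ⟨g', hg'⟩ := exists_norm (pullback.snd G.s (ι' G)) hV₁'aff b
  obtain ⟨g, hg⟩ := app_ι'_surjective G V₁ hV₁aff hV₁W g'
  have hpre : (ι' G) ⁻¹ᵁ G.U.basicOpen g = (K G).subscheme.basicOpen g' := by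
    rw [Scheme.preimage_basicOpen, ← hg]
  have hW : ∀ w : G.U, w ∈ G.U.basicOpen g ↔ ∀ y, Orb G w y → y ∈ V₁ := by
    intro w
    constructor
    · intro hw y hy
      obtain ⟨r, hr1, hr2⟩ := hy
      have hwV₁ : w ∈ V₁ := G.U.basicOpen_le g hw
      obtain ⟨w', hw'⟩ := exists_ι'_eq G w (hV₁W hwV₁)
      have hw'V : w' ∈ V₁' := by
        change ι' G w' ∈ V₁
        rw [hw']; exact hwV₁
      have hw'g : w' ∈ (K G).subscheme.basicOpen g' := by
        rw [← hpre]
        change ι' G w' ∈ G.U.basicOpen g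
        rw [hw']; exact hw
      obtain ⟨x, hx1, hx2⟩ := Scheme.Pullback.exists_preimage_pullback (f := G.s) (g := ι' G)
        r w' (hr1.trans hw'.symm)
      have := (hg' w' hw'V).mp hw'g x hx2
      rw [hbo] at this
      have h3 : G.t (pullback.fst G.s (ι' G) x) ∈ V₁ := this.2
      rw [hx1, hr2] at h3
      exact h3
    · intro hw
      have hwV₁ : w ∈ V₁ := hw w (orb_refl G w)
      obtain ⟨w', hw'⟩ := exists_ι'_eq G w (hV₁W hwV₁)
      have hw'V : w' ∈ V₁' := by
        change ι' G w' ∈ V₁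
        rw [hw']; exact hwV₁
      have hw'g : w' ∈ (K G).subscheme.basicOpen g' := by
        rw [hg' w' hw'V]
        intro x hx
        rw [hbo]
        refine ⟨?_, ?_⟩
        · change pullback.snd G.s (ι' G) x ∈ V₁'
          rw [hx]; exact hw'V
        · change G.t (pullback.fst G.s (ι' G) x) ∈ V₁
          refine hw _ ⟨pullback.fst G.s (ι' G) x, ?_, rfl⟩
          rw [hcond, hx, hw']
      rw [← hpre] at hw'g
      have h4 : ι' G w' ∈ G.U.basicOpen g := hw'g
      rwa [hw'] at h4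
  refine ⟨G.U.basicOpen g, hV₁aff.basicOpen g, ?_, ?_, ?_⟩
  · intro y hy
    rw [SetLike.mem_coe, hW]
    intro z hz
    exact hfT (hTorb y hy z hz)
  · exact (G.U.basicOpen_le g).trans hV₁W
  · apply isInv_of_forall
    intro w w' hww' hw
    rw [hW] at hw ⊢
    intro y hy
    exact hw y (hww'.trans hy)

end Groth.Agent.H49.FittThick
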