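import Groth.Agent.H49.FittThick2
import Groth.Agent.H11.ValReach

/-!
# The invariant thickening of a finite groupoid: the finitely presented case (helper49)
-/

set_option autoImplicit false
set_option linter.style.haveILetI false

universe u

open CategoryTheory CategoryTheory.Limits AlgebraicGeometry TopologicalSpace

namespace Groth.Agent.H49.FittThick

open Groth.Agent.H40.GQ Groth.Agent.H49.FittFinite Groth.Agent.H49.IdealGlue Groth.Agent.Lead

section general

variable {X S : Scheme.{u}}

/-- the Fitting ideals of a finite, finitely presented morphism are of finite type. -/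
theorem fitt_ideal_fg_of_lfp (π : X ⟶ S) [IsFinite π] [LocallyOfFinitePresentation π] (n : ℕ)
    (A : S.affineOpens) : ((fitt π n).ideal A).FG := by
  have h1 : (π.appLE A.1 (π ⁻¹ᵁ A.1) le_rfl).hom.FinitePresentation :=
    HasRingHomProperty.appLE (P := @LocallyOfFinitePresentation) π inferInstance A
      ⟨π ⁻¹ᵁ A.1, A.2.preimage π⟩ le_rfl
  letI := (π.appLE A.1 (π ⁻¹ᵁ A.1) le_rfl).hom.toAlgebra
  haveI : Module.Finite Γ(S, A.1) Γ(X, π ⁻¹ᵁ A.1) := finite_appLE π A.2
  haveI : Algebra.FinitePresentation Γ(S, A.1) Γ(X, π ⁻¹ᵁ A.1) := h1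
  haveI : Module.FinitePresentation Γ(S, A.1) Γ(X, π ⁻¹ᵁ A.1) :=
    Module.FinitePresentation.of_finite_of_finitePresentation _ _
  exact fitt_ideal_fg n

/-- the closed immersion of an ideal sheaf which is locally of finite type is locally of finite
presentation. -/
theorem locallyOfFinitePresentation_subschemeι_of_forall_exists (J : X.IdealSheafData)
    (hJ : ∀ x : X, ∃ U : X.affineOpens, x ∈ U.1 ∧ (J.ideal U).FG) :
    LocallyOfFinitePresentation J.subschemeι := by
  rw [HasRingHomProperty.iff_exists_appLE (P := @LocallyOfFinitePresentation)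
    (RingHom.finitePresentation_stableUnderComposition.stableUnderCompositionWithLocalizationAway
      RingHom.finitePresentation_holdsForLocalizationAway).left]
  intro x
  obtain ⟨⟨U, hU⟩, hxU, hfg⟩ := hJ (J.subschemeι x)
  refine ⟨⟨U, hU⟩, ⟨J.subschemeι ⁻¹ᵁ U, hU.preimage J.subschemeι⟩, hxU, le_rfl, ?_⟩
  rw [Scheme.Hom.appLE_eq_app]
  apply RingHom.FinitePresentation.of_surjective
  · exact J.subschemeι.app_surjective U hU
  · have := J.ker_subschemeι_app ⟨U, hU⟩
    rw [this]
    exact hfg

/-- the complement of the support, as an open of the scheme. -/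
def csO (I : X.IdealSheafData) : X.Opens := I.support.compl

/-- the complement of the support of an ideal sheaf of finite type is retrocompact. -/
theorem quasiCompact_compl_support_ι (I : X.IdealSheafData)
    (hI : ∀ A : X.affineOpens, (I.ideal A).FG) : QuasiCompact (csO I).ι := by
  rw [quasiCompact_iff_forall_isAffineOpen]
  intro A hA
  obtain ⟨s, hs⟩ := hI ⟨A, hA⟩
  have h1 : ((csO I : X.Opens) : Set X) ∩ A = ⋃ f ∈ s, (X.basicOpen f : Set X) := by
    ext x
    simp only [Set.mem_inter_iff, Set.mem_iUnion, exists_prop]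
    constructor
    · rintro ⟨hx, hxA⟩
      have h2 : x ∉ X.zeroLocus (U := A) (I.ideal ⟨A, hA⟩) := fun h =>
        hx ((Scheme.IdealSheafData.mem_support_iff_of_mem (U := ⟨A, hA⟩) hxA).mpr h)
      rw [← hs, Scheme.zeroLocus_span, Scheme.mem_zeroLocus_iff] at h2
      push Not at h2
      obtain ⟨f, hf, hxf⟩ := h2
      exact ⟨f, hf, hxf⟩
    · rintro ⟨f, hf, hxf⟩
      have hxA : x ∈ A := X.basicOpen_le f hxf
      refine ⟨fun hx => ?_, hxA⟩
      have h2 := (Scheme.IdealSheafData.mem_support_iff_of_mem (U := ⟨A, hA⟩) hxA).mp hx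
      rw [← hs, Scheme.zeroLocus_span, Scheme.mem_zeroLocus_iff] at h2
      exact h2 f hf hxf
  have h2 : IsCompact (((csO I : X.Opens) : Set X) ∩ A) := by
    rw [h1]
    exact s.finite_toSet.isCompact_biUnion fun f _ => (hA.basicOpen f).isCompact
  have h3 : ((csO I).ι ⁻¹ᵁ A : Set (csO I).toScheme) =
      (csO I).ι ⁻¹' (((csO I : X.Opens) : Set X) ∩ A) := by
    ext x
    simp only [Set.mem_preimage, Set.mem_inter_iff]
    exact ⟨fun h => ⟨x.2, h⟩, fun h => h.2⟩
  rw [h3]
  refine ((csO I).ι.isOpenEmbedding.isInducing.isCompact_preimage_iff ?_).mpr h2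
  rw [Scheme.Opens.range_ι]
  exact Set.inter_subset_left

/-- a point in the closure of the complement of the support of a finite type ideal sheaf has a
generization in the complement. -/
theorem exists_specializes_of_mem_closure_compl_support (I : X.IdealSheafData)
    (hI : ∀ A : X.affineOpens, (I.ideal A).FG) (y : X)
    (hy : y ∈ closure ((I.support : Set X)ᶜ)) : ∃ x : X, x ∉ I.support ∧ x ⤳ y := by
  haveI := quasiCompact_compl_support_ι I hI
  have h1 : Set.range (csO I).ι = (I.support : Set X)ᶜ := by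
    rw [Scheme.Opens.range_ι]; rfl
  rw [← h1] at hy
  obtain ⟨x, hx⟩ := Groth.Agent.H11.exists_specializes_of_mem_closure (csO I).ι y hy
  exact ⟨(csO I).ι x, x.2, hx⟩

end general

variable {S : Scheme.{u}} (G : Grpd.GroupoidScheme S) [IsFinite G.s]
  [LocallyOfFinitePresentation G.s]

/-- the closed immersion `W' ⟶ W` is locally of finite presentation. -/
theorem locallyOfFinitePresentation_K : LocallyOfFinitePresentation (K G).subschemeι := by
  apply locallyOfFinitePresentation_subschemeι_of_forall_exists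
  intro y
  obtain ⟨n, hn⟩ := Opens.mem_iSup.mp (show y ∈ ⨆ n, V G n by rw [iSup_V]; trivial)
  obtain ⟨_, ⟨A, hA, rfl⟩, hyA, hAV⟩ :=
    (W G).toScheme.isBasis_affineOpens.exists_subset_of_mem_open hn (V G n).2
  refine ⟨⟨A, hA⟩, hyA, ?_⟩
  have h1 : (K G).ideal ⟨A, hA⟩ = ((fitt G.s n).comap (W G).ι).ideal ⟨A, hA⟩ :=
    glue_ideal (V G) _ (disjoint_V G) (iSup_V G) n ⟨A, hA⟩ hAV
  rw [h1, ideal_comap_ι]
  exact fitt_ideal_fg_of_lfp G.s n _

/-- a point all of whose translates are generic points lies in `W`. -/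
theorem mem_W_of_generic (u : G.U)
    (hu : ∀ r : G.R, G.s r = u → ∀ x : G.U, x ⤳ G.t r → x = G.t r) : u ∈ W G := by
  classical
  have h := iInter_support_fitt G.s
  have hu' : u ∉ ⋂ r, ((fitt G.s r).support : Set G.U) := by rw [h]; exact fun h => h
  rw [Set.mem_iInter] at hu'
  push Not at hu'
  have hmin : ∀ {m : ℕ}, m < Nat.find hu' → ¬ (u ∉ ((fitt G.s m).support : Set G.U)) :=
    fun hm => Nat.find_min hu' hm
  have hspec := Nat.find_spec hu'
  have hne : Nat.find hu' ≠ 0 := by
    intro h0
    rw [h0] at hspec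
    apply hspec
    change u ∈ (Zs G 0 : Set G.U)
    rw [Zs_zero]; trivial
  obtain ⟨n, hn⟩ : ∃ n, Nat.find hu' = n + 1 := Nat.exists_eq_succ_of_ne_zero hne
  rw [hn] at hspec
  have hZn : u ∈ Zs G n := by
    by_contra hcon
    exact hmin (m := n) (by omega) hcon
  refine Opens.mem_iSup.mpr ⟨n, hspec, ?_⟩
  refine mem_core.mpr ?_
  rintro y ⟨r, hr, rfl⟩
  intro hy
  obtain ⟨x, hx, hxy⟩ := exists_specializes_of_mem_closure_compl_support (fitt G.s n)
    (fitt_ideal_fg_of_lfp G.s n) (G.t r) hy
  have hxe := hu r hr x hxy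
  rw [hxe] at hx
  exact hx ((mem_Zs_iff G n r).mp (hr ▸ hZn))

end Groth.Agent.H49.FittThick
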