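import Groth.Agent.H49.FittAffine
import Groth.Agent.H49.FittThick3

/-!
# Restricting the thickening `W' ⊆ W` of a finite groupoid to an invariant open `V ⊆ W` (helper49)
-/

set_option autoImplicit false
set_option linter.style.haveILetI false

universe u

open CategoryTheory CategoryTheory.Limits AlgebraicGeometry TopologicalSpace

namespace Groth.Agent.H49.FittThick

open Groth.Agent.H40.GQ Groth.Agent.H49.FittFinite Groth.Agent.H49.IdealGlue

section general

variable {X Y Z Z' : Scheme.{u}}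

theorem isFinLocFree_comp (f : X ⟶ Y) (g : Z ⟶ Y) (q : Z' ⟶ Z)
    (h : Mor2.IsFinLocFree (pullback.snd f g)) : Mor2.IsFinLocFree (pullback.snd f (q ≫ g)) := by
  obtain ⟨h1, h2, h3⟩ := h
  have e : pullback.snd f (q ≫ g) =
      (pullbackLeftPullbackSndIso f g q).inv ≫ pullback.snd (pullback.snd f g) q := by
    rw [Iso.eq_inv_comp, pullbackLeftPullbackSndIso_hom_snd]
  rw [e]
  exact ⟨inferInstance, inferInstance, inferInstance⟩

end general

variable {S : Scheme.{u}} (G : Grpd.GroupoidScheme S) [IsFinite G.s]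
  (V : G.U.Opens) (hVW : V ≤ W G)

/-- the restriction of the ideal of `W'` to an open `V ⊆ W`. -/
noncomputable def KV : V.toScheme.IdealSheafData := (K G).comap (G.U.homOfLE hVW)

theorem KV_support : (KV G V hVW).support = ⊤ := by
  rw [KV, Scheme.IdealSheafData.support_comap, K_support]
  rfl

/-- the open immersion `V' ⟶ W'`. -/
noncomputable def qV : (KV G V hVW).subscheme ⟶ (K G).subscheme :=
  ((K G).comapIso (G.U.homOfLE hVW)).hom ≫ pullback.snd _ _

theorem isPullback_qV :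
    IsPullback (KV G V hVW).subschemeι (qV G V hVW) (G.U.homOfLE hVW) (K G).subschemeι := by
  unfold qV KV
  have h0 := Scheme.IdealSheafData.comapIso_hom_fst (K G) (G.U.homOfLE hVW)
  refine IsPullback.of_iso_pullback ⟨?_⟩ ((K G).comapIso (G.U.homOfLE hVW)) h0 rfl
  rw [Category.assoc, ← pullback.condition, ← Category.assoc, h0]

theorem KV_ι_eq : (KV G V hVW).subschemeι ≫ V.ι = qV G V hVW ≫ ι' G := by
  have h1 := (isPullback_qV G V hVW).w
  rw [← Scheme.homOfLE_ι G.U hVW, ← Category.assoc, h1, Category.assoc]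

theorem isFinLocFree_KV {X : Scheme.{u}} (π : X ⟶ G.U) [IsFinite π]
    (hπ : ∀ k, fitt π k = fitt G.s k) :
    Mor2.IsFinLocFree (pullback.snd π ((KV G V hVW).subschemeι ≫ V.ι)) := by
  rw [KV_ι_eq]
  exact isFinLocFree_comp _ _ _ (isFinLocFree_of_fitt_eq G π hπ)

theorem lfp_KV [LocallyOfFinitePresentation G.s] :
    LocallyOfFinitePresentation (KV G V hVW).subschemeι := by
  haveI := locallyOfFinitePresentation_K G
  exact MorphismProperty.of_isPullback (P := @LocallyOfFinitePresentation)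
    (isPullback_qV G V hVW).flip inferInstance

/-- `V'` is invariant when `V` is. -/
theorem exists_iso_KV [IsFinite G.t] (hV : IsInv G V) :
    ∃ φ : pullback G.s ((KV G V hVW).subschemeι ≫ V.ι) ≅
        pullback G.t ((KV G V hVW).subschemeι ≫ V.ι),
      φ.hom ≫ pullback.fst G.t _ = pullback.fst G.s _ := by
  refine exists_iso_of_comap_resLE_eq G.s G.t V (G.s ⁻¹ᵁ V) rfl hV (KV G V hVW) ?_
  have hle : G.s ⁻¹ᵁ V ≤ G.s ⁻¹ᵁ W G := fun x hx => hVW hx
  have h1 : G.s.resLE V (G.s ⁻¹ᵁ V) le_rfl ≫ G.U.homOfLE hVW =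
      G.R.homOfLE hle ≫ G.s.resLE (W G) (G.s ⁻¹ᵁ W G) le_rfl := by
    rw [Scheme.Hom.resLE_map, Scheme.Hom.map_resLE]
  have h2 : G.t.resLE V (G.s ⁻¹ᵁ V) hV.le ≫ G.U.homOfLE hVW =
      G.R.homOfLE hle ≫ G.t.resLE (W G) (G.s ⁻¹ᵁ W G) (sW_le G) := by
    rw [Scheme.Hom.resLE_map, Scheme.Hom.map_resLE]
  rw [KV, ← Scheme.IdealSheafData.comap_comp, ← Scheme.IdealSheafData.comap_comp, h1, h2,
    Scheme.IdealSheafData.comap_comp, Scheme.IdealSheafData.comap_comp, K_comap_s_eq_t]

end Groth.Agent.H49.FittThick
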