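import Groth.Agent.H49.FittAffine2
import Groth.Agent.H20.DisjointAffine

/-!
# Invariant affine thickenings around generic orbits of a finite groupoid (helper49)
-/

set_option autoImplicit false
set_option linter.style.haveILetI false

universe u

open CategoryTheory CategoryTheory.Limits AlgebraicGeometry TopologicalSpace

namespace Groth.Agent.H49.FittThick

open Groth.Agent.H40.GQ Groth.Agent.H49.FittFinite Groth.Agent.H49.IdealGlue

section general

variable {X : Scheme.{u}}

/-- a point without proper generizations is the generic point of an irreducible component. -/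
theorem closure_mem_irreducibleComponents (y : X) (hy : ∀ x : X, x ⤳ y → x = y) :
    closure ({y} : Set X) ∈ irreducibleComponents X := by
  refine ⟨isIrreducible_singleton.closure, ?_⟩
  intro Z hZ hle
  have hZc : IsClosed (closure Z) := isClosed_closure
  have hZi : IsIrreducible (closure Z) := hZ.closure
  obtain ⟨z, hz⟩ := QuasiSober.sober hZi hZc
  have hyZ : y ∈ closure Z := subset_closure (hle (subset_closure rfl))
  have hzy : z ⤳ y := by
    rw [specializes_iff_mem_closure, hz.def]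
    exact hyZ
  have hzy' := hy z hzy
  subst hzy'
  intro w hw
  have : w ∈ closure Z := subset_closure hw
  rwa [← hz.def] at this

end general

variable {S : Scheme.{u}} (G : Grpd.GroupoidScheme S) [IsFinite G.s]

/-- a point all of whose translates are generic points lies in `W`, provided the complements of
the `Z_n` are retrocompact. -/
theorem mem_W_of_generic'
    (hqc : ∀ n (y : G.U), y ∈ closure ((Zs G n : Set G.U)ᶜ) → ∃ x : G.U, x ∉ Zs G n ∧ x ⤳ y)
    (u : G.U) (hu : ∀ r : G.R, G.s r = u → ∀ x : G.U, x ⤳ G.t r → x = G.t r) : u ∈ W G := by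
  classical
  have h := iInter_support_fitt G.s
  have hu' : u ∉ ⋂ r, ((fitt G.s r).support : Set G.U) := by rw [h]; exact fun h => h
  rw [Set.mem_iInter] at hu'
  push Not at hu'
  have hmin : ∀ {m : ℕ}, m < Nat.find hu' → ¬ (u ∉ ((fitt G.s m).support : Set G.U)) :=
    fun hm => Nat.find_min hu' hm
  have hspec := Nat.find_spec hu'
  have hne : Nat.find hu' ≠ 0 := by
    intro h0
    rw [h0] at hspec
    apply hspec
    change u ∈ (Zs G 0 : Set G.U)
    rw [Zs_zero]; trivial
  obtain ⟨n, hn⟩ : ∃ n, Nat.find hu' = n + 1 := Nat.exists_eq_succ_of_ne_zero hne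
  rw [hn] at hspec
  have hZn : u ∈ Zs G n := by
    by_contra hcon
    exact hmin (m := n) (by omega) hcon
  refine Opens.mem_iSup.mpr ⟨n, hspec, ?_⟩
  refine mem_core.mpr ?_
  rintro y ⟨r, hr, rfl⟩
  intro hy
  obtain ⟨x, hx, hxy⟩ := hqc n (G.t r) hy
  have hxe := hu r hr x hxy
  rw [hxe] at hx
  exact hx ((mem_Zs_iff G n r).mp (hr ▸ hZn))

theorem hqc_of_isLocallyNoetherian [IsLocallyNoetherian G.U] (n : ℕ) (y : G.U)
    (hy : y ∈ closure ((Zs G n : Set G.U)ᶜ)) : ∃ x : G.U, x ∉ Zs G n ∧ x ⤳ y := by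
  have h1 : Set.range (csO (fitt G.s n)).ι = (Zs G n : Set G.U)ᶜ := by
    rw [Scheme.Opens.range_ι]; rfl
  rw [← h1] at hy
  obtain ⟨x, hx⟩ := Groth.Agent.H11.exists_specializes_of_mem_closure (csO (fitt G.s n)).ι y hy
  exact ⟨(csO (fitt G.s n)).ι x, x.2, hx⟩

/-- **the invariant affine open around finitely many generic orbits.** -/
theorem exists_invariant_affine_of_generic [IsFinite G.t] [QuasiSeparatedSpace G.U] (m : ℕ)
    (u : Fin m → G.U) (hu : ∀ i (r : G.R), G.s r = u i → ∀ x : G.U, x ⤳ G.t r → x = G.t r)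
    (huW : ∀ i, u i ∈ W G) :
    ∃ V : G.U.Opens, IsAffineOpen V ∧ (∀ i, u i ∈ V) ∧ V ≤ W G ∧ IsInv G V := by
  set T : Set G.U := {y | ∃ i, Orb G (u i) y} with hT
  have hTfin : T.Finite := by
    have : T = ⋃ i, {y | Orb G (u i) y} := by
      ext y; simp [hT]
    rw [this]
    exact Set.finite_iUnion fun i => finite_orbit (u i)
  have hTorb : ∀ x ∈ T, ∀ y, Orb G x y → y ∈ T := by
    rintro x ⟨i, hi⟩ y hxy
    exact ⟨i, hi.trans hxy⟩
  have hTW : T ⊆ W G := by
    rintro y ⟨i, hi⟩
    exact ((isInv_W G).mem_iff hi).mp (huW i)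
  have hTgen : ∀ y ∈ T, closure ({y} : Set G.U) ∈ irreducibleComponents G.U := by
    rintro y ⟨i, r, hr, rfl⟩
    exact closure_mem_irreducibleComponents _ (hu i r hr)
  have huT : ∀ i, u i ∈ T := fun i => ⟨i, orb_refl G (u i)⟩
  obtain ⟨V₀, hV₀, hTV₀⟩ : ∃ V₀ : G.U.Opens, IsAffineOpen V₀ ∧ T ⊆ V₀ := by
    by_cases hm : m = 0
    · subst hm
      refine ⟨⊥, isAffineOpen_bot _, ?_⟩
      rintro y ⟨i, -⟩
      exact i.elim0
    · haveI : Finite T := hTfin
      obtain ⟨n, ⟨e⟩⟩ := Finite.exists_equiv_fin T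
      have hm' : 0 < m := Nat.pos_of_ne_zero hm
      obtain ⟨V₀, hV₀, -, hη⟩ := Groth.Agent.H20.exists_affine_of_generic_points_and_point G.U
        (fun k : Fin n => (e.symm k).1) (fun k => hTgen _ (e.symm k).2) (u ⟨0, hm'⟩)
      refine ⟨V₀, hV₀, fun y hy => ?_⟩
      have := hη (e ⟨y, hy⟩)
      simpa using this
  obtain ⟨V, hV, hTV, hVW, hVinv⟩ :=
    exists_invariant_affine_open G T hTfin hTorb hTW V₀ hV₀ hTV₀
  exact ⟨V, hV, fun i => hTV (huT i), hVW, hVinv⟩

end Groth.Agent.H49.FittThick
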