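import Groth.Agent.H49.FittAffine3

/-!
# Invariant affine basic opens for a finite, finitely presented groupoid (helper49)
-/

set_option autoImplicit false
set_option linter.style.haveILetI false

universe u

open CategoryTheory CategoryTheory.Limits AlgebraicGeometry TopologicalSpace

namespace Groth.Agent.H49.FittThick

open Groth.Agent.H40.GQ Groth.Agent.H49.FittFinite Groth.Agent.H49.IdealGlue

section general

/-- prime avoidance for the intersection of two ideals. -/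
theorem exists_mem_inf_avoiding {A : Type u} [CommRing A] (I K : Ideal A)
    (P : Finset (PrimeSpectrum A)) (hI : ∀ p ∈ P, ¬ I ≤ p.asIdeal)
    (hK : ∀ p ∈ P, ¬ K ≤ p.asIdeal) : ∃ h ∈ I ⊓ K, ∀ p ∈ P, h ∉ p.asIdeal := by
  classical
  by_cases hP : P = ∅
  · subst hP
    exact ⟨0, Submodule.zero_mem _, fun p hp => absurd hp (Finset.notMem_empty p)⟩
  obtain ⟨p₀, hp₀⟩ := Finset.nonempty_iff_ne_empty.mpr hP
  have h1 : ¬ (((I ⊓ K : Ideal A) : Set A) ⊆ ⋃ p ∈ (P : Set (PrimeSpectrum A)), (p.asIdeal : Set A)) := by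
    rw [Ideal.subset_union_prime (f := fun p : PrimeSpectrum A => p.asIdeal) p₀ p₀
      (fun p _ _ _ => p.2)]
    rintro ⟨p, hp, hle⟩
    rcases (Ideal.IsPrime.inf_le p.2).mp hle with h | h
    · exact hI p hp h
    · exact hK p hp h
  obtain ⟨h, hh, hnot⟩ := Set.not_subset.mp h1
  refine ⟨h, hh, fun p hp hmem => hnot ?_⟩
  exact Set.mem_iUnion₂.mpr ⟨p, hp, hmem⟩

variable {X Y : Scheme.{u}}

theorem range_morphismRestrict (j : X ⟶ Y) (D : Y.Opens) :
    Set.range (j ∣_ D) = D.ι ⁻¹' Set.range j := by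
  ext x'
  constructor
  · rintro ⟨x, rfl⟩
    exact ⟨x.1, (morphismRestrict_base_coe j D x).symm⟩
  · rintro ⟨x, hx⟩
    have hxD : x ∈ j ⁻¹ᵁ D := by
      change j x ∈ D
      rw [hx]; exact x'.2
    refine ⟨⟨x, hxD⟩, Subtype.ext ?_⟩
    exact (morphismRestrict_base_coe j D ⟨x, hxD⟩).trans hx

theorem app_surjective_aux (j : X ⟶ Y) (D D' : Y.Opens) (h : D' = D)
    (hs : Function.Surjective (j.app D').hom) : Function.Surjective (j.app D).hom := by
  subst h; exact hs

/-- sections over an affine open `D` of the target lift along an immersion whose image is closed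
in `D`. -/
theorem app_surjective_of_isClosed_range (j : X ⟶ Y) [IsImmersion j] (D : Y.Opens)
    (hD : IsAffineOpen D) (hcl : IsClosed (D.ι ⁻¹' Set.range j)) :
    Function.Surjective (j.app D).hom := by
  haveI : IsClosedImmersion (j ∣_ D) := by
    apply IsClosedImmersion.of_isPreimmersion
    rw [range_morphismRestrict]
    exact hcl
  haveI : IsAffine D.toScheme := hD
  have h1 := Scheme.Hom.app_surjective (j ∣_ D) ⊤ (isAffineOpen_top _)
  rw [morphismRestrict_app] at h1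
  apply app_surjective_aux j D (D.ι ''ᵁ ⊤) D.ι_image_top
  intro y
  obtain ⟨a, ha⟩ := h1 (X.presheaf.map
    (eqToHom (image_morphismRestrict_preimage j D ⊤)).op y)
  refine ⟨a, ?_⟩
  have hinj := (ConcreteCategory.bijective_of_isIso
    (X.presheaf.map (eqToHom (image_morphismRestrict_preimage j D ⊤)).op)).1
  apply hinj
  rw [← ha]
  rfl

end general

variable {S : Scheme.{u}} (G : Grpd.GroupoidScheme S) [IsFinite G.s]

set_option backward.isDefEq.respectTransparency.types false in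
/-- the norm argument: inside an invariant open `O₁ ⊆ V₀ ∩ W` with `V₀` affine, the locus of the
points of a basic open `D(f)` of `V₀` whose whole orbit lies in `D(f)` is a basic open of `D(f)`. -/
theorem exists_norm_orbit [IsFinite G.t] (V₀ : G.U.Opens) (hV₀ : IsAffineOpen V₀)
    (O₁ : G.U.Opens) (hO₁inv : IsInv G O₁) (hO₁le : O₁ ≤ V₀ ⊓ W G) (f : Γ(G.U, V₀))
    (hfO : G.U.basicOpen f ≤ O₁) :
    ∃ g : Γ(G.U, G.U.basicOpen f), ∀ w : G.U,
      w ∈ G.U.basicOpen g ↔ ∀ y, Orb G w y → y ∈ G.U.basicOpen f := by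
  set V₁ := G.U.basicOpen f with hV₁
  have hV₁aff : IsAffineOpen V₁ := hV₀.basicOpen f
  have hV₁W : V₁ ≤ W G := hfO.trans (hO₁le.trans inf_le_right)
  have hflf := isFinLocFree_of_fitt_eq G G.s (fun _ => rfl)
  haveI : Flat (pullback.snd G.s (ι' G)) := hflf.2.1
  haveI : LocallyOfFinitePresentation (pullback.snd G.s (ι' G)) := hflf.2.2
  set V₁' : (K G).subscheme.Opens := (ι' G) ⁻¹ᵁ V₁ with hV₁'
  have hV₁'aff : IsAffineOpen V₁' :=
    (isAffineOpen_ι_preimage _ _ hV₁W hV₁aff).preimage (K G).subschemeι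
  have hcond : ∀ x : ↥(pullback G.s (ι' G)),
      G.s (pullback.fst G.s (ι' G) x) = ι' G (pullback.snd G.s (ι' G) x) := by
    intro x
    rw [← Scheme.Hom.comp_apply, ← Scheme.Hom.comp_apply, pullback.condition]
  have hle : (pullback.snd G.s (ι' G)) ⁻¹ᵁ V₁' ≤ (pullback.fst G.s (ι' G) ≫ G.t) ⁻¹ᵁ V₀ := by
    intro x hx
    have h1 : G.s (pullback.fst G.s (ι' G) x) ∈ O₁ := by
      rw [hcond]; exact hfO hx
    have h2 : G.t (pullback.fst G.s (ι' G) x) ∈ O₁ := (hO₁inv.mem_iff ⟨_, rfl, rfl⟩).mp h1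
    exact (hO₁le h2).1
  set b := (pullback.fst G.s (ι' G) ≫ G.t).appLE V₀ ((pullback.snd G.s (ι' G)) ⁻¹ᵁ V₁') hle f
    with hb
  have hbo : (pullback G.s (ι' G)).basicOpen b =
      (pullback.snd G.s (ι' G)) ⁻¹ᵁ V₁' ⊓ (pullback.fst G.s (ι' G) ≫ G.t) ⁻¹ᵁ V₁ :=
    Scheme.basicOpen_appLE _ _ _ _ _
  obtain ⟨g', hg'⟩ := exists_norm (pullback.snd G.s (ι' G)) hV₁'aff b
  obtain ⟨g, hg⟩ := app_ι'_surjective G V₁ hV₁aff hV₁W g'
  have hpre : (ι' G) ⁻¹ᵁ G.U.basicOpen g = (K G).subscheme.basicOpen g' := by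
    rw [Scheme.preimage_basicOpen, ← hg]
  refine ⟨g, fun w => ?_⟩
  constructor
  · intro hw y hy
    obtain ⟨r, hr1, hr2⟩ := hy
    have hwV₁ : w ∈ V₁ := G.U.basicOpen_le g hw
    obtain ⟨w', hw'⟩ := exists_ι'_eq G w (hV₁W hwV₁)
    have hw'V : w' ∈ V₁' := by
      change ι' G w' ∈ V₁
      rw [hw']; exact hwV₁
    have hw'g : w' ∈ (K G).subscheme.basicOpen g' := by
      rw [← hpre]
      change ι' G w' ∈ G.U.basicOpen g
      rw [hw']; exact hw
    obtain ⟨x, hx1, hx2⟩ := Scheme.Pullback.exists_preimage_pullback (f := G.s) (g := ι' G)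
      r w' (hr1.trans hw'.symm)
    have := (hg' w' hw'V).mp hw'g x hx2
    rw [hbo] at this
    have h3 : G.t (pullback.fst G.s (ι' G) x) ∈ V₁ := this.2
    rw [hx1, hr2] at h3
    exact h3
  · intro hw
    have hwV₁ : w ∈ V₁ := hw w (orb_refl G w)
    obtain ⟨w', hw'⟩ := exists_ι'_eq G w (hV₁W hwV₁)
    have hw'V : w' ∈ V₁' := by
      change ι' G w' ∈ V₁
      rw [hw']; exact hwV₁
    have hw'g : w' ∈ (K G).subscheme.basicOpen g' := by
      rw [hg' w' hw'V]
      intro x hx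
      rw [hbo]
      refine ⟨?_, ?_⟩
      · change pullback.snd G.s (ι' G) x ∈ V₁'
        rw [hx]; exact hw'V
      · change G.t (pullback.fst G.s (ι' G) x) ∈ V₁
        refine hw _ ⟨pullback.fst G.s (ι' G) x, ?_, rfl⟩
        rw [hcond, hx, hw']
    rw [← hpre] at hw'g
    have h4 : ι' G w' ∈ G.U.basicOpen g := hw'g
    rwa [hw'] at h4

set_option backward.isDefEq.respectTransparency.types false in
/-- **the invariant affine basic open.** -/
theorem exists_invariant_affine_basicOpen [IsFinite G.t] [LocallyOfFinitePresentation G.s]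
    (m : ℕ) (u : Fin m → G.U)
    (hu : ∀ i (r : G.R), G.s r = u i → ∀ x : G.U, x ⤳ G.t r → x = G.t r)
    (A : Type u) [CommRing A] (j : G.U ⟶ Spec (CommRingCat.of A)) [IsImmersion j] (I : Ideal A)
    (hI : ∀ x : G.U, j x ∉ PrimeSpectrum.zeroLocus (I : Set A))
    (hcl : IsClosed (PrimeSpectrum.zeroLocus (I : Set A) ∪ Set.range j)) :
    ∃ h ∈ I, IsAffineOpen (j ⁻¹ᵁ PrimeSpectrum.basicOpen h) ∧
      (∀ i, u i ∈ j ⁻¹ᵁ PrimeSpectrum.basicOpen h) ∧
      IsInv G (j ⁻¹ᵁ PrimeSpectrum.basicOpen h) := by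
  classical
  haveI : QuasiSeparatedSpace G.U := quasiSeparatedSpace_of_quasiSeparated j
  obtain ⟨V, hV, huV, hVW, hVinv⟩ := exists_invariant_affine_of_generic G m u hu
    (fun i => mem_W_of_generic G (u i) (hu i))
  set T : Set G.U := {y | ∃ i, Orb G (u i) y} with hT
  have hTfin : T.Finite := by
    have : T = ⋃ i, {y | Orb G (u i) y} := by
      ext y; simp [hT]
    rw [this]
    exact Set.finite_iUnion fun i => finite_orbit (u i)
  have hTorb : ∀ x ∈ T, ∀ y, Orb G x y → y ∈ T := by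
    rintro x ⟨i, hi⟩ y hxy
    exact ⟨i, hi.trans hxy⟩
  have hTV : T ⊆ V := by
    rintro y ⟨i, hi⟩
    exact (hVinv.mem_iff hi).mp (huV i)
  have huT : ∀ i, u i ∈ T := fun i => ⟨i, orb_refl G (u i)⟩
  -- choice of `h`
  set Kid : Ideal A := PrimeSpectrum.vanishingIdeal (j '' ((V : Set G.U)ᶜ)) with hKid
  set P : Finset (PrimeSpectrum A) := hTfin.toFinset.image (fun y => j y) with hP
  have hI' : ∀ p ∈ P, ¬ I ≤ p.asIdeal := by
    intro p hp hle
    obtain ⟨y, -, rfl⟩ := Finset.mem_image.mp hp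
    exact hI y ((PrimeSpectrum.mem_zeroLocus _ _).mpr hle)
  have hK' : ∀ p ∈ P, ¬ Kid ≤ p.asIdeal := by
    intro p hp hle
    obtain ⟨y, hy, rfl⟩ := Finset.mem_image.mp hp
    have hyT : y ∈ T := hTfin.mem_toFinset.mp hy
    have h1 : j y ∈ closure (j '' ((V : Set G.U)ᶜ)) := by
      have e := PrimeSpectrum.zeroLocus_vanishingIdeal_eq_closure (R := A)
        (j '' ((V : Set G.U)ᶜ))
      have h0 : j y ∈ PrimeSpectrum.zeroLocus
          ((PrimeSpectrum.vanishingIdeal (j '' ((V : Set G.U)ᶜ)) : Ideal A) : Set A) :=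
        (PrimeSpectrum.mem_zeroLocus _ _).mpr hle
      rw [e] at h0
      exact h0
    have h2 : y ∈ closure ((V : Set G.U)ᶜ) := by
      rw [j.isEmbedding.isInducing.closure_eq_preimage_closure_image]
      exact h1
    have hcl' : IsClosed ((V : Set G.U)ᶜ) := V.isOpen.isClosed_compl
    rw [hcl'.closure_eq] at h2
    exact h2 (hTV hyT)
  obtain ⟨h, hh, hPh⟩ := exists_mem_inf_avoiding I Kid P hI' hK'
  have hhI : h ∈ I := hh.1
  have hhK : h ∈ Kid := hh.2
  set r := (Scheme.ΓSpecIso (CommRingCat.of A)).inv h with hr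
  set D : (Spec (CommRingCat.of A)).Opens := (Spec (CommRingCat.of A)).basicOpen r with hD
  have hDeq : D = PrimeSpectrum.basicOpen h := basicOpen_eq_of_affine (R := CommRingCat.of A) h
  have hDaff : IsAffineOpen D := (isAffineOpen_top _).basicOpen r
  have hDmem : ∀ z : Spec (CommRingCat.of A), z ∈ D → h ∉ z.asIdeal := by
    intro z hz
    rw [hDeq] at hz
    exact hz
  have hV₁V : j ⁻¹ᵁ D ≤ V := by
    intro x hx
    by_contra hxV
    have h1 : j x ∈ D := hx
    rw [hDeq] at h1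
    exact h1 ((PrimeSpectrum.mem_vanishingIdeal _ _).mp hhK (j x) ⟨x, hxV, rfl⟩)
  have hTV₁ : T ⊆ j ⁻¹ᵁ D := by
    intro y hy
    change j y ∈ D
    rw [hDeq]
    exact hPh (j y) (Finset.mem_image.mpr ⟨y, hTfin.mem_toFinset.mpr hy, rfl⟩)
  -- `j ⁻¹ D` as a basic open of `V`
  set f := G.U.presheaf.map (homOfLE (le_top : V ≤ ⊤)).op (j.app ⊤ r) with hf
  have h3 : j ⁻¹ᵁ D = G.U.basicOpen (j.app ⊤ r) := Scheme.preimage_basicOpen j r
  have hfeq : G.U.basicOpen f = j ⁻¹ᵁ D := by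
    rw [hf, Scheme.basicOpen_res]
    exact (inf_eq_right.mpr (h3 ▸ hV₁V)).trans h3.symm
  obtain ⟨g, hg⟩ := exists_norm_orbit G V hV V hVinv (le_inf le_rfl hVW) f
    (G.U.basicOpen_le f)
  have hginv : IsInv G (G.U.basicOpen g) := by
    apply isInv_of_forall
    intro w w' hww' hw
    rw [hg] at hw ⊢
    intro y hy
    exact hw y (hww'.trans hy)
  have hTg : T ⊆ G.U.basicOpen g := by
    intro y hy
    rw [SetLike.mem_coe, hg]
    intro z hz
    rw [hfeq]
    exact hTV₁ (hTorb y hy z hz)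
  -- lift `g` to a section over `D`
  set g₁ := G.U.presheaf.map (homOfLE hfeq.symm.le).op g with hg₁
  have hg₁o : G.U.basicOpen g₁ = G.U.basicOpen g := by
    rw [hg₁, Scheme.basicOpen_res]
    exact inf_eq_right.mpr ((G.U.basicOpen_le g).trans hfeq.le)
  have hDcl : IsClosed (D.ι ⁻¹' Set.range j) := by
    have h1 : D.ι ⁻¹' Set.range j =
        D.ι ⁻¹' (PrimeSpectrum.zeroLocus (I : Set A) ∪ Set.range j) := by
      ext x
      simp only [Set.mem_preimage, Set.mem_union]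
      constructor
      · exact fun hx => Or.inr hx
      · rintro (hx | hx)
        · exfalso
          exact hDmem (D.ι x) x.2 ((PrimeSpectrum.mem_zeroLocus _ _).mp hx hhI)
        · exact hx
    rw [h1]
    exact hcl.preimage D.ι.continuous
  obtain ⟨a, ha⟩ := app_surjective_of_isClosed_range j D hDaff hDcl g₁
  obtain ⟨a', ha'⟩ := (isAffineOpen_top (Spec (CommRingCat.of A))).basicOpen_basicOpen_is_basicOpen
    r a
  set h'' : A := (Scheme.ΓSpecIso (CommRingCat.of A)).hom a' with hh''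
  have hr'' : (Scheme.ΓSpecIso (CommRingCat.of A)).inv h'' = a' := by
    rw [hh'']
    exact (Scheme.ΓSpecIso (CommRingCat.of A)).hom_inv_id_apply a'
  have e1 : (PrimeSpectrum.basicOpen (h * h'') : (Spec (CommRingCat.of A)).Opens) =
      (Spec (CommRingCat.of A)).basicOpen a := by
    rw [← basicOpen_eq_of_affine (R := CommRingCat.of A) (h * h''), map_mul, hr'',
      Scheme.basicOpen_mul, ha']
    exact inf_eq_right.mpr ((Spec (CommRingCat.of A)).basicOpen_le a)
  have hfinal : j ⁻¹ᵁ PrimeSpectrum.basicOpen (h * h'') = G.U.basicOpen g := by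
    rw [e1, Scheme.preimage_basicOpen, ← hg₁o, ← ha]
  refine ⟨h * h'', I.mul_mem_right _ hhI, ?_, ?_, ?_⟩
  · rw [hfinal]
    exact (hV.basicOpen f).basicOpen g
  · intro i
    rw [hfinal]
    exact hTg (huT i)
  · rw [hfinal]
    exact hginv

end Groth.Agent.H49.FittThick
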