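import Groth.Agent.Lead.FittingLoc
import Groth.Prelude.Def_Fitting
import Mathlib.AlgebraicGeometry.Morphisms.Flat
import Mathlib.AlgebraicGeometry.Morphisms.Finite

/-!
# The Fitting ideal sheaves of a finite morphism (helper49)

For a finite morphism `π : X ⟶ S` the ideals `Fitt_r(Γ(X, π⁻¹W))` over affine opens `W` of `S` form
a quasi-coherent ideal sheaf `fitt π r`, compatible with arbitrary base change.
-/

set_option autoImplicit false
set_option linter.style.haveILetI false

universe u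

open CategoryTheory CategoryTheory.Limits AlgebraicGeometry TensorProduct

namespace Groth.Agent.H49.FittFinite

open Groth.Agent.Lead

/-- Fitting ideals commute with pushouts of rings. -/
theorem fitt_of_algebra_isPushout (R S R' S' : Type u) [CommRing R] [CommRing S] [CommRing R']
    [CommRing S'] [Algebra R S] [Algebra R R'] [Algebra S S'] [Algebra R' S'] [Algebra R S']
    [IsScalarTower R S S'] [IsScalarTower R R' S'] [Algebra.IsPushout R S R' S']
    [Module.Finite R R'] (r : ℕ) :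
    Fitt.ideal S S' r = (Fitt.ideal R R' r).map (algebraMap R S) := by
  have h : IsBaseChange S (IsScalarTower.toAlgHom R R' S').toLinearMap :=
    Algebra.IsPushout.out
  rw [← fitt_ideal_baseChange (R' := S) (M := R') r]
  exact (fitt_ideal_congr h.equiv r).symm

/-- the same for a pushout square in `CommRingCat`. -/
theorem fitt_of_isPushout {A A' B B' : CommRingCat.{u}} {p : A ⟶ B} {a : A ⟶ A'}
    {a' : B ⟶ B'} {p' : A' ⟶ B'} (h : IsPushout p a a' p') (hfin : p.hom.Finite) (r : ℕ) :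
    letI := p.hom.toAlgebra
    letI := p'.hom.toAlgebra
    Fitt.ideal A' B' r = (Fitt.ideal A B r).map a.hom := by
  algebraize [p.hom, a.hom, a'.hom, p'.hom, p'.hom.comp a.hom]
  haveI : IsScalarTower A A' B' := .of_algebraMap_eq' rfl
  haveI : IsScalarTower A B B' := .of_algebraMap_eq' (by
    change p'.hom.comp a.hom = a'.hom.comp p.hom
    rw [← CommRingCat.hom_comp, ← CommRingCat.hom_comp, h.w])
  haveI : Algebra.IsPushout A B A' B' := CommRingCat.isPushout_iff_isPushout.mp h
  haveI : Algebra.IsPushout A A' B B' := Algebra.IsPushout.symm inferInstance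
  haveI : Module.Finite A B := hfin
  exact fitt_of_algebra_isPushout A A' B B' r

section sections

variable {X S X' T : Scheme.{u}} {π : X ⟶ S} {b : T ⟶ S} {b' : X' ⟶ X} {π' : X' ⟶ T}

theorem preimage_le_of_isPullback (H : IsPullback b' π' π b) {W : S.Opens} {W' : T.Opens}
    (e : W' ≤ b ⁻¹ᵁ W) : π' ⁻¹ᵁ W' ≤ b' ⁻¹ᵁ (π ⁻¹ᵁ W) := by
  intro x hx
  have h1 : b (π' x) ∈ W := e hx
  have h2 : π (b' x) = b (π' x) := by
    rw [← Scheme.Hom.comp_apply, ← Scheme.Hom.comp_apply, H.w]
  change π (b' x) ∈ W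
  rw [h2]; exact h1

/-- sections over affine opens form a pushout, for a base change of an affine morphism. -/
theorem isPushout_sections [IsAffineHom π] (H : IsPullback b' π' π b) {W : S.Opens}
    {W' : T.Opens} (hW : IsAffineOpen W) (hW' : IsAffineOpen W') (e : W' ≤ b ⁻¹ᵁ W) :
    IsPushout (π.appLE W (π ⁻¹ᵁ W) le_rfl) (b.appLE W W' e)
      (b'.appLE (π ⁻¹ᵁ W) (π' ⁻¹ᵁ W') (preimage_le_of_isPullback H e))
      (π'.appLE W' (π' ⁻¹ᵁ W') le_rfl) := by
  have hUY : π' ⁻¹ᵁ W' = b' ⁻¹ᵁ (π ⁻¹ᵁ W) ⊓ π' ⁻¹ᵁ W' :=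
    le_antisymm (le_inf (preimage_le_of_isPullback H e) le_rfl) inf_le_right
  have h1 := isIso_pushoutSection_of_isAffineOpen H e (le_refl (π ⁻¹ᵁ W)) hUY hW hW'
    (hW.preimage π)
  exact (isIso_pushoutSection_iff H e (le_refl (π ⁻¹ᵁ W)) hUY).mp h1

end sections

variable {X S : Scheme.{u}} (π : X ⟶ S) [IsFinite π]

/-- the `r`-th Fitting ideal of `Γ(X, π⁻¹W)` over `Γ(S, W)`. -/
noncomputable def fittIdeal (r : ℕ) (W : S.Opens) : Ideal Γ(S, W) :=
  letI := (π.appLE W (π ⁻¹ᵁ W) le_rfl).hom.toAlgebra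
  Fitt.ideal Γ(S, W) Γ(X, π ⁻¹ᵁ W) r

theorem finite_appLE {W : S.Opens} (hW : IsAffineOpen W) :
    (π.appLE W (π ⁻¹ᵁ W) le_rfl).hom.Finite := by
  rw [Scheme.Hom.appLE_eq_app]
  exact π.finite_app W hW

/-- **base change of the Fitting ideals of a finite morphism.** -/
theorem fittIdeal_baseChange {X' T : Scheme.{u}} {b : T ⟶ S} {b' : X' ⟶ X} {π' : X' ⟶ T}
    (H : IsPullback b' π' π b) [IsFinite π'] (r : ℕ) {W : S.Opens} {W' : T.Opens}
    (hW : IsAffineOpen W) (hW' : IsAffineOpen W') (e : W' ≤ b ⁻¹ᵁ W) :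
    fittIdeal π' r W' = (fittIdeal π r W).map (b.appLE W W' e).hom :=
  fitt_of_isPushout (isPushout_sections H hW hW' e) (finite_appLE π hW) r

/-- the Fitting ideal sheaf of a finite morphism. -/
noncomputable def fitt (r : ℕ) : S.IdealSheafData where
  ideal W := fittIdeal π r W.1
  map_ideal_basicOpen W a := by
    have H : IsPullback (𝟙 X) π π (𝟙 S) := IsPullback.of_id_fst
    have e : S.basicOpen a ≤ (𝟙 S) ⁻¹ᵁ W.1 := S.basicOpen_le a
    have h := fittIdeal_baseChange π H r W.2 (S.affineBasicOpen a).2 e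
    have h2 : (𝟙 S : S ⟶ S).appLE W.1 (S.affineBasicOpen a).1 e =
        S.presheaf.map (homOfLE (S.basicOpen_le a)).op := by
      simp only [Scheme.Hom.appLE, Scheme.Hom.id_app]
      rfl
    rw [h2] at h
    exact h.symm

theorem fitt_ideal (r : ℕ) (W : S.affineOpens) : (fitt π r).ideal W = fittIdeal π r W.1 := rfl

end Groth.Agent.H49.FittFinite
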