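import Groth.Agent.H49.FittFinite
import Groth.Agent.H44.ComapAffine

/-!
# Base change of the Fitting ideal sheaves of a finite morphism (helper49)
-/

set_option autoImplicit false
set_option linter.style.haveILetI false

universe u

open CategoryTheory CategoryTheory.Limits AlgebraicGeometry TopologicalSpace

namespace Groth.Agent.H49.FittFinite

variable {X S X' T : Scheme.{u}} {π : X ⟶ S} {b : T ⟶ S} {b' : X' ⟶ X} {π' : X' ⟶ T}

/-- **The Fitting ideal sheaves of a finite morphism commute with base change.** -/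
theorem fitt_comap [IsFinite π] [IsFinite π'] (H : IsPullback b' π' π b) (r : ℕ) :
    (fitt π r).comap b = fitt π' r := by
  let ι : Type u := {U : T.Opens // IsAffineOpen U ∧ ∃ V : S.Opens, IsAffineOpen V ∧ U ≤ b ⁻¹ᵁ V}
  refine Scheme.IdealSheafData.ext_of_iSup_eq_top (ι := ι) (fun i => ⟨i.1, i.2.1⟩) ?_ ?_
  · rw [eq_top_iff]
    intro x _
    obtain ⟨_, ⟨V, hV, rfl⟩, hxV, -⟩ := S.isBasis_affineOpens.exists_subset_of_mem_open
      (Set.mem_univ (b x)) isOpen_univ
    obtain ⟨_, ⟨U, hU, rfl⟩, hxU, hUV⟩ := T.isBasis_affineOpens.exists_subset_of_mem_open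
      (show x ∈ b ⁻¹ᵁ V from hxV) (b ⁻¹ᵁ V).2
    exact Opens.mem_iSup.mpr ⟨⟨U, hU, V, hV, hUV⟩, hxU⟩
  · rintro ⟨U, hU, V, hV, hUV⟩
    rw [Groth.Agent.H44.ideal_comap_of_le _ b ⟨U, hU⟩ ⟨V, hV⟩ hUV, fitt_ideal, fitt_ideal]
    exact (fittIdeal_baseChange π H r hV hU hUV).symm

end Groth.Agent.H49.FittFinite
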