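import Groth.Agent.H49.SubGrpdP

/-!
# Total composition of `T`-points of a groupoid scheme (helper49)

`gc α β` is `α ∘ β` when `α ≫ s = β ≫ t` and `α` otherwise; this avoids carrying proofs inside terms.
-/

set_option autoImplicit false
set_option linter.style.haveILetI false

universe u

open CategoryTheory CategoryTheory.Limits AlgebraicGeometry

namespace Groth.Agent.H49.SubGrpd

open Groth.Agent.H90

variable {S : Scheme.{u}} (G : Grpd.GroupoidScheme S)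

open Classical in
/-- total composition of `T`-points. -/
noncomputable def gc {T : Scheme.{u}} (α β : T ⟶ G.R) : T ⟶ G.R :=
  if h : α ≫ G.s = β ≫ G.t then gcomp G α β h else α

variable {G}

theorem gc_eq {T : Scheme.{u}} {α β : T ⟶ G.R} (h : α ≫ G.s = β ≫ G.t) :
    gc G α β = gcomp G α β h := dif_pos h

theorem gc_s {T : Scheme.{u}} {α β : T ⟶ G.R} (h : α ≫ G.s = β ≫ G.t) :
    gc G α β ≫ G.s = β ≫ G.s := by rw [gc_eq h, gcomp_s]

theorem gc_t {T : Scheme.{u}} {α β : T ⟶ G.R} (h : α ≫ G.s = β ≫ G.t) :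
    gc G α β ≫ G.t = α ≫ G.t := by rw [gc_eq h, gcomp_t]

theorem comp_gc {T T' : Scheme.{u}} (x : T' ⟶ T) {α β : T ⟶ G.R} (h : α ≫ G.s = β ≫ G.t) :
    x ≫ gc G α β = gc G (x ≫ α) (x ≫ β) := by
  rw [gc_eq h, gc_eq (by rw [Category.assoc, Category.assoc, h]), comp_gcomp]

theorem gc_assoc {T : Scheme.{u}} {α β γ : T ⟶ G.R} (h₁ : α ≫ G.s = β ≫ G.t)
    (h₂ : β ≫ G.s = γ ≫ G.t) : gc G (gc G α β) γ = gc G α (gc G β γ) := by
  rw [gc_eq ((gc_s h₁).trans h₂), gc_eq (h₁.trans (gc_t h₂).symm)]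
  have e1 : gc G α β = gcomp G α β h₁ := gc_eq h₁
  have e2 : gc G β γ = gcomp G β γ h₂ := gc_eq h₂
  rw [gcomp_congr G e1 rfl _ ((gcomp_s G α β h₁).trans h₂),
    gcomp_congr G rfl e2 _ (h₁.trans (gcomp_t G β γ h₂).symm)]
  exact gcomp_assoc G α β γ h₁ h₂

theorem gc_e {T : Scheme.{u}} (α : T ⟶ G.R) : gc G α (α ≫ G.s ≫ G.e) = α := by
  have h : α ≫ G.s = (α ≫ G.s ≫ G.e) ≫ G.t := by
    rw [Category.assoc, Category.assoc, G.e_t, Category.comp_id]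
  rw [gc_eq h]
  exact gcomp_e G α _ rfl h

theorem e_gc {T : Scheme.{u}} (α : T ⟶ G.R) : gc G (α ≫ G.t ≫ G.e) α = α := by
  have h : (α ≫ G.t ≫ G.e) ≫ G.s = α ≫ G.t := by
    rw [Category.assoc, Category.assoc, G.e_s, Category.comp_id]
  rw [gc_eq h]
  exact e_gcomp G α _ rfl h

theorem gc_e' {T : Scheme.{u}} (α : T ⟶ G.R) (x : T ⟶ G.U) (hx : α ≫ G.s = x) :
    gc G α (x ≫ G.e) = α := by
  subst hx; rw [Category.assoc]; exact gc_e α

theorem e_gc' {T : Scheme.{u}} (α : T ⟶ G.R) (x : T ⟶ G.U) (hx : α ≫ G.t = x) :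
    gc G (x ≫ G.e) α = α := by
  subst hx; rw [Category.assoc]; exact e_gc α

theorem gc_i {T : Scheme.{u}} (α : T ⟶ G.R) : gc G α (α ≫ G.i) = (α ≫ G.t) ≫ G.e := by
  have h : α ≫ G.s = (α ≫ G.i) ≫ G.t := by rw [Category.assoc, G.i_t]
  rw [gc_eq h, Category.assoc]
  exact gcomp_i G α _ rfl h

theorem i_gc {T : Scheme.{u}} (α : T ⟶ G.R) : gc G (α ≫ G.i) α = (α ≫ G.s) ≫ G.e := by
  have h : (α ≫ G.i) ≫ G.s = α ≫ G.t := by rw [Category.assoc, G.i_s]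
  rw [gc_eq h, Category.assoc]
  exact i_gcomp G α _ rfl h

theorem i_s' {T : Scheme.{u}} (α : T ⟶ G.R) : (α ≫ G.i) ≫ G.s = α ≫ G.t := by
  rw [Category.assoc, G.i_s]

theorem i_t' {T : Scheme.{u}} (α : T ⟶ G.R) : (α ≫ G.i) ≫ G.t = α ≫ G.s := by
  rw [Category.assoc, G.i_t]

/-- left cancellation. -/
theorem gc_left_cancel {T : Scheme.{u}} {α β γ : T ⟶ G.R} (h₁ : α ≫ G.s = β ≫ G.t)
    (h₂ : α ≫ G.s = γ ≫ G.t) (h : gc G α β = gc G α γ) : β = γ := by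
  have hi : (α ≫ G.i) ≫ G.s = α ≫ G.t := i_s' α
  have e1 : gc G (α ≫ G.i) (gc G α β) = β := by
    rw [← gc_assoc hi h₁, i_gc]
    exact e_gc' β _ h₁.symm
  have e2 : gc G (α ≫ G.i) (gc G α γ) = γ := by
    rw [← gc_assoc hi h₂, i_gc]
    exact e_gc' γ _ h₂.symm
  rw [← e1, ← e2, h]

/-- right cancellation. -/
theorem gc_right_cancel {T : Scheme.{u}} {α β γ : T ⟶ G.R} (h₁ : β ≫ G.s = α ≫ G.t)
    (h₂ : γ ≫ G.s = α ≫ G.t) (h : gc G β α = gc G γ α) : β = γ := by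
  have hi : α ≫ G.s = (α ≫ G.i) ≫ G.t := (i_t' α).symm
  have e1 : gc G (gc G β α) (α ≫ G.i) = β := by
    rw [gc_assoc h₁ hi, gc_i]
    exact gc_e' β _ h₁
  have e2 : gc G (gc G γ α) (α ≫ G.i) = γ := by
    rw [gc_assoc h₂ hi, gc_i]
    exact gc_e' γ _ h₂
  rw [← e1, ← e2, h]

/-- the inverse of a composition. -/
theorem gc_comp_i {T : Scheme.{u}} {α β : T ⟶ G.R} (h : α ≫ G.s = β ≫ G.t) :
    gc G α β ≫ G.i = gc G (β ≫ G.i) (α ≫ G.i) := by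
  have h' : (β ≫ G.i) ≫ G.s = (α ≫ G.i) ≫ G.t := by rw [i_s', i_t', h]
  apply gc_left_cancel (α := gc G α β)
  · rw [i_t']
  · rw [gc_s h, gc_t h', i_t']
  · rw [gc_i, gc_t h, gc_assoc h (by rw [gc_t h', i_t']), ← gc_assoc (i_t' β).symm h', gc_i]
    rw [e_gc' (α ≫ G.i) (β ≫ G.t) (by rw [i_t', h]), gc_i]

end Groth.Agent.H49.SubGrpd
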