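import Groth.Agent.H49.FittFiniteBC
import Groth.Agent.H49.SubGrpdCalc

/-!
# Invariance of the Fitting ideal sheaves of the source map of a finite groupoid (helper49)
-/

set_option autoImplicit false
set_option linter.style.haveILetI false

universe u

open CategoryTheory CategoryTheory.Limits AlgebraicGeometry TopologicalSpace

namespace Groth.Agent.H49.FittFinite

open Groth.Agent.H90 Groth.Agent.H49.SubGrpd

theorem isPullback_of_exists_unique' {C : Type*} [Category C] {W X Y Z : C} {fst : W ⟶ X}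
    {snd : W ⟶ Y} {f : X ⟶ Z} {g : Y ⟶ Z} (w : fst ≫ f = snd ≫ g)
    (h : ∀ {T : C} (x : T ⟶ X) (y : T ⟶ Y), x ≫ f = y ≫ g → ∃ l : T ⟶ W, l ≫ fst = x ∧ l ≫ snd = y)
    (hu : ∀ {T : C} (l₁ l₂ : T ⟶ W), l₁ ≫ fst = l₂ ≫ fst → l₁ ≫ snd = l₂ ≫ snd → l₁ = l₂) :
    IsPullback fst snd f g :=
  ⟨⟨w⟩, ⟨PullbackCone.IsLimit.mk w (fun s => (h s.fst s.snd s.condition).choose)
    (fun s => (h s.fst s.snd s.condition).choose_spec.1)
    (fun s => (h s.fst s.snd s.condition).choose_spec.2)
    (fun s _ h1 h2 => hu _ _ (h1.trans (h s.fst s.snd s.condition).choose_spec.1.symm)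
      (h2.trans (h s.fst s.snd s.condition).choose_spec.2.symm))⟩⟩

variable {S : Scheme.{u}} (G : Grpd.GroupoidScheme S)

theorem lift_c {T : Scheme.{u}} (l : T ⟶ pullback G.s G.t) :
    l ≫ G.c = gc G (l ≫ pullback.fst _ _) (l ≫ pullback.snd _ _) := by
  have h : (l ≫ pullback.fst G.s G.t) ≫ G.s = (l ≫ pullback.snd G.s G.t) ≫ G.t := by
    rw [Category.assoc, Category.assoc, pullback.condition]
  rw [gc_eq h]
  unfold gcomp
  congr 1
  apply pullback.hom_ext
  · rw [pullback.lift_fst]
  · rw [pullback.lift_snd]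

/-- the composition and the second projection exhibit `R ×_{s,t} R` as `R ×_{s,s} R`. -/
theorem isPullback_c : IsPullback G.c (pullback.snd G.s G.t) G.s G.s := by
  apply isPullback_of_exists_unique'
  · have h := lift_c G (𝟙 (pullback G.s G.t))
    rw [Category.id_comp, Category.id_comp, Category.id_comp] at h
    rw [h, gc_s pullback.condition]
  · intro T x y hxy
    have h1 : (gc G x (y ≫ G.i)) ≫ G.s = y ≫ G.t := by
      rw [gc_s (by rw [i_t', hxy]), i_s']
    refine ⟨pullback.lift (gc G x (y ≫ G.i)) y h1, ?_, pullback.lift_snd _ _ _⟩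
    rw [lift_c, pullback.lift_fst, pullback.lift_snd,
      gc_assoc (by rw [i_t', hxy]) (i_s' y), i_gc]
    exact gc_e' x _ hxy
  · intro T l₁ l₂ h1 h2
    apply pullback.hom_ext _ h2
    rw [lift_c, lift_c, ← h2] at h1
    have c1 : (l₁ ≫ pullback.fst G.s G.t) ≫ G.s = (l₁ ≫ pullback.snd G.s G.t) ≫ G.t := by
      rw [Category.assoc, Category.assoc, pullback.condition]
    have c2 : (l₂ ≫ pullback.fst G.s G.t) ≫ G.s = (l₁ ≫ pullback.snd G.s G.t) ≫ G.t := by
      rw [h2, Category.assoc, Category.assoc, pullback.condition]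
    exact gc_right_cancel c1 c2 h1

/-- **the Fitting ideal sheaves of the source map are invariant.** -/
theorem fitt_comap_s_eq_t [IsFinite G.s] (r : ℕ) :
    (fitt G.s r).comap G.s = (fitt G.s r).comap G.t := by
  have H₁ : IsPullback (pullback.fst G.s G.t) (pullback.snd G.s G.t) G.s G.t :=
    IsPullback.of_hasPullback _ _
  have H₂ := isPullback_c G
  rw [fitt_comap H₁ r, fitt_comap H₂ r]

section iso

variable {X Y : Scheme.{u}} (I : Y.IdealSheafData)

theorem exists_subscheme_iso {I J : X.IdealSheafData} (h : I = J) :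
    ∃ φ : I.subscheme ≅ J.subscheme, φ.hom ≫ J.subschemeι = I.subschemeι := by
  subst h
  exact ⟨Iso.refl _, Category.id_comp _⟩

/-- equal pulled back ideals give isomorphic pullbacks of the closed subscheme. -/
theorem exists_iso_of_comap_eq (f g : X ⟶ Y) (h : I.comap f = I.comap g) :
    ∃ φ : pullback f I.subschemeι ≅ pullback g I.subschemeι,
      φ.hom ≫ pullback.fst g I.subschemeι = pullback.fst f I.subschemeι := by
  obtain ⟨ψ, hψ⟩ := exists_subscheme_iso h
  refine ⟨(I.comapIso f).symm ≪≫ ψ ≪≫ I.comapIso g, ?_⟩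
  simp only [Iso.trans_hom, Iso.symm_hom, Category.assoc,
    Scheme.IdealSheafData.comapIso_hom_fst, hψ,
    Scheme.IdealSheafData.comapIso_inv_subschemeι]

end iso

end Groth.Agent.H49.FittFinite
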