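import Groth.Agent.H49.FittFiniteBC
import Groth.Agent.H93.FittProj
import Groth.Prelude.Def_Mor2
import Mathlib.AlgebraicGeometry.Morphisms.FlatRank

/-!
# A finite morphism with `Fitt_k = 0` for `k < d` and `Fitt_d = 1` is finite locally free of
rank `d` (helper49)
-/

set_option autoImplicit false
set_option linter.style.haveILetI false

universe u

open CategoryTheory CategoryTheory.Limits AlgebraicGeometry TopologicalSpace

namespace Groth.Agent.H49.FittFinite

variable {X S : Scheme.{u}} (π : X ⟶ S)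

section ringhom

variable {P : MorphismProperty Scheme.{u}} {Q : ∀ {R S : Type u} [CommRing R] [CommRing S],
  (R →+* S) → Prop} [HasRingHomProperty P Q]

/-- for an affine morphism, a ring-hom property containing open immersions can be checked on the
preimages of the affine opens of the target. -/
theorem of_forall_app [IsAffineHom π] (hcomp : RingHom.StableUnderComposition Q)
    (hopen : ∀ {Y Z : Scheme.{u}} (j : Y ⟶ Z) [IsOpenImmersion j], P j)
    (h : ∀ W : S.affineOpens, Q (π.app W.1).hom) : P π := by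
  rw [HasRingHomProperty.iff_appLE (P := P)]
  intro U V e
  have h1 : π.appLE U.1 V.1 e = π.app U.1 ≫ X.presheaf.map (homOfLE e).op := rfl
  rw [h1, CommRingCat.hom_comp]
  refine hcomp _ _ (h U) ?_
  have h2 := HasRingHomProperty.appLE P (𝟙 X) (hopen (𝟙 X)) ⟨π ⁻¹ᵁ U.1, U.2.preimage π⟩ V e
  have h3 : (𝟙 X : X ⟶ X).appLE (π ⁻¹ᵁ U.1) V.1 e = X.presheaf.map (homOfLE e).op := by
    simp only [Scheme.Hom.appLE, Scheme.Hom.id_app]
    rfl
  rw [h3] at h2
  exact h2

end ringhom

section proj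

variable [IsFinite π]

theorem projective_rank_of_fitt (d : ℕ) (h0 : ∀ k, k < d → fitt π k = ⊥) (h1 : fitt π d = ⊤)
    (W : S.affineOpens) :
    letI := (π.appLE W.1 (π ⁻¹ᵁ W.1) le_rfl).hom.toAlgebra
    Module.Projective Γ(S, W.1) Γ(X, π ⁻¹ᵁ W.1) ∧ ∀ p : PrimeSpectrum Γ(S, W.1),
      Module.rankAtStalk (R := Γ(S, W.1)) Γ(X, π ⁻¹ᵁ W.1) p = d := by
  letI := (π.appLE W.1 (π ⁻¹ᵁ W.1) le_rfl).hom.toAlgebra
  haveI : Module.Finite Γ(S, W.1) Γ(X, π ⁻¹ᵁ W.1) := finite_appLE π W.2
  rw [Groth.Agent.H93.FittProj.projective_rank_iff_fitt]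
  refine ⟨fun k hk => ?_, ?_⟩
  · exact congrArg (fun I : S.IdealSheafData => I.ideal W) (h0 k hk)
  · exact congrArg (fun I : S.IdealSheafData => I.ideal W) h1

theorem flat_app_of_fitt (d : ℕ) (h0 : ∀ k, k < d → fitt π k = ⊥) (h1 : fitt π d = ⊤)
    (W : S.affineOpens) : (π.app W.1).hom.Flat := by
  have h := (projective_rank_of_fitt π d h0 h1 W).1
  rw [Scheme.Hom.appLE_eq_app] at h
  letI := (π.app W.1).hom.toAlgebra
  change Module.Flat Γ(S, W.1) Γ(X, π ⁻¹ᵁ W.1)
  infer_instance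

theorem finitePresentation_app_of_fitt (d : ℕ) (h0 : ∀ k, k < d → fitt π k = ⊥)
    (h1 : fitt π d = ⊤) (W : S.affineOpens) : (π.app W.1).hom.FinitePresentation := by
  have h := (projective_rank_of_fitt π d h0 h1 W).1
  have hfin := finite_appLE π W.2
  rw [Scheme.Hom.appLE_eq_app] at h hfin
  letI := (π.app W.1).hom.toAlgebra
  haveI : Module.Finite Γ(S, W.1) Γ(X, π ⁻¹ᵁ W.1) := hfin
  haveI : Module.FinitePresentation Γ(S, W.1) Γ(X, π ⁻¹ᵁ W.1) :=
    Module.finitePresentation_of_projective _ _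
  change Algebra.FinitePresentation Γ(S, W.1) Γ(X, π ⁻¹ᵁ W.1)
  infer_instance

theorem flat_of_fitt (d : ℕ) (h0 : ∀ k, k < d → fitt π k = ⊥) (h1 : fitt π d = ⊤) : Flat π :=
  of_forall_app (P := @Flat) π RingHom.Flat.stableUnderComposition
    (fun _ _ => inferInstance) (flat_app_of_fitt π d h0 h1)

theorem lfp_of_fitt (d : ℕ) (h0 : ∀ k, k < d → fitt π k = ⊥) (h1 : fitt π d = ⊤) :
    LocallyOfFinitePresentation π :=
  of_forall_app (P := @LocallyOfFinitePresentation) π
    RingHom.finitePresentation_stableUnderComposition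
    (fun _ _ => inferInstance) (finitePresentation_app_of_fitt π d h0 h1)

end proj

section rank

theorem finrank_eq_of_isAffine [IsAffine S] [IsFinite π] [Flat π] (y : S) :
    π.finrank y = π.appTop.hom.finrank (S.isoSpec.hom y) := by
  haveI : IsAffine X := isAffine_of_isAffineHom π
  haveI hfl : Flat (Spec.map π.appTop) := Flat.SpecMap_iff.mpr π.flat_appTop
  haveI hfi : IsFinite (Spec.map π.appTop) := (IsFinite.SpecMap_iff _).mpr π.finite_appTop
  have H : IsPullback X.isoSpec.hom π (Spec.map π.appTop) S.isoSpec.hom :=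
    IsPullback.of_horiz_isIso ⟨Scheme.isoSpec_hom_naturality π⟩
  rw [Scheme.Hom.finrank_of_isPullback _ _ _ _ H y,
    Scheme.Hom.finrank_SpecMap_eq_finrank π.finite_appTop π.flat_appTop]

theorem comap_top {X Y : Scheme.{u}} (f : X ⟶ Y) :
    (⊤ : Y.IdealSheafData).comap f = ⊤ := by
  rw [← Scheme.IdealSheafData.support_eq_bot_iff, Scheme.IdealSheafData.support_comap]
  ext x
  simp

theorem rank_of_fitt [IsFinite π] (d : ℕ) (h0 : ∀ k, k < d → fitt π k = ⊥) (h1 : fitt π d = ⊤)
    (W : S.affineOpens) (x : PrimeSpectrum Γ(S, W.1)) : (π.app W.1).hom.finrank x = d := by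
  have h := (projective_rank_of_fitt π d h0 h1 W).2 x
  rw [Scheme.Hom.appLE_eq_app] at h
  exact h

theorem finrank_of_fitt [IsFinite π] (d : ℕ) (h0 : ∀ k, k < d → fitt π k = ⊥)
    (h1 : fitt π d = ⊤) (y : S) : π.finrank y = d := by
  haveI := flat_of_fitt π d h0 h1
  obtain ⟨R, i, _, y', rfl⟩ := S.exists_Spec_apply_eq y
  rw [← Scheme.Hom.finrank_pullback_snd π i y']
  have H : IsPullback (pullback.fst π i) (pullback.snd π i) π i := .of_hasPullback _ _
  have h0' : ∀ k, k < d → fitt (pullback.snd π i) k = ⊥ := fun k hk => by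
    rw [← fitt_comap H k, h0 k hk, Scheme.IdealSheafData.comap_bot]
  have h1' : fitt (pullback.snd π i) d = ⊤ := by
    rw [← fitt_comap H d, h1, comap_top]
  rw [finrank_eq_of_isAffine]
  exact rank_of_fitt (pullback.snd π i) d h0' h1' ⟨⊤, isAffineOpen_top _⟩ _

/-- **a finite morphism whose Fitting ideals are `0` below `d` and `1` at `d` is finite locally
free of rank `d`.** -/
theorem isFinLocFreeOfDeg_of_fitt [IsFinite π] (d : ℕ) (h0 : ∀ k, k < d → fitt π k = ⊥)
    (h1 : fitt π d = ⊤) : Mor2.IsFinLocFreeOfDeg d π :=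
  ⟨⟨inferInstance, flat_of_fitt π d h0 h1, lfp_of_fitt π d h0 h1⟩, finrank_of_fitt π d h0 h1⟩

end rank

end Groth.Agent.H49.FittFinite
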