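import Groth.Agent.H49.FittGrpd
import Groth.Agent.H49.FittLocFree

/-!
# The Fitting stratification of a finite morphism (helper49)
-/

set_option autoImplicit false
set_option linter.style.haveILetI false

universe u

open CategoryTheory CategoryTheory.Limits AlgebraicGeometry TopologicalSpace

namespace Groth.Agent.H49.FittFinite

open Groth.Agent.Lead

variable {X S : Scheme.{u}} (π : X ⟶ S) [IsFinite π]

theorem fitt_mono {k k' : ℕ} (h : k ≤ k') : fitt π k ≤ fitt π k' := by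
  intro W
  letI := (π.appLE W.1 (π ⁻¹ᵁ W.1) le_rfl).hom.toAlgebra
  haveI : Module.Finite Γ(S, W.1) Γ(X, π ⁻¹ᵁ W.1) := finite_appLE π W.2
  exact fitt_ideal_antitone h

theorem fitt_zero_le_ker : fitt π 0 ≤ π.ker := by
  intro W
  rw [Scheme.Hom.ker_apply]
  letI := (π.appLE W.1 (π ⁻¹ᵁ W.1) le_rfl).hom.toAlgebra
  intro a ha
  have h1 : a ∈ Module.annihilator Γ(S, W.1) Γ(X, π ⁻¹ᵁ W.1) :=
    fitt_ideal_zero_le_annihilator ha
  have h2 := Module.mem_annihilator.mp h1 1
  rw [Algebra.smul_def, mul_one] at h2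
  rw [RingHom.mem_ker]
  have h3 : algebraMap Γ(S, W.1) Γ(X, π ⁻¹ᵁ W.1) a = (π.app W.1).hom a := by
    change (π.appLE W.1 (π ⁻¹ᵁ W.1) le_rfl).hom a = _
    rw [Scheme.Hom.appLE_eq_app]
  rw [← h3]; exact h2

theorem fitt_zero_of_section (e : S ⟶ X) (he : e ≫ π = 𝟙 S) : fitt π 0 = ⊥ := by
  rw [eq_bot_iff]
  refine (fitt_zero_le_ker π).trans ?_
  refine (Scheme.Hom.le_ker_comp e π).trans ?_
  rw [he, Scheme.Hom.ker_eq_bot_of_isIso]

theorem iInter_support_fitt : ⋂ r, ((fitt π r).support : Set S) = ∅ := by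
  rw [Set.eq_empty_iff_forall_notMem]
  intro x hx
  rw [Set.mem_iInter] at hx
  obtain ⟨_, ⟨W, hW, rfl⟩, hxW, -⟩ := S.isBasis_affineOpens.exists_subset_of_mem_open
    (Set.mem_univ x) isOpen_univ
  letI := (π.appLE W (π ⁻¹ᵁ W) le_rfl).hom.toAlgebra
  haveI : Module.Finite Γ(S, W) Γ(X, π ⁻¹ᵁ W) := finite_appLE π hW
  obtain ⟨n, g, hg⟩ := Module.Finite.exists_fin (R := Γ(S, W)) (M := Γ(X, π ⁻¹ᵁ W))
  have h1 : (fitt π n).ideal ⟨W, hW⟩ = ⊤ := fitt_ideal_eq_top_of_le g hg le_rfl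
  have h2 := (Scheme.IdealSheafData.mem_support_iff_of_mem (I := fitt π n) (U := ⟨W, hW⟩) hxW).mp
    (hx n)
  rw [h1] at h2
  simp at h2
  exact h2 hxW

theorem comap_subschemeι_eq_bot {I J : S.IdealSheafData} (h : J ≤ I) :
    J.comap I.subschemeι = ⊥ := by
  rw [eq_bot_iff]
  refine (Scheme.IdealSheafData.comap_mono I.subschemeι h).trans ?_
  change (pullback.fst I.subschemeι I.subschemeι).ker ≤ ⊥
  rw [Scheme.Hom.ker_eq_bot_of_isIso]

/-- over the stratum `Z_r ∖ Z_{r+1}` a finite morphism is finite locally free of rank `r + 1`. -/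
theorem isFinLocFreeOfDeg_stratum (r : ℕ) :
    Mor2.IsFinLocFreeOfDeg (r + 1) (pullback.snd π
      (((fitt π r).subschemeι ⁻¹ᵁ (fitt π (r + 1)).support.compl).ι ≫ (fitt π r).subschemeι)) := by
  have H := IsPullback.of_hasPullback π
    (((fitt π r).subschemeι ⁻¹ᵁ (fitt π (r + 1)).support.compl).ι ≫ (fitt π r).subschemeι)
  apply isFinLocFreeOfDeg_of_fitt
  · intro k hk
    rw [← fitt_comap H k, Scheme.IdealSheafData.comap_comp,
      comap_subschemeι_eq_bot (fitt_mono π (by omega)), Scheme.IdealSheafData.comap_bot]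
  · rw [← fitt_comap H (r + 1), ← Scheme.IdealSheafData.support_eq_bot_iff,
      Scheme.IdealSheafData.support_comap]
    ext x
    simp only [Closeds.coe_preimage, Set.mem_preimage, SetLike.mem_coe, Closeds.coe_bot,
      Set.mem_empty_iff_false, iff_false]
    have hx := x.2
    exact hx

end Groth.Agent.H49.FittFinite
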