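import Groth.Agent.H49.FittStrat
import Groth.Agent.H40.GQ.Orbit

/-!
# The invariant open `W` on which the rank of a finite groupoid is locally constant along orbits
(helper49)
-/

set_option autoImplicit false
set_option linter.style.haveILetI false

universe u

open CategoryTheory CategoryTheory.Limits AlgebraicGeometry TopologicalSpace

namespace Groth.Agent.H49.FittThick

open Groth.Agent.H40.GQ Groth.Agent.H49.FittFinite

variable {S : Scheme.{u}} (G : Grpd.GroupoidScheme S) [IsFinite G.s]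

/-- the closed set `Z_n`. -/
noncomputable abbrev Zs (n : ℕ) : Closeds G.U := (fitt G.s n).support

theorem mem_Zs_iff (n : ℕ) (r : G.R) : G.s r ∈ Zs G n ↔ G.t r ∈ Zs G n := by
  have h := congrArg (fun I : G.R.IdealSheafData => (I.support : Set G.R))
    (fitt_comap_s_eq_t G n)
  simp only [Scheme.IdealSheafData.support_comap] at h
  exact Set.ext_iff.mp h r

theorem Zs_zero : (Zs G 0 : Set G.U) = Set.univ := by
  rw [Zs, fitt_zero_of_section G.s G.e G.e_s, Scheme.IdealSheafData.support_bot]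
  rfl

theorem Zs_anti {n m : ℕ} (h : n ≤ m) : (Zs G m : Set G.U) ⊆ Zs G n :=
  Scheme.IdealSheafData.support_antitone (fitt_mono G.s h)

theorem isInv_compl_Zs (n : ℕ) : IsInv G (Zs G n).compl := by
  rw [isInv_iff]
  intro r
  exact not_congr (mem_Zs_iff G n r)

/-- the interior of `Z_n`. -/
def intZ (n : ℕ) : G.U.Opens :=
  ⟨(closure ((Zs G n : Set G.U)ᶜ))ᶜ, isClosed_closure.isOpen_compl⟩

theorem intZ_le (n : ℕ) : (intZ G n : Set G.U) ⊆ Zs G n := by
  intro x hx
  by_contra h
  exact hx (subset_closure h)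

/-- the `n`-th piece of `W`. -/
noncomputable def Wn (n : ℕ) : G.U.Opens := (Zs G (n + 1)).compl ⊓ core G (intZ G n)

theorem isInv_Wn (n : ℕ) : IsInv G (Wn G n) :=
  (isInv_compl_Zs G (n + 1)).inf (isInv_core _)

theorem Wn_subset_Zs (n : ℕ) : (Wn G n : Set G.U) ⊆ Zs G n := fun _ hx =>
  intZ_le G n (core_le _ hx.2)

theorem Wn_subset_compl (n : ℕ) : (Wn G n : Set G.U) ⊆ (Zs G (n + 1) : Set G.U)ᶜ := fun _ hx =>
  hx.1

theorem disjoint_Wn : Pairwise (Function.onFun Disjoint (Wn G)) := by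
  have key : ∀ n m, n < m → Disjoint (Wn G n) (Wn G m) := by
    intro n m hnm
    rw [disjoint_iff, eq_bot_iff]
    intro x hx
    exact Wn_subset_compl G n hx.1 (Zs_anti G (by omega) (Wn_subset_Zs G m hx.2))
  intro n m hnm
  rcases lt_or_gt_of_ne hnm with h | h
  · exact key n m h
  · exact (key m n h).symm

/-- the invariant open `W`. -/
noncomputable def W : G.U.Opens := ⨆ n, Wn G n

theorem isInv_W : IsInv G (W G) := by
  rw [isInv_iff]
  intro r
  simp only [W, Opens.mem_iSup]
  exact exists_congr fun n => isInv_iff.mp (isInv_Wn G n) r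

/-- the saturation of the closure of `W`. -/
def Tinf : Set G.U := {u | ∃ y ∈ closure (W G : Set G.U), Orb G y u}

theorem Tinf_eq : Tinf G = G.t '' (G.s ⁻¹' closure (W G : Set G.U)) := by
  ext u
  constructor
  · rintro ⟨y, hy, r, rfl, rfl⟩
    exact ⟨r, hy, rfl⟩
  · rintro ⟨r, hr, rfl⟩
    exact ⟨G.s r, hr, r, rfl, rfl⟩

theorem isClosed_Tinf [IsFinite G.t] : IsClosed (Tinf G) := by
  rw [Tinf_eq]
  exact G.t.isClosedMap _ (isClosed_closure.preimage G.s.continuous)

theorem Tinf_of_orb {u v : G.U} (hu : u ∈ Tinf G) (h : Orb G u v) : v ∈ Tinf G := by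
  obtain ⟨y, hy, hyu⟩ := hu
  exact ⟨y, hy, hyu.trans h⟩

theorem W_subset_Tinf : (W G : Set G.U) ⊆ Tinf G := fun x hx =>
  ⟨x, subset_closure hx, orb_refl G x⟩

theorem compl_Zs_subset_Tinf [IsFinite G.t] (n : ℕ) : (Zs G n : Set G.U)ᶜ ⊆ Tinf G := by
  induction n with
  | zero =>
    rw [Zs_zero]
    simp
  | succ n ih =>
    intro u hu
    by_cases h1 : u ∈ (Zs G n : Set G.U)
    · by_cases h2 : u ∈ core G (intZ G n)
      · exact W_subset_Tinf G (Opens.mem_iSup.mpr ⟨n, hu, h2⟩)
      · rw [mem_core] at h2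
        push Not at h2
        obtain ⟨y, hy, hy'⟩ := h2
        have h3 : y ∈ closure ((Zs G n : Set G.U)ᶜ) := by
          by_contra h; exact hy' h
        have h4 : y ∈ Tinf G := (isClosed_Tinf G).closure_subset_iff.mpr ih h3
        exact Tinf_of_orb G h4 hy.symm
    · exact ih h1

theorem univ_subset_Tinf [IsFinite G.t] (u : G.U) : u ∈ Tinf G := by
  have h := iInter_support_fitt G.s
  have hu : u ∉ ⋂ r, ((fitt G.s r).support : Set G.U) := by rw [h]; exact fun h => h
  rw [Set.mem_iInter] at hu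
  push Not at hu
  obtain ⟨n, hn⟩ := hu
  exact compl_Zs_subset_Tinf G n hn

/-- **`U = t(s⁻¹(closure W))`.** -/
theorem exists_orb_closure_W [IsFinite G.t] (u : G.U) :
    ∃ r : G.R, G.t r = u ∧ G.s r ∈ closure (W G : Set G.U) := by
  obtain ⟨y, hy, r, rfl, rfl⟩ := univ_subset_Tinf G u
  exact ⟨r, rfl, hy⟩

end Groth.Agent.H49.FittThick
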