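import Groth.Agent.H20.ComapMul
import Mathlib.AlgebraicGeometry.Morphisms.QuasiCompact

/-!
# Ideal sheaves and open covers; gluing ideal sheaves along a disjoint open cover (helper49)
-/

set_option autoImplicit false
set_option linter.style.haveILetI false

universe u

open CategoryTheory CategoryTheory.Limits AlgebraicGeometry TopologicalSpace

namespace Groth.Agent.H49.IdealGlue

variable {X Y : Scheme.{u}}

/-- the ideal of the restriction of an ideal sheaf to an open. -/
theorem ideal_comap_ι (I : Y.IdealSheafData) (V : Y.Opens) (A : V.toScheme.affineOpens) :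
    (I.comap V.ι).ideal A = I.ideal ⟨V.ι ''ᵁ A.1, A.2.image_of_isOpenImmersion V.ι⟩ := by
  rw [Scheme.IdealSheafData.ideal_comap_of_isOpenImmersion, Scheme.Opens.ι_appIso]
  exact Ideal.comap_id _

/-- restrictions to an open agree iff the ideals on the affine opens inside agree. -/
theorem comap_ι_eq_of_forall {I J : Y.IdealSheafData} (V : Y.Opens)
    (h : ∀ A : Y.affineOpens, A.1 ≤ V → I.ideal A = J.ideal A) :
    I.comap V.ι = J.comap V.ι := by
  apply Scheme.IdealSheafData.ext
  funext A
  rw [ideal_comap_ι, ideal_comap_ι]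
  refine h _ ?_
  have h1 := Scheme.Hom.image_le_opensRange V.ι A.1
  rwa [Scheme.Opens.opensRange_ι] at h1

/-- two ideal sheaves agreeing on the members of an open cover agree. -/
theorem ext_of_comap_ι {ι : Type*} (O : ι → Y.Opens) (hO : ⨆ i, O i = ⊤)
    {I J : Y.IdealSheafData} (H : ∀ i, I.comap (O i).ι = J.comap (O i).ι) : I = J := by
  let κ : Type u := {A : Y.affineOpens // ∃ i, A.1 ≤ O i}
  refine Groth.Agent.H20.idealSheaf_ext_of_comap_ι (ι := κ) (fun A => A.1) ?_ I J ?_
  · rw [eq_top_iff]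
    intro x _
    have hx : x ∈ ⨆ i, O i := by rw [hO]; trivial
    obtain ⟨i, hi⟩ := Opens.mem_iSup.mp hx
    obtain ⟨_, ⟨A, hA, rfl⟩, hxA, hAO⟩ := Y.isBasis_affineOpens.exists_subset_of_mem_open
      hi (O i).2
    exact Opens.mem_iSup.mpr ⟨⟨⟨A, hA⟩, i, hAO⟩, hxA⟩
  · rintro ⟨A, i, hA⟩
    have h1 : A.1.ι = Y.homOfLE hA ≫ (O i).ι := (Scheme.homOfLE_ι Y hA).symm
    change I.comap A.1.ι = J.comap A.1.ι
    rw [h1, Scheme.IdealSheafData.comap_comp, Scheme.IdealSheafData.comap_comp, H i]

/-- if two ideal sheaves agree on an open `V`, their pullbacks along any morphism landing in `V`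
agree. -/
theorem comap_eq_of_range_subset {I J : Y.IdealSheafData} (V : Y.Opens)
    (h : I.comap V.ι = J.comap V.ι) (f : X ⟶ Y) (hf : Set.range f ⊆ V) :
    I.comap f = J.comap f := by
  have hf' : Set.range f ⊆ Set.range V.ι := by
    rw [Scheme.Opens.range_ι]; exact hf
  have h1 : f = IsOpenImmersion.lift V.ι f hf' ≫ V.ι := (IsOpenImmersion.lift_fac _ _ _).symm
  rw [h1, Scheme.IdealSheafData.comap_comp, Scheme.IdealSheafData.comap_comp, h]

section glue

variable (V : ℕ → Y.Opens) (J : ℕ → Y.IdealSheafData)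

/-- the union of the other members of the family. -/
def others (m : ℕ) : Y.Opens := ⨆ k : {k : ℕ // k ≠ m}, V k.1

theorem le_others {m k : ℕ} (hk : k ≠ m) : V k ≤ others V m :=
  le_iSup (fun k : {k : ℕ // k ≠ m} => V k.1) ⟨k, hk⟩

theorem disjoint_others (hd : Pairwise (Function.onFun Disjoint V)) (m : ℕ) :
    Disjoint (V m) (others V m) := by
  rw [others, disjoint_iSup_iff]
  intro k
  exact hd k.2.symm

theorem coe_others (hd : Pairwise (Function.onFun Disjoint V)) (hV : ⨆ n, V n = ⊤) (m : ℕ) :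
    ((others V m : Y.Opens) : Set Y) = ((V m : Y.Opens) : Set Y)ᶜ := by
  ext x
  constructor
  · intro hx hx'
    have h := (disjoint_others V hd m).le_bot
    exact h (show x ∈ V m ⊓ others V m from ⟨hx', hx⟩)
  · intro hx
    have hx' : x ∈ ⨆ n, V n := by rw [hV]; trivial
    obtain ⟨k, hk⟩ := Opens.mem_iSup.mp hx'
    have hkm : k ≠ m := by
      rintro rfl
      exact hx hk
    exact le_others V hkm hk

theorem isClosedImmersion_others_ι (hd : Pairwise (Function.onFun Disjoint V))
    (hV : ⨆ n, V n = ⊤) (m : ℕ) : IsClosedImmersion (others V m).ι := by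
  apply IsClosedImmersion.of_isPreimmersion
  rw [Scheme.Opens.range_ι, coe_others V hd hV]
  exact (V m).2.isClosed_compl

/-- the ideal sheaf which is `⊤` on `V m` and `⊥` on the other members. -/
noncomputable def N (m : ℕ) : Y.IdealSheafData := (others V m).ι.ker

theorem N_ideal_eq_bot {m k : ℕ} (hk : k ≠ m) (A : Y.affineOpens) (hA : A.1 ≤ V k) :
    (N V m).ideal A = ⊥ := by
  rw [eq_bot_iff]
  refine (Scheme.Hom.ideal_ker_le _ A).trans ?_
  rw [Scheme.Opens.ι_app]
  have e : (others V m).ι ''ᵁ (others V m).ι ⁻¹ᵁ A.1 = A.1 := by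
    rw [Scheme.Hom.image_preimage_eq_opensRange_inf, Scheme.Opens.opensRange_ι]
    exact inf_eq_right.mpr (hA.trans (le_others V hk))
  have h1 : (homOfLE (x := (others V m).ι ''ᵁ (others V m).ι ⁻¹ᵁ A.1) (y := A.1)
      (Set.image_preimage_subset _ _)) = eqToHom e := Subsingleton.elim _ _
  rw [h1]
  have h2 : Function.Injective (Y.presheaf.map (eqToHom e).op).hom :=
    (ConcreteCategory.bijective_of_isIso (Y.presheaf.map (eqToHom e).op)).1
  exact le_of_eq ((RingHom.injective_iff_ker_eq_bot _).mp h2)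

theorem N_ideal_eq_top (hd : Pairwise (Function.onFun Disjoint V)) (hV : ⨆ n, V n = ⊤) {m : ℕ}
    (A : Y.affineOpens) (hA : A.1 ≤ V m) : (N V m).ideal A = ⊤ := by
  haveI := isClosedImmersion_others_ι V hd hV m
  rw [N, Scheme.Hom.ker_apply]
  have e : (others V m).ι ⁻¹ᵁ A.1 = ⊥ := by
    rw [eq_bot_iff]
    intro x hx
    have h := (disjoint_others V hd m).le_bot
    exact h (show x.1 ∈ V m ⊓ others V m from ⟨hA hx, x.2⟩)
  rw [eq_top_iff]
  intro a _
  rw [RingHom.mem_ker]
  have : Subsingleton Γ((others V m).toScheme, (others V m).ι ⁻¹ᵁ A.1) := by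
    rw [e]; infer_instance
  exact Subsingleton.elim _ _

/-- the ideal sheaf which is `J n` on `V n`. -/
noncomputable def glue : Y.IdealSheafData := ⨆ m, J m ⊓ N V m

theorem glue_ideal (hd : Pairwise (Function.onFun Disjoint V)) (hV : ⨆ n, V n = ⊤) (n : ℕ)
    (A : Y.affineOpens) (hA : A.1 ≤ V n) : (glue V J).ideal A = (J n).ideal A := by
  rw [glue, Scheme.IdealSheafData.ideal_iSup, iSup_apply]
  apply le_antisymm
  · refine iSup_le fun m => ?_
    rw [Scheme.IdealSheafData.ideal_inf, Pi.inf_apply]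
    by_cases hm : m = n
    · subst hm; exact inf_le_left
    · rw [N_ideal_eq_bot V (Ne.symm hm) A hA]
      exact inf_le_right.trans bot_le
  · refine le_trans ?_ (le_iSup _ n)
    rw [Scheme.IdealSheafData.ideal_inf, Pi.inf_apply, N_ideal_eq_top V hd hV A hA]
    exact le_inf le_rfl le_top

/-- **gluing ideal sheaves along a disjoint open cover.** -/
theorem glue_comap (hd : Pairwise (Function.onFun Disjoint V)) (hV : ⨆ n, V n = ⊤) (n : ℕ) :
    (glue V J).comap (V n).ι = (J n).comap (V n).ι :=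
  comap_ι_eq_of_forall (V n) fun A hA => glue_ideal V J hd hV n A hA

end glue

end Groth.Agent.H49.IdealGlue
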