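import Groth.Agent.H49.FittThick
import Groth.Agent.H49.IdealGlue
import Groth.Agent.H90.GrpdRank

/-!
# The invariant thickening `W' ⊆ W` of a finite groupoid (helper49)
-/

set_option autoImplicit false
set_option linter.style.haveILetI false

universe u

open CategoryTheory CategoryTheory.Limits AlgebraicGeometry TopologicalSpace

namespace Groth.Agent.H49.FittThick

open Groth.Agent.H40.GQ Groth.Agent.H49.FittFinite Groth.Agent.H49.IdealGlue

section general

variable {X Y : Scheme.{u}}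

theorem isPullback_resLE (f : X ⟶ Y) (W : Y.Opens) (O : X.Opens) (h : O = f ⁻¹ᵁ W) :
    IsPullback O.ι (f.resLE W O h.le) f W.ι := by
  subst h
  rw [Scheme.Hom.resLE_eq_morphismRestrict]
  exact (isPullback_morphismRestrict f W).flip

theorem exists_isPullback_of_ideal (f : X ⟶ Y) (W : Y.Opens) (O : X.Opens) (hf : O = f ⁻¹ᵁ W)
    (K : W.toScheme.IdealSheafData) (I : O.toScheme.IdealSheafData)
    (hI : I = K.comap (f.resLE W O hf.le)) :
    ∃ b : I.subscheme ⟶ K.subscheme, IsPullback (I.subschemeι ≫ O.ι) b f (K.subschemeι ≫ W.ι) := by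
  subst hI
  refine ⟨(K.comapIso (f.resLE W O hf.le)).hom ≫ pullback.snd _ _, ?_⟩
  have h1 : IsPullback (K.comap (f.resLE W O hf.le)).subschemeι
      ((K.comapIso (f.resLE W O hf.le)).hom ≫ pullback.snd _ _) (f.resLE W O hf.le)
      K.subschemeι := by
    refine IsPullback.of_iso_pullback ⟨?_⟩ (K.comapIso (f.resLE W O hf.le))
      (Scheme.IdealSheafData.comapIso_hom_fst _ _) rfl
    rw [Category.assoc, ← pullback.condition, ← Category.assoc,
      Scheme.IdealSheafData.comapIso_hom_fst]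
  exact (h1.flip.paste_vert (isPullback_resLE f W O hf).flip).flip

theorem exists_iso_of_isPullback {P X Y Z : Scheme.{u}} {a : P ⟶ X} {b b' : P ⟶ Z} {f g : X ⟶ Y}
    {i : Z ⟶ Y} (H : IsPullback a b f i) (H' : IsPullback a b' g i) :
    ∃ φ : pullback f i ≅ pullback g i, φ.hom ≫ pullback.fst g i = pullback.fst f i :=
  ⟨H.isoPullback.symm ≪≫ H'.isoPullback, by simp⟩

/-- invariance of a locally closed subscheme, from the equality of the pulled back ideals. -/
theorem exists_iso_of_comap_resLE_eq (f g : X ⟶ Y) (W : Y.Opens) (O : X.Opens)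
    (hf : O = f ⁻¹ᵁ W) (hg : O = g ⁻¹ᵁ W) (K : W.toScheme.IdealSheafData)
    (hK : K.comap (f.resLE W O hf.le) = K.comap (g.resLE W O hg.le)) :
    ∃ φ : pullback f (K.subschemeι ≫ W.ι) ≅ pullback g (K.subschemeι ≫ W.ι),
      φ.hom ≫ pullback.fst g _ = pullback.fst f _ := by
  obtain ⟨b, H⟩ := exists_isPullback_of_ideal f W O hf K _ rfl
  obtain ⟨b', H'⟩ := exists_isPullback_of_ideal g W O hg K _ hK
  exact exists_iso_of_isPullback H H'

/-- a property local on the target can be checked on the base changes to an open cover. -/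
theorem of_forall_pullback_snd_ι {P : MorphismProperty Scheme.{u}} [IsZariskiLocalAtTarget P]
    (f : X ⟶ Y) {ι : Type*} (U : ι → Y.Opens) (hU : iSup U = ⊤)
    (H : ∀ i, P (pullback.snd f (U i).ι)) : P f := by
  refine IsZariskiLocalAtTarget.of_iSup_eq_top U hU fun i => ?_
  have h1 : f ∣_ U i = (pullbackRestrictIsoRestrict f (U i)).inv ≫ pullback.snd f (U i).ι := rfl
  rw [h1]
  exact (MorphismProperty.cancel_left_of_respectsIso P _ _).mpr (H i)

end general

variable {S : Scheme.{u}} (G : Grpd.GroupoidScheme S) [IsFinite G.s]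

/-- the pieces of `W`, as opens of `W`. -/
noncomputable def V (n : ℕ) : (W G).toScheme.Opens := (W G).ι ⁻¹ᵁ (Wn G n)

theorem iSup_V : ⨆ n, V G n = ⊤ := by
  rw [eq_top_iff]
  intro x _
  obtain ⟨n, hn⟩ := Opens.mem_iSup.mp x.2
  exact Opens.mem_iSup.mpr ⟨n, hn⟩

theorem disjoint_V : Pairwise (Function.onFun Disjoint (V G)) := by
  intro n m hnm
  have h := disjoint_Wn G hnm
  change Disjoint (V G n) (V G m)
  rw [disjoint_iff, eq_bot_iff]
  intro x hx
  exact (disjoint_iff.mp h).le (show (W G).ι x ∈ Wn G n ⊓ Wn G m from ⟨hx.1, hx.2⟩)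

/-- the ideal sheaf of the thickening `W' ⊆ W`. -/
noncomputable def K : (W G).toScheme.IdealSheafData :=
  glue (V G) fun n => (fitt G.s n).comap (W G).ι

theorem K_comap (n : ℕ) :
    (K G).comap (V G n).ι = ((fitt G.s n).comap (W G).ι).comap (V G n).ι :=
  glue_comap (V G) _ (disjoint_V G) (iSup_V G) n

theorem K_comap_of_range {T : Scheme.{u}} (f : T ⟶ (W G).toScheme) (n : ℕ)
    (hf : Set.range f ⊆ V G n) : (K G).comap f = (fitt G.s n).comap (f ≫ (W G).ι) := by
  rw [comap_eq_of_range_subset (V G n) (K_comap G n) f hf,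
    ← Scheme.IdealSheafData.comap_comp]

theorem K_support : (K G).support = ⊤ := by
  rw [eq_top_iff]
  intro y _
  obtain ⟨n, hn⟩ := Opens.mem_iSup.mp (show y ∈ ⨆ n, V G n by rw [iSup_V]; trivial)
  have h := congrArg (fun I : (V G n).toScheme.IdealSheafData =>
    (I.support : Set (V G n).toScheme)) (K_comap G n)
  simp only [Scheme.IdealSheafData.support_comap] at h
  have h2 := Set.ext_iff.mp h ⟨y, hn⟩
  refine h2.mpr ?_
  exact Wn_subset_Zs G n hn

/-- the inclusion `W' ⟶ U`. -/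
noncomputable abbrev ι' : (K G).subscheme ⟶ G.U := (K G).subschemeι ≫ (W G).ι

/-- the pieces of `W'`. -/
noncomputable def O (n : ℕ) : (K G).subscheme.Opens := (K G).subschemeι ⁻¹ᵁ (V G n)

theorem iSup_O : ⨆ n, O G n = ⊤ := by
  rw [eq_top_iff]
  intro x _
  obtain ⟨n, hn⟩ := Opens.mem_iSup.mp
    (show (K G).subschemeι x ∈ ⨆ n, V G n by rw [iSup_V]; trivial)
  exact Opens.mem_iSup.mpr ⟨n, hn⟩

theorem range_O (n : ℕ) : Set.range ((O G n).ι ≫ (K G).subschemeι) ⊆ V G n := by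
  rintro _ ⟨x, rfl⟩
  exact x.2

theorem comap_O_eq_bot {k n : ℕ} (hk : k ≤ n) :
    (fitt G.s k).comap ((O G n).ι ≫ ι' G) = ⊥ := by
  rw [eq_bot_iff]
  refine (Scheme.IdealSheafData.comap_mono _ (fitt_mono G.s hk)).trans ?_
  have h1 : (O G n).ι ≫ ι' G = ((O G n).ι ≫ (K G).subschemeι) ≫ (W G).ι := by
    rw [Category.assoc]
  change (fitt G.s n).comap ((O G n).ι ≫ ι' G) ≤ ⊥
  rw [h1, ← K_comap_of_range G _ n (range_O G n), Scheme.IdealSheafData.comap_comp,
    comap_subschemeι_eq_bot le_rfl, Scheme.IdealSheafData.comap_bot]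

theorem comap_O_eq_top (n : ℕ) :
    (fitt G.s (n + 1)).comap ((O G n).ι ≫ ι' G) = ⊤ := by
  rw [← Scheme.IdealSheafData.support_eq_bot_iff, Scheme.IdealSheafData.support_comap]
  ext x
  simp only [Closeds.coe_preimage, Set.mem_preimage, SetLike.mem_coe, Closeds.coe_bot,
    Set.mem_empty_iff_false, iff_false]
  have hx : (K G).subschemeι x.1 ∈ V G n := x.2
  exact Wn_subset_compl G n hx

set_option backward.isDefEq.respectTransparency.types false in
/-- **the restriction to `W'` of a finite morphism with the same Fitting ideals as `s` is finite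
locally free.** -/
theorem isFinLocFree_of_fitt_eq {X : Scheme.{u}} (π : X ⟶ G.U) [IsFinite π]
    (hπ : ∀ k, fitt π k = fitt G.s k) : Mor2.IsFinLocFree (pullback.snd π (ι' G)) := by
  have key : ∀ n, Mor2.IsFinLocFreeOfDeg (n + 1)
      (pullback.snd (pullback.snd π (ι' G)) (O G n).ι) := by
    intro n
    have H1 := IsPullback.of_hasPullback π (ι' G)
    have H2 := IsPullback.of_hasPullback (pullback.snd π (ι' G)) (O G n).ι
    apply isFinLocFreeOfDeg_of_fitt
    · intro k hk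
      rw [← fitt_comap H2 k, ← fitt_comap H1 k, hπ k, ← Scheme.IdealSheafData.comap_comp]
      exact comap_O_eq_bot G (by omega)
    · rw [← fitt_comap H2 (n + 1), ← fitt_comap H1 (n + 1), hπ (n + 1),
        ← Scheme.IdealSheafData.comap_comp]
      exact comap_O_eq_top G n
  refine ⟨inferInstance, ?_, ?_⟩
  · exact of_forall_pullback_snd_ι (P := @Flat) _ (O G) (iSup_O G) fun n => (key n).1.2.1
  · exact of_forall_pullback_snd_ι (P := @LocallyOfFinitePresentation) _ (O G) (iSup_O G)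
      fun n => (key n).1.2.2

theorem fitt_t_eq [IsFinite G.t] (k : ℕ) : fitt G.t k = fitt G.s k := by
  have H : IsPullback G.i G.t G.s (𝟙 G.U) := by
    haveI : IsIso G.i := Groth.Agent.H90.isIso_i G
    exact IsPullback.of_horiz_isIso ⟨by rw [G.i_s, Category.comp_id]⟩
  rw [← fitt_comap H k, Scheme.IdealSheafData.comap_id]

section inv

variable [IsFinite G.t]

omit [IsFinite G.t] in
theorem sW_le : G.s ⁻¹ᵁ W G ≤ G.t ⁻¹ᵁ W G := (isInv_W G).le

omit [IsFinite G.t] in
/-- the ideal of `W'` is invariant. -/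
theorem K_comap_s_eq_t :
    (K G).comap (G.s.resLE (W G) (G.s ⁻¹ᵁ W G) le_rfl) =
      (K G).comap (G.t.resLE (W G) (G.s ⁻¹ᵁ W G) (sW_le G)) := by
  let Q : ℕ → (G.s ⁻¹ᵁ W G).toScheme.Opens := fun n =>
    (G.s.resLE (W G) (G.s ⁻¹ᵁ W G) le_rfl) ⁻¹ᵁ (V G n)
  have hQ : ⨆ n, Q n = ⊤ := by
    rw [eq_top_iff]
    intro x _
    obtain ⟨n, hn⟩ := Opens.mem_iSup.mp
      (show (G.s.resLE (W G) (G.s ⁻¹ᵁ W G) le_rfl) x ∈ ⨆ n, V G n by rw [iSup_V]; trivial)
    exact Opens.mem_iSup.mpr ⟨n, hn⟩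
  refine ext_of_comap_ι Q hQ fun n => ?_
  have hs : Set.range ((Q n).ι ≫ G.s.resLE (W G) (G.s ⁻¹ᵁ W G) le_rfl) ⊆ V G n := by
    rintro _ ⟨x, rfl⟩
    exact x.2
  have ht : Set.range ((Q n).ι ≫ G.t.resLE (W G) (G.s ⁻¹ᵁ W G) (sW_le G)) ⊆ V G n := by
    rintro _ ⟨x, rfl⟩
    have hx : (G.s.resLE (W G) (G.s ⁻¹ᵁ W G) le_rfl) x.1 ∈ V G n := x.2
    have h1 : G.s x.1.1 ∈ Wn G n := by
      have := Scheme.Hom.coe_resLE_apply G.s (U := W G) (V := G.s ⁻¹ᵁ W G) le_rfl x.1
      change ((G.s.resLE (W G) (G.s ⁻¹ᵁ W G) le_rfl) x.1).1 ∈ Wn G n at hx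
      rwa [this] at hx
    have h2 : G.t x.1.1 ∈ Wn G n := (isInv_iff.mp (isInv_Wn G n) x.1.1).mp h1
    have := Scheme.Hom.coe_resLE_apply G.t (U := W G) (V := G.s ⁻¹ᵁ W G) (sW_le G) x.1
    change ((G.t.resLE (W G) (G.s ⁻¹ᵁ W G) (sW_le G)) x.1).1 ∈ Wn G n
    rwa [this]
  rw [← Scheme.IdealSheafData.comap_comp, ← Scheme.IdealSheafData.comap_comp,
    K_comap_of_range G _ n hs, K_comap_of_range G _ n ht, Category.assoc, Category.assoc,
    Scheme.Hom.resLE_comp_ι, Scheme.Hom.resLE_comp_ι, ← Category.assoc, ← Category.assoc,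
    Scheme.IdealSheafData.comap_comp, Scheme.IdealSheafData.comap_comp (f := _) (g := G.t),
    fitt_comap_s_eq_t G n]

/-- **`W'` is invariant.** -/
theorem exists_iso_ι' :
    ∃ φ : pullback G.s (ι' G) ≅ pullback G.t (ι' G),
      φ.hom ≫ pullback.fst G.t (ι' G) = pullback.fst G.s (ι' G) :=
  exists_iso_of_comap_resLE_eq G.s G.t (W G) (G.s ⁻¹ᵁ W G) rfl (isInv_W G) (K G)
    (K_comap_s_eq_t G)

end inv

end Groth.Agent.H49.FittThick
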