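import Groth.Agent.H70.FlatAss.Separated
import Groth.Agent.H25.NormFlat
import Mathlib

/-!
# Flatness from flatness over all infinitesimal neighbourhoods (helper49)

Ring-level: `A₀ → B₀` Noetherian, `I₀ ⊆ A₀`, `q` a prime of `B₀` containing `I₀ B₀`.  If for all `n`
the pushout of `B₀` along `A₀ → A₀/I₀^(n+1)` (in any model) is flat over the quotient, then `(B₀)_q`
is flat over `A₀`.
-/

set_option autoImplicit false
universe u

open TensorProduct

namespace Groth.Agent.H49.FlatInf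

theorem isHausdorff_of_linearEquiv {R M N : Type*} [CommRing R] [AddCommGroup M] [Module R M]
    [AddCommGroup N] [Module R N] (I : Ideal R) (e : M ≃ₗ[R] N) [hN : IsHausdorff I N] :
    IsHausdorff I M := by
  refine ⟨fun x hx => ?_⟩
  apply e.injective
  rw [map_zero]
  apply IsHausdorff.haus hN (e x)
  intro n
  have h1 := hx n
  rw [SModEq.zero] at h1 ⊢
  have h2 : e x ∈ Submodule.map e.toLinearMap (I ^ n • ⊤ : Submodule R M) := ⟨x, h1, rfl⟩
  rwa [Submodule.map_smul'', Submodule.map_top, LinearEquiv.range] at h2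

variable {A₀ B₀ : Type u} [CommRing A₀] [CommRing B₀] [Algebra A₀ B₀]

/-- Ideal separatedness of a localization at a prime containing `I₀ B₀`. -/
theorem isHausdorff_tensor_atPrime [IsNoetherianRing B₀] [IsNoetherianRing A₀] (I₀ : Ideal A₀)
    (q : Ideal B₀) [q.IsPrime] (hIq : I₀.map (algebraMap A₀ B₀) ≤ q) (J : Ideal A₀) :
    IsHausdorff I₀ (↥J ⊗[A₀] Localization.AtPrime q) := by
  have h1 : IsHausdorff (IsLocalRing.maximalIdeal (Localization.AtPrime q))
      (Localization.AtPrime q ⊗[A₀] J) := inferInstance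
  have hle : I₀.map (algebraMap A₀ (Localization.AtPrime q)) ≤
      IsLocalRing.maximalIdeal (Localization.AtPrime q) := by
    rw [IsScalarTower.algebraMap_eq A₀ B₀ (Localization.AtPrime q), ← Ideal.map_map]
    refine (Ideal.map_mono hIq).trans ?_
    rw [Localization.AtPrime.map_eq_maximalIdeal]
  have h2 : IsHausdorff I₀ (Localization.AtPrime q ⊗[A₀] J) := IsHausdorff.of_map hle
  exact isHausdorff_of_linearEquiv I₀ (TensorProduct.comm A₀ J (Localization.AtPrime q))

/-- **Flatness from flatness over all infinitesimal neighbourhoods** (ring form, any models of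
the quotients and pushouts). -/
theorem flat_atPrime_of_flat_pushouts [IsNoetherianRing A₀] [IsNoetherianRing B₀] (I₀ : Ideal A₀)
    (q : Ideal B₀) [q.IsPrime] (hIq : I₀.map (algebraMap A₀ B₀) ≤ q)
    (H : ∀ n : ℕ, ∃ (Q T : Type u) (_ : CommRing Q) (_ : CommRing T) (_ : Algebra A₀ Q)
      (_ : Algebra Q T) (_ : Algebra B₀ T) (_ : Algebra A₀ T) (_ : IsScalarTower A₀ Q T)
      (_ : IsScalarTower A₀ B₀ T), Function.Surjective (algebraMap A₀ Q) ∧
      RingHom.ker (algebraMap A₀ Q) = I₀ ^ (n + 1) ∧ Algebra.IsPushout A₀ B₀ Q T ∧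
      Module.Flat Q T) :
    Module.Flat A₀ (Localization.AtPrime q) := by
  refine Groth.Agent.H70.FlatAss.flat_of_flat_quotient_pow_of_isHausdorff I₀
    (fun J => isHausdorff_tensor_atPrime I₀ q hIq J) ?_
  intro n hn
  obtain ⟨m, rfl⟩ : ∃ m, n = m + 1 := ⟨n - 1, by omega⟩
  obtain ⟨Q, T, _, _, _, _, _, _, _, _, hsurj, hker, hpo, hflat⟩ := H m
  have hker' : RingHom.ker (Algebra.ofId A₀ Q) = I₀ ^ (m + 1) := hker
  let σ : Q ≃ₐ[A₀] A₀ ⧸ I₀ ^ (m + 1) :=
    (Ideal.quotientKerAlgEquivOfSurjective (f := Algebra.ofId A₀ Q) hsurj).symm.trans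
      (Ideal.quotientEquivAlgOfEq A₀ hker')
  have hf1 : Module.Flat T (T ⊗[B₀] Localization.AtPrime q) := inferInstance
  have hf2 : Module.Flat Q (T ⊗[B₀] Localization.AtPrime q) :=
    Module.Flat.trans Q T (T ⊗[B₀] Localization.AtPrime q)
  let e1 : T ⊗[B₀] Localization.AtPrime q ≃ₗ[B₀] Localization.AtPrime q ⊗[B₀] T :=
    TensorProduct.comm B₀ T (Localization.AtPrime q)
  let e2 : Localization.AtPrime q ⊗[B₀] T ≃ₗ[B₀] Localization.AtPrime q ⊗[B₀] (B₀ ⊗[A₀] Q) :=
    LinearEquiv.lTensor (Localization.AtPrime q)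
      (Algebra.IsPushout.equiv A₀ B₀ Q T).symm.toLinearEquiv
  let e3 : Localization.AtPrime q ⊗[B₀] (B₀ ⊗[A₀] Q) ≃ₗ[Localization.AtPrime q]
      Localization.AtPrime q ⊗[A₀] Q :=
    AlgebraTensorModule.cancelBaseChange A₀ B₀ (Localization.AtPrime q) (Localization.AtPrime q) Q
  let e4 : Localization.AtPrime q ⊗[A₀] Q ≃ₗ[A₀] Q ⊗[A₀] Localization.AtPrime q :=
    TensorProduct.comm A₀ (Localization.AtPrime q) Q
  let e5 : Q ⊗[A₀] Localization.AtPrime q ≃ₗ[A₀]
      (A₀ ⧸ I₀ ^ (m + 1)) ⊗[A₀] Localization.AtPrime q :=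
    TensorProduct.congr σ.toLinearEquiv (LinearEquiv.refl A₀ (Localization.AtPrime q))
  let e : T ⊗[B₀] Localization.AtPrime q ≃ₗ[A₀]
      (A₀ ⧸ I₀ ^ (m + 1)) ⊗[A₀] Localization.AtPrime q :=
    (e1.restrictScalars A₀).trans ((e2.restrictScalars A₀).trans
      ((e3.restrictScalars A₀).trans (e4.trans e5)))
  exact Groth.Agent.H25.NormFlat.flat_of_algEquiv_of_linearEquiv hsurj σ e hf2

end Groth.Agent.H49.FlatInf
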