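import Groth.Prelude.Def_Coh
import Groth.Prelude.Def_CohB1
import Groth.Agent.H49.ModuleModel
import Groth.Agent.S9827
import Groth.Agent.H44.FPSections
import Groth.Agent.H44.PullbackTilde
import Groth.Agent.H44.PullbackAffine
import Groth.Agent.H17.QFLocus

set_option autoImplicit false
universe u
open CategoryTheory Limits AlgebraicGeometry TensorProduct Opposite

/-!
# Noetherian approximation of a finitely presented morphism of affine schemes together with a
finitely presented quasi-coherent module (helper49)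
-/

namespace Groth.Agent.H49.ModuleModelScheme

open Groth.Agent.H44 Groth.Agent.H17

theorem main {X S : Scheme.{u}} (f : X ⟶ S) [IsAffine X] [IsAffine S]
    [LocallyOfFinitePresentation f]
    (F : X.Modules) [Coh.IsQCoh F] (hF : CohB1.IsFP F) :
    ∃ (X₀ S₀ : Scheme.{u}) (f₀ : X₀ ⟶ S₀) (g : S ⟶ S₀) (g' : X ⟶ X₀), IsAffine X₀ ∧ IsAffine S₀ ∧
      IsPullback g' f f₀ g ∧
      Algebra.FiniteType ℤ Γ(S₀, ⊤) ∧ LocallyOfFiniteType f₀ ∧
      ∃ F₀ : X₀.Modules, Coh.IsCoh F₀ ∧ Nonempty ((Scheme.Modules.pullback g').obj F₀ ≅ F) := by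
  have hφ : f.appTop.hom.FinitePresentation :=
    (HasRingHomProperty.iff_of_isAffine (P := @LocallyOfFinitePresentation)).mp inferInstance
  let A : CommRingCat.{u} := Γ(S, ⊤)
  let B : CommRingCat.{u} := Γ(X, ⊤)
  let φ : A ⟶ B := f.appTop
  algebraize [φ.hom]
  have hV := isAffineOpen_top X
  let N : (Spec B).Modules := F.restrict hV.fromSpec
  haveI hNq : N.IsQuasicoherent := inferInstance
  haveI hNiso : IsIso N.fromTildeΓ := Scheme.Modules.isIso_fromTildeΓ_of_isQuasicoherent N
  let M : ModuleCat.{u} B := gammaSpec N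
  haveI : SheafOfModules.IsFinitePresentation (R := X.ringCatSheaf) F := hF
  haveI hMfp : Module.FinitePresentation B M :=
    haveI := finitePresentation_sections_of_isFinitePresentation F hV
    Module.FinitePresentation.of_equiv (sectionsSpecEquiv F hV).symm
  obtain ⟨A₀, B₀, _, _, e, M₀, _, _, hfg, hfp, hfin, hM₀⟩ :=
    Groth.Agent.H49.ModuleModel.exists_model A B M
  have hft : Algebra.FiniteType ℤ A₀ := (Subalgebra.fg_iff_finiteType A₀).mp hfg
  have hN : IsNoetherianRing A₀ := Algebra.FiniteType.isNoetherianRing ℤ A₀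
  have hN' : IsNoetherianRing B₀ := Algebra.FiniteType.isNoetherianRing A₀ B₀
  let βr : B₀ →+* B := (e.symm.toRingEquiv.toRingHom).comp
      Algebra.TensorProduct.includeRight.toRingHom
  let β : CommRingCat.of B₀ ⟶ B := CommRingCat.ofHom βr
  have hpo : IsPushout (CommRingCat.ofHom (algebraMap A₀ A)) (CommRingCat.ofHom (algebraMap A₀ B₀))
      φ β := by
    refine (CommRingCat.isPushout_tensorProduct A₀ A B₀).of_iso (Iso.refl _) (Iso.refl _)
      (Iso.refl _) e.symm.toRingEquiv.toCommRingCatIso (by simp) (by simp) ?_ ?_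
    · ext a
      simp
      have h1 : (a ⊗ₜ[↥A₀] (1 : B₀)) = algebraMap A (A ⊗[↥A₀] B₀) a := rfl
      rw [h1, AlgEquiv.commutes]
      rfl
    · ext b
      simp [β, βr]
  have hpb : IsPullback (Spec.map β) (Spec.map φ) (Spec.map (CommRingCat.ofHom (algebraMap A₀ B₀)))
      (Spec.map (CommRingCat.ofHom (algebraMap A₀ A))) :=
    (isPullback_SpecMap_of_isPushout _ _ _ _ hpo).flip
  let g' : X ⟶ Spec (.of B₀) := X.isoSpec.hom ≫ Spec.map β
  let g : S ⟶ Spec (.of A₀) := S.isoSpec.hom ≫ Spec.map (CommRingCat.ofHom (algebraMap A₀ A))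
  have hsq : IsPullback X.isoSpec.hom f (Spec.map φ) S.isoSpec.hom :=
    IsPullback.of_horiz_isIso ⟨Scheme.isoSpec_hom_naturality f⟩
  have hpb' : IsPullback g' f (Spec.map (CommRingCat.ofHom (algebraMap A₀ B₀))) g :=
    hsq.paste_horiz hpb
  refine ⟨Spec (.of B₀), Spec (.of A₀), Spec.map (CommRingCat.ofHom (algebraMap A₀ B₀)), g, g',
    inferInstance, inferInstance, hpb', ?_, ?_, ?_⟩
  · exact Algebra.FiniteType.equiv hft
      ((Scheme.ΓSpecIso (.of A₀)).symm.commRingCatIsoToRingEquiv.toIntAlgEquiv)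
  · rw [HasRingHomProperty.Spec_iff (P := @LocallyOfFiniteType)]
    exact RingHom.FiniteType.of_finitePresentation (RingHom.finitePresentation_algebraMap.mpr hfp)
  · refine ⟨tilde (ModuleCat.of B₀ M₀), ⟨inferInstance, ?_⟩, ?_⟩
    · haveI : Module.FinitePresentation B₀ M₀ := Module.finitePresentation_of_finite B₀ M₀
      haveI h1 : SheafOfModules.IsFinitePresentation (R := (Spec (.of B₀)).ringCatSheaf)
          (tilde (ModuleCat.of B₀ M₀)) :=
        (Groth.Agent.S9827.result (.of B₀) (ModuleCat.of B₀ M₀)).mpr inferInstance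
      exact SheafOfModules.instIsFiniteTypeOfIsFinitePresentation.{u, u, u}
        (R := (Spec (.of B₀)).ringCatSheaf) (tilde (ModuleCat.of B₀ M₀))
    · letI : Algebra B₀ B := βr.toAlgebra
      obtain ⟨eM⟩ := hM₀
      refine ⟨?_⟩
      exact (Scheme.Modules.pullbackComp X.isoSpec.hom (Spec.map β)).symm.app _ ≪≫
        (Scheme.Modules.pullback X.isoSpec.hom).mapIso
          (pullbackTildeIsoTensor B₀ B M₀ ≪≫ (tilde.functor B).mapIso eM.toModuleIso ≪≫
            (@asIso _ _ _ _ N.fromTildeΓ hNiso) ≪≫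
            (Scheme.Modules.restrictFunctorIsoPullback hV.fromSpec).app F) ≪≫
        (Scheme.Modules.pullbackComp X.isoSpec.hom hV.fromSpec).app F ≪≫
        (Scheme.Modules.pullbackCongr (by simp [IsAffineOpen.fromSpec_top])).app F ≪≫
        (Scheme.Modules.pullbackId X).app F

end Groth.Agent.H49.ModuleModelScheme
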