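import Groth.Prelude.Def_Coh
import Groth.Prelude.Def_CohB1
import Groth.Prelude.Def_FlatMod2
import Groth.Agent.H49.ModuleModelScheme
import Groth.Agent.H47.IntModel
import Groth.Agent.H71.QCoh.FlatOverAffine

set_option autoImplicit false
set_option linter.style.haveILetI false
universe u
open CategoryTheory Limits AlgebraicGeometry TensorProduct Opposite

/-!
# Noetherian approximation of a finitely presented morphism of affine schemes together with a
finitely presented quasi-coherent module FLAT over the base (helper49)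

Scheme-level translation of helper47's `H47.IntModel.main` (Stacks 00R6), parametric in the
statement of S4848.
-/

namespace Groth.Agent.H49.FlatModuleApprox

open Groth.Agent.H44 Groth.Agent.H17

set_option maxHeartbeats 800000 in
theorem main (H : Groth.Agent.H47.IntModel.Descent4848.{u}) {X S : Scheme.{u}} (f : X ⟶ S)
    [IsAffine X] [IsAffine S] [LocallyOfFinitePresentation f]
    (F : X.Modules) [Coh.IsQCoh F] (hF : CohB1.IsFP F) (hfl : FlatMod.IsFlatOver f F) :
    ∃ (X₀ S₀ : Scheme.{u}) (f₀ : X₀ ⟶ S₀) (g : S ⟶ S₀) (g' : X ⟶ X₀), IsAffine X₀ ∧ IsAffine S₀ ∧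
      IsPullback g' f f₀ g ∧
      Algebra.FiniteType ℤ Γ(S₀, ⊤) ∧ LocallyOfFiniteType f₀ ∧
      ∃ F₀ : X₀.Modules, Coh.IsCoh F₀ ∧ FlatMod.IsFlatOver f₀ F₀ ∧
        Nonempty ((Scheme.Modules.pullback g').obj F₀ ≅ F) := by
  have hφ : f.appTop.hom.FinitePresentation :=
    (HasRingHomProperty.iff_of_isAffine (P := @LocallyOfFinitePresentation)).mp inferInstance
  let A : CommRingCat.{u} := Γ(S, ⊤)
  let B : CommRingCat.{u} := Γ(X, ⊤)
  let φ : A ⟶ B := f.appTop
  algebraize [φ.hom]
  have hV := isAffineOpen_top X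
  let N : (Spec B).Modules := F.restrict hV.fromSpec
  haveI hNq : N.IsQuasicoherent := inferInstance
  haveI hNiso : IsIso N.fromTildeΓ := Scheme.Modules.isIso_fromTildeΓ_of_isQuasicoherent N
  let M : ModuleCat.{u} B := gammaSpec N
  haveI : SheafOfModules.IsFinitePresentation (R := X.ringCatSheaf) F := hF
  haveI hMfp : Module.FinitePresentation B M :=
    haveI := finitePresentation_sections_of_isFinitePresentation F hV
    Module.FinitePresentation.of_equiv (sectionsSpecEquiv F hV).symm
  -- the `A`-module structure on `M` and its flatness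
  letI modAM : Module A M := Module.compHom M (algebraMap A B)
  haveI towerM : IsScalarTower A B M := IsScalarTower.of_algebraMap_smul fun _ _ => rfl
  have happ : f.appLE ⊤ ⊤ le_top = f.appTop := by
    simp only [Scheme.Hom.appLE, Scheme.Hom.appTop]
    exact (congrArg (fun t => _ ≫ t) (X.presheaf.map_id _)).trans (Category.comp_id _)
  haveI hMflat : Module.Flat A M := by
    have h1 := (Groth.Agent.H71.QCoh.isFlatOver_iff_flat_top f F hV (isAffineOpen_top S)).mp hfl
    letI : Module Γ(S, ⊤) Γ(F, ⊤) := Module.compHom _ (f.appLE ⊤ ⊤ le_top).hom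
    let e : M ≃ₗ[A] Γ(F, ⊤) :=
      { (sectionsSpecEquiv F hV) with
        map_smul' := fun a m => by
          have h2 : (a • m : M) = (algebraMap A B a) • m := rfl
          simp only [AddHom.toFun_eq_coe, LinearMap.coe_toAddHom, LinearEquiv.coe_coe,
            RingHom.id_apply]
          rw [h2, (sectionsSpecEquiv F hV).map_smul]
          have h3 : ∀ (y : Γ(F, ⊤)), a • y = ((f.appLE ⊤ ⊤ le_top).hom a) • y := fun y => rfl
          rw [h3, happ]
          rfl }
    exact Module.Flat.of_linearEquiv e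
  obtain ⟨R₀, _, _, S₀, _, _, _, _, _, _, M₀, _, _, _, _, _, _, f₀, hft, hftS, hfin, hflat, hpo,
    hbc⟩ := Groth.Agent.H47.IntModel.main H A B M
  have hN : IsNoetherianRing R₀ := Algebra.FiniteType.isNoetherianRing ℤ R₀
  have hN' : IsNoetherianRing S₀ := Algebra.FiniteType.isNoetherianRing R₀ S₀
  let β : CommRingCat.of S₀ ⟶ B := CommRingCat.ofHom (algebraMap S₀ B)
  have hpo' : IsPushout (CommRingCat.ofHom (algebraMap R₀ A))
      (CommRingCat.ofHom (algebraMap R₀ S₀)) φ β :=
    CommRingCat.isPushout_iff_isPushout.mpr hpo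
  have hpb : IsPullback (Spec.map β) (Spec.map φ) (Spec.map (CommRingCat.ofHom (algebraMap R₀ S₀)))
      (Spec.map (CommRingCat.ofHom (algebraMap R₀ A))) :=
    (isPullback_SpecMap_of_isPushout _ _ _ _ hpo').flip
  let g' : X ⟶ Spec (.of S₀) := X.isoSpec.hom ≫ Spec.map β
  let g : S ⟶ Spec (.of R₀) := S.isoSpec.hom ≫ Spec.map (CommRingCat.ofHom (algebraMap R₀ A))
  have hsq : IsPullback X.isoSpec.hom f (Spec.map φ) S.isoSpec.hom :=
    IsPullback.of_horiz_isIso ⟨Scheme.isoSpec_hom_naturality f⟩
  have hpb' : IsPullback g' f (Spec.map (CommRingCat.ofHom (algebraMap R₀ S₀))) g :=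
    hsq.paste_horiz hpb
  refine ⟨Spec (.of S₀), Spec (.of R₀), Spec.map (CommRingCat.ofHom (algebraMap R₀ S₀)), g, g',
    inferInstance, inferInstance, hpb', ?_, ?_, ?_⟩
  · exact Algebra.FiniteType.equiv hft
      ((Scheme.ΓSpecIso (.of R₀)).symm.commRingCatIsoToRingEquiv.toIntAlgEquiv)
  · rw [HasRingHomProperty.Spec_iff (P := @LocallyOfFiniteType)]
    exact RingHom.finiteType_algebraMap.mpr hftS
  · refine ⟨tilde (ModuleCat.of S₀ M₀), ⟨inferInstance, ?_⟩, ?_, ?_⟩
    · haveI : Module.FinitePresentation S₀ M₀ := Module.finitePresentation_of_finite S₀ M₀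
      haveI h1 : SheafOfModules.IsFinitePresentation (R := (Spec (.of S₀)).ringCatSheaf)
          (tilde (ModuleCat.of S₀ M₀)) :=
        (Groth.Agent.S9827.result (.of S₀) (ModuleCat.of S₀ M₀)).mpr inferInstance
      exact SheafOfModules.instIsFiniteTypeOfIsFinitePresentation.{u, u, u}
        (R := (Spec (.of S₀)).ringCatSheaf) (tilde (ModuleCat.of S₀ M₀))
    · exact (Groth.Agent.H71.QCoh.isFlatOver_tilde_iff R₀ S₀ M₀).mpr hflat
    · refine ⟨?_⟩
      exact (Scheme.Modules.pullbackComp X.isoSpec.hom (Spec.map β)).symm.app _ ≪≫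
        (Scheme.Modules.pullback X.isoSpec.hom).mapIso
          (pullbackTildeIsoTensor S₀ B M₀ ≪≫ (tilde.functor B).mapIso hbc.equiv.toModuleIso ≪≫
            (@asIso _ _ _ _ N.fromTildeΓ hNiso) ≪≫
            (Scheme.Modules.restrictFunctorIsoPullback hV.fromSpec).app F) ≪≫
        (Scheme.Modules.pullbackComp X.isoSpec.hom hV.fromSpec).app F ≪≫
        (Scheme.Modules.pullbackCongr (by simp [IsAffineOpen.fromSpec_top])).app F ≪≫
        (Scheme.Modules.pullbackId X).app F

end Groth.Agent.H49.FlatModuleApprox
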