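import Groth.Agent.H53.SchemeLemmas
import Mathlib.AlgebraicGeometry.Sites.Fpqc
import Mathlib.AlgebraicGeometry.Cover.QuasiCompact
import Mathlib.AlgebraicGeometry.PullbackCarrier
import Mathlib.Topology.LocalAtTarget

set_option autoImplicit false
universe u
open CategoryTheory CategoryTheory.Limits AlgebraicGeometry Opposite

namespace Groth.Agent.H49

/-- A subset of a coproduct of schemes is open as soon as its preimages in the summands are. -/
theorem isOpen_sigma_of_preimage {σ : Type*} [Small.{u} σ] (X : σ → Scheme.{u}) (B : Set ↥(∐ X))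
    (h : ∀ k, IsOpen ((Sigma.ι X k) ⁻¹' B)) : IsOpen B := by
  have : B = ⋃ k, (Sigma.ι X k) '' ((Sigma.ι X k) ⁻¹' B) := by
    ext x
    simp only [Set.mem_iUnion, Set.mem_image, Set.mem_preimage]
    constructor
    · intro hx
      obtain ⟨k, y, rfl⟩ := (sigmaOpenCover X).exists_eq x
      exact ⟨k, y, hx, rfl⟩
    · rintro ⟨k, y, hy, rfl⟩
      exact hy
  rw [this]
  exact isOpen_iUnion fun k => (Sigma.ι X k).isOpenEmbedding.isOpenMap _ (h k)

/-- fpqc coverings are submersive: a subset of the base is open as soon as all its preimages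
are. -/
theorem isOpen_of_fpqc_family {ι : Type u} {T : Scheme.{u}} {Ti : ι → Scheme.{u}}
    (f : ∀ i, Ti i ⟶ T) [QuasiCompactCover (PreZeroHypercover.mk ι Ti f)]
    (hflat : ∀ i, Flat (f i)) (A : Set T) (hA : ∀ i, IsOpen ((f i) ⁻¹' A)) : IsOpen A := by
  have hcov : TopologicalSpace.IsOpenCover (fun U : T.affineOpens => (U : T.Opens)) :=
    TopologicalSpace.IsOpenCover.mk (iSup_affineOpens_eq_top T)
  rw [hcov.isOpen_iff_coe_preimage]
  intro U
  obtain ⟨n, a, V, hVaff, hVU⟩ :=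
    QuasiCompactCover.exists_isAffineOpen_of_isCompact (PreZeroHypercover.mk ι Ti f) U.2.isCompact
  have hVU' : ∀ k (v : ↥(V k)), f (a k) v.1 ∈ (U.1 : Set T) := by
    intro k v
    rw [← hVU]
    exact Set.mem_iUnion.2 ⟨k, v.1, v.2, rfl⟩
  have hrange : ∀ k, Set.range ((V k).ι ≫ f (a k)) ⊆ Set.range U.1.ι := by
    rintro k _ ⟨v, rfl⟩
    rw [Scheme.Opens.range_ι]
    exact hVU' k v
  let c : ∀ k, (V k).toScheme ⟶ U.1.toScheme := fun k => IsOpenImmersion.lift U.1.ι ((V k).ι ≫ f (a k)) (hrange k)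
  have hc : ∀ k, c k ≫ U.1.ι = (V k).ι ≫ f (a k) := fun k => IsOpenImmersion.lift_fac _ _ _
  have : ∀ k, IsAffine (V k).toScheme := hVaff
  have : IsAffine U.1.toScheme := U.2
  have : ∀ k, Flat (c k) := fun k =>
    MorphismProperty.of_postcomp (W := @Flat) (W' := @IsOpenImmersion) (c k) U.1.ι inferInstance
      (by rw [hc]; have := hflat (a k); infer_instance)
  have hs : ∀ z : U.1.toScheme, ∃ k, z ∈ Set.range (c k) := by
    intro z
    have hz : z.1 ∈ ⋃ i, f (a i) '' (V i : Set (Ti (a i))) := by rw [hVU]; exact z.2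
    obtain ⟨k, v, hv, hvz⟩ := Set.mem_iUnion.1 hz
    refine ⟨k, ⟨v, hv⟩, ?_⟩
    apply U.1.ι.injective
    rw [← Scheme.Hom.comp_apply, hc]
    exact hvz
  have hfpqc := Groth.Agent.H53.sigmaDesc_fpqc (fun k => (V k).toScheme) c hs
  have : Surjective (Sigma.desc c) := hfpqc.1.1
  have : Flat (Sigma.desc c) := hfpqc.1.2
  have : QuasiCompact (Sigma.desc c) := hfpqc.2
  have hq := Flat.isQuotientMap_of_surjective (Sigma.desc c)
  have key : IsOpen (U.1.ι ⁻¹' A) := by
    rw [← hq.isOpen_preimage]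
    apply isOpen_sigma_of_preimage
    intro k
    have : (Sigma.ι (fun k => (V k).toScheme) k) ⁻¹' ((Sigma.desc c) ⁻¹' (U.1.ι ⁻¹' A)) =
        (V k).ι ⁻¹' ((f (a k)) ⁻¹' A) := by
      ext v
      simp only [Set.mem_preimage]
      rw [← Scheme.Hom.comp_apply, ← Scheme.Hom.comp_apply, Sigma.ι_desc_assoc, hc,
        Scheme.Hom.comp_apply]
    rw [this]
    exact (hA (a k)).preimage (V k).ι.continuous
  exact key

end Groth.Agent.H49
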