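import Groth.Agent.H49.AlgSpCoprod2
import Mathlib.AlgebraicGeometry.ResidueField
import Mathlib.AlgebraicGeometry.Morphisms.Etale

/-!
# Free actions of abstract groups on schemes give étale equivalence relations
-/

set_option autoImplicit false
universe u
open CategoryTheory CategoryTheory.Limits AlgebraicGeometry Opposite

namespace Groth.Agent.H49

open AlgSp

/-- `Spec` of a homomorphism of fields is an epimorphism of schemes. -/
theorem epi_SpecMap_of_field {K L : Type u} [Field K] [Field L] (φ : K →+* L) :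
    Epi (Spec.map (CommRingCat.ofHom φ)) := by
  have h1 : Flat (Spec.map (CommRingCat.ofHom φ)) := by
    rw [HasRingHomProperty.Spec_iff (P := @Flat)]
    change φ.Flat
    algebraize [φ]
    exact (inferInstance : Module.Flat K L)
  have h2 : Surjective (Spec.map (CommRingCat.ofHom φ)) := by
    refine ⟨fun z => ⟨⟨⊥, Ideal.isPrime_bot⟩, ?_⟩⟩
    exact Subsingleton.elim (α := PrimeSpectrum K) _ _
  exact Flat.epi_of_flat_of_surjective _

/-- A morphism to `U` which is fixed by an endomorphism moving all residue field points has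
empty source. -/
theorem isEmpty_of_comp_eq_self {Y U : Scheme.{u}} (v : Y ⟶ U) (σ : U ⟶ U) (h : v ≫ σ = v)
    (hfree : ∀ x : U, U.fromSpecResidueField x ≫ σ ≠ U.fromSpecResidueField x) : IsEmpty Y := by
  refine ⟨fun y => hfree (v y) ?_⟩
  have := epi_SpecMap_of_field (v.residueFieldMap y).hom
  rw [CommRingCat.ofHom_hom] at this
  rw [← cancel_epi (Spec.map (v.residueFieldMap y)),
    Scheme.Hom.SpecMap_residueFieldMap_fromSpecResidueField_assoc,
    Scheme.Hom.SpecMap_residueFieldMap_fromSpecResidueField, h]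

section FreeAction

variable {S : Scheme.{u}} {U : Over S} {G : Type u} [Group G] (ρ : G →* Aut U)

theorem rho_mul_hom (g h : G) : (ρ (g * h)).hom = (ρ h).hom ≫ (ρ g).hom := by
  rw [map_mul]
  rfl

theorem rho_one_hom : (ρ 1).hom = 𝟙 U := by
  rw [map_one]
  rfl

theorem rho_inv_hom (g : G) : (ρ g⁻¹).hom = (ρ g).inv := by
  rw [map_inv]
  rfl

variable (hfree : ∀ (g : G) (x : U.left), g ≠ 1 →
  U.left.fromSpecResidueField x ≫ (ρ g).hom.left ≠ U.left.fromSpecResidueField x)
include hfree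

theorem isEmpty_of_comp_rho_eq {Y : Over S} (v : Y ⟶ U) {g h : G} (hgh : g ≠ h)
    (e : v ≫ (ρ g).hom = v ≫ (ρ h).hom) : IsEmpty Y.left := by
  have hk : h⁻¹ * g ≠ 1 := by
    intro hk
    apply hgh
    have := congrArg (fun z => h * z) hk
    simpa using this
  have e' : v ≫ (ρ (h⁻¹ * g)).hom = v := by
    rw [rho_mul_hom, rho_inv_hom, reassoc_of% e, Iso.hom_inv_id, Category.comp_id]
  refine isEmpty_of_comp_eq_self v.left (ρ (h⁻¹ * g)).hom.left ?_ (fun x => hfree _ x hk)
  exact congrArg CommaMorphism.left e'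

variable {c : Cofan (fun _ : G => U)} (hc : IsColimit c) {s t : c.pt ⟶ U}
  (hs : ∀ g, c.inj g ≫ s = 𝟙 U) (ht : ∀ g, c.inj g ≫ t = (ρ g).hom)
include hc hs ht

theorem free_injective (T : Over S) (r r' : T ⟶ c.pt) (h1 : r ≫ t = r' ≫ t)
    (h2 : r ≫ s = r' ≫ s) : r = r' := by
  have hsep : Presieve.IsSeparated (J S) ((yon S).obj c.pt).obj :=
    ((isSheaf_iff_isSheaf_of_type _ _).1 ((yon S).obj c.pt).property).isSeparated
  have key := (hsep _ ((J S).intersection_covering (factorSieve_mem hc r)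
    (factorSieve_mem hc r'))).ext (t₁ := ⟨r⟩) (t₂ := ⟨r'⟩) ?_
  · exact congrArg ULift.down key
  rintro Y f ⟨⟨g, y, hy⟩, ⟨h, y', hy'⟩⟩
  refine ULift.ext _ _ ?_
  change f ≫ r = f ≫ r'
  have e1 : y = y' := by
    have := congrArg (fun k => k ≫ s) hy
    have h' := congrArg (fun k => k ≫ s) hy'
    simp only [Category.assoc, hs, Category.comp_id] at this h'
    rw [this, h', h2]
  subst e1
  have e2 : y ≫ (ρ g).hom = y ≫ (ρ h).hom := by
    have := congrArg (fun k => k ≫ t) hy
    have h' := congrArg (fun k => k ≫ t) hy'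
    simp only [Category.assoc, ht] at this h'
    rw [this, h', h1]
  by_cases hgh : g = h
  · subst hgh
    rw [← hy, ← hy']
  · have := isEmpty_of_comp_rho_eq ρ hfree y hgh e2
    have hbot := bot_mem_J_of_isEmpty Y
    exact congrArg ULift.down
      (eq_of_bot_mem (A := (yon S).obj c.pt) hbot ⟨f ≫ r⟩ ⟨f ≫ r'⟩)

omit hfree hs ht [Group G] in
/-- A morphism out of a coproduct over `S` is étale as soon as its restrictions to the summands
are. -/
theorem etale_left_of_forall_inj {V : Over S} (k : c.pt ⟶ V)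
    (h : ∀ g, Etale (c.inj g ≫ k).left) : Etale k.left := by
  let 𝒰 : c.pt.left.OpenCover :=
    { I₀ := G
      X := fun _ => U.left
      f := fun g => (c.inj g).left
      mem₀ := by
        rw [Scheme.presieve₀_mem_precoverage_iff]
        exact ⟨fun v => exists_inj_left_eq hc v, isOpenImmersion_inj_left hc⟩ }
  rw [IsZariskiLocalAtSource.iff_of_openCover (P := @Etale) 𝒰]
  intro g
  exact h g

theorem free_equivalence (T : Over S) :
    Equivalence (fun a b : T ⟶ U => ∃ r : T ⟶ c.pt, r ≫ t = a ∧ r ≫ s = b) := by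
  refine ⟨fun a => ⟨a ≫ c.inj 1, ?_, ?_⟩, ?_, ?_⟩
  · rw [Category.assoc, ht, rho_one_hom, Category.comp_id]
  · rw [Category.assoc, hs, Category.comp_id]
  · rintro a b ⟨r, rfl, rfl⟩
    let inv : c.pt ⟶ c.pt := Cofan.IsColimit.desc hc (fun g => (ρ g).hom ≫ c.inj g⁻¹)
    have hinv : ∀ g, c.inj g ≫ inv = (ρ g).hom ≫ c.inj g⁻¹ := fun g =>
      Cofan.IsColimit.fac hc _ g
    have h1 : inv ≫ t = s := by
      refine Cofan.IsColimit.hom_ext hc _ _ fun g => ?_
      rw [reassoc_of% hinv g, ht, hs, ← rho_mul_hom, inv_mul_cancel, rho_one_hom]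
    have h2 : inv ≫ s = t := by
      refine Cofan.IsColimit.hom_ext hc _ _ fun g => ?_
      rw [reassoc_of% hinv g, hs, ht, Category.comp_id]
    exact ⟨r ≫ inv, by rw [Category.assoc, h1], by rw [Category.assoc, h2]⟩
  · rintro a b c' ⟨r₁, rfl, rfl⟩ ⟨r₂, hr₂, rfl⟩
    have hinj : ∀ X : Over S, Function.Injective
        (((yon S).map (prod.lift t s)).hom.app (op X)) := by
      intro X r r' hrr'
      have e : r.down ≫ prod.lift t s = r'.down ≫ prod.lift t s := congrArg ULift.down hrr'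
      have e1 := congrArg (fun k => k ≫ prod.fst) e
      have e2 := congrArg (fun k => k ≫ prod.snd) e
      simp only [Category.assoc, prod.lift_fst, prod.lift_snd] at e1 e2
      exact ULift.ext _ _ (free_injective ρ hfree hc hs ht X _ _ e1 e2)
    have hloc : ∀ ⦃Y : Over S⦄ (f : Y ⟶ T),
        (factorSieve c r₁ ⊓ factorSieve c r₂ : Sieve T) f →
        ∃ y : ((yon S).obj c.pt).obj.obj (op Y), ((yon S).map (prod.lift t s)).hom.app (op Y) y =
          ((yon S).obj (U ⨯ U)).obj.map f.op ⟨prod.lift (r₁ ≫ t) (r₂ ≫ s)⟩ := by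
      rintro Y f ⟨⟨g, y₁, hy₁⟩, ⟨h, y₂, hy₂⟩⟩
      refine ⟨⟨y₂ ≫ c.inj (g * h)⟩, ULift.ext _ _ ?_⟩
      change (y₂ ≫ c.inj (g * h)) ≫ prod.lift t s = f ≫ prod.lift (r₁ ≫ t) (r₂ ≫ s)
      have e1 : f ≫ r₁ ≫ s = y₁ := by
        rw [← Category.assoc, ← hy₁, Category.assoc, hs, Category.comp_id]
      have e2 : f ≫ r₂ ≫ t = y₂ ≫ (ρ h).hom := by
        rw [← Category.assoc, ← hy₂, Category.assoc, ht]
      have e3 : f ≫ r₂ ≫ s = y₂ := by
        rw [← Category.assoc, ← hy₂, Category.assoc, hs, Category.comp_id]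
      have e4 : f ≫ r₁ ≫ t = y₁ ≫ (ρ g).hom := by
        rw [← Category.assoc, ← hy₁, Category.assoc, ht]
      have e5 : y₁ = y₂ ≫ (ρ h).hom := by rw [← e1, ← hr₂, e2]
      apply prod.hom_ext
      · simp only [Category.assoc, prod.lift_fst, prod.comp_lift]
        rw [ht, e4, e5, rho_mul_hom, Category.assoc]
      · simp only [Category.assoc, prod.lift_snd, prod.comp_lift]
        rw [hs, Category.comp_id, e3]
    obtain ⟨r₃, hr₃⟩ := exists_preimage_of_locally ((yon S).map (prod.lift t s)) hinj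
      (X := T) ⟨prod.lift (r₁ ≫ t) (r₂ ≫ s)⟩ _
      ((J S).intersection_covering (factorSieve_mem hc r₁) (factorSieve_mem hc r₂)) hloc
    have e : r₃.down ≫ prod.lift t s = prod.lift (r₁ ≫ t) (r₂ ≫ s) := congrArg ULift.down hr₃
    have e1 := congrArg (fun k => k ≫ prod.fst) e
    have e2 := congrArg (fun k => k ≫ prod.snd) e
    simp only [Category.assoc, prod.lift_fst, prod.lift_snd] at e1 e2
    exact ⟨r₃.down, e1, e2⟩

end FreeAction

end Groth.Agent.H49
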