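import Groth.Agent.H49.FibreDimBC
import Mathlib.RingTheory.Ideal.HasGoingUp
import Mathlib.AlgebraicGeometry.Morphisms.UnderlyingMap
import Mathlib.AlgebraicGeometry.Pullbacks
import Mathlib.RingTheory.TensorProduct.MvPolynomial

/-!
# Generic constancy of the fibre dimension (helper49)
-/

set_option autoImplicit false
universe u

open CategoryTheory CategoryTheory.Limits AlgebraicGeometry Opposite TopologicalSpace

namespace Groth.Agent.H49.GenericFibreDim

section ring

open TensorProduct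

/-- An integral extension which is surjective on spectra preserves the Krull dimension. -/
theorem ringKrullDim_eq_of_isIntegral_of_comap_surjective {R S : Type*} [CommRing R] [CommRing S]
    [Algebra R S] [Algebra.IsIntegral R S]
    (h : Function.Surjective (PrimeSpectrum.comap (algebraMap R S))) :
    ringKrullDim S = ringKrullDim R := by
  refine le_antisymm Groth.Agent.H54.ringKrullDim_le_of_isIntegral ?_
  unfold ringKrullDim
  rw [Order.krullDim]
  apply iSup_le
  intro l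
  obtain ⟨Q, hQ⟩ := h l.head
  have : Q.asIdeal.LiesOver l.head.asIdeal := ⟨by rw [← hQ]; rfl⟩
  obtain ⟨L, hL, -, -⟩ := Ideal.exists_ltSeries_of_hasGoingUp (S := S) l Q.asIdeal
  rw [← hL]
  exact Order.LTSeries.length_le_krullDim L

/-- Surjectivity on spectra is stable under base change. -/
theorem comap_surjective_tensorProduct (R S T : Type u) [CommRing R] [CommRing S] [CommRing T]
    [Algebra R S] [Algebra R T]
    (h : Function.Surjective (PrimeSpectrum.comap (algebraMap R T))) :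
    Function.Surjective (PrimeSpectrum.comap (algebraMap S (S ⊗[R] T))) := by
  have h1 : Surjective (Spec.map (CommRingCat.ofHom (algebraMap R T))) := ⟨h⟩
  have h2 : Surjective (pullback.fst (Spec.map (CommRingCat.ofHom (algebraMap R S)))
      (Spec.map (CommRingCat.ofHom (algebraMap R T)))) := inferInstance
  have h3 : Surjective (Spec.map (CommRingCat.ofHom (algebraMap S (S ⊗[R] T)))) := by
    rw [← pullbackSpecIso_inv_fst' R S T]
    infer_instance
  exact h3.surj

/-- **Stage 1**: a finite injective map from a polynomial ring computes the dimension of all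
fibres. -/
theorem ringKrullDim_tensor_of_normalization {A' B' : Type u} [CommRing A'] [CommRing B']
    [Algebra A' B'] {s : ℕ} (b : Fin s → B')
    (hinj : Function.Injective (MvPolynomial.aeval b : MvPolynomial (Fin s) A' →ₐ[A'] B'))
    (hint : (MvPolynomial.aeval b : MvPolynomial (Fin s) A' →ₐ[A'] B').toRingHom.IsIntegral)
    (Q : Type u) [Field Q] [Algebra A' Q] : ringKrullDim (B' ⊗[A'] Q) = s := by
  let S₀ := MvPolynomial (Fin s) A'
  let ψ : S₀ →ₐ[A'] B' := MvPolynomial.aeval b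
  let _ : Algebra S₀ B' := ψ.toRingHom.toAlgebra
  have : IsScalarTower A' S₀ B' := IsScalarTower.of_algebraMap_eq' ψ.comp_algebraMap.symm
  have : Algebra.IsIntegral S₀ B' := ⟨hint⟩
  have hsurj : Function.Surjective (PrimeSpectrum.comap (algebraMap S₀ B')) :=
    RingHom.IsIntegral.comap_surjective hint hinj
  let R'' := S₀ ⊗[A'] Q
  -- `B' ⊗[A'] Q ≃ B' ⊗[S₀] R'' ≃ R'' ⊗[S₀] B'`
  have e1 : ringKrullDim (B' ⊗[A'] Q) = ringKrullDim (B' ⊗[S₀] R'') :=
    (ringKrullDim_eq_of_ringEquiv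
      (Algebra.TensorProduct.cancelBaseChange A' S₀ S₀ B' Q).toRingEquiv).symm
  have e2 : ringKrullDim (B' ⊗[S₀] R'') = ringKrullDim (R'' ⊗[S₀] B') :=
    ringKrullDim_eq_of_ringEquiv (Algebra.TensorProduct.comm S₀ B' R'').toRingEquiv
  have e3 : ringKrullDim (R'' ⊗[S₀] B') = ringKrullDim R'' :=
    ringKrullDim_eq_of_isIntegral_of_comap_surjective
      (comap_surjective_tensorProduct S₀ R'' B' hsurj)
  have e4 : ringKrullDim R'' = s := by
    rw [ringKrullDim_eq_of_ringEquiv (Algebra.TensorProduct.comm A' S₀ Q).toRingEquiv,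
      ringKrullDim_eq_of_ringEquiv
      (MvPolynomial.algebraTensorAlgEquiv (σ := Fin s) A' Q).toRingEquiv,
      Groth.Agent.H54.ringKrullDim_mvPolynomial_fin_field]
  rw [e1, e2, e3, e4]


variable {A : Type u} [CommRing A] {B : Type u} [CommRing B] [Algebra A B]

theorem exists_smul_eq_one_tmul [IsDomain A] (z : FractionRing A ⊗[A] B) :
    ∃ a : A, a ≠ 0 ∧ ∃ b : B, a • z = (1 : FractionRing A) ⊗ₜ[A] b := by
  induction z using TensorProduct.induction_on with
  | zero => exact ⟨1, one_ne_zero, 0, by simp⟩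
  | tmul k b =>
    obtain ⟨n, d, rfl⟩ := IsLocalization.exists_mk'_eq (nonZeroDivisors A) k
    refine ⟨d, nonZeroDivisors.coe_ne_zero d, n • b, ?_⟩
    rw [smul_tmul', Algebra.smul_def, IsLocalization.mk'_spec', Algebra.algebraMap_eq_smul_one,
      smul_tmul]
  | add z₁ z₂ h₁ h₂ =>
    obtain ⟨a₁, ha₁, b₁, e₁⟩ := h₁
    obtain ⟨a₂, ha₂, b₂, e₂⟩ := h₂
    refine ⟨a₁ * a₂, mul_ne_zero ha₁ ha₂, a₂ • b₁ + a₁ • b₂, ?_⟩
    rw [smul_add, mul_comm a₁ a₂, mul_smul, e₁, mul_comm a₂ a₁, mul_smul, e₂, tmul_add,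
      tmul_smul, tmul_smul]

theorem exists_smul_eq_zero_of_tmul_eq_zero [IsDomain A] (y : B) (h : (1 : FractionRing A) ⊗ₜ[A] y = 0) :
    ∃ e : A, e ≠ 0 ∧ e • y = 0 := by
  have := (IsLocalizedModule.eq_zero_iff (nonZeroDivisors A)
    (TensorProduct.mk A (FractionRing A) B 1) (m := y)).mp h
  obtain ⟨c, hc⟩ := this
  exact ⟨c, nonZeroDivisors.coe_ne_zero c, hc⟩

open MvPolynomial in
theorem exists_normalization_generic [IsDomain A] [Algebra.FiniteType A B]
    [Nontrivial (FractionRing A ⊗[A] B)] :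
    ∃ (s : ℕ) (b : Fin s → B),
      Function.Injective (MvPolynomial.aeval (fun j => (1 : FractionRing A) ⊗ₜ[A] b j) :
        MvPolynomial (Fin s) (FractionRing A) →ₐ[FractionRing A] FractionRing A ⊗[A] B) ∧
      (MvPolynomial.aeval (fun j => (1 : FractionRing A) ⊗ₜ[A] b j) :
        MvPolynomial (Fin s) (FractionRing A) →ₐ[FractionRing A]
          FractionRing A ⊗[A] B).toRingHom.IsIntegral := by
  classical
  let K := FractionRing A
  obtain ⟨s, φ₀, hinj₀, hint₀⟩ := exists_integral_inj_algHom_of_fg K (K ⊗[A] B)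
  choose a ha b hb using fun j : Fin s => exists_smul_eq_one_tmul (φ₀ (X j))
  let a₀ : A := ∏ j, a j
  have ha₀ : a₀ ≠ 0 := Finset.prod_ne_zero_iff.mpr fun j _ => ha j
  have hk : algebraMap A K a₀ ≠ 0 := by
    rwa [Ne, IsFractionRing.to_map_eq_zero_iff]
  let b' : Fin s → B := fun j => (∏ i ∈ Finset.univ.erase j, a i) • b j
  have hb' : ∀ j, a₀ • φ₀ (X j) = (1 : K) ⊗ₜ[A] b' j := by
    intro j
    change (∏ i, a i) • φ₀ (X j) = _
    rw [← Finset.prod_erase_mul Finset.univ a (Finset.mem_univ j), mul_smul, hb, tmul_smul]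
  let σ : MvPolynomial (Fin s) K →ₐ[K] MvPolynomial (Fin s) K :=
    aeval fun j => C (algebraMap A K a₀) * X j
  let σ' : MvPolynomial (Fin s) K →ₐ[K] MvPolynomial (Fin s) K :=
    aeval fun j => C (algebraMap A K a₀)⁻¹ * X j
  have h1 : σ'.comp σ = AlgHom.id K _ := by
    apply MvPolynomial.algHom_ext
    intro j
    simp only [σ, σ', AlgHom.comp_apply, aeval_X, map_mul, aeval_C, AlgHom.id_apply]
    rw [algebraMap_eq, ← mul_assoc, ← C_mul, mul_inv_cancel₀ hk, C_1, one_mul]
  have h2 : σ.comp σ' = AlgHom.id K _ := by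
    apply MvPolynomial.algHom_ext
    intro j
    simp only [σ, σ', AlgHom.comp_apply, aeval_X, map_mul, aeval_C, AlgHom.id_apply]
    rw [algebraMap_eq, ← mul_assoc, ← C_mul, inv_mul_cancel₀ hk, C_1, one_mul]
  have hσinj : Function.Injective σ := fun x y h => by
    have := congrArg σ' h
    rwa [← AlgHom.comp_apply, ← AlgHom.comp_apply, h1] at this
  have hσsurj : Function.Surjective σ := fun y => ⟨σ' y, by
    rw [← AlgHom.comp_apply, h2]; rfl⟩
  have hφ : (aeval (fun j => (1 : K) ⊗ₜ[A] b' j) : MvPolynomial (Fin s) K →ₐ[K] K ⊗[A] B) =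
      φ₀.comp σ := by
    apply MvPolynomial.algHom_ext
    intro j
    simp only [σ, AlgHom.comp_apply, aeval_X, map_mul]
    rw [← hb' j, ← algebraMap_eq, AlgHom.commutes, ← Algebra.smul_def, algebraMap_smul]
  refine ⟨s, b', ?_, ?_⟩
  · rw [hφ]
    exact hinj₀.comp hσinj
  · rw [hφ]
    exact RingHom.IsIntegral.trans σ.toRingHom φ₀.toRingHom
      (RingHom.isIntegral_of_surjective _ hσsurj) hint₀

open MvPolynomial in
theorem exists_smul_isIntegralElem [IsDomain A] {s : ℕ} (b : Fin s → B)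
    (hint : (MvPolynomial.aeval (fun j => (1 : FractionRing A) ⊗ₜ[A] b j) :
        MvPolynomial (Fin s) (FractionRing A) →ₐ[FractionRing A]
          FractionRing A ⊗[A] B).toRingHom.IsIntegral) (x : B) :
    ∃ c : A, c ≠ 0 ∧ (MvPolynomial.aeval b :
      MvPolynomial (Fin s) A →ₐ[A] B).toRingHom.IsIntegralElem (c • x) := by
  classical
  let K := FractionRing A
  let R₀ := MvPolynomial (Fin s) A
  let RK := MvPolynomial (Fin s) K
  let BK := K ⊗[A] B
  let φ : RK →ₐ[K] BK := aeval fun j => (1 : K) ⊗ₜ[A] b j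
  let ψ : R₀ →ₐ[A] B := aeval b
  letI : Algebra R₀ RK := MvPolynomial.algebraMvPolynomial
  letI : Algebra RK BK := φ.toRingHom.toAlgebra
  letI : Algebra R₀ B := ψ.toRingHom.toAlgebra
  letI : Algebra B BK := Algebra.TensorProduct.rightAlgebra
  letI : Algebra R₀ BK := ((algebraMap B BK).comp (algebraMap R₀ B)).toAlgebra
  haveI : IsScalarTower R₀ B BK := .of_algebraMap_eq fun _ => rfl
  have hcomp : (algebraMap R₀ BK) = (algebraMap RK BK).comp (algebraMap R₀ RK) := by
    apply MvPolynomial.ringHom_ext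
    · intro a
      change (1 : K) ⊗ₜ[A] (ψ (C a)) = φ (MvPolynomial.map (algebraMap A K) (C a))
      rw [MvPolynomial.map_C, MvPolynomial.aeval_C, MvPolynomial.aeval_C,
        Algebra.TensorProduct.algebraMap_apply, Algebra.algebraMap_self, RingHom.id_apply,
        Algebra.algebraMap_eq_smul_one a,
        Algebra.algebraMap_eq_smul_one (R := A) (A := K) a, smul_tmul]
    · intro j
      change (1 : K) ⊗ₜ[A] (ψ (X j)) = φ (MvPolynomial.map (algebraMap A K) (X j))
      rw [MvPolynomial.map_X, MvPolynomial.aeval_X, MvPolynomial.aeval_X]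
  haveI : IsScalarTower R₀ RK BK := .of_algebraMap_eq' hcomp
  let M : Submonoid R₀ := (nonZeroDivisors A).map (C : A →+* R₀)
  haveI : IsLocalization M RK := MvPolynomial.isLocalization (nonZeroDivisors A) K
  obtain ⟨⟨m, hm⟩, hmi⟩ := IsIntegral.exists_multiple_integral_of_isLocalization
    (Rₘ := RK) M ((1 : K) ⊗ₜ[A] x) (hint _)
  obtain ⟨c, hc, rfl⟩ := hm
  have h1 : IsIntegral R₀ (algebraMap B BK (c • x)) := by
    have h_eq : (⟨C c, ⟨c, hc, rfl⟩⟩ : M) • ((1 : K) ⊗ₜ[A] x) = algebraMap B BK (c • x) := by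
      rw [Submonoid.smul_def, Algebra.smul_def]
      change ((1 : K) ⊗ₜ[A] ψ (C c)) * ((1 : K) ⊗ₜ[A] x) = (1 : K) ⊗ₜ[A] (c • x)
      rw [Algebra.TensorProduct.tmul_mul_tmul, one_mul, MvPolynomial.aeval_C, Algebra.smul_def]
    rw [← h_eq]
    exact hmi
  haveI : IsLocalization (Algebra.algebraMapSubmonoid B M) BK := by
    have : Algebra.algebraMapSubmonoid B M =
        Algebra.algebraMapSubmonoid B (nonZeroDivisors A) := by
      ext y
      simp only [Algebra.algebraMapSubmonoid, M, Submonoid.mem_map]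
      constructor
      · rintro ⟨_, ⟨a, ha, rfl⟩, rfl⟩
        refine ⟨a, ha, ?_⟩
        change _ = ψ (C a)
        rw [MvPolynomial.aeval_C]
      · rintro ⟨a, ha, rfl⟩
        refine ⟨C a, ⟨a, ha, rfl⟩, ?_⟩
        change ψ (C a) = _
        rw [MvPolynomial.aeval_C]
    rw [this]
    exact IsLocalization.tensorRight K (nonZeroDivisors A)
  obtain ⟨m', hm', hmi'⟩ :=
    IsLocalization.exists_isIntegral_smul_of_isIntegral_map (Sₘ := BK) M h1
  obtain ⟨e, he, rfl⟩ := hm'
  refine ⟨e * c, mul_ne_zero (nonZeroDivisors.ne_zero he) (nonZeroDivisors.ne_zero hc), ?_⟩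
  have h2 : (C e : R₀) • (c • x) = (e * c) • x := by
    rw [Algebra.smul_def]
    change ψ (C e) * _ = _
    rw [MvPolynomial.aeval_C, ← Algebra.smul_def, mul_smul]
  rw [h2] at hmi'
  exact hmi'

open MvPolynomial in
theorem normalization_baseChange {s : ℕ} (b : Fin s → B)
    (hinj : Function.Injective (MvPolynomial.aeval b : MvPolynomial (Fin s) A →ₐ[A] B))
    (t : Finset B) (ht : Algebra.adjoin A (t : Set B) = ⊤) (c : B → A)
    (hc : ∀ x ∈ t, (MvPolynomial.aeval b :
      MvPolynomial (Fin s) A →ₐ[A] B).toRingHom.IsIntegralElem (c x • x))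
    (A' : Type u) [CommRing A'] [Algebra A A'] [Module.Flat A A']
    (hu : ∀ x ∈ t, IsUnit (algebraMap A A' (c x))) :
    Function.Injective (MvPolynomial.aeval (fun j => (1 : A') ⊗ₜ[A] b j) :
        MvPolynomial (Fin s) A' →ₐ[A'] A' ⊗[A] B) ∧
      (MvPolynomial.aeval (fun j => (1 : A') ⊗ₜ[A] b j) :
        MvPolynomial (Fin s) A' →ₐ[A'] A' ⊗[A] B).toRingHom.IsIntegral := by
  classical
  let R₀ := MvPolynomial (Fin s) A
  let R' := MvPolynomial (Fin s) A'
  let B' := A' ⊗[A] B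
  let ψ : R₀ →ₐ[A] B := aeval b
  let ψ' : R' →ₐ[A'] B' := aeval fun j => (1 : A') ⊗ₜ[A] b j
  let e : A' ⊗[A] R₀ ≃ₐ[A'] R' := MvPolynomial.algebraTensorAlgEquiv A A'
  have hcomp : ψ'.comp e.toAlgHom = Algebra.TensorProduct.map (AlgHom.id A' A') ψ := by
    apply Algebra.TensorProduct.ext (by ext)
    apply MvPolynomial.algHom_ext
    intro j
    change ψ' (e ((1 : A') ⊗ₜ[A] X j)) = Algebra.TensorProduct.map (AlgHom.id A' A') ψ (1 ⊗ₜ[A] X j)
    rw [MvPolynomial.algebraTensorAlgEquiv_tmul, one_smul, MvPolynomial.map_X,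
      MvPolynomial.aeval_X, Algebra.TensorProduct.map_tmul, MvPolynomial.aeval_X]
    rfl
  constructor
  · have h1 : Function.Injective (Algebra.TensorProduct.map (AlgHom.id A' A') ψ) :=
      Module.Flat.lTensor_preserves_injective_linearMap (M := A') ψ.toLinearMap hinj
    rw [← hcomp] at h1
    intro x y hxy
    obtain ⟨x, rfl⟩ := e.surjective x
    obtain ⟨y, rfl⟩ := e.surjective y
    exact congrArg e (h1 hxy)
  · -- ring hom identity
    let μ : R₀ →+* R' := MvPolynomial.map (algebraMap A A')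
    let incR : B →+* B' := Algebra.TensorProduct.includeRight.toRingHom
    have hμ : incR.comp ψ.toRingHom = ψ'.toRingHom.comp μ := by
      apply MvPolynomial.ringHom_ext
      · intro a
        change (1 : A') ⊗ₜ[A] ψ (C a) = ψ' (MvPolynomial.map (algebraMap A A') (C a))
        rw [MvPolynomial.map_C, MvPolynomial.aeval_C, MvPolynomial.aeval_C,
          Algebra.TensorProduct.algebraMap_apply, Algebra.algebraMap_self, RingHom.id_apply,
          Algebra.algebraMap_eq_smul_one a,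
          Algebra.algebraMap_eq_smul_one (R := A) (A := A') a, smul_tmul]
      · intro j
        change (1 : A') ⊗ₜ[A] ψ (X j) = ψ' (MvPolynomial.map (algebraMap A A') (X j))
        rw [MvPolynomial.map_X, MvPolynomial.aeval_X, MvPolynomial.aeval_X]
    have hA' : ∀ a' : A', ψ'.toRingHom.IsIntegralElem (algebraMap A' B' a') := by
      intro a'
      have : algebraMap A' B' a' = ψ'.toRingHom (C a') := by
        change _ = ψ' (C a')
        rw [MvPolynomial.aeval_C]
      rw [this]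
      exact RingHom.isIntegralElem_map _
    have h1 : ∀ x : B, ψ'.toRingHom.IsIntegralElem ((1 : A') ⊗ₜ[A] x) := by
      intro x
      have hx : x ∈ Algebra.adjoin A (t : Set B) := by rw [ht]; trivial
      induction hx using Algebra.adjoin_induction with
      | mem x hx =>
        have h2 : ψ'.toRingHom.IsIntegralElem ((1 : A') ⊗ₜ[A] (c x • x)) := by
          have := (hc x hx).map incR
          rw [hμ] at this
          exact this.of_comp
        obtain ⟨u, hu'⟩ := hu x hx
        have h3 : (1 : A') ⊗ₜ[A] x = algebraMap A' B' (↑u⁻¹ : A') * (1 : A') ⊗ₜ[A] (c x • x) := by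
          rw [Algebra.TensorProduct.algebraMap_apply, Algebra.algebraMap_self, RingHom.id_apply,
            Algebra.TensorProduct.tmul_mul_tmul, mul_one, one_mul, ← smul_tmul, Algebra.smul_def,
            ← hu', Units.mul_inv]
        rw [h3]
        exact (hA' _).mul _ h2
      | algebraMap a =>
        have : (1 : A') ⊗ₜ[A] (algebraMap A B a) = algebraMap A' B' (algebraMap A A' a) := by
          rw [Algebra.TensorProduct.algebraMap_apply, Algebra.algebraMap_self, RingHom.id_apply,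
            Algebra.algebraMap_eq_smul_one a,
            Algebra.algebraMap_eq_smul_one (R := A) (A := A') a, smul_tmul]
        rw [this]
        exact hA' _
      | add x y _ _ hx hy =>
        rw [tmul_add]
        exact hx.add _ hy
      | mul x y _ _ hx hy =>
        have : (1 : A') ⊗ₜ[A] (x * y) = ((1 : A') ⊗ₜ[A] x) * ((1 : A') ⊗ₜ[A] y) := by
          rw [Algebra.TensorProduct.tmul_mul_tmul, one_mul]
        rw [this]
        exact hx.mul _ hy
    intro z
    induction z using TensorProduct.induction_on with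
    | zero => exact RingHom.isIntegralElem_zero _
    | tmul a' x =>
      have : a' ⊗ₜ[A] x = algebraMap A' B' a' * ((1 : A') ⊗ₜ[A] x) := by
        rw [Algebra.TensorProduct.algebraMap_apply, Algebra.algebraMap_self, RingHom.id_apply,
          Algebra.TensorProduct.tmul_mul_tmul, mul_one, one_mul]
      rw [this]
      exact (hA' _).mul _ (h1 x)
    | add z₁ z₂ h₁ h₂ => exact h₁.add _ h₂

open MvPolynomial in
theorem includeRight_comp_aeval {s : ℕ} (b : Fin s → B) (A' : Type u) [CommRing A']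
    [Algebra A A'] (p : MvPolynomial (Fin s) A) :
    (1 : A') ⊗ₜ[A] (MvPolynomial.aeval b p) =
      MvPolynomial.aeval (fun j => (1 : A') ⊗ₜ[A] b j)
        (MvPolynomial.map (algebraMap A A') p) := by
  have : (Algebra.TensorProduct.includeRight.toRingHom : B →+* A' ⊗[A] B).comp
      (MvPolynomial.aeval b : MvPolynomial (Fin s) A →ₐ[A] B).toRingHom =
      (MvPolynomial.aeval (fun j => (1 : A') ⊗ₜ[A] b j) :
        MvPolynomial (Fin s) A' →ₐ[A'] A' ⊗[A] B).toRingHom.comp
        (MvPolynomial.map (algebraMap A A')) := by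
    apply MvPolynomial.ringHom_ext
    · intro a
      change (1 : A') ⊗ₜ[A] (MvPolynomial.aeval b (C a)) =
        MvPolynomial.aeval (fun j => (1 : A') ⊗ₜ[A] b j)
          (MvPolynomial.map (algebraMap A A') (C a))
      rw [MvPolynomial.map_C, MvPolynomial.aeval_C, MvPolynomial.aeval_C,
        Algebra.TensorProduct.algebraMap_apply, Algebra.algebraMap_self, RingHom.id_apply,
        Algebra.algebraMap_eq_smul_one a,
        Algebra.algebraMap_eq_smul_one (R := A) (A := A') a, smul_tmul]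
    · intro j
      change (1 : A') ⊗ₜ[A] (MvPolynomial.aeval b (X j)) =
        MvPolynomial.aeval (fun j => (1 : A') ⊗ₜ[A] b j)
          (MvPolynomial.map (algebraMap A A') (X j))
      rw [MvPolynomial.map_X, MvPolynomial.aeval_X, MvPolynomial.aeval_X]
  exact congrArg (fun f => f p) this

/-- **Generic constancy of the fibre dimension, ring form (domain case).** -/
theorem exists_ringKrullDim_tensor_eq (A B : Type u) [CommRing A] [IsDomain A] [CommRing B]
    [Algebra A B] [Algebra.FiniteType A B] :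
    ∃ g : A, g ≠ 0 ∧ ∃ d : WithBot ℕ∞, ∀ (Q : Type u) [Field Q] [Algebra A Q],
      algebraMap A Q g ≠ 0 → ringKrullDim (B ⊗[A] Q) = d := by
  classical
  let K := FractionRing A
  rcases subsingleton_or_nontrivial (K ⊗[A] B) with hsub | hnt
  · obtain ⟨e, he, hey⟩ := exists_smul_eq_zero_of_tmul_eq_zero (A := A) (1 : B)
      (Subsingleton.elim _ _)
    refine ⟨e, he, ⊥, fun Q _ _ hQ => ?_⟩
    have : Subsingleton (B ⊗[A] Q) := by
      refine ⟨fun x y => ?_⟩
      have h1 : (1 : B ⊗[A] Q) = 0 := by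
        rw [Algebra.TensorProduct.one_def, ← mul_inv_cancel₀ hQ, ← Algebra.smul_def, ← smul_tmul,
          hey, zero_tmul]
      rw [← mul_one x, ← mul_one y, h1, mul_zero, mul_zero]
    exact ringKrullDim_eq_bot_of_subsingleton
  · obtain ⟨s, b, hinjK, hintK⟩ := exists_normalization_generic (A := A) (B := B)
    have hinj : Function.Injective (MvPolynomial.aeval b : MvPolynomial (Fin s) A →ₐ[A] B) := by
      intro p q hpq
      have h1 := includeRight_comp_aeval b K p
      have h2 := includeRight_comp_aeval b K q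
      rw [hpq, h2] at h1
      exact MvPolynomial.map_injective _ (IsFractionRing.injective A K) (hinjK h1).symm
    obtain ⟨t, ht⟩ := (Algebra.FiniteType.out : (⊤ : Subalgebra A B).FG)
    choose c hc0 hc using fun x => exists_smul_isIntegralElem b hintK x
    let g : A := ∏ x ∈ t, c x
    have hg : g ≠ 0 := Finset.prod_ne_zero_iff.mpr fun x _ => hc0 x
    let A' := Localization.Away g
    have : Module.Flat A A' := IsLocalization.flat A' (Submonoid.powers g)
    have hu : ∀ x ∈ t, IsUnit (algebraMap A A' (c x)) := fun x hx =>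
      isUnit_of_dvd_unit (map_dvd (algebraMap A A') (Finset.dvd_prod_of_mem c hx))
        (IsLocalization.Away.algebraMap_isUnit g)
    obtain ⟨hinj', hint'⟩ := normalization_baseChange b hinj t ht c (fun x _ => hc x) A' hu
    refine ⟨g, hg, s, fun Q _ _ hQ => ?_⟩
    let _ : Algebra A' Q := (IsLocalization.Away.lift g (g := algebraMap A Q) hQ.isUnit).toAlgebra
    have : IsScalarTower A A' Q :=
      IsScalarTower.of_algebraMap_eq' (IsLocalization.Away.lift_comp g hQ.isUnit).symm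
    have key := ringKrullDim_tensor_of_normalization (fun j => (1 : A') ⊗ₜ[A] b j) hinj' hint' Q
    have e1 : ringKrullDim (B ⊗[A] Q) = ringKrullDim (Q ⊗[A] B) :=
      ringKrullDim_eq_of_ringEquiv (Algebra.TensorProduct.comm A B Q).toRingEquiv
    have e2 : ringKrullDim (Q ⊗[A'] (A' ⊗[A] B)) = ringKrullDim (Q ⊗[A] B) :=
      ringKrullDim_eq_of_ringEquiv
        (Algebra.TensorProduct.cancelBaseChange A A' Q Q B).toRingEquiv
    have e3 : ringKrullDim ((A' ⊗[A] B) ⊗[A'] Q) = ringKrullDim (Q ⊗[A'] (A' ⊗[A] B)) :=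
      ringKrullDim_eq_of_ringEquiv (Algebra.TensorProduct.comm A' (A' ⊗[A] B) Q).toRingEquiv
    rw [e1, ← e2, ← e3, key]

/-- **Generic constancy of the fibre dimension, ring form (irreducible base).** -/
theorem exists_ringKrullDim_tensor_eq' (A B : Type u) [CommRing A] [CommRing B]
    [Algebra A B] [Algebra.FiniteType A B] (hnil : (nilradical A).IsPrime) :
    ∃ g : A, g ∉ nilradical A ∧ ∃ d : WithBot ℕ∞, ∀ (Q : Type u) [Field Q] [Algebra A Q],
      algebraMap A Q g ≠ 0 → ringKrullDim (B ⊗[A] Q) = d := by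
  let A₁ := A ⧸ nilradical A
  have : IsDomain A₁ := Ideal.Quotient.isDomain _
  obtain ⟨g₁, hg₁, d, hd⟩ := exists_ringKrullDim_tensor_eq A₁ (A₁ ⊗[A] B)
  obtain ⟨g, rfl⟩ := Ideal.Quotient.mk_surjective g₁
  refine ⟨g, fun h => hg₁ (Ideal.Quotient.eq_zero_iff_mem.mpr h), d, fun Q _ _ hQ => ?_⟩
  have hker : ∀ a ∈ nilradical A, algebraMap A Q a = 0 := fun a ha =>
    (IsNilpotent.map (mem_nilradical.mp ha) (algebraMap A Q)).eq_zero
  let _ : Algebra A₁ Q := (Ideal.Quotient.lift (nilradical A) (algebraMap A Q) hker).toAlgebra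
  have : IsScalarTower A A₁ Q := IsScalarTower.of_algebraMap_eq fun a => rfl
  have key := hd Q (by
    change Ideal.Quotient.lift (nilradical A) (algebraMap A Q) hker (Ideal.Quotient.mk _ g) ≠ 0
    rwa [Ideal.Quotient.lift_mk])
  have e1 : ringKrullDim (B ⊗[A] Q) = ringKrullDim (Q ⊗[A] B) :=
    ringKrullDim_eq_of_ringEquiv (Algebra.TensorProduct.comm A B Q).toRingEquiv
  have e2 : ringKrullDim (Q ⊗[A₁] (A₁ ⊗[A] B)) = ringKrullDim (Q ⊗[A] B) :=
    ringKrullDim_eq_of_ringEquiv
      (Algebra.TensorProduct.cancelBaseChange A A₁ Q Q B).toRingEquiv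
  have e3 : ringKrullDim ((A₁ ⊗[A] B) ⊗[A₁] Q) = ringKrullDim (Q ⊗[A₁] (A₁ ⊗[A] B)) :=
    ringKrullDim_eq_of_ringEquiv (Algebra.TensorProduct.comm A₁ (A₁ ⊗[A] B) Q).toRingEquiv
  rw [e1, ← e2, ← e3, key]

end ring

section scheme

theorem appLE_fromSpecResidueField {Y : Scheme.{u}} (y : Y) (V : Y.Opens) (hy : y ∈ V)
    (h : (⊤ : (Spec (Y.residueField y)).Opens) ≤ (Y.fromSpecResidueField y) ⁻¹ᵁ V) :
    (Y.fromSpecResidueField y).appLE V ⊤ h ≫ (Scheme.ΓSpecIso (Y.residueField y)).hom =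
      Y.evaluation V y hy := by
  have key : ∀ (g : Spec (Y.residueField y) ⟶ Y)
      (_ : g = Spec.map (Y.residue y) ≫ Y.fromSpecStalk y) (h : ⊤ ≤ g ⁻¹ᵁ V),
      g.appLE V ⊤ h ≫ (Scheme.ΓSpecIso (Y.residueField y)).hom = Y.evaluation V y hy := by
    intro g hg h
    subst hg
    rw [← Scheme.germ_residue]
    have h' : (⊤ : (Spec (Y.residueField y)).Opens) ≤
        Spec.map (Y.residue y) ⁻¹ᵁ (Y.fromSpecStalk y ⁻¹ᵁ V) := h
    have e1 : (Spec.map (Y.residue y) ≫ Y.fromSpecStalk y).appLE V ⊤ h =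
        (Y.fromSpecStalk y).app V ≫ (Spec.map (Y.residue y)).appLE _ ⊤ h' :=
      Scheme.Hom.comp_appLE _ _ _ _ _
    rw [e1, Scheme.fromSpecStalk_app hy]
    simp only [Category.assoc]
    congr 1
    have e2 : (Spec (Y.presheaf.stalk y)).presheaf.map (homOfLE le_top).op ≫
        (Spec.map (Y.residue y)).appLE (Y.fromSpecStalk y ⁻¹ᵁ V) ⊤ h' =
        (Spec.map (Y.residue y)).appTop := by
      rw [Scheme.Hom.map_appLE]
      simp only [Scheme.Hom.appLE, Scheme.Hom.appTop]
      exact (congrArg (fun t => _ ≫ t)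
        ((Spec (Y.residueField y)).presheaf.map_id _)).trans (Category.comp_id _)
    rw [reassoc_of% e2, Scheme.ΓSpecIso_naturality, Iso.inv_hom_id_assoc]
  exact key _ rfl h

open TensorProduct in
theorem ringKrullDim_fiber_preimage_eq {X Y : Scheme.{u}} (f : X ⟶ Y) (y : Y) {V : Y.Opens}
    (hV : IsAffineOpen V) (hy : y ∈ V) {U : X.Opens} (hU : IsAffineOpen U)
    (hUV : U ≤ f ⁻¹ᵁ V) :
    letI := (f.appLE V U hUV).hom.toAlgebra
    letI := (Y.evaluation V y hy).hom.toAlgebra
    IsAffineOpen ((f.fiberι y) ⁻¹ᵁ U) ∧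
      ringKrullDim Γ(f.fiber y, (f.fiberι y) ⁻¹ᵁ U) =
        ringKrullDim (Γ(X, U) ⊗[Γ(Y, V)] (Y.residueField y)) := by
  let _ : Algebra Γ(Y, V) Γ(X, U) := (f.appLE V U hUV).hom.toAlgebra
  let _ : Algebra Γ(Y, V) (Y.residueField y) := (Y.evaluation V y hy).hom.toAlgebra
  let p := f.fiberι y
  let q := f.fiberToSpecResidueField y
  let r := Y.fromSpecResidueField y
  have hpb : IsPullback p q f r := IsPullback.of_hasPullback f r
  have hT : IsAffineOpen (⊤ : (Spec (Y.residueField y)).Opens) := isAffineOpen_top _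
  have hUST : (⊤ : (Spec (Y.residueField y)).Opens) ≤ r ⁻¹ᵁ V := by
    intro z _
    change r z ∈ V
    rw [Scheme.fromSpecResidueField_apply]
    exact hy
  have hUY : p ⁻¹ᵁ U = p ⁻¹ᵁ U ⊓ q ⁻¹ᵁ ⊤ := by simp
  have haff : IsAffineOpen (p ⁻¹ᵁ U) := by
    rw [hUY]
    exact Groth.Agent.H49.FlatInf.isAffineOpen_inf_preimage hpb hV hT hU hUST hUV
  refine ⟨haff, ?_⟩
  have hpo : IsPushout (f.appLE V U hUV) (r.appLE V ⊤ hUST)
      (p.appLE U (p ⁻¹ᵁ U) le_rfl) (q.appLE ⊤ (p ⁻¹ᵁ U) (by simp)) := by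
    have := isIso_pushoutSection_of_isAffineOpen hpb hUST hUV hUY hV hT hU
    exact (isIso_pushoutSection_iff hpb hUST hUV hUY).mp this
  let e₃ := Scheme.ΓSpecIso (Y.residueField y)
  have hpo' : IsPushout (f.appLE V U hUV) (Y.evaluation V y hy)
      (p.appLE U (p ⁻¹ᵁ U) le_rfl) (e₃.inv ≫ q.appLE ⊤ (p ⁻¹ᵁ U) (by simp)) := by
    refine IsPushout.of_iso hpo (Iso.refl _) (Iso.refl _) e₃ (Iso.refl _) ?_ ?_ ?_ ?_
    · simp
    · rw [Iso.refl_hom, Category.id_comp]
      exact appLE_fromSpecResidueField y V hy hUST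
    · simp
    · simp
  let _ : Algebra Γ(X, U) Γ(f.fiber y, p ⁻¹ᵁ U) := (p.appLE U (p ⁻¹ᵁ U) le_rfl).hom.toAlgebra
  let _ : Algebra (Y.residueField y) Γ(f.fiber y, p ⁻¹ᵁ U) :=
    (e₃.inv ≫ q.appLE ⊤ (p ⁻¹ᵁ U) (by simp)).hom.toAlgebra
  let _ : Algebra Γ(Y, V) Γ(f.fiber y, p ⁻¹ᵁ U) :=
    ((f.appLE V U hUV) ≫ (p.appLE U (p ⁻¹ᵁ U) le_rfl)).hom.toAlgebra
  have t1 : IsScalarTower Γ(Y, V) Γ(X, U) Γ(f.fiber y, p ⁻¹ᵁ U) :=
    IsScalarTower.of_algebraMap_eq fun r => rfl
  have t2 : IsScalarTower Γ(Y, V) (Y.residueField y) Γ(f.fiber y, p ⁻¹ᵁ U) :=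
    IsScalarTower.of_algebraMap_eq fun r => congr($(hpo'.w).hom r)
  have hpo'' : Algebra.IsPushout Γ(Y, V) Γ(X, U) (Y.residueField y) Γ(f.fiber y, p ⁻¹ᵁ U) :=
    CommRingCat.isPushout_iff_isPushout.mp hpo'
  exact (ringKrullDim_eq_of_ringEquiv (Algebra.IsPushout.equiv Γ(Y, V) Γ(X, U)
    (Y.residueField y) Γ(f.fiber y, p ⁻¹ᵁ U)).toRingEquiv).symm


/-- Constancy of the dimension of the trace of an affine open on the fibres. -/
theorem exists_dim_fiber_preimage_eq {X Y : Scheme.{u}} (f : X ⟶ Y) [LocallyOfFiniteType f]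
    {V : Y.Opens} (hV : IsAffineOpen V) (hnil : (nilradical Γ(Y, V)).IsPrime) {U : X.Opens}
    (hU : IsAffineOpen U) (hUV : U ≤ f ⁻¹ᵁ V) :
    ∃ g : Γ(Y, V), g ∉ nilradical Γ(Y, V) ∧ ∃ d : WithBot ℕ∞, ∀ (y : Y) (hy : y ∈ V),
      Y.evaluation V y hy g ≠ 0 →
        topologicalKrullDim ↥((f.fiberι y) ⁻¹ᵁ U) = d := by
  let _ : Algebra Γ(Y, V) Γ(X, U) := (f.appLE V U hUV).hom.toAlgebra
  have hft : Algebra.FiniteType Γ(Y, V) Γ(X, U) :=
    HasRingHomProperty.appLE @LocallyOfFiniteType f inferInstance ⟨V, hV⟩ ⟨U, hU⟩ hUV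
  obtain ⟨g, hg, d, hd⟩ := exists_ringKrullDim_tensor_eq' Γ(Y, V) Γ(X, U) hnil
  refine ⟨g, hg, d, fun y hy hgy => ?_⟩
  obtain ⟨haff, hdim⟩ := ringKrullDim_fiber_preimage_eq f y hV hy hU hUV
  let _ : Algebra Γ(Y, V) (Y.residueField y) := (Y.evaluation V y hy).hom.toAlgebra
  rw [FibreDimBC.topologicalKrullDim_affineOpen haff, hdim]
  exact hd (Y.residueField y) hgy

/-- **Generic constancy of the fibre dimension.** -/
theorem exists_open_fiber_dim_eq {X Y : Scheme.{u}} (f : X ⟶ Y) [IrreducibleSpace ↑Y]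
    [LocallyOfFiniteType f] [QuasiCompact f] (n : ℕ)
    (h : topologicalKrullDim ↑(f.fiber (genericPoint ↑Y)) = n) :
    ∃ V : Y.Opens, (V : Set ↑Y).Nonempty ∧ ∀ y ∈ V, topologicalKrullDim ↑(f.fiber y) = n := by
  classical
  let η := genericPoint ↑Y
  obtain ⟨_, ⟨V₀, hV₀, rfl⟩, hηV, -⟩ :=
    Y.isBasis_affineOpens.exists_subset_of_mem_open (Set.mem_univ η) isOpen_univ
  have hV₀ : IsAffineOpen V₀ := hV₀
  have hηV : η ∈ V₀ := hηV
  -- the nilradical of `Γ(Y, V₀)` is prime
  have hnil : (nilradical Γ(Y, V₀)).IsPrime := by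
    have : Nonempty ↥V₀ := ⟨⟨η, hηV⟩⟩
    have h1 : IrreducibleSpace ↥V₀ := V₀.isOpen.isOpenEmbedding_subtypeVal.irreducibleSpace
    have h2 : IrreducibleSpace (Spec Γ(Y, V₀)) :=
      (hV₀.isoSpec.hom.homeomorph.irreducibleSpace_iff).mp h1
    exact PrimeSpectrum.irreducibleSpace_iff_isPrime_nilradical.mp h2
  -- a finite affine cover of the preimage
  have hc : IsCompact ((f ⁻¹ᵁ V₀ : X.Opens) : Set X) :=
    QuasiCompact.isCompact_preimage _ V₀.isOpen hV₀.isCompact
  obtain ⟨s, hs, hcov⟩ := isCompact_iff_finite_and_eq_biUnion_affineOpens.mp hc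
  have := hs.fintype
  have hle : ∀ U : s, (U.1 : X.Opens) ≤ f ⁻¹ᵁ V₀ := fun U => by
    rw [hcov]
    exact le_iSup₂ (f := fun (i : X.affineOpens) (_ : i ∈ s) => (i : X.Opens)) U.1 U.2
  choose g hg d hd using fun U : s =>
    exists_dim_fiber_preimage_eq f hV₀ hnil U.1.2 (hle U)
  let g₀ : Γ(Y, V₀) := ∏ U : s, g U
  have hg₀ : g₀ ∉ nilradical Γ(Y, V₀) := by
    intro hmem
    obtain ⟨U, -, hU⟩ := (Ideal.IsPrime.prod_mem_iff (hp := hnil)).mp hmem
    exact hg U hU
  -- the formula for the fibre dimension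
  have key : ∀ (y : Y) (hy : y ∈ V₀), Y.evaluation V₀ y hy g₀ ≠ 0 →
      topologicalKrullDim ↑(f.fiber y) = ⨆ U : s, d U := by
    intro y hy hgy
    have hcov' : (⨆ U : s, (f.fiberι y) ⁻¹ᵁ (U.1 : X.Opens)) = ⊤ := by
      rw [← Scheme.Hom.preimage_iSup, eq_top_iff]
      intro z _
      have hz : f (f.fiberι y z) = y := by
        have := f.range_fiberι y ▸ Set.mem_range_self z
        exact this
      have hz' : f.fiberι y z ∈ f ⁻¹ᵁ V₀ := by
        change f (f.fiberι y z) ∈ V₀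
        rw [hz]; exact hy
      rw [hcov] at hz'
      change f.fiberι y z ∈ (⨆ U : s, (U.1 : X.Opens))
      rwa [iSup_subtype']  at hz'
    rw [FibreDimBC.topologicalKrullDim_eq_iSup_of_openCover _ _ hcov']
    refine iSup_congr fun U => ?_
    refine hd U y hy ?_
    intro h0
    apply hgy
    change Y.evaluation V₀ y hy (∏ U : s, g U) = 0
    rw [map_prod]
    exact Finset.prod_eq_zero (Finset.mem_univ U) h0
  have hmem : ∀ y ∈ Y.basicOpen g₀, ∃ hy : y ∈ V₀, Y.evaluation V₀ y hy g₀ ≠ 0 := fun y hy =>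
    ⟨Y.basicOpen_le g₀ hy, (Y.evaluation_ne_zero_iff_mem_basicOpen y _ g₀).mpr hy⟩
  have hne : ((Y.basicOpen g₀ : Y.Opens) : Set Y).Nonempty := by
    by_contra hcon
    rw [Set.not_nonempty_iff_eq_empty] at hcon
    have hbot : Y.basicOpen g₀ = ⊥ := TopologicalSpace.Opens.ext (by simpa using hcon)
    rw [← Scheme.isNilpotent_iff_basicOpen_eq_bot_of_isCompact hV₀.isCompact] at hbot
    exact hg₀ (mem_nilradical.mpr hbot)
  have hη : η ∈ Y.basicOpen g₀ := by
    change genericPoint ↑Y ∈ ((Y.basicOpen g₀ : Y.Opens) : Set Y)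
    rw [(genericPoint_spec ↑Y).mem_open_set_iff (Y.basicOpen g₀).isOpen]
    simpa using hne
  refine ⟨Y.basicOpen g₀, hne, fun y hy => ?_⟩
  obtain ⟨hy0, hy1⟩ := hmem y hy
  obtain ⟨hη0, hη1⟩ := hmem η hη
  rw [key y hy0 hy1, ← key η hη0 hη1]
  exact h

end scheme

end Groth.Agent.H49.GenericFibreDim
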