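import Mathlib.AlgebraicGeometry.AffineScheme
import Mathlib.RingTheory.Localization.LocalizationLocalization

set_option autoImplicit false
universe u

namespace Groth.Agent.H49

open AlgebraicGeometry CategoryTheory TopologicalSpace

/-- A property of rings invariant under isomorphism and stable under localization at primes
passes from the stalk at a point to the stalk at any generization. -/
theorem property_stalk_of_specializes (P : ∀ (R : Type u) [CommRing R], Prop)
    (hiso : ∀ {R S : Type u} [CommRing R] [CommRing S], (R ≃+* S) → P R → P S)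
    (hloc : ∀ (R : Type u) [CommRing R] (p : Ideal R) [p.IsPrime], P R → P (Localization.AtPrime p))
    (X : Scheme.{u}) {x y : X} (h : x ⤳ y) (hy : P (X.presheaf.stalk y)) :
    P (X.presheaf.stalk x) := by
  obtain ⟨U, hU, hyU, -⟩ := Opens.isBasis_iff_nbhd.mp X.isBasis_affineOpens (Opens.mem_top y)
  have hxU : x ∈ U := h.mem_open U.isOpen hyU
  let px := hU.primeIdealOf ⟨x, hxU⟩
  let py := hU.primeIdealOf ⟨y, hyU⟩
  have hsp : px ⤳ py := by
    have h1 : (⟨x, hxU⟩ : U) ⤳ ⟨y, hyU⟩ := (subtype_specializes_iff _ _).mpr h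
    exact h1.map hU.isoSpec.hom.continuous
  have hle : px.asIdeal ≤ py.asIdeal := (PrimeSpectrum.le_iff_specializes px py).mpr hsp
  haveI Lx := hU.isLocalization_stalk ⟨x, hxU⟩
  haveI Ly := hU.isLocalization_stalk ⟨y, hyU⟩
  letI algy : Algebra Γ(X, U) (X.presheaf.stalk y) :=
    TopCat.Presheaf.algebra_section_stalk X.presheaf (⟨y, hyU⟩ : U)
  letI algx : Algebra Γ(X, U) (X.presheaf.stalk x) :=
    TopCat.Presheaf.algebra_section_stalk X.presheaf (⟨x, hxU⟩ : U)
  have hdisj : Disjoint (py.asIdeal.primeCompl : Set Γ(X, U)) (px.asIdeal : Set Γ(X, U)) := by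
    rw [Set.disjoint_left]
    intro a ha ha'
    exact ha (hle ha')
  let q : Ideal (X.presheaf.stalk y) := px.asIdeal.map (algebraMap Γ(X, U) (X.presheaf.stalk y))
  haveI hq : q.IsPrime :=
    IsLocalization.isPrime_of_isPrime_disjoint py.asIdeal.primeCompl (X.presheaf.stalk y) _
      px.isPrime hdisj
  have hcomap : q.comap (algebraMap Γ(X, U) (X.presheaf.stalk y)) = px.asIdeal :=
    IsLocalization.comap_map_of_isPrime_disjoint py.asIdeal.primeCompl (X.presheaf.stalk y)
      px.isPrime hdisj
  have hL : IsLocalization.AtPrime (Localization.AtPrime q)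
      (q.comap (algebraMap Γ(X, U) (X.presheaf.stalk y))) :=
    IsLocalization.isLocalization_isLocalization_atPrime_isLocalization py.asIdeal.primeCompl
      (Localization.AtPrime q) q
  rw [IsLocalization.AtPrime] at hL
  simp only [hcomap] at hL
  let e : Localization.AtPrime q ≃ₐ[Γ(X, U)] X.presheaf.stalk x :=
    @IsLocalization.algEquiv _ _ px.asIdeal.primeCompl _ _ _ hL _ _ algx Lx
  exact hiso e.toRingEquiv (hloc _ q hy)

end Groth.Agent.H49
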