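import Groth.Agent.H49.CMLocusOpen
import Groth.Agent.H49.FibreStalk
import Groth.Agent.H49.CMLocalize
import Groth.Agent.H90.GrpdRank
import Groth.Prelude.Def_Grpd

/-!
# The Cohen–Macaulay locus of the source map of a groupoid scheme (Stacks 0462), helper49
-/

set_option autoImplicit false
set_option linter.style.haveILetI false
universe u

open CategoryTheory CategoryTheory.Limits AlgebraicGeometry IsLocalRing

namespace Groth.Agent.H49.GrpdCM

section general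
variable {X Y X' Y' : Scheme.{u}}

/-- the two definitions of "Cohen–Macaulay at a point" agree. -/
theorem grpdIsCMAt_iff (f : X ⟶ Y) (x : X) : Grpd.IsCMAt f x ↔ MoreMor.IsCMAt f x := by
  unfold Grpd.IsCMAt MoreMor.IsCMAt
  refine and_congr Iff.rfl ?_
  constructor
  · intro h
    exact Groth.Agent.H49.isCohenMacaulayLocalRing_of_ringEquiv
      (Groth.Agent.H49.FibreStalk.quotientEquivStalkAsFiber f x) h
  · intro h
    exact Groth.Agent.H49.isCohenMacaulayLocalRing_of_ringEquiv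
      (Groth.Agent.H49.FibreStalk.quotientEquivStalkAsFiber f x).symm h

/-- `MoreMor.IsCMAt` is invariant under flat base change. -/
theorem isCMAt_iff_of_isPullback (f : X ⟶ Y) (f' : X' ⟶ Y') (g' : X' ⟶ X) (g : Y' ⟶ Y)
    (hc : IsPullback g' f' f g) [LocallyOfFiniteType f] [Flat g] (x' : X') :
    MoreMor.IsCMAt f' x' ↔ MoreMor.IsCMAt f (g' x') := by
  haveI := Groth.Agent.H49.CMChart.isLocallyNoetherian_fiber f (g (f' x'))
  have hcm := Groth.Agent.H49.CMMorBC.cm_fiber_stalk_iff_of_isPullback f f' g' g hc x' (Or.inl ‹_›)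
  constructor
  · rintro ⟨h1, h2⟩
    exact ⟨Groth.Agent.H49.CMMorBC.flat_stalkMap_of_isPullback_of_flatAt f f' g' g hc x'
      (Flat.stalkMap g _) h1, hcm.mpr h2⟩
  · rintro ⟨h1, h2⟩
    exact ⟨Groth.Agent.H25.FlatBCpt.flat_stalkMap_of_isPullback hc x' h1, hcm.mp h2⟩

end general

section grpd
variable {S : Scheme.{u}} (G : Grpd.GroupoidScheme S)
open Groth.Agent.H90

/-- For points `r, r'` of `R` with the same target there is a point `z` of `R ×_{s,t} R` with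
`pr₀ z = r'` and `c z = r` (namely `(r', r'⁻¹ ∘ r)`). -/
theorem exists_point_of_t_eq (r r' : G.R) (h : G.t r' = G.t r) :
    ∃ z : ↥(pullback G.s G.t), pullback.fst G.s G.t z = r' ∧ G.c z = r := by
  obtain ⟨z0, hz1, hz2⟩ := Scheme.Pullback.exists_preimage_pullback (f := G.t) (g := G.t) r' r h
  have h1 : (pullback.fst G.t G.t ≫ G.i) ≫ G.s = pullback.snd G.t G.t ≫ G.t := by
    rw [Category.assoc, G.i_s, pullback.condition]
  have h2 : pullback.fst G.t G.t ≫ G.s =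
      gcomp G (pullback.fst G.t G.t ≫ G.i) (pullback.snd G.t G.t) h1 ≫ G.t := by
    rw [gcomp_t, Category.assoc, G.i_t]
  obtain ⟨ρ, hρ⟩ : ∃ ρ : pullback G.t G.t ⟶ pullback G.s G.t,
      ρ = pullback.lift (pullback.fst G.t G.t) (gcomp G _ _ h1) h2 := ⟨_, rfl⟩
  have hρ1 : ρ ≫ pullback.fst G.s G.t = pullback.fst G.t G.t := by
    rw [hρ, pullback.lift_fst]
  have hρ1' : ρ ≫ pullback.snd G.s G.t =
      gcomp G (pullback.fst G.t G.t ≫ G.i) (pullback.snd G.t G.t) h1 := by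
    rw [hρ, pullback.lift_snd]
  have hρ2 : ρ ≫ G.c = pullback.snd G.t G.t := by
    rw [comp_c]
    have hi : pullback.fst G.t G.t ≫ G.s = (pullback.fst G.t G.t ≫ G.i) ≫ G.t := by
      rw [Category.assoc, G.i_t]
    refine (gcomp_congr G hρ1 hρ1' _ (by rw [gcomp_t, Category.assoc, G.i_t])).trans ?_
    refine (gcomp_assoc G (pullback.fst G.t G.t) (pullback.fst G.t G.t ≫ G.i)
      (pullback.snd G.t G.t) hi h1).symm.trans ?_
    refine (gcomp_congr G (gcomp_i G (pullback.fst G.t G.t) _ rfl hi) rfl _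
      (by rw [Category.assoc, Category.assoc, G.e_s, Category.comp_id, pullback.condition])).trans ?_
    exact e_gcomp G _ _ (by rw [← Category.assoc, pullback.condition, Category.assoc]) _
  refine ⟨ρ z0, ?_, ?_⟩
  · rw [← Scheme.Hom.comp_apply, hρ1, hz1]
  · rw [← Scheme.Hom.comp_apply, hρ2, hz2]

/-- The Cohen–Macaulay locus of `s` is saturated for `t`. -/
theorem isCMAt_s_iff_of_t_eq [LocallyOfFiniteType G.s] [Flat G.s] [Flat G.t] (r r' : G.R)
    (h : G.t r' = G.t r) : MoreMor.IsCMAt G.s r' ↔ MoreMor.IsCMAt G.s r := by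
  obtain ⟨z, hz1, hz2⟩ := exists_point_of_t_eq G r r' h
  have e1 := isCMAt_iff_of_isPullback G.s (pullback.snd G.s G.t) (pullback.fst G.s G.t) G.t
    (IsPullback.of_hasPullback G.s G.t) z
  have e2 := isCMAt_iff_of_isPullback G.s (pullback.snd G.s G.t) G.c G.s (isPullback_c_snd G) z
  rw [hz1] at e1
  rw [hz2] at e2
  exact e1.symm.trans e2

/-- `t` is Cohen–Macaulay at `r` iff `s` is Cohen–Macaulay at `r⁻¹`. -/
theorem isCMAt_t_iff [LocallyOfFiniteType G.s] (r : G.R) :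
    MoreMor.IsCMAt G.t r ↔ MoreMor.IsCMAt G.s (G.i r) := by
  have sq : IsPullback G.i G.t G.s (𝟙 G.U) :=
    IsPullback.of_horiz_isIso ⟨by rw [G.i_s, Category.comp_id]⟩
  exact isCMAt_iff_of_isPullback G.s G.t G.i (𝟙 G.U) sq r

/-- `s` is Cohen–Macaulay at `r` iff `t` is Cohen–Macaulay at `r⁻¹`. -/
theorem isCMAt_s_iff [LocallyOfFiniteType G.t] (r : G.R) :
    MoreMor.IsCMAt G.s r ↔ MoreMor.IsCMAt G.t (G.i r) := by
  have sq : IsPullback G.i G.s G.t (𝟙 G.U) :=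
    IsPullback.of_horiz_isIso ⟨by rw [G.i_t, Category.comp_id]⟩
  exact isCMAt_iff_of_isPullback G.t G.s G.i (𝟙 G.U) sq r

/-- every fibre of a flat lft morphism with a section meets the Cohen–Macaulay locus. -/
theorem exists_isCMAt_of_section {X Y : Scheme.{u}} (f : X ⟶ Y) [Flat f] [LocallyOfFiniteType f]
    (e : Y ⟶ X) (he : e ≫ f = 𝟙 Y) (u : Y) : ∃ r : X, MoreMor.IsCMAt f r ∧ f r = u := by
  have hd := Groth.Agent.H49.CMLocusOpen.dense_preimage_fiberι f u
  have hmem : e u ∈ Set.range (f.fiberι u) := by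
    rw [f.range_fiberι u]
    change f (e u) = u
    rw [← Scheme.Hom.comp_apply, he]
    rfl
  obtain ⟨z0, -⟩ := hmem
  haveI : Nonempty ↥(f.fiber u) := ⟨z0⟩
  obtain ⟨z, hz⟩ := hd.nonempty
  refine ⟨f.fiberι u z, hz, ?_⟩
  have : f.fiberι u z ∈ Set.range (f.fiberι u) := Set.mem_range_self z
  rw [f.range_fiberι u] at this
  exact this

/-- Stacks 0462 (1)–(4). -/
theorem exists_open_cm [Flat G.s] [LocallyOfFinitePresentation G.s] [Flat G.t]
    [LocallyOfFinitePresentation G.t] :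
    ∃ U' : G.U.Opens, (G.t ⁻¹ᵁ U' : Set G.R) = {r | Grpd.IsCMAt G.s r} ∧
      (G.s ⁻¹ᵁ U' : Set G.R) = {r | Grpd.IsCMAt G.t r} ∧
      ⇑G.t '' (G.s ⁻¹ᵁ U' : Set G.R) = Set.univ ∧
      ⇑G.s '' (G.t ⁻¹ᵁ U' : Set G.R) = Set.univ := by
  have hW : IsOpen {r : G.R | MoreMor.IsCMAt G.s r} :=
    Groth.Agent.H49.CMLocusOpen.isOpen_setOf_isCMAt G.s
  have hU : IsOpen (⇑G.t '' {r : G.R | MoreMor.IsCMAt G.s r}) := G.t.isOpenMap _ hW
  have h1 : ∀ r : G.R, G.t r ∈ (⇑G.t '' {r : G.R | MoreMor.IsCMAt G.s r}) ↔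
      MoreMor.IsCMAt G.s r := by
    intro r
    constructor
    · rintro ⟨r', hr', hrr'⟩
      exact (isCMAt_s_iff_of_t_eq G r r' hrr').mp hr'
    · intro hr
      exact ⟨r, hr, rfl⟩
  have h2 : ∀ r : G.R, G.s r ∈ (⇑G.t '' {r : G.R | MoreMor.IsCMAt G.s r}) ↔
      MoreMor.IsCMAt G.t r := by
    intro r
    rw [isCMAt_t_iff G r, ← h1 (G.i r), ← Scheme.Hom.comp_apply, G.i_t]
  refine ⟨⟨_, hU⟩, ?_, ?_, ?_, ?_⟩
  · ext r
    exact (h1 r).trans (grpdIsCMAt_iff G.s r).symm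
  · ext r
    exact (h2 r).trans (grpdIsCMAt_iff G.t r).symm
  · rw [Set.eq_univ_iff_forall]
    intro u
    obtain ⟨r, hr, hru⟩ := exists_isCMAt_of_section G.t G.e G.e_t u
    exact ⟨r, (h2 r).mpr hr, hru⟩
  · rw [Set.eq_univ_iff_forall]
    intro u
    obtain ⟨r, hr, hru⟩ := exists_isCMAt_of_section G.s G.e G.e_s u
    exact ⟨r, (h1 r).mpr hr, hru⟩

end grpd

end Groth.Agent.H49.GrpdCM
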