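import Groth.Agent.H49.SubGrpdH5
import Groth.Agent.H90.GrpdHom
import Groth.Agent.H20.SchImage

/-!
# Sub-groupoids on scheme-theoretic images (helper49)

Given a morphism of groupoid schemes `f : G₁ ⟶ G₂` which is an isomorphism on objects and a closed
subscheme `ι : Z ⟶ G₂.R` through which `f.fR` factors by a scheme-theoretically dominant
quasi-compact `τ`, with enough flatness, `Z` is a sub-groupoid of `G₂`.
-/

set_option autoImplicit false
set_option linter.style.haveILetI false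

universe u

open CategoryTheory CategoryTheory.Limits AlgebraicGeometry

namespace Groth.Agent.H49.GrpdImage

open Groth.Agent.H90 Groth.Agent.H49.SubGrpd

/-- a morphism factors through a closed immersion if it does so after a scheme-theoretically
dominant morphism. -/
theorem exists_lift_of_dominant {W₀ W Y Z : Scheme.{u}} (d : W₀ ⟶ W)
    [IsSchemeTheoreticallyDominant d] (h : W ⟶ Y) (i : Z ⟶ Y) [IsClosedImmersion i] (l : W₀ ⟶ Z)
    (hl : l ≫ i = d ≫ h) : ∃ l' : W ⟶ Z, l' ≫ i = h := by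
  have hle : i.ker ≤ h.ker := by
    calc i.ker ≤ (l ≫ i).ker := l.le_ker_comp i
      _ = (d ≫ h).ker := by rw [hl]
      _ = d.ker.map h := Scheme.Hom.ker_comp d h
      _ = h.ker := by rw [d.ker_eq_bot, Scheme.IdealSheafData.map_bot]
  exact ⟨IsClosedImmersion.lift i h hle, IsClosedImmersion.lift_fac i h hle⟩

variable {S : Scheme.{u}} {G₁ G₂ : Grpd.GroupoidScheme S} (f : Grpd.GroupoidScheme.Hom G₁ G₂)
  {Z : Scheme.{u}} (ι : Z ⟶ G₂.R) (τ : G₁.R ⟶ Z) (hτ : τ ≫ ι = f.fR)

section maps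

/-- `τ` on the first factor. -/
noncomputable def M₁ : pullback G₁.s G₁.t ⟶ pullback (ι ≫ G₂.s) (G₁.t ≫ f.fU) :=
  pullback.map _ _ _ _ τ (𝟙 _) f.fU
    (by rw [← Category.assoc, hτ, f.comm_s]) (by rw [Category.id_comp])

/-- `τ` on the second factor. -/
noncomputable def M₂ : pullback (ι ≫ G₂.s) (G₁.t ≫ f.fU) ⟶ pullback (ι ≫ G₂.s) (ι ≫ G₂.t) :=
  pullback.map _ _ _ _ (𝟙 _) τ (𝟙 _)
    (by rw [Category.id_comp, Category.comp_id])
    (by rw [Category.comp_id, ← Category.assoc, hτ, f.comm_t])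

include hτ in
theorem isPullback_M₁ [Mono f.fU] :
    IsPullback (pullback.fst G₁.s G₁.t) (M₁ f ι τ hτ) τ
      (pullback.fst (ι ≫ G₂.s) (G₁.t ≫ f.fU)) := by
  apply isPullback_of_exists_unique
  · exact (pullback.lift_fst _ _ _).symm
  · intro T y x hxy
    have hy : y ≫ G₁.s = (x ≫ pullback.snd _ _) ≫ G₁.t := by
      rw [← cancel_mono f.fU, Category.assoc, ← f.comm_s, ← hτ, Category.assoc,
        ← Category.assoc y, hxy, Category.assoc, Category.assoc, Category.assoc,
        pullback.condition]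
    refine ⟨pullback.lift y (x ≫ pullback.snd _ _) hy, pullback.lift_fst _ _ _, ?_⟩
    apply pullback.hom_ext
    · rw [M₁, Category.assoc, pullback.lift_fst, pullback.lift_fst_assoc, hxy]
    · rw [M₁, Category.assoc, pullback.lift_snd, pullback.lift_snd_assoc, Category.comp_id]
  · intro T l₁ l₂ h1 h2
    apply pullback.hom_ext h1
    have := congrArg (· ≫ pullback.snd _ _) h2
    simpa only [M₁, Category.assoc, pullback.lift_snd, Category.comp_id] using this

include hτ in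
theorem isPullback_M₂ :
    IsPullback (pullback.snd (ι ≫ G₂.s) (G₁.t ≫ f.fU)) (M₂ f ι τ hτ) τ
      (pullback.snd (ι ≫ G₂.s) (ι ≫ G₂.t)) := by
  apply isPullback_of_exists_unique
  · exact (pullback.lift_snd _ _ _).symm
  · intro T y x hxy
    have hy : (x ≫ pullback.fst _ _) ≫ ι ≫ G₂.s = y ≫ G₁.t ≫ f.fU := by
      rw [Category.assoc, pullback.condition, ← Category.assoc, ← hxy, ← f.comm_t, ← hτ,
        Category.assoc, Category.assoc]
    refine ⟨pullback.lift (x ≫ pullback.fst _ _) y hy, pullback.lift_snd _ _ _, ?_⟩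
    apply pullback.hom_ext
    · rw [M₂, Category.assoc, pullback.lift_fst, pullback.lift_fst_assoc, Category.comp_id]
    · rw [M₂, Category.assoc, pullback.lift_snd, pullback.lift_snd_assoc, hxy]
  · intro T l₁ l₂ h1 h2
    refine pullback.hom_ext ?_ h1
    have := congrArg (· ≫ pullback.fst _ _) h2
    simpa only [M₂, Category.assoc, pullback.lift_fst, Category.comp_id] using this

include hτ in
/-- `(τ × τ) ≫ (ι × ι) ≫ c₂ = c₁ ≫ τ ≫ ι`. -/
theorem M_comp :
    (M₁ f ι τ hτ ≫ M₂ f ι τ hτ) ≫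
      (pullback.map (ι ≫ G₂.s) (ι ≫ G₂.t) G₂.s G₂.t ι ι (𝟙 G₂.U)
        (Category.comp_id _) (Category.comp_id _) ≫ G₂.c) = (G₁.c ≫ τ) ≫ ι := by
  have h := f.comm_c (pullback.fst G₁.s G₁.t) (pullback.snd G₁.s G₁.t) pullback.condition
  have hid : pullback.lift (pullback.fst G₁.s G₁.t) (pullback.snd G₁.s G₁.t) pullback.condition =
      𝟙 _ := by
    apply pullback.hom_ext
    · rw [pullback.lift_fst, Category.id_comp]
    · rw [pullback.lift_snd, Category.id_comp]
  rw [hid, Category.id_comp] at h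
  rw [Category.assoc (G₁.c), hτ, h, ← Category.assoc]
  congr 1
  apply pullback.hom_ext
  · simp only [M₁, M₂, Category.assoc, pullback.lift_fst, pullback.lift_fst_assoc,
      Category.comp_id]
    rw [hτ]
  · simp only [M₁, M₂, Category.assoc, pullback.lift_snd, pullback.lift_snd_assoc,
      Category.comp_id]
    rw [hτ]

end maps

include hτ in
/-- **closure data on a dominated closed subscheme.** -/
theorem nonempty_data [IsIso f.fU] [IsClosedImmersion ι] [IsSchemeTheoreticallyDominant τ]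
    [QuasiCompact τ] [Flat (ι ≫ G₂.s)] [Flat (G₁.t ≫ f.fU)] : Nonempty (Data G₂ ι) := by
  haveI : IsSchemeTheoreticallyDominant (M₁ f ι τ hτ) :=
    IsSchemeTheoreticallyDominant.of_isPullback (isPullback_M₁ f ι τ hτ)
  haveI : IsSchemeTheoreticallyDominant (M₂ f ι τ hτ) :=
    IsSchemeTheoreticallyDominant.of_isPullback (isPullback_M₂ f ι τ hτ)
  obtain ⟨cP, hcP⟩ := exists_lift_of_dominant (M₁ f ι τ hτ ≫ M₂ f ι τ hτ)
    (pullback.map (ι ≫ G₂.s) (ι ≫ G₂.t) G₂.s G₂.t ι ι (𝟙 G₂.U)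
        (Category.comp_id _) (Category.comp_id _) ≫ G₂.c) ι (G₁.c ≫ τ) (M_comp f ι τ hτ).symm
  obtain ⟨iP, hiP⟩ := exists_lift_of_dominant τ (ι ≫ G₂.i) ι (G₁.i ≫ τ) (by
    rw [Category.assoc, hτ, hom_map_i f, ← hτ, Category.assoc])
  refine ⟨{ eP := inv f.fU ≫ G₁.e ≫ τ, heP := ?_, iP := iP, hiP := hiP, cP := cP, hcP := hcP }⟩
  rw [Category.assoc, Category.assoc, hτ, hom_map_e f, IsIso.inv_hom_id_assoc]

variable {ι}

/-- the inclusion of the subgroupoid. -/
noncomputable def incl [Mono ι] (D : Data G₂ ι) : Grpd.GroupoidScheme.Hom D.GP G₂ where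
  fU := 𝟙 _
  fR := ι
  fU_over := Category.id_comp _
  comm_s := (Category.comp_id _).symm
  comm_t := (Category.comp_id _).symm
  comm_c α β h := D.lift_cP_ι α β h

include hτ in
theorem fac_comm_c [Mono ι] (D : Data G₂ ι) {T : Scheme.{u}} (α β : T ⟶ G₁.R)
    (h : α ≫ G₁.s = β ≫ G₁.t) (h' : (α ≫ τ) ≫ ι ≫ G₂.s = (β ≫ τ) ≫ ι ≫ G₂.t) :
    (pullback.lift α β h ≫ G₁.c) ≫ τ = pullback.lift (α ≫ τ) (β ≫ τ) h' ≫ D.cP := by
  rw [← cancel_mono ι]
  have h1 := f.comm_c α β h
  have h2 := D.lift_cP_ι (α ≫ τ) (β ≫ τ) h'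
  rw [Category.assoc, hτ, h1]
  refine Eq.trans ?_ h2.symm
  unfold gcomp
  congr 1
  apply pullback.hom_ext
  · rw [pullback.lift_fst, pullback.lift_fst, Category.assoc, hτ]
  · rw [pullback.lift_snd, pullback.lift_snd, Category.assoc, hτ]

/-- the factorization through the subgroupoid. -/
noncomputable def fac [Mono ι] (D : Data G₂ ι) :
    Grpd.GroupoidScheme.Hom G₁ D.GP where
  fU := f.fU
  fR := τ
  fU_over := f.fU_over
  comm_s := by
    change τ ≫ ι ≫ G₂.s = G₁.s ≫ f.fU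
    rw [← Category.assoc, hτ, f.comm_s]
  comm_t := by
    change τ ≫ ι ≫ G₂.t = G₁.t ≫ f.fU
    rw [← Category.assoc, hτ, f.comm_t]
  comm_c α β h := fac_comm_c f τ hτ D α β h _

end Groth.Agent.H49.GrpdImage
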