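import Groth.Agent.H49.GrpdImage

/-!
# Sub-groupoids on scheme-theoretic images over a field (helper49)
-/

set_option autoImplicit false
set_option linter.style.haveILetI false

universe u

open CategoryTheory CategoryTheory.Limits AlgebraicGeometry

namespace Groth.Agent.H49.GrpdImage

open Groth.Agent.H90 Groth.Agent.H49.SubGrpd

/-- every morphism to (a scheme isomorphic to) the spectrum of a field is flat. -/
theorem flat_of_iso_field {k : Type u} [Field k] {X Y : Scheme.{u}}
    (eU : Y ≅ Spec (CommRingCat.of k)) (g : X ⟶ Y) : Flat g := by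
  haveI : Subsingleton Y := eU.hom.homeomorph.toEquiv.subsingleton
  haveI : Nonempty Y := eU.hom.homeomorph.toEquiv.nonempty_congr.2 inferInstance
  haveI : IsIntegral Y := by
    haveI : IsIntegral (Spec (CommRingCat.of k)) := inferInstance
    exact isIntegral_of_isOpenImmersion eU.hom
  infer_instance

variable {S : Scheme.{u}} {G₁ G₂ : Grpd.GroupoidScheme S} (f : Grpd.GroupoidScheme.Hom G₁ G₂)

/-- **the groupoid on the scheme-theoretic image.** -/
theorem exists_image_groupoid [IsIso f.fU] [QuasiCompact f.fR] {k : Type u} [Field k]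
    (eU : G₂.U ≅ Spec (CommRingCat.of k)) :
    Nonempty (Data G₂ f.fR.imageι) := by
  haveI : Flat (f.fR.imageι ≫ G₂.s) := flat_of_iso_field eU _
  haveI : Flat (G₁.t ≫ f.fU) := flat_of_iso_field eU _
  exact nonempty_data f f.fR.imageι f.fR.toImage f.fR.toImage_imageι

end Groth.Agent.H49.GrpdImage
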