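import Groth.Agent.H49.GrpdPairField
import Groth.Agent.H90.PerfectProdReduced
import Groth.Agent.H22.RedImm

/-!
# Sub-groupoids on the reduced closure of the image, over a perfect field (helper49)
-/

set_option autoImplicit false
set_option linter.style.haveILetI false

universe u

open CategoryTheory CategoryTheory.Limits AlgebraicGeometry TopologicalSpace

namespace Groth.Agent.H49.GrpdImage

open Groth.Agent.H90 Groth.Agent.H49.SubGrpd

/-- a morphism from a reduced scheme whose range lies in a closed set factors through the reduced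
induced structure. -/
theorem exists_lift_of_isReduced {W Y : Scheme.{u}} [IsReduced W] (h : W ⟶ Y) (C : Closeds Y)
    (hC : Set.range h ⊆ (C : Set Y)) :
    ∃ l : W ⟶ (Scheme.IdealSheafData.vanishingIdeal C).subscheme,
      l ≫ (Scheme.IdealSheafData.vanishingIdeal C).subschemeι = h := by
  have hker : h.ker = Scheme.IdealSheafData.vanishingIdeal (.closure (Set.range h)) := by
    rw [← Scheme.IdealSheafData.map_bot, ← Scheme.nilradical_eq_bot (X := W),
      ← Scheme.IdealSheafData.vanishingIdeal_top, Scheme.IdealSheafData.map_vanishingIdeal]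
    congr 2
    simp
  have hle : (Scheme.IdealSheafData.vanishingIdeal C).subschemeι.ker ≤ h.ker := by
    rw [Scheme.IdealSheafData.ker_subschemeι, hker]
    apply Scheme.IdealSheafData.vanishingIdeal_antimono
    rw [← SetLike.coe_subset_coe]
    exact closure_minimal hC C.isClosed
  exact ⟨IsClosedImmersion.lift _ h hle, IsClosedImmersion.lift_fac _ _ _⟩

/-- a continuous map sending a dense set into a closed set sends everything there. -/
theorem range_subset_of_dense {W Y : Scheme.{u}} (h : W ⟶ Y) (C : Closeds Y) (D : Set W)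
    (hD : Dense D) (hDC : ∀ w ∈ D, h w ∈ (C : Set Y)) : Set.range h ⊆ (C : Set Y) := by
  have hcl : IsClosed (h ⁻¹' (C : Set Y)) := C.isClosed.preimage h.continuous
  have : (h ⁻¹' (C : Set Y)) = Set.univ :=
    Set.eq_univ_of_univ_subset (hD.closure_eq ▸ closure_minimal hDC hcl)
  rintro _ ⟨w, rfl⟩
  have hw : w ∈ h ⁻¹' (C : Set Y) := by rw [this]; exact Set.mem_univ w
  exact hw

theorem range_snd_of_isPullback {P X Y S : Scheme.{u}} {pX : P ⟶ X} {pY : P ⟶ Y} {f : X ⟶ S}
    {g : Y ⟶ S} (H : IsPullback pX pY f g) : Set.range pY = g ⁻¹' Set.range f := by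
  have e : H.isoPullback.hom ≫ pullback.snd f g = pY := H.isoPullback_hom_snd
  have hs : Set.range H.isoPullback.hom = Set.univ :=
    Set.range_eq_univ.mpr H.isoPullback.hom.homeomorph.surjective
  rw [← e, Scheme.Hom.comp_base, TopCat.coe_comp, Set.range_comp, hs, Set.image_univ,
    Scheme.Pullback.range_snd]

section general

variable {S : Scheme.{u}} {G₂ : Grpd.GroupoidScheme S} {U₁ R' : Scheme.{u}} (s' t' : R' ⟶ U₁)
  (fU : U₁ ⟶ G₂.U) {Z : Scheme.{u}} (ι : Z ⟶ G₂.R) (τ : R' ⟶ Z)
  (hs : τ ≫ ι ≫ G₂.s = s' ≫ fU) (ht : τ ≫ ι ≫ G₂.t = t' ≫ fU)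

/-- `τ` on the first factor. -/
noncomputable def N₁ : pullback s' t' ⟶ pullback (ι ≫ G₂.s) (t' ≫ fU) :=
  pullback.map _ _ _ _ τ (𝟙 _) fU hs.symm (by rw [Category.id_comp])

/-- `τ` on the second factor. -/
noncomputable def N₂ : pullback (ι ≫ G₂.s) (t' ≫ fU) ⟶ pullback (ι ≫ G₂.s) (ι ≫ G₂.t) :=
  pullback.map _ _ _ _ (𝟙 _) τ (𝟙 _)
    (by rw [Category.id_comp, Category.comp_id]) (by rw [Category.comp_id, ht])

theorem isPullback_N₁ [Mono fU] :
    IsPullback (pullback.fst s' t') (N₁ s' t' fU ι τ hs) τ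
      (pullback.fst (ι ≫ G₂.s) (t' ≫ fU)) := by
  apply isPullback_of_exists_unique
  · exact (pullback.lift_fst _ _ _).symm
  · intro T y x hxy
    have hy : y ≫ s' = (x ≫ pullback.snd _ _) ≫ t' := by
      rw [← cancel_mono fU, Category.assoc, ← hs, ← Category.assoc y, hxy, Category.assoc,
        Category.assoc, Category.assoc, pullback.condition]
    refine ⟨pullback.lift y (x ≫ pullback.snd _ _) hy, pullback.lift_fst _ _ _, ?_⟩
    apply pullback.hom_ext
    · rw [N₁, Category.assoc, pullback.lift_fst, pullback.lift_fst_assoc, hxy]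
    · rw [N₁, Category.assoc, pullback.lift_snd, pullback.lift_snd_assoc, Category.comp_id]
  · intro T l₁ l₂ h1 h2
    apply pullback.hom_ext h1
    have := congrArg (· ≫ pullback.snd _ _) h2
    simpa only [N₁, Category.assoc, pullback.lift_snd, Category.comp_id] using this

theorem isPullback_N₂ :
    IsPullback (pullback.snd (ι ≫ G₂.s) (t' ≫ fU)) (N₂ t' fU ι τ ht) τ
      (pullback.snd (ι ≫ G₂.s) (ι ≫ G₂.t)) := by
  apply isPullback_of_exists_unique
  · exact (pullback.lift_snd _ _ _).symm
  · intro T y x hxy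
    have hy : (x ≫ pullback.fst _ _) ≫ ι ≫ G₂.s = y ≫ t' ≫ fU := by
      rw [Category.assoc, pullback.condition, ← Category.assoc, ← hxy, ← ht, Category.assoc]
    refine ⟨pullback.lift (x ≫ pullback.fst _ _) y hy, pullback.lift_snd _ _ _, ?_⟩
    apply pullback.hom_ext
    · rw [N₂, Category.assoc, pullback.lift_fst, pullback.lift_fst_assoc, Category.comp_id]
    · rw [N₂, Category.assoc, pullback.lift_snd, pullback.lift_snd_assoc, hxy]
  · intro T l₁ l₂ h1 h2
    refine pullback.hom_ext ?_ h1
    have := congrArg (· ≫ pullback.fst _ _) h2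
    simpa only [N₂, Category.assoc, pullback.lift_fst, Category.comp_id] using this

/-- the product of a dominant morphism with itself is dominant, over a universally open base. -/
theorem denseRange_N [Mono fU] [UniversallyOpen (ι ≫ G₂.s)] [UniversallyOpen (t' ≫ fU)]
    (hτ : DenseRange τ) : DenseRange (N₁ s' t' fU ι τ hs ≫ N₂ t' fU ι τ ht) := by
  have h1 : Dense (Set.range (N₁ s' t' fU ι τ hs)) := by
    rw [range_snd_of_isPullback (isPullback_N₁ s' t' fU ι τ hs)]
    exact hτ.preimage (pullback.fst (ι ≫ G₂.s) (t' ≫ fU)).isOpenMap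
  have h2 : DenseRange (N₂ t' fU ι τ ht) := by
    change Dense (Set.range _)
    rw [range_snd_of_isPullback (isPullback_N₂ t' fU ι τ ht)]
    exact hτ.preimage (pullback.snd (ι ≫ G₂.s) (ι ≫ G₂.t)).isOpenMap
  have := h2.dense_image (N₂ t' fU ι τ ht).continuous h1
  change Dense (Set.range _)
  rw [Scheme.Hom.comp_base, TopCat.coe_comp, Set.range_comp]
  exact this

theorem N_comp :
    (N₁ s' t' fU ι τ hs ≫ N₂ t' fU ι τ ht) ≫
      pullback.map (ι ≫ G₂.s) (ι ≫ G₂.t) G₂.s G₂.t ι ι (𝟙 G₂.U)
        (Category.comp_id _) (Category.comp_id _) =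
    pullback.map s' t' G₂.s G₂.t (τ ≫ ι) (τ ≫ ι) fU
      (by rw [Category.assoc, hs]) (by rw [Category.assoc, ht]) := by
  apply pullback.hom_ext
  · simp only [N₁, N₂, Category.assoc, pullback.lift_fst, pullback.lift_fst_assoc,
      Category.comp_id]
  · simp only [N₁, N₂, Category.assoc, pullback.lift_snd, pullback.lift_snd_assoc,
      Category.comp_id]

end general

variable {S : Scheme.{u}} {G₁ G₂ : Grpd.GroupoidScheme S} (f : Grpd.GroupoidScheme.Hom G₁ G₂)

/-- compatibility of a morphism of groupoids with the composition, universal form. -/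
theorem hom_c :
    pullback.map G₁.s G₁.t G₂.s G₂.t f.fR f.fR f.fU f.comm_s.symm f.comm_t.symm ≫ G₂.c =
      G₁.c ≫ f.fR := by
  have h := f.comm_c (pullback.fst G₁.s G₁.t) (pullback.snd G₁.s G₁.t) pullback.condition
  have hid : pullback.lift (pullback.fst G₁.s G₁.t) (pullback.snd G₁.s G₁.t) pullback.condition =
      𝟙 _ := by
    apply pullback.hom_ext
    · rw [pullback.lift_fst, Category.id_comp]
    · rw [pullback.lift_snd, Category.id_comp]
  rw [hid, Category.id_comp] at h
  rw [h]

theorem range_comp_subset {X Y Z : Scheme.{u}} (f : X ⟶ Y) (g : Y ⟶ Z) :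
    Set.range (f ≫ g) ⊆ Set.range g := by
  rintro _ ⟨x, rfl⟩
  exact ⟨f x, (Scheme.Hom.comp_apply f g x).symm⟩

theorem subsingleton_of_iso_field {k : Type u} [Field k] {Y : Scheme.{u}}
    (eU : Y ≅ Spec (CommRingCat.of k)) : Subsingleton Y :=
  eU.hom.homeomorph.toEquiv.subsingleton

theorem isIntegral_of_iso_field {k : Type u} [Field k] {Y : Scheme.{u}}
    (eU : Y ≅ Spec (CommRingCat.of k)) : IsIntegral Y := by
  haveI : Nonempty Y := eU.hom.homeomorph.toEquiv.nonempty_congr.2 inferInstance
  haveI : IsIntegral (Spec (CommRingCat.of k)) := inferInstance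
  exact isIntegral_of_isOpenImmersion eU.hom

/-- products of reduced schemes over (a scheme isomorphic to) the spectrum of a perfect field are
reduced. -/
theorem isReduced_pullback_of_iso_perfectField {k : Type u} [Field k] [PerfectField k]
    {X Y U : Scheme.{u}} (eU : U ≅ Spec (CommRingCat.of k)) [IsReduced X] [IsReduced Y]
    (a : X ⟶ U) (b : Y ⟶ U) : IsReduced (pullback a b) := by
  haveI := isReduced_pullback_of_perfectField k (a ≫ eU.hom) (b ≫ eU.hom)
  let e := pullback.map a b (a ≫ eU.hom) (b ≫ eU.hom) (𝟙 _) (𝟙 _) eU.hom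
    (by rw [Category.id_comp]) (by rw [Category.id_comp])
  haveI : IsIso e := by
    dsimp only [e]
    infer_instance
  exact isReduced_of_isOpenImmersion e

/-- **closure data on the reduced closure of the image, over a perfect field.** -/
theorem nonempty_data_red [IsIso f.fU] {k : Type u} [Field k] [PerfectField k]
    (eU : G₂.U ≅ Spec (CommRingCat.of k)) :
    Nonempty (Data G₂ (Scheme.IdealSheafData.vanishingIdeal
      (Closeds.closure (Set.range f.fR))).subschemeι) := by
  set C : Closeds G₂.R := Closeds.closure (Set.range f.fR) with hCdef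
  set I := Scheme.IdealSheafData.vanishingIdeal C with hI
  have hCcoe : (C : Set G₂.R) = closure (Set.range f.fR) := rfl
  have hsub : Set.range f.fR ⊆ (C : Set G₂.R) := subset_closure
  have hrange : Set.range I.subschemeι = (C : Set G₂.R) := by
    rw [Scheme.IdealSheafData.range_subschemeι, Scheme.IdealSheafData.coe_support_vanishingIdeal]
  haveI : IsReduced I.subscheme := Groth.Agent.H22.isReduced_subscheme_vanishingIdeal C
  haveI : Subsingleton G₂.U := subsingleton_of_iso_field eU
  haveI : IsIntegral G₂.U := isIntegral_of_iso_field eU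
  -- the identity
  have he : G₂.e = inv f.fU ≫ G₁.e ≫ f.fR := by
    rw [hom_map_e f, IsIso.inv_hom_id_assoc]
  obtain ⟨eP, heP⟩ := exists_lift_of_isReduced G₂.e C (by
    rw [he, ← Category.assoc]
    exact (range_comp_subset _ _).trans hsub)
  -- the inverse
  have hmaps : Set.MapsTo G₂.i (Set.range f.fR) (Set.range f.fR) := by
    rintro _ ⟨r, rfl⟩
    refine ⟨G₁.i r, ?_⟩
    rw [← Scheme.Hom.comp_apply, ← Scheme.Hom.comp_apply, hom_map_i f]
  obtain ⟨iP, hiP⟩ := exists_lift_of_isReduced (I.subschemeι ≫ G₂.i) C (by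
    rintro _ ⟨z, rfl⟩
    rw [Scheme.Hom.comp_apply, hCcoe]
    have hz : I.subschemeι z ∈ closure (Set.range f.fR) := by
      rw [← hCcoe, ← hrange]; exact ⟨z, rfl⟩
    exact map_mem_closure G₂.i.continuous hz hmaps)
  -- the composition
  set I₁ := Scheme.IdealSheafData.vanishingIdeal (⊤ : Closeds G₁.R) with hI₁
  haveI : IsReduced I₁.subscheme := Groth.Agent.H22.isReduced_subscheme_vanishingIdeal ⊤
  have hρ : Set.range I₁.subschemeι = Set.univ := by
    rw [Scheme.IdealSheafData.range_subschemeι, Scheme.IdealSheafData.coe_support_vanishingIdeal]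
    rfl
  obtain ⟨τ, hτ⟩ := exists_lift_of_isReduced (I₁.subschemeι ≫ f.fR) C
    ((range_comp_subset _ _).trans hsub)
  have hτrange : I.subschemeι '' Set.range τ = Set.range f.fR := by
    rw [← Set.range_comp, ← TopCat.coe_comp, ← Scheme.Hom.comp_base, hτ, Scheme.Hom.comp_base,
      TopCat.coe_comp, Set.range_comp, hρ, Set.image_univ]
  have hτdense : DenseRange τ := by
    change Dense (Set.range τ)
    rw [dense_iff_closure_eq]
    apply I.subschemeι.isClosedEmbedding.injective.image_injective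
    rw [← I.subschemeι.isClosedEmbedding.closure_image_eq, hτrange, Set.image_univ, hrange]
    exact hCcoe.symm
  have hs : τ ≫ I.subschemeι ≫ G₂.s = (I₁.subschemeι ≫ G₁.s) ≫ f.fU := by
    rw [← Category.assoc, hτ, Category.assoc, Category.assoc, f.comm_s]
  have ht : τ ≫ I.subschemeι ≫ G₂.t = (I₁.subschemeι ≫ G₁.t) ≫ f.fU := by
    rw [← Category.assoc, hτ, Category.assoc, Category.assoc, f.comm_t]
  haveI : IsReduced (pullback (I.subschemeι ≫ G₂.s) (I.subschemeι ≫ G₂.t)) :=
    isReduced_pullback_of_iso_perfectField eU _ _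
  have hdense := denseRange_N (I₁.subschemeι ≫ G₁.s) (I₁.subschemeι ≫ G₁.t) f.fU I.subschemeι τ
    hs ht hτdense
  obtain ⟨cP, hcP⟩ := exists_lift_of_isReduced
    (pullback.map (I.subschemeι ≫ G₂.s) (I.subschemeι ≫ G₂.t) G₂.s G₂.t I.subschemeι I.subschemeι
      (𝟙 G₂.U) (Category.comp_id _) (Category.comp_id _) ≫ G₂.c) C (by
    apply range_subset_of_dense _ C _ hdense
    rintro _ ⟨v, rfl⟩
    apply hsub
    rw [← Scheme.Hom.comp_apply, ← Category.assoc,
      N_comp (I₁.subschemeι ≫ G₁.s) (I₁.subschemeι ≫ G₁.t) f.fU I.subschemeι τ hs ht]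
    have e1 : pullback.map (I₁.subschemeι ≫ G₁.s) (I₁.subschemeι ≫ G₁.t) G₂.s G₂.t
        (τ ≫ I.subschemeι) (τ ≫ I.subschemeι) f.fU ((Category.assoc _ _ _).trans hs).symm
        ((Category.assoc _ _ _).trans ht).symm =
        pullback.map (I₁.subschemeι ≫ G₁.s) (I₁.subschemeι ≫ G₁.t) G₁.s G₁.t I₁.subschemeι
          I₁.subschemeι (𝟙 _) (Category.comp_id _) (Category.comp_id _) ≫
        pullback.map G₁.s G₁.t G₂.s G₂.t f.fR f.fR f.fU f.comm_s.symm f.comm_t.symm := by
      have hτ' : τ ≫ I.subschemeι = I₁.subschemeι ≫ f.fR := hτ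
      apply pullback.hom_ext
      · simp only [Category.assoc, pullback.lift_fst, pullback.lift_fst_assoc]
        rw [hτ']
      · simp only [Category.assoc, pullback.lift_snd, pullback.lift_snd_assoc]
        rw [hτ']
    rw [e1, Category.assoc, hom_c f, ← Category.assoc, Scheme.Hom.comp_apply]
    exact ⟨_, rfl⟩)
  exact ⟨{ eP := eP, heP := heP, iP := iP, hiP := hiP, cP := cP, hcP := hcP }⟩

end Groth.Agent.H49.GrpdImage
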