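import Groth.Agent.H49.GrpdImageRed

/-!
# Groupoids on the reduced closure of the image over a perfect field: final statements (helper49)
-/

set_option autoImplicit false
set_option linter.style.haveILetI false

universe u

open CategoryTheory CategoryTheory.Limits AlgebraicGeometry TopologicalSpace

namespace Groth.Agent.H49.GrpdImage

open Groth.Agent.H90 Groth.Agent.H49.SubGrpd

variable {S : Scheme.{u}}

theorem exists_red_image {G₁ G₂ : Grpd.GroupoidScheme S} (f : Grpd.GroupoidScheme.Hom G₁ G₂)
    [IsIso f.fU] {k : Type u} [Field k] [PerfectField k] (eU : G₂.U ≅ Spec (CommRingCat.of k)) :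
    ∃ (G' : Grpd.GroupoidScheme S) (ψ : Grpd.GroupoidScheme.Hom G' G₂), IsIso ψ.fU ∧
      IsClosedImmersion ψ.fR ∧ IsReduced G'.R ∧
      Set.range ⇑ψ.fR = closure (Set.range ⇑f.fR) := by
  obtain ⟨D⟩ := nonempty_data_red f eU
  refine ⟨D.GP, incl D, (inferInstance : IsIso (𝟙 G₂.U)), ?_, ?_, ?_⟩
  · exact (inferInstance : IsClosedImmersion (Scheme.IdealSheafData.vanishingIdeal
      (Closeds.closure (Set.range f.fR))).subschemeι)
  · exact Groth.Agent.H22.isReduced_subscheme_vanishingIdeal _
  · change Set.range (Scheme.IdealSheafData.vanishingIdeal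
      (Closeds.closure (Set.range f.fR))).subschemeι = _
    rw [Scheme.IdealSheafData.range_subschemeι, Scheme.IdealSheafData.coe_support_vanishingIdeal]
    rfl

theorem exists_red_image_j (G : Grpd.GroupoidScheme S) {k : Type u} [Field k] [PerfectField k]
    (eU : G.U ≅ Spec (CommRingCat.of k)) :
    ∃ (G' : Grpd.GroupoidScheme S) (ψ : G'.U ≅ G.U) (hψ : ψ.hom ≫ G.pU = G'.pU),
      IsReduced G'.R ∧ IsClosedImmersion G'.j ∧
      Set.range ⇑(G'.j ≫ pullback.map G'.pU G'.pU G.pU G.pU ψ.hom ψ.hom (𝟙 S)
        ((Category.comp_id _).trans hψ.symm) ((Category.comp_id _).trans hψ.symm)) =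
        closure (Set.range ⇑G.j) := by
  haveI : IsIso (jHom G).fU := (inferInstance : IsIso (𝟙 G.U))
  obtain ⟨D⟩ : Nonempty (Data (pairGrpd G.pU) (Scheme.IdealSheafData.vanishingIdeal
      (Closeds.closure (Set.range (jHom G).fR))).subschemeι) :=
    nonempty_data_red (jHom G) (G₂ := pairGrpd G.pU) eU
  have hj : D.GP.j = (Scheme.IdealSheafData.vanishingIdeal
      (Closeds.closure (Set.range (jHom G).fR))).subschemeι := GP_j_eq D
  refine ⟨D.GP, Iso.refl G.U, Category.id_comp _, ?_, ?_, ?_⟩
  · exact Groth.Agent.H22.isReduced_subscheme_vanishingIdeal _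
  · have hcl : IsClosedImmersion (Scheme.IdealSheafData.vanishingIdeal
      (Closeds.closure (Set.range (jHom G).fR))).subschemeι := inferInstance
    rw [hj]; exact hcl
  · have h1 : pullback.map D.GP.pU D.GP.pU G.pU G.pU (Iso.refl G.U).hom (Iso.refl G.U).hom (𝟙 S)
        ((Category.comp_id _).trans (Category.id_comp G.pU).symm)
        ((Category.comp_id _).trans (Category.id_comp G.pU).symm) = 𝟙 _ :=
      pullback_map_id G.pU G.pU _ _
    rw [h1, hj]
    have h2 : Set.range ⇑((Scheme.IdealSheafData.vanishingIdeal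
        (Closeds.closure (Set.range (jHom G).fR))).subschemeι ≫ 𝟙 (pairGrpd G.pU).R) =
        closure (Set.range ⇑(jHom G).fR) := by
      rw [Category.comp_id, Scheme.IdealSheafData.range_subschemeι,
        Scheme.IdealSheafData.coe_support_vanishingIdeal]
      rfl
    exact h2

end Groth.Agent.H49.GrpdImage
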