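import Groth.Agent.H40.GQ.Orbit
import Groth.Agent.S0593

/-!
# Invariant affine opens descend along integral morphisms meeting every orbit (helper49)
-/

set_option autoImplicit false
set_option linter.style.haveILetI false

universe u

open CategoryTheory CategoryTheory.Limits AlgebraicGeometry TopologicalSpace

namespace Groth.Agent.H49.GrpdIntegral

open Groth.Agent.H40.GQ

variable {S : Scheme.{u}} (G : Grpd.GroupoidScheme S) [IsIntegralHom G.s] [IsIntegralHom G.t]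
  {U' : Scheme.{u}} (g : U' ⟶ G.U) [IsIntegralHom g]

/-- `h = s ∘ pr₁ : U' ×_{g,U,t} R ⟶ U`. -/
noncomputable abbrev hh : pullback g G.t ⟶ G.U := pullback.snd g G.t ≫ G.s

theorem hh_surjective (horb : ∀ u : G.U, ∃ r : G.R, G.s r = u ∧ G.t r ∈ Set.range ⇑g) :
    Function.Surjective (hh G g) := by
  intro y
  obtain ⟨r, hr, u', hu'⟩ := horb y
  obtain ⟨x, -, hx2⟩ := Scheme.Pullback.exists_preimage_pullback (f := g) (g := G.t) u' r hu'
  refine ⟨x, ?_⟩
  rw [Scheme.Hom.comp_apply, hx2, hr]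

/-- the saturation property of `W'`. -/
theorem mem_of_orb (W' : U'.Opens)
    (hinv : (pullback.fst (pullback.snd g G.t ≫ G.s) g ≫ pullback.fst g G.t) ⁻¹ᵁ W' =
      (pullback.snd (pullback.snd g G.t ≫ G.s) g) ⁻¹ᵁ W')
    (u₁ u₂ : U') (horb : Orb G (g u₂) (g u₁)) (h₂ : u₂ ∈ W') : u₁ ∈ W' := by
  obtain ⟨ρ, hρs, hρt⟩ := horb
  obtain ⟨z, hz1, hz2⟩ := Scheme.Pullback.exists_preimage_pullback (f := g) (g := G.t) u₁ ρ
    hρt.symm
  have hz : (pullback.snd g G.t ≫ G.s) z = g u₂ := by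
    rw [Scheme.Hom.comp_apply, hz2, hρs]
  obtain ⟨w, hw1, hw2⟩ := Scheme.Pullback.exists_preimage_pullback
    (f := pullback.snd g G.t ≫ G.s) (g := g) z u₂ hz
  have h1 : w ∈ (pullback.snd (pullback.snd g G.t ≫ G.s) g) ⁻¹ᵁ W' := by
    change pullback.snd (pullback.snd g G.t ≫ G.s) g w ∈ W'
    rw [hw2]; exact h₂
  rw [← hinv] at h1
  have h2 : (pullback.fst (pullback.snd g G.t ≫ G.s) g ≫ pullback.fst g G.t) w ∈ W' := h1
  rwa [Scheme.Hom.comp_apply, hw1, hz1] at h2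

set_option backward.isDefEq.respectTransparency.types false in
theorem exists_invariant_affine
    (horb : ∀ u : G.U, ∃ r : G.R, G.s r = u ∧ G.t r ∈ Set.range ⇑g) (u' : U') (W' : U'.Opens)
    (hW' : IsAffineOpen W') (hu' : u' ∈ W')
    (hinv : (pullback.fst (pullback.snd g G.t ≫ G.s) g ≫ pullback.fst g G.t) ⁻¹ᵁ W' =
      (pullback.snd (pullback.snd g G.t ≫ G.s) g) ⁻¹ᵁ W') :
    ∃ W : G.U.Opens, IsAffineOpen W ∧ g u' ∈ W ∧ G.s ⁻¹ᵁ W = G.t ⁻¹ᵁ W := by
  -- the set `W`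
  set Ws : Set G.U := {y | ∃ v ∈ W', Orb G y (g v)} with hWs
  have hpre : (hh G g) ⁻¹' Ws = ((pullback.fst g G.t) ⁻¹ᵁ W' : (pullback g G.t).Opens) := by
    ext x
    have hcond : g (pullback.fst g G.t x) = G.t (pullback.snd g G.t x) := by
      rw [← Scheme.Hom.comp_apply, ← Scheme.Hom.comp_apply, pullback.condition]
    have horbx : Orb G ((hh G g) x) (g (pullback.fst g G.t x)) :=
      ⟨pullback.snd g G.t x, rfl, hcond.symm⟩
    constructor
    · rintro ⟨v, hv, hxv⟩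
      exact mem_of_orb G g W' hinv _ v (hxv.symm.trans horbx) hv
    · intro hx
      exact ⟨pullback.fst g G.t x, hx, horbx⟩
  have hquot : Topology.IsQuotientMap (hh G g) :=
    (hh G g).isClosedMap.isQuotientMap (hh G g).continuous (hh_surjective G g horb)
  have hopen : IsOpen Ws := by
    rw [← hquot.isOpen_preimage, hpre]
    exact ((pullback.fst g G.t) ⁻¹ᵁ W').2
  set W : G.U.Opens := ⟨Ws, hopen⟩ with hW
  have hpre' : (hh G g) ⁻¹ᵁ W = (pullback.fst g G.t) ⁻¹ᵁ W' := by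
    ext1
    exact hpre
  refine ⟨W, ?_, ?_, ?_⟩
  · -- affine
    have haff : IsAffineOpen ((hh G g) ⁻¹ᵁ W) := by
      rw [hpre']
      exact hW'.preimage (pullback.fst g G.t)
    haveI : IsAffine ((hh G g) ⁻¹ᵁ W).toScheme := haff
    haveI : Surjective ((hh G g) ∣_ W) := by
      haveI : Surjective (hh G g) := ⟨hh_surjective G g horb⟩
      exact IsZariskiLocalAtTarget.restrict (P := @Surjective) inferInstance W
    haveI : IsIntegralHom ((hh G g) ∣_ W) :=
      IsZariskiLocalAtTarget.restrict (P := @IsIntegralHom) inferInstance W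
    exact Groth.Agent.S0593.result _ _ ((hh G g) ∣_ W)
  · exact ⟨u', hu', orb_refl G (g u')⟩
  · ext r
    change G.s r ∈ Ws ↔ G.t r ∈ Ws
    have h1 : Orb G (G.s r) (G.t r) := ⟨r, rfl, rfl⟩
    constructor
    · rintro ⟨v, hv, hxv⟩
      exact ⟨v, hv, h1.symm.trans hxv⟩
    · rintro ⟨v, hv, hxv⟩
      exact ⟨v, hv, h1.trans hxv⟩

end Groth.Agent.H49.GrpdIntegral
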