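import Groth.Agent.H49.GrpdImageField

/-!
# The pair groupoid `(U, U ×_S U)` and the morphism `j` (helper49)
-/

set_option autoImplicit false
set_option linter.style.haveILetI false

universe u

open CategoryTheory CategoryTheory.Limits AlgebraicGeometry

namespace Groth.Agent.H49.GrpdImage

open Groth.Agent.H90 Groth.Agent.H49.SubGrpd

variable {S : Scheme.{u}}

/-- the pair groupoid of `U` over `S`. -/
noncomputable def pairGrpd {U : Scheme.{u}} (pU : U ⟶ S) : Grpd.GroupoidScheme S where
  U := U
  R := pullback pU pU
  pU := pU
  pR := pullback.fst pU pU ≫ pU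
  s := pullback.snd pU pU
  t := pullback.fst pU pU
  e := pullback.lift (𝟙 U) (𝟙 U) rfl
  i := pullback.lift (pullback.snd pU pU) (pullback.fst pU pU) pullback.condition.symm
  c := pullback.lift (pullback.fst _ _ ≫ pullback.fst pU pU) (pullback.snd _ _ ≫ pullback.snd pU pU)
    (by rw [Category.assoc, Category.assoc, pullback.condition, pullback.condition_assoc,
      pullback.condition])
  s_over := pullback.condition.symm
  t_over := rfl
  comp_s α β h := by
    rw [Category.assoc, pullback.lift_snd, pullback.lift_snd_assoc]
  comp_t α β h := by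
    rw [Category.assoc, pullback.lift_fst, pullback.lift_fst_assoc]
  assoc α β γ h₁ h₂ := by
    apply pullback.hom_ext
    · simp only [Category.assoc, pullback.lift_fst, pullback.lift_fst_assoc]
    · simp only [Category.assoc, pullback.lift_snd, pullback.lift_snd_assoc]
  e_s := pullback.lift_snd _ _ _
  e_t := pullback.lift_fst _ _ _
  comp_e α := by
    apply pullback.hom_ext
    · simp only [Category.assoc, pullback.lift_fst, pullback.lift_fst_assoc]
    · simp only [Category.assoc, pullback.lift_snd, pullback.lift_snd_assoc, Category.comp_id]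
  e_comp α := by
    apply pullback.hom_ext
    · simp only [Category.assoc, pullback.lift_fst, pullback.lift_fst_assoc, Category.comp_id]
    · simp only [Category.assoc, pullback.lift_snd, pullback.lift_snd_assoc]
  i_s := pullback.lift_snd _ _ _
  i_t := pullback.lift_fst _ _ _
  comp_i α := by
    apply pullback.hom_ext
    · simp only [Category.assoc, pullback.lift_fst, pullback.lift_fst_assoc, Category.comp_id]
    · simp only [Category.assoc, pullback.lift_snd, pullback.lift_snd_assoc, Category.comp_id]
  i_comp α := by
    apply pullback.hom_ext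
    · simp only [Category.assoc, pullback.lift_fst, pullback.lift_fst_assoc, Category.comp_id]
    · simp only [Category.assoc, pullback.lift_snd, pullback.lift_snd_assoc, Category.comp_id]

theorem jHom_comm_c (G : Grpd.GroupoidScheme S) {T : Scheme.{u}} (α β : T ⟶ G.R)
    (h : α ≫ G.s = β ≫ G.t)
    (h' : (α ≫ G.j) ≫ pullback.snd G.pU G.pU = (β ≫ G.j) ≫ pullback.fst G.pU G.pU) :
    (pullback.lift α β h ≫ G.c) ≫ G.j =
      pullback.lift (α ≫ G.j) (β ≫ G.j) h' ≫ (pairGrpd G.pU).c := by
  have hf : G.j ≫ pullback.fst G.pU G.pU = G.t := pullback.lift_fst _ _ _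
  have hs : G.j ≫ pullback.snd G.pU G.pU = G.s := pullback.lift_snd _ _ _
  apply pullback.hom_ext
  · simp only [pairGrpd, Category.assoc, pullback.lift_fst, pullback.lift_fst_assoc]
    rw [hf, ← Category.assoc, G.comp_t]
  · simp only [pairGrpd, Category.assoc, pullback.lift_snd, pullback.lift_snd_assoc]
    rw [hs, ← Category.assoc, G.comp_s]

/-- `j = (t, s)` as a morphism of groupoids to the pair groupoid. -/
noncomputable def jHom (G : Grpd.GroupoidScheme S) : Grpd.GroupoidScheme.Hom G (pairGrpd G.pU) where
  fU := 𝟙 _
  fR := G.j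
  fU_over := Category.id_comp _
  comm_s := by
    change G.j ≫ pullback.snd G.pU G.pU = G.s ≫ 𝟙 _
    rw [Category.comp_id]; exact pullback.lift_snd _ _ _
  comm_t := by
    change G.j ≫ pullback.fst G.pU G.pU = G.t ≫ 𝟙 _
    rw [Category.comp_id]; exact pullback.lift_fst _ _ _
  comm_c α β h := jHom_comm_c G α β h _

end Groth.Agent.H49.GrpdImage
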