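import Groth.Agent.H49.GrpdPair

/-!
# The groupoid on the scheme-theoretic image of `j` over a field (helper49)
-/

set_option autoImplicit false
set_option linter.style.haveILetI false

universe u

open CategoryTheory CategoryTheory.Limits AlgebraicGeometry

namespace Groth.Agent.H49.GrpdImage

open Groth.Agent.H90 Groth.Agent.H49.SubGrpd

variable {S : Scheme.{u}}

/-- a morphism from (a scheme isomorphic to) the spectrum of a field is separated. -/
theorem isSeparated_of_iso_field {k : Type u} [Field k] {Y : Scheme.{u}}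
    (eU : Y ≅ Spec (CommRingCat.of k)) (g : Y ⟶ S) : IsSeparated g := by
  haveI : Subsingleton Y := eU.hom.homeomorph.toEquiv.subsingleton
  haveI : Nonempty Y := eU.hom.homeomorph.toEquiv.nonempty_congr.2 inferInstance
  haveI : IsAffine Y := IsAffine.of_isIso eU.hom
  obtain ⟨y₀⟩ := ‹Nonempty Y›
  obtain ⟨V, hV, hyV⟩ : ∃ V : S.Opens, IsAffineOpen V ∧ g y₀ ∈ V := by
    obtain ⟨_, ⟨V, hV, rfl⟩, hyV, -⟩ :=
      S.isBasis_affineOpens.exists_subset_of_mem_open (Set.mem_univ (g y₀)) isOpen_univ
    exact ⟨V, hV, hyV⟩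
  have hrange : Set.range g ⊆ Set.range V.ι := by
    rw [Scheme.Opens.range_ι]
    rintro _ ⟨y, rfl⟩
    rw [Subsingleton.elim y y₀]
    exact hyV
  haveI : IsAffine V := hV
  rw [← IsOpenImmersion.lift_fac V.ι g hrange]
  infer_instance

/-- `j` is quasi-compact when `R` is compact and `U` is the spectrum of a field. -/
theorem quasiCompact_j (G : Grpd.GroupoidScheme S) {k : Type u} [Field k]
    (eU : G.U ≅ Spec (CommRingCat.of k)) [CompactSpace G.R] : QuasiCompact G.j := by
  haveI : IsSeparated G.pU := isSeparated_of_iso_field eU G.pU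
  haveI : IsAffine G.U := IsAffine.of_isIso eU.hom
  haveI : QuasiSeparatedSpace ↥(pullback G.pU G.pU) :=
    quasiSeparatedSpace_of_quasiSeparated (pullback.fst G.pU G.pU)
  infer_instance

theorem pullback_map_id {X Y Z : Scheme.{u}} (f : X ⟶ Z) (g : Y ⟶ Z) (h1 h2) :
    pullback.map f g f g (𝟙 X) (𝟙 Y) (𝟙 Z) h1 h2 = 𝟙 _ := by
  apply pullback.hom_ext
  · rw [pullback.lift_fst, Category.comp_id, Category.id_comp]
  · rw [pullback.lift_snd, Category.comp_id, Category.id_comp]

theorem GP_j_eq {U Z : Scheme.{u}} {pU : U ⟶ S} {ι : Z ⟶ (pairGrpd pU).R} [Mono ι]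
    (D : Data (pairGrpd pU) ι) : D.GP.j = ι := by
  apply pullback.hom_ext
  · exact pullback.lift_fst _ _ _
  · exact pullback.lift_snd _ _ _

/-- **the groupoid on the scheme-theoretic image of `j`.** -/
theorem exists_image_j (G : Grpd.GroupoidScheme S) {k : Type u} [Field k]
    (eU : G.U ≅ Spec (CommRingCat.of k)) [CompactSpace G.R] :
    ∃ (G' : Grpd.GroupoidScheme S) (φ : Grpd.GroupoidScheme.Hom G G'), IsIso φ.fU ∧
      IsClosedImmersion G'.j ∧
      G'.j.ker = (G.j ≫ pullback.map G.pU G.pU G'.pU G'.pU φ.fU φ.fU (𝟙 S)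
        ((Category.comp_id _).trans φ.fU_over.symm)
        ((Category.comp_id _).trans φ.fU_over.symm)).ker := by
  haveI : QuasiCompact (jHom G).fR := quasiCompact_j G eU
  haveI : IsIso (jHom G).fU := (inferInstance : IsIso (𝟙 G.U))
  obtain ⟨D⟩ : Nonempty (Data (pairGrpd G.pU) (jHom G).fR.imageι) :=
    exists_image_groupoid (jHom G) eU
  have hj : D.GP.j = (jHom G).fR.imageι := GP_j_eq D
  refine ⟨D.GP, fac (jHom G) (jHom G).fR.toImage (jHom G).fR.toImage_imageι D,
    (inferInstance : IsIso (𝟙 G.U)), ?_, ?_⟩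
  · have hcl : IsClosedImmersion (jHom G).fR.imageι := inferInstance
    rw [hj]; exact hcl
  · rw [hj]
    have : pullback.map G.pU G.pU D.GP.pU D.GP.pU
        (fac (jHom G) (jHom G).fR.toImage (jHom G).fR.toImage_imageι D).fU
        (fac (jHom G) (jHom G).fR.toImage (jHom G).fR.toImage_imageι D).fU (𝟙 S)
        ((Category.comp_id _).trans
          (fac (jHom G) (jHom G).fR.toImage (jHom G).fR.toImage_imageι D).fU_over.symm)
        ((Category.comp_id _).trans
          (fac (jHom G) (jHom G).fR.toImage (jHom G).fR.toImage_imageι D).fU_over.symm) = 𝟙 _ :=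
      pullback_map_id G.pU G.pU _ _
    rw [this]
    have e1 : (G.j ≫ 𝟙 (pullback G.pU G.pU)) = (jHom G).fR := Category.comp_id _
    exact (Scheme.IdealSheafData.ker_subschemeι _).trans (congrArg Scheme.Hom.ker e1.symm)

end Groth.Agent.H49.GrpdImage
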