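import Groth.Agent.H49.TwoSections
import Groth.Agent.H51.GpdFieldDim

/-!
# Groupoid on a field: `dim R = dim G` (Stacks 04RA)
-/

set_option autoImplicit false
set_option linter.style.haveILetI false

universe u

open CategoryTheory CategoryTheory.Limits AlgebraicGeometry Topology

namespace Groth.Agent.H49.GrpdStabDim

variable {S : Scheme.{u}} (G : Grpd.GroupoidScheme S)

/-- The stabilizer immerses into `R`. -/
theorem dim_stabilizer_le :
    topologicalKrullDim G.stabilizer ≤ topologicalKrullDim G.R := by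
  haveI h1 : IsImmersion G.diag := (inferInstance : IsImmersion (pullback.diagonal G.pU))
  haveI h2 : IsImmersion (pullback.fst G.j G.diag) := inferInstance
  exact (pullback.fst G.j G.diag).isEmbedding.isInducing.topologicalKrullDim_le

/-- A topologically embedded `Z → R` on which `s = t` has dimension at most that of the
stabilizer. -/
theorem dim_le_stabilizer {Z : Scheme.{u}} (ι : Z ⟶ G.R) (h : ι ≫ G.s = ι ≫ G.t)
    (hι : IsInducing ι) :
    topologicalKrullDim Z ≤ topologicalKrullDim G.stabilizer := by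
  have hcond : ι ≫ G.j = (ι ≫ G.s) ≫ G.diag := by
    apply pullback.hom_ext
    · rw [Category.assoc, Category.assoc, Grpd.GroupoidScheme.j, Grpd.GroupoidScheme.diag,
        pullback.lift_fst, pullback.lift_fst, Category.comp_id, h]
    · rw [Category.assoc, Category.assoc, Grpd.GroupoidScheme.j, Grpd.GroupoidScheme.diag,
        pullback.lift_snd, pullback.lift_snd, Category.comp_id]
  let l : Z ⟶ pullback G.j G.diag := pullback.lift ι (ι ≫ G.s) hcond
  have hl : l ≫ pullback.fst G.j G.diag = ι := pullback.lift_fst _ _ _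
  have hcomp : (ι : Z → G.R) = (pullback.fst G.j G.diag : ↥(pullback G.j G.diag) → G.R) ∘
      (l : Z → ↥(pullback G.j G.diag)) := by
    rw [← hl]; rfl
  have : IsInducing (l : Z → ↥(pullback G.j G.diag)) := by
    apply IsInducing.of_comp l.continuous (pullback.fst G.j G.diag).continuous
    rw [← hcomp]
    exact hι
  exact this.topologicalKrullDim_le

/-- In a Noetherian ring, a minimal prime has an open neighbourhood inside its own closure. -/
theorem exists_open_subset_zeroLocus {B : Type*} [CommRing B] [IsNoetherianRing B]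
    (p : Ideal B) (hp : p ∈ minimalPrimes B) :
    ∃ V₀ : Set (PrimeSpectrum B), IsOpen V₀ ∧ (⟨p, hp.1.1⟩ : PrimeSpectrum B) ∈ V₀ ∧
      V₀ ⊆ PrimeSpectrum.zeroLocus (p : Set B) := by
  have hfin : (minimalPrimes B \ {p}).Finite :=
    (minimalPrimes.finite_of_isNoetherianRing B).subset Set.sdiff_subset
  have hclosed : IsClosed (⋃ p' ∈ minimalPrimes B \ {p}, PrimeSpectrum.zeroLocus (p' : Set B)) :=
    hfin.isClosed_biUnion fun p' _ => PrimeSpectrum.isClosed_zeroLocus _
  refine ⟨_, hclosed.isOpen_compl, ?_, ?_⟩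
  · rw [Set.mem_compl_iff, Set.mem_iUnion₂]
    rintro ⟨p', ⟨hp', hne⟩, hmem⟩
    rw [PrimeSpectrum.mem_zeroLocus] at hmem
    have hle : p' ≤ p := hmem
    exact hne (le_antisymm hle (hp.2 ⟨hp'.1.1, bot_le⟩ hle))
  · intro x hx
    rw [Set.mem_compl_iff, Set.mem_iUnion₂] at hx
    rw [PrimeSpectrum.mem_zeroLocus]
    haveI := x.2
    obtain ⟨p', hp', hle⟩ := Ideal.exists_minimalPrimes_le (I := ⊥) (J := x.asIdeal) bot_le
    by_cases hpp : p' = p
    · rw [← hpp]; exact hle
    · exact absurd ⟨p', ⟨hp', hpp⟩, (PrimeSpectrum.mem_zeroLocus _ _).mpr hle⟩ hx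

/-- A subset of the range of an inducing map has dimension at most that of the source. -/
theorem dim_subset_range_le {X Y : Type*} [TopologicalSpace X] [TopologicalSpace Y] (ι : Y → X)
    (hι : IsInducing ι) (V : Set X) (hV : V ⊆ Set.range ι) :
    topologicalKrullDim V ≤ topologicalKrullDim Y := by
  choose f hf using fun v : V => hV v.2
  have hcomp : ι ∘ f = Subtype.val := funext hf
  have hfc : Continuous f := by
    rw [hι.continuous_iff, hcomp]
    exact continuous_subtype_val
  have : IsInducing f := by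
    apply IsInducing.of_comp hfc hι.continuous
    rw [hcomp]
    exact IsInducing.subtypeVal
  exact this.topologicalKrullDim_le

/-- The integral affine piece of `R` through the identity on which `s = t`. -/
theorem exists_integral_piece (k : Type u) [Field k] (eU : G.U ≅ Spec (CommRingCat.of k))
    [LocallyOfFiniteType G.s] [LocallyOfFiniteType G.t] :
    ∃ (A : CommRingCat.{u}) (ι : Spec A ⟶ G.R), ι ≫ G.s = ι ≫ G.t ∧
      IsInducing (ι : Spec A → G.R) ∧
      topologicalKrullDim G.R ≤ topologicalKrullDim (Spec A) := by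
  let K : CommRingCat.{u} := CommRingCat.of k
  let e₀ : Spec K ⟶ G.R := eU.inv ≫ G.e
  let s₀ : G.R ⟶ Spec K := G.s ≫ eU.hom
  let t₀ : G.R ⟶ Spec K := G.t ≫ eU.hom
  have hes : e₀ ≫ s₀ = 𝟙 _ := by
    change (eU.inv ≫ G.e) ≫ G.s ≫ eU.hom = 𝟙 _
    rw [Category.assoc, ← Category.assoc G.e, G.e_s, Category.id_comp, Iso.inv_hom_id]
  have het : e₀ ≫ t₀ = 𝟙 _ := by
    change (eU.inv ≫ G.e) ≫ G.t ≫ eU.hom = 𝟙 _
    rw [Category.assoc, ← Category.assoc G.e, G.e_t, Category.id_comp, Iso.inv_hom_id]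
  let pt : Spec K := (⟨⊥, Ideal.isPrime_bot⟩ : PrimeSpectrum k)
  obtain ⟨W, hW, hptW, -⟩ :=
    exists_isAffineOpen_mem_and_subset (X := G.R) (x := e₀ pt) (U := ⊤) trivial
  have hrange : Set.range e₀ ⊆ Set.range hW.fromSpec := by
    rw [hW.range_fromSpec]
    rintro _ ⟨x, rfl⟩
    have : x = pt := @Subsingleton.elim (PrimeSpectrum k) _ _ _
    rw [this]; exact hptW
  let e₁ : Spec K ⟶ Spec Γ(G.R, W) := IsOpenImmersion.lift hW.fromSpec e₀ hrange
  have he₁ : e₁ ≫ hW.fromSpec = e₀ := IsOpenImmersion.lift_fac _ _ _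
  let εB : Γ(G.R, W) ⟶ K := Spec.preimage e₁
  let σB : K ⟶ Γ(G.R, W) := Spec.preimage (hW.fromSpec ≫ s₀)
  let τB : K ⟶ Γ(G.R, W) := Spec.preimage (hW.fromSpec ≫ t₀)
  have hεB : Spec.map εB = e₁ := Spec.map_preimage _
  have hσB : Spec.map σB = hW.fromSpec ≫ s₀ := Spec.map_preimage _
  have hτB : Spec.map τB = hW.fromSpec ≫ t₀ := Spec.map_preimage _
  have hσε : σB ≫ εB = 𝟙 K := by
    apply Spec.map_injective
    rw [Spec.map_comp, hεB, hσB, ← Category.assoc, he₁, hes, Spec.map_id]
  have hτε : τB ≫ εB = 𝟙 K := by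
    apply Spec.map_injective
    rw [Spec.map_comp, hεB, hτB, ← Category.assoc, he₁, het, Spec.map_id]
  have hσft : σB.hom.FiniteType := by
    have : LocallyOfFiniteType (Spec.map σB) := by rw [hσB]; infer_instance
    exact (HasRingHomProperty.Spec_iff (P := @LocallyOfFiniteType)).mp this
  let B : Type u := Γ(G.R, W)
  letI : Algebra k B := σB.hom.toAlgebra
  haveI : Algebra.FiniteType k B := hσft
  haveI : IsNoetherianRing B := Algebra.FiniteType.isNoetherianRing k B
  haveI hq : (RingHom.ker εB.hom).IsPrime := RingHom.ker_isPrime _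
  obtain ⟨p, hp, hpq⟩ :=
    Ideal.exists_minimalPrimes_le (I := (⊥ : Ideal B)) (J := RingHom.ker εB.hom) bot_le
  haveI hpprime : p.IsPrime := hp.1.1
  let π : B →+* B ⧸ p := Ideal.Quotient.mk p
  let σ : k →+* B ⧸ p := π.comp σB.hom
  let τ : k →+* B ⧸ p := π.comp τB.hom
  let ε : B ⧸ p →+* k := Ideal.Quotient.lift p εB.hom (fun a ha => hpq ha)
  have h1 : ε.comp σ = RingHom.id k := by
    ext c
    change εB.hom (σB.hom c) = c
    exact congrArg (fun f : K ⟶ K => f.hom c) hσε
  have h2 : ε.comp τ = RingHom.id k := by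
    ext c
    change εB.hom (τB.hom c) = c
    exact congrArg (fun f : K ⟶ K => f.hom c) hτε
  have hft : σ.FiniteType :=
    (RingHom.FiniteType.of_surjective π Ideal.Quotient.mk_surjective).comp hσft
  have key : σ = τ := TwoSections.eq_of_sections σ τ ε h1 h2 hft
  let A : CommRingCat.{u} := CommRingCat.of (B ⧸ p)
  let πc : Γ(G.R, W) ⟶ A := CommRingCat.ofHom π
  haveI : IsClosedImmersion (Spec.map πc) :=
    IsClosedImmersion.spec_of_surjective πc Ideal.Quotient.mk_surjective
  let ι : Spec A ⟶ G.R := Spec.map πc ≫ hW.fromSpec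
  have hs : ι ≫ s₀ = Spec.map (CommRingCat.ofHom σ) := by
    change (Spec.map πc ≫ hW.fromSpec) ≫ s₀ = _
    rw [Category.assoc, ← hσB, ← Spec.map_comp]
    rfl
  have ht : ι ≫ t₀ = Spec.map (CommRingCat.ofHom τ) := by
    change (Spec.map πc ≫ hW.fromSpec) ≫ t₀ = _
    rw [Category.assoc, ← hτB, ← Spec.map_comp]
    rfl
  have hst : ι ≫ G.s = ι ≫ G.t := by
    rw [← cancel_mono eU.hom, Category.assoc, Category.assoc]
    change ι ≫ s₀ = ι ≫ t₀
    rw [hs, ht, key]
  have hι : IsInducing (ι : Spec A → G.R) := ι.isEmbedding.isInducing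
  refine ⟨A, ι, hst, hι, ?_⟩
  obtain ⟨V₀, hV₀o, hηV₀, hV₀sub⟩ := exists_open_subset_zeroLocus p hp
  let η : Spec Γ(G.R, W) := (⟨p, hp.1.1⟩ : PrimeSpectrum B)
  let V : TopologicalSpace.Opens G.R :=
    ⟨hW.fromSpec '' V₀, hW.fromSpec.isOpenEmbedding.isOpenMap _ hV₀o⟩
  have hηV : hW.fromSpec η ∈ V := ⟨η, hηV₀, rfl⟩
  have hle1 : FlatMor.localDim G.R (hW.fromSpec η) ≤ topologicalKrullDim (V : Set G.R) :=
    iInf_le (fun U : {U : TopologicalSpace.Opens G.R // hW.fromSpec η ∈ U} =>
      topologicalKrullDim (U.1 : Set G.R)) ⟨V, hηV⟩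
  have hVsub : (V : Set G.R) ⊆ Set.range ι := by
    rintro _ ⟨x, hx, rfl⟩
    have hxr : x ∈ Set.range (PrimeSpectrum.comap π) := by
      rw [range_comap_of_surjective _ π Ideal.Quotient.mk_surjective, Ideal.mk_ker]
      exact hV₀sub hx
    obtain ⟨y, rfl⟩ := hxr
    exact ⟨y, rfl⟩
  have hle2 := dim_subset_range_le (ι : Spec A → G.R) hι (V : Set G.R) hVsub
  rw [← (Groth.Agent.H51.s7518 S G k eU).2 (hW.fromSpec η)]
  exact hle1.trans hle2

/-- **Stacks 04RA**: for a groupoid on the spectrum of a field with `s`, `t` locally of finite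
type, `dim R = dim G`. -/
theorem main (k : Type u) [Field k] (eU : G.U ≅ Spec (CommRingCat.of k))
    [LocallyOfFiniteType G.s] [LocallyOfFiniteType G.t] :
    topologicalKrullDim G.R = topologicalKrullDim G.stabilizer := by
  obtain ⟨A, ι, hst, hι, hdim⟩ := exists_integral_piece G k eU
  exact le_antisymm (hdim.trans (dim_le_stabilizer G ι hst hι)) (dim_stabilizer_le G)

end Groth.Agent.H49.GrpdStabDim
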