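import Mathlib.AlgebraicGeometry.Sites.Fpqc
import Mathlib.AlgebraicGeometry.Morphisms.UniversallyOpen
import Mathlib.AlgebraicGeometry.Morphisms.FlatDescent
import Mathlib.CategoryTheory.MorphismProperty.Local

set_option autoImplicit false
universe u
open CategoryTheory CategoryTheory.Limits AlgebraicGeometry Opposite

namespace Groth.Agent.H49

variable (P : MorphismProperty Scheme.{u}) [P.IsLocalAtTarget Scheme.fppfPrecoverage]

/-- Any base change of `f` along `h` has `P` iff the chosen one has. -/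
theorem prop_snd_iff_of_isPullback {X Y Z Q : Scheme.{u}} {f : X ⟶ Y} {h : Z ⟶ Y} {fst : Q ⟶ X}
    {snd : Q ⟶ Z} (sq : IsPullback fst snd f h) : P snd ↔ P (pullback.snd f h) := by
  rw [← sq.isoPullback_hom_snd, P.cancel_left_of_respectsIso]

/-- fppf descent for the base changes of `f`. -/
theorem prop_pullback_snd_of_cover {X Y Z : Scheme.{u}} (f : X ⟶ Y) (h : Z ⟶ Y) (R : Presieve Z)
    (hR : R ∈ Scheme.fppfPrecoverage Z)
    (H : ∀ ⦃V : Scheme.{u}⦄ (k : V ⟶ Z), R k → P (pullback.snd f (k ≫ h))) :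
    P (pullback.snd f h) := by
  refine MorphismProperty.IsLocalAtTarget.of_forall_pullbackSnd (P := P) hR ?_
  intro V k _ hk
  have sq := (IsPullback.of_hasPullback (pullback.snd f h) k).paste_horiz
    (IsPullback.of_hasPullback f h)
  exact (prop_snd_iff_of_isPullback P sq).2 (H k hk)

/-- The presieve of all flat, locally finitely presented morphisms. -/
def allFppf (Z : Scheme.{u}) : Presieve Z :=
  fun W g => Flat g ∧ LocallyOfFinitePresentation g

/-- The presieve of all flat, locally finitely presented morphisms is an fppf covering. -/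
theorem allFppf_mem (Z : Scheme.{u}) : allFppf Z ∈ Scheme.fppfPrecoverage Z := by
  refine ⟨?_, fun {W} g hg => hg⟩
  rw [Scheme.jointlySurjectivePrecoverage, Presieve.mem_comap_jointlySurjectivePrecoverage_iff]
  intro x
  exact ⟨Z, 𝟙 Z, ⟨inferInstance, inferInstance⟩, x, rfl⟩

/-- `P` for base changes of `f` is stable under further flat, locally finitely presented base
change. -/
theorem prop_pullback_snd_comp {X Y Z V : Scheme.{u}} (f : X ⟶ Y) (h : Z ⟶ Y) (k : V ⟶ Z)
    [Flat k] [LocallyOfFinitePresentation k] (H : P (pullback.snd f h)) :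
    P (pullback.snd f (k ≫ h)) := by
  have hk : allFppf Z k := ⟨inferInstance, inferInstance⟩
  have := MorphismProperty.IsLocalAtTarget.pullbackSnd (P := P) (allFppf_mem Z) hk H
  have sq := (IsPullback.of_hasPullback (pullback.snd f h) k).paste_horiz
    (IsPullback.of_hasPullback f h)
  exact (prop_snd_iff_of_isPullback P sq).1 this

/-- `P (f ∣_ W)` in terms of the base change along the open immersion. -/
theorem prop_restrict_iff {X Y : Scheme.{u}} (f : X ⟶ Y) (W : Y.Opens) :
    P (f ∣_ W) ↔ P (pullback.snd f W.ι) :=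
  prop_snd_iff_of_isPullback P (isPullback_morphismRestrict f W).flip

/-- For `P` fppf local on the base there is a largest open of the target over which `f` has `P`,
and it is compatible with flat locally finitely presented base change. -/
theorem exists_largest_open {X Y : Scheme.{u}} (f : X ⟶ Y) :
    ∃ W : Y.Opens, P (f ∣_ W) ∧ (∀ W₀ : Y.Opens, P (f ∣_ W₀) → W₀ ≤ W) ∧
      (∀ (Y' : Scheme.{u}) (g : Y' ⟶ Y), Flat g → LocallyOfFinitePresentation g →
        P (pullback.snd f g) → Set.range g.base ⊆ (W : Set Y)) ∧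
      (∀ (Y' : Scheme.{u}) (g : Y' ⟶ Y), Flat g → LocallyOfFinitePresentation g →
        ∀ W' : Y'.Opens, P (pullback.snd f g ∣_ W') →
          (∀ W₀ : Y'.Opens, P (pullback.snd f g ∣_ W₀) → W₀ ≤ W') → W' = g ⁻¹ᵁ W) := by
  let I := {W₀ : Y.Opens // P (f ∣_ W₀)}
  let W : Y.Opens := ⨆ i : I, i.1
  have hle : ∀ i : I, i.1 ≤ W := fun i => le_iSup (fun i : I => i.1) i
  have h1 : P (f ∣_ W) := by
    rw [prop_restrict_iff P]
    refine prop_pullback_snd_of_cover P f W.ι
      (Presieve.ofArrows (fun i : I => (i.1 : Scheme.{u})) (fun i => Y.homOfLE (hle i))) ?_ ?_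
    · change _ ∈ Scheme.precoverage (@Flat ⊓ @LocallyOfFinitePresentation) _
      rw [Scheme.ofArrows_mem_precoverage_iff]
      refine ⟨fun x => ?_, fun i => ⟨inferInstance, inferInstance⟩⟩
      obtain ⟨i, hi⟩ := TopologicalSpace.Opens.mem_iSup.1 x.2
      refine ⟨i, ⟨x.1, hi⟩, ?_⟩
      apply W.ι.injective
      rw [← Scheme.Hom.comp_apply, Scheme.homOfLE_ι]
      rfl
    · rintro V k ⟨i⟩
      rw [Scheme.homOfLE_ι]
      exact (prop_restrict_iff P f i.1).1 i.2
  have h3 : ∀ (Y' : Scheme.{u}) (g : Y' ⟶ Y), Flat g → LocallyOfFinitePresentation g →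
      P (pullback.snd f g) → Set.range g.base ⊆ (W : Set Y) := by
    intro Y' g _ _ hg
    let W₁ : Y.Opens := ⟨Set.range g, g.isOpenMap.isOpen_range⟩
    have hr : Set.range g ⊆ Set.range W₁.ι := by
      rw [Scheme.Opens.range_ι]
      exact subset_rfl
    obtain ⟨g', hg'⟩ : ∃ g' : Y' ⟶ W₁.toScheme, g' ≫ W₁.ι = g :=
      ⟨IsOpenImmersion.lift W₁.ι g hr, IsOpenImmersion.lift_fac _ _ _⟩
    have hf1 : Flat g' :=
      MorphismProperty.of_postcomp (W := @Flat) (W' := @IsOpenImmersion) g' W₁.ι inferInstance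
        (by rw [hg']; infer_instance)
    have hf2 : LocallyOfFinitePresentation g' :=
      MorphismProperty.of_postcomp (W := @LocallyOfFinitePresentation) (W' := @IsOpenImmersion)
        g' W₁.ι inferInstance (by rw [hg']; infer_instance)
    have hf3 : Surjective g' := by
      refine ⟨fun y => ?_⟩
      have hy0 : W₁.ι y ∈ Set.range W₁.ι := Set.mem_range_self y
      rw [Scheme.Opens.range_ι] at hy0
      obtain ⟨y', hy'⟩ : W₁.ι y ∈ Set.range g := hy0
      refine ⟨y', W₁.ι.injective ?_⟩
      rw [← Scheme.Hom.comp_apply, hg']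
      exact hy'
    have hW₁ : P (f ∣_ W₁) := by
      rw [prop_restrict_iff P]
      refine prop_pullback_snd_of_cover P f W₁.ι (Presieve.singleton g')
        (Scheme.Hom.singleton_mem_fppfPrecoverage g') ?_
      rintro V k ⟨⟩
      rw [hg']
      exact hg
    have hle₁ : W₁ ≤ W := hle ⟨W₁, hW₁⟩
    exact fun y hy => hle₁ hy
  refine ⟨W, h1, fun W₀ h => hle ⟨W₀, h⟩, h3, ?_⟩
  intro Y' g _ _ W' hW' hmax
  have key : ∀ W₀ : Y'.Opens,
      P (pullback.snd f g ∣_ W₀) ↔ P (pullback.snd f (W₀.ι ≫ g)) := by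
    intro W₀
    rw [prop_restrict_iff P]
    have sq := (IsPullback.of_hasPullback (pullback.snd f g) W₀.ι).paste_horiz
      (IsPullback.of_hasPullback f g)
    exact prop_snd_iff_of_isPullback P sq
  apply le_antisymm
  · have := h3 _ (W'.ι ≫ g) inferInstance inferInstance ((key W').1 hW')
    intro y hy
    exact this ⟨⟨y, hy⟩, rfl⟩
  · apply hmax
    rw [key]
    have e : (g ⁻¹ᵁ W).ι ≫ g = (g ∣_ W) ≫ W.ι := (morphismRestrict_ι g W).symm
    rw [e]
    exact prop_pullback_snd_comp P f W.ι (g ∣_ W) ((prop_restrict_iff P f W).1 h1)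

end Groth.Agent.H49
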