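import Mathlib
import Groth.Agent.H24.LimitDescent
import Groth.Agent.H24.LimitOpenMap
import Groth.Agent.H17.ProConsClosed
import Groth.Agent.H17.Chev.Main
import Groth.Agent.H49.FibreDimAtBC

/-!
# Bounded local fibre dimension descends to a stage of a cofiltered limit (helper49)
-/

set_option autoImplicit false
universe u
open CategoryTheory CategoryTheory.Limits AlgebraicGeometry

namespace Groth.Agent.H49.LimitFibreDim

open Groth.Agent.H24

variable {I : Type u} [SmallCategory I] [IsCofiltered I]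
  (D : I ⥤ Scheme.{u}) (c : Cone D) (hc : IsLimit c)
  [∀ (i j : I) (f : i ⟶ j), IsAffineHom (D.map f)] (i₀ : I) [CompactSpace (D.obj i₀)]
  {X₀ Y₀ : Scheme.{u}} (f₀ : X₀ ⟶ Y₀) (g₀ : Y₀ ⟶ D.obj i₀)

include hc in
/-- **`fibreDimAt ≤ d` descends to a stage.** -/
theorem exists_fibreDimAt_le_stageMap [QuasiCompact (f₀ ≫ g₀)] [LocallyOfFiniteType f₀] (d : ℕ)
    {X Y : Scheme.{u}} (f : X ⟶ Y) (g : Y ⟶ c.pt)
    (qY : Y ⟶ Y₀) (qX : X ⟶ X₀) (hY : IsPullback qY g g₀ (c.π.app i₀))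
    (hX : IsPullback qX f f₀ qY) (hd : ∀ x : X, FlatMor.fibreDimAt f x ≤ d) :
    ∃ ψ : Over i₀, ∀ x, FlatMor.fibreDimAt (stageMap D i₀ f₀ g₀ ψ) x ≤ d := by
  let E₀ : Set X₀ := {x | FlatMor.fibreDimAt f₀ x ≤ d}ᶜ
  have hE₀ : ProCons.IsProConstructible E₀ :=
    Groth.Agent.H17.isProConstructible_of_isClosed
      (Groth.Agent.H17.Chev.isOpen_setOf_fibreDimAt_le f₀ d).isClosed_compl
  have hempty : qX.base ⁻¹' E₀ = ∅ := by
    rw [← Set.subset_empty_iff]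
    intro p hp
    apply hp
    change FlatMor.fibreDimAt f₀ (qX p) ≤ d
    rw [← FibreDimAtBC.fibreDimAt_eq_of_isPullback f₀ qY f qX hX p]
    exact hd p
  obtain ⟨ψ, hψ⟩ := exists_preimage_snd_eq_empty D c hc i₀ (f₀ ≫ g₀) (f ≫ g) qX
    (hX.paste_vert hY) hE₀ hempty
  refine ⟨ψ, fun p => ?_⟩
  rw [FibreDimAtBC.fibreDimAt_eq_of_isPullback f₀ _ _ _ (isPullback_stageMap D i₀ f₀ g₀ ψ) p]
  by_contra hcon
  have : p ∈ (pullback.snd (D.map ψ.hom) (f₀ ≫ g₀)).base ⁻¹' E₀ := hcon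
  rw [hψ] at this
  exact this

end Groth.Agent.H49.LimitFibreDim
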