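import Mathlib
import Groth.Agent.H49.LimitFibreDim
import Groth.Agent.H49.FibreDimRetro
import Groth.Agent.H17.Chev.Closed

/-!
# Exact local fibre dimension descends to a stage of a cofiltered limit (helper49)
-/

set_option autoImplicit false
universe u
open CategoryTheory CategoryTheory.Limits AlgebraicGeometry Topology

namespace Groth.Agent.H49.LimitRelDim

open Groth.Agent.H24

theorem isConstructible_setOf_fibreDimAt_le {X S : Scheme.{u}} (f : X ⟶ S)
    [LocallyOfFinitePresentation f] (d : ℕ) :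
    IsConstructible {x : X | FlatMor.fibreDimAt f x ≤ d} :=
  (Groth.Agent.H49.FibreDimRetro.isRetrocompact_setOf_fibreDimAt_le f d).isConstructible
    (Groth.Agent.H17.Chev.isOpen_setOf_fibreDimAt_le f d)

theorem isConstructible_setOf_le_fibreDimAt {X S : Scheme.{u}} (f : X ⟶ S)
    [LocallyOfFinitePresentation f] (n : ℕ) :
    IsConstructible {x : X | (n : WithBot ℕ∞) ≤ FlatMor.fibreDimAt f x} := by
  rcases Nat.eq_zero_or_pos n with rfl | hn
  · convert (IsConstructible.univ : IsConstructible (Set.univ : Set X))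
    ext x
    simp only [Set.mem_ofPred_eq, Set.mem_univ, iff_true]
    exact_mod_cast Groth.Agent.H17.Chev.fibreDimAt_nonneg f x
  · have h := (isConstructible_setOf_fibreDimAt_le f (n - 1)).compl
    convert h using 1
    ext x
    simp only [Set.mem_ofPred_eq, Set.mem_compl_iff, not_le]
    obtain ⟨m, rfl⟩ : ∃ m, n = m + 1 := ⟨n - 1, by omega⟩
    simp only [Nat.add_sub_cancel]
    generalize FlatMor.fibreDimAt f x = d
    induction d with
    | bot => simp
    | coe d =>
      induction d with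
      | top =>
        refine ⟨fun _ => ?_, fun _ => ?_⟩
        · exact WithBot.coe_lt_coe.mpr (ENat.natCast_lt_top m)
        · exact WithBot.coe_le_coe.mpr le_top
      | coe k =>
        constructor
        · intro h
          have : m + 1 ≤ k := by exact_mod_cast h
          exact_mod_cast Nat.lt_of_succ_le this
        · intro h
          have : m < k := by exact_mod_cast h
          exact_mod_cast Nat.succ_le_of_lt this

theorem isConstructible_setOf_fibreDimAt_ne {X S : Scheme.{u}} (f : X ⟶ S)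
    [LocallyOfFinitePresentation f] (d : ℕ) :
    IsConstructible {x : X | FlatMor.fibreDimAt f x ≠ d} := by
  have h := ((isConstructible_setOf_fibreDimAt_le f d).inter
    (isConstructible_setOf_le_fibreDimAt f d)).compl
  convert h using 1
  ext x
  simp only [Set.mem_ofPred_eq, Set.mem_compl_iff, Set.mem_inter_iff, ne_eq]
  rw [← le_antisymm_iff]

variable {I : Type u} [SmallCategory I] [IsCofiltered I]
  (D : I ⥤ Scheme.{u}) (c : Cone D) (hc : IsLimit c)
  [∀ (i j : I) (f : i ⟶ j), IsAffineHom (D.map f)] (i₀ : I) [CompactSpace (D.obj i₀)]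
  {X₀ Y₀ : Scheme.{u}} (f₀ : X₀ ⟶ Y₀) (g₀ : Y₀ ⟶ D.obj i₀)

include hc in
/-- **`fibreDimAt = d` descends to a stage.** -/
theorem exists_fibreDimAt_eq_stageMap [QuasiCompact (f₀ ≫ g₀)] [LocallyOfFinitePresentation f₀]
    (d : ℕ) {X Y : Scheme.{u}} (f : X ⟶ Y) (g : Y ⟶ c.pt)
    (qY : Y ⟶ Y₀) (qX : X ⟶ X₀) (hY : IsPullback qY g g₀ (c.π.app i₀))
    (hX : IsPullback qX f f₀ qY) (hd : ∀ x : X, FlatMor.fibreDimAt f x = d) :
    ∃ ψ : Over i₀, ∀ x, FlatMor.fibreDimAt (stageMap D i₀ f₀ g₀ ψ) x = d := by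
  let E₀ : Set X₀ := {x | FlatMor.fibreDimAt f₀ x ≠ d}
  have hE₀ : ProCons.IsProConstructible E₀ :=
    isProConstructible_of_isLocallyConstructible
      (isConstructible_setOf_fibreDimAt_ne f₀ d).isLocallyConstructible
  have hempty : qX.base ⁻¹' E₀ = ∅ := by
    rw [← Set.subset_empty_iff]
    intro p hp
    apply hp
    change FlatMor.fibreDimAt f₀ (qX p) = d
    rw [← FibreDimAtBC.fibreDimAt_eq_of_isPullback f₀ qY f qX hX p]
    exact hd p
  obtain ⟨ψ, hψ⟩ := exists_preimage_snd_eq_empty D c hc i₀ (f₀ ≫ g₀) (f ≫ g) qX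
    (hX.paste_vert hY) hE₀ hempty
  refine ⟨ψ, fun p => ?_⟩
  rw [FibreDimAtBC.fibreDimAt_eq_of_isPullback f₀ _ _ _ (isPullback_stageMap D i₀ f₀ g₀ ψ) p]
  by_contra hcon
  have : p ∈ (pullback.snd (D.map ψ.hom) (f₀ ≫ g₀)).base ⁻¹' E₀ := hcon
  rw [hψ] at this
  exact this

end Groth.Agent.H49.LimitRelDim
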