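import Groth.Agent.H40.PullDD
import Mathlib.AlgebraicGeometry.Morphisms.Flat

/-!
# Faithfulness of pullback of descent data along a universally-epi refinement

Variant of `Groth.Agent.H40.PullDD.faithful` where the fpqc covering of `V j` is replaced by a single
morphism `q : W ⟶ V j` all of whose base changes are epimorphisms (e.g. flat + surjective,
no quasi-compactness needed).
-/

set_option autoImplicit false
set_option backward.isDefEq.respectTransparency false
set_option backward.isDefEq.respectTransparency.types false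

universe u
open CategoryTheory CategoryTheory.Limits AlgebraicGeometry

namespace Groth.Agent.H49.PullDDFaithful

open Desc Groth.Agent.H40.PullDD

variable {S : Scheme.{u}} {ι κ : Type u} {U : ι → Scheme.{u}} {V : κ → Scheme.{u}}
  {a : ∀ i, U i ⟶ S} {b : ∀ j, V j ⟶ S} {α : ι → κ} {g : ∀ i, U i ⟶ V (α i)}
  (w : ∀ i, g i ≫ b (α i) = a i ≫ 𝟙 S)

theorem faithful_of_epi
    (hloc : ∀ j : κ, ∃ (W : Scheme.{u}) (q : W ⟶ V j) (i : ι) (y : W ⟶ U i),
      y ≫ a i = q ≫ b j ∧ ∀ (Z : Scheme.{u}) (h : Z ⟶ V j), Epi (pullback.fst h q)) :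
    (F w).Faithful := by
  choose W q β y hy hepi using hloc
  refine ⟨fun {D D'} a₁ a₂ h12 => ?_⟩
  apply SchDDFam.hom_ext
  funext j
  ext
  have := hepi j _ (D.obj j).hom
  rw [← cancel_epi (pullback.fst (D.obj j).hom (q j))]
  have hx : (pullback.fst (D.obj j).hom (q j) ≫ (D.obj j).hom) ≫ b j =
      (pullback.snd (D.obj j).hom (q j) ≫ y j) ≫ a (β j) := by
    rw [pullback.condition, Category.assoc, Category.assoc, hy]
  obtain ⟨x₀, hx₀⟩ : ∃ x₀, x₀ = pullback.fst (D.obj j).hom (q j) ≫ (D.obj j).hom := ⟨_, rfl⟩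
  obtain ⟨x₁, hx₁⟩ : ∃ x₁, x₁ = pullback.snd (D.obj j).hom (q j) ≫ y j := ⟨_, rfl⟩
  obtain ⟨i, hi⟩ : ∃ i, i = β j := ⟨_, rfl⟩
  subst hi
  rw [← hx₀, ← hx₁] at hx
  let p : Lifts (D.obj j) x₀ := ⟨pullback.fst _ _, hx₀.symm⟩
  have hx' := compat w x₀ x₁ hx
  have c1 := a₁.comm x₀ (x₁ ≫ g _) hx' p (a₁.push p) rfl
  have c2 := a₂.comm x₀ (x₁ ≫ g _) hx' p (a₂.push p) rfl
  have key : ∀ q' : Lifts (D.obj (α (β j))) (x₁ ≫ g (β j)),
      q'.1 ≫ (a₁.hom (α (β j))).left = q'.1 ≫ (a₂.hom (α (β j))).left := by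
    intro q'
    have h1 : (((F w).map a₁).hom (β j)).left ≫ pullback.fst (D'.obj (α (β j))).hom (g (β j)) =
        pullback.fst (D.obj (α (β j))).hom (g (β j)) ≫ (a₁.hom (α (β j))).left :=
      pullback.lift_fst _ _ _
    have h2 : (((F w).map a₂).hom (β j)).left ≫ pullback.fst (D'.obj (α (β j))).hom (g (β j)) =
        pullback.fst (D.obj (α (β j))).hom (g (β j)) ≫ (a₂.hom (α (β j))).left :=
      pullback.lift_fst _ _ _
    have h3 : pullback.fst (D.obj (α (β j))).hom (g (β j)) ≫ (a₁.hom (α (β j))).left =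
        pullback.fst (D.obj (α (β j))).hom (g (β j)) ≫ (a₂.hom (α (β j))).left := by
      rw [← h1, ← h2, h12]
    have h4 : pullback.lift q'.1 x₁ q'.2 ≫ pullback.fst (D.obj (α (β j))).hom (g (β j)) = q'.1 :=
      pullback.lift_fst _ _ _
    rw [← h4, Category.assoc, Category.assoc, h3]
  have e : D'.φ x₀ (x₁ ≫ g _) hx' (a₁.push p) = D'.φ x₀ (x₁ ≫ g _) hx' (a₂.push p) :=
    Subtype.ext (c1.trans ((key _).trans c2.symm))
  exact congrArg Subtype.val ((D'.φ x₀ (x₁ ≫ g _) hx').injective e)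

/-- flat + surjective version for a one-member refinement. -/
theorem faithful_of_flat_surjective
    (hloc : ∀ j : κ, ∃ (W : Scheme.{u}) (q : W ⟶ V j) (i : ι) (y : W ⟶ U i),
      y ≫ a i = q ≫ b j ∧ Flat q ∧ Surjective q) :
    (F w).Faithful := by
  apply faithful_of_epi w
  intro j
  obtain ⟨W, q, i, y, hy, hfl, hsurj⟩ := hloc j
  refine ⟨W, q, i, y, hy, fun Z h => ?_⟩
  exact Flat.epi_of_flat_of_surjective _

end Groth.Agent.H49.PullDDFaithful
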