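import Groth.Agent.H49.CMRegSeqDim
import Groth.Agent.H49.CMFibreDecomp
import Groth.Agent.H49.CMChartFlat
import Groth.Agent.H47.CI.FibreStalk
import Groth.Prelude.Def_EGA4b

/-!
# Openness of the locus where a sequence is regular on the fibres of a morphism with
Cohen–Macaulay equidimensional fibres (Stacks 00RF-ish / S9174), helper49
-/

set_option autoImplicit false
set_option linter.style.haveILetI false
universe u

open CategoryTheory CategoryTheory.Limits AlgebraicGeometry IsLocalRing TensorProduct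

namespace Groth.Agent.H49.RegSeqFibreOpen

section coheight

/-- coheight is preserved by the closed embedding `Spec B → Spec A` of a surjection. -/
theorem coheight_comap_of_surjective {A B : Type*} [CommRing A] [CommRing B] (φ : A →+* B)
    (hφ : Function.Surjective φ) (Q : PrimeSpectrum B) :
    Order.coheight Q = Order.coheight (PrimeSpectrum.comap φ Q) := by
  have hrefl : ∀ a a' : PrimeSpectrum B,
      PrimeSpectrum.comap φ a ≤ PrimeSpectrum.comap φ a' → a ≤ a' := by
    intro a a' h x hx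
    obtain ⟨y, rfl⟩ := hφ x
    exact h hx
  have hmono : StrictMono (PrimeSpectrum.comap φ) := by
    intro a a' h
    refine lt_of_le_of_ne (fun x hx => h.le hx) fun heq => h.ne ?_
    exact PrimeSpectrum.comap_injective_of_surjective φ hφ heq
  refine Order.coheight_eq_of_strictMono (PrimeSpectrum.comap φ) hmono ?_ Q
  intro a b hab
  have hker : RingHom.ker φ ≤ b.asIdeal := by
    intro x hx
    apply hab.le
    change φ x ∈ a.asIdeal
    rw [hx]
    exact a.asIdeal.zero_mem
  have hb : b ∈ Set.range (PrimeSpectrum.comap φ) := by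
    rw [range_comap_of_surjective _ φ hφ]
    exact hker
  obtain ⟨a', rfl⟩ := hb
  refine ⟨a', lt_of_le_of_ne (hrefl _ _ hab.le) fun heq => hab.ne (by rw [heq]), rfl⟩

end coheight

section iso

variable (R S : Type u) [CommRing R] [CommRing S] [Algebra R S] (I : Ideal S)
  (q' : Ideal (S ⧸ I)) [q'.IsPrime]

/-- the fibre local ring of `S ⧸ I` at `q'` is the quotient of the fibre local ring of `S` at the
contraction of `q'` by the image of `I`. -/
theorem nonempty_fibLocRing_quotient_equiv :
    Nonempty (EGA4.FibLocRing R (S ⧸ I) q' ≃+*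
      EGA4.FibLocRing R S (q'.under S) ⧸
        I.map (algebraMap S (EGA4.FibLocRing R S (q'.under S)))) := by
  let q : Ideal S := q'.under S
  haveI : q.IsPrime := inferInstance
  let Sq := Localization.AtPrime q
  let J : Ideal Sq := I.map (algebraMap S Sq)
  haveI h1 : IsLocalization (Algebra.algebraMapSubmonoid (S ⧸ I) q.primeCompl) (Sq ⧸ J) :=
    inferInstance
  have h2 : Algebra.algebraMapSubmonoid (S ⧸ I) q.primeCompl = q'.primeCompl :=
    Ideal.algebraMapSubmonoid_primeCompl_of_liesOver_surjective q' q Ideal.Quotient.mk_surjective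
  haveI h3 : IsLocalization.AtPrime (Sq ⧸ J) q' := by
    rw [IsLocalization.AtPrime, ← h2]; exact h1
  let e₀ : Localization.AtPrime q' ≃ₐ[S ⧸ I] (Sq ⧸ J) := IsLocalization.algEquiv q'.primeCompl _ _
  let p : Ideal R := q'.comap (algebraMap R (S ⧸ I))
  have hp : q.comap (algebraMap R S) = p := by
    change (q'.comap (algebraMap S (S ⧸ I))).comap (algebraMap R S) = _
    rw [Ideal.comap_comap]
    rfl
  let P : Ideal Sq := p.map (algebraMap R Sq)
  have hmap1 : (p.map (algebraMap R (Localization.AtPrime q'))).map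
      (e₀ : Localization.AtPrime q' →+* (Sq ⧸ J)) = P.map (Ideal.Quotient.mk J) := by
    rw [Ideal.map_map, Ideal.map_map]
    congr 1
    ext r
    simp only [RingHom.comp_apply]
    rw [IsScalarTower.algebraMap_apply R (S ⧸ I) (Localization.AtPrime q')]
    change e₀ (algebraMap (S ⧸ I) _ _) = _
    rw [e₀.commutes]
    rfl
  let e₁ : (Localization.AtPrime q' ⧸ p.map (algebraMap R (Localization.AtPrime q'))) ≃+*
      (Sq ⧸ J) ⧸ P.map (Ideal.Quotient.mk J) :=
    Ideal.quotientEquiv _ _ e₀.toRingEquiv hmap1.symm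
  let e₂ := DoubleQuot.quotQuotEquivComm J P
  have hPP' : (q.comap (algebraMap R S)).map (algebraMap R Sq) = P := by rw [hp]
  have hmap3 : I.map (algebraMap S (Sq ⧸ (q.comap (algebraMap R S)).map (algebraMap R Sq))) =
      (J.map (Ideal.Quotient.mk P)).map
        ((Ideal.quotEquivOfEq hPP'.symm : (Sq ⧸ P) ≃+* _) : (Sq ⧸ P) →+* _) := by
    rw [Ideal.map_map, Ideal.map_map]
    congr 1
  let e₃ : ((Sq ⧸ P) ⧸ J.map (Ideal.Quotient.mk P)) ≃+*
      (Sq ⧸ (q.comap (algebraMap R S)).map (algebraMap R Sq)) ⧸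
        I.map (algebraMap S (Sq ⧸ (q.comap (algebraMap R S)).map (algebraMap R Sq))) :=
    Ideal.quotientEquiv _ _ (Ideal.quotEquivOfEq hPP'.symm) hmap3
  exact ⟨(e₁.trans e₂).trans e₃⟩

/-- the fibre local ring is the localization of the fibre ring. -/
theorem nonempty_atPrime_equiv_fibLocRing (p : Ideal R) [p.IsPrime] (q : Ideal S) [q.IsPrime]
    (hpq : q.comap (algebraMap R S) = p) (Q : Ideal (p.Fiber S)) [Q.IsPrime]
    (hQ : Q.comap Algebra.TensorProduct.includeRight.toRingHom = q) :
    Nonempty (Localization.AtPrime Q ≃+* EGA4.FibLocRing R S q) := by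
  subst hpq
  exact Groth.Agent.H47.CI.nonempty_ringEquiv_fiber_atPrime _ Q q hQ (Localization.AtPrime q)

end iso

section dims

/-- local dimension = dimension of the local ring + coheight -/
theorem localDim_eq_dim_add_coheight (k A : Type u) [Field k] [CommRing A] [Algebra k A]
    [Algebra.FiniteType k A] (P : PrimeSpectrum A) :
    FlatMor.localDim (PrimeSpectrum A) P =
      ringKrullDim (Localization.AtPrime P.asIdeal) + ((Order.coheight P : ℕ∞) : WithBot ℕ∞) := by
  rw [Groth.Agent.H11.FtDim.localDim_eq_height_add_coheight (k := k),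
    IsLocalization.AtPrime.ringKrullDim_eq_height P.asIdeal (Localization.AtPrime P.asIdeal),
    PrimeSpectrum.height_eq_orderHeight P]
  rfl

/-- an equidimensional finite type algebra over a field has constant local dimension. -/
theorem localDim_eq_of_equidim (k A : Type u) [Field k] [CommRing A] [Algebra k A]
    [Algebra.FiniteType k A] (d : ℕ)
    (h : ∀ P ∈ minimalPrimes A, ringKrullDim (A ⧸ P) = (d : WithBot ℕ∞)) (Q : PrimeSpectrum A) :
    FlatMor.localDim (PrimeSpectrum A) Q = (d : WithBot ℕ∞) := by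
  apply le_antisymm
  · refine Groth.Agent.H11.FtDim.localDim_le (k := k) Q _ ?_
    intro P hP _
    exact (h P hP).le
  · obtain ⟨P, hP, hPQ⟩ := Ideal.exists_minimalPrimes_le (bot_le : (⊥ : Ideal A) ≤ Q.asIdeal)
    haveI : P.IsPrime := hP.1.1
    rw [← h P hP]
    exact Groth.Agent.H11.FtDim.localDim_ge (k := k) Q P hPQ

end dims

section pointwise

variable (R S : Type u) [CommRing R] [CommRing S] [Algebra R S] [Algebra.FiniteType R S] (d : ℕ)

theorem fibreDimAt_add_le_iff
    (hCM : ∀ p : PrimeSpectrum R, LocCoh.IsCohenMacaulayRing (p.asIdeal.Fiber S))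
    (heq : ∀ p : PrimeSpectrum R, ∀ P ∈ minimalPrimes (p.asIdeal.Fiber S),
      ringKrullDim (p.asIdeal.Fiber S ⧸ P) = (d : WithBot ℕ∞))
    (f : List S) (I : Ideal S) (hI : Ideal.ofList f = I) (q' : PrimeSpectrum (S ⧸ I)) :
    FlatMor.fibreDimAt (Groth.Agent.H49.CMFibreDecomp.sm R (S ⧸ I))
        (show ↥(Spec (CommRingCat.of (S ⧸ I))) from q') +
        (f.length : WithBot ℕ∞) ≤ (d : WithBot ℕ∞) ↔
      RingTheory.Sequence.IsRegular (EGA4.FibLocRing R S (q'.asIdeal.under S))
        (f.map (algebraMap S (EGA4.FibLocRing R S (q'.asIdeal.under S)))) := by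
  classical
  let p : PrimeSpectrum R := PrimeSpectrum.comap (algebraMap R (S ⧸ I)) q'
  let hT := PrimeSpectrum.preimageHomeomorphFiber R (S ⧸ I) p
  let Qb : PrimeSpectrum (p.asIdeal.Fiber (S ⧸ I)) := hT ⟨q', rfl⟩
  have hQb : Qb.asIdeal.comap (Algebra.TensorProduct.includeRight.toRingHom) = q'.asIdeal := by
    have : (hT.symm Qb).1 = q' := by rw [Homeomorph.symm_apply_apply]
    exact congrArg PrimeSpectrum.asIdeal this
  let φ : p.asIdeal.Fiber S →ₐ[p.asIdeal.ResidueField] p.asIdeal.Fiber (S ⧸ I) :=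
    Algebra.TensorProduct.map (AlgHom.id _ _) (Ideal.Quotient.mkₐ R I)
  have hφ : Function.Surjective φ :=
    Algebra.TensorProduct.map_surjective _ _ Function.surjective_id Ideal.Quotient.mk_surjective
  let Q : PrimeSpectrum (p.asIdeal.Fiber S) := PrimeSpectrum.comap φ.toRingHom Qb
  have hQ : Q.asIdeal.comap (Algebra.TensorProduct.includeRight.toRingHom) =
      q'.asIdeal.under S := by
    change (Qb.asIdeal.comap φ.toRingHom).comap _ = _
    rw [Ideal.comap_comap, ← hQb, Ideal.under, Ideal.comap_comap]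
    congr 1
  have hpq : (q'.asIdeal.under S).comap (algebraMap R S) = p.asIdeal := by
    change (q'.asIdeal.comap (algebraMap S (S ⧸ I))).comap (algebraMap R S) = _
    rw [Ideal.comap_comap]
    rfl
  have hpq' : q'.asIdeal.comap (algebraMap R (S ⧸ I)) = p.asIdeal := rfl
  obtain ⟨εS⟩ := nonempty_atPrime_equiv_fibLocRing R S p.asIdeal (q'.asIdeal.under S) hpq
    Q.asIdeal hQ
  obtain ⟨εT⟩ := nonempty_atPrime_equiv_fibLocRing R (S ⧸ I) p.asIdeal q'.asIdeal hpq'
    Qb.asIdeal hQb
  obtain ⟨εq⟩ := nonempty_fibLocRing_quotient_equiv R S I q'.asIdeal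
  haveI := hCM p
  have hcmQ : LocCoh.IsCohenMacaulayLocalRing (Localization.AtPrime Q.asIdeal) :=
    LocCoh.IsCohenMacaulayRing.isCohenMacaulayLocalRing_localization _
  have hcmA : LocCoh.IsCohenMacaulayLocalRing (EGA4.FibLocRing R S (q'.asIdeal.under S)) :=
    Groth.Agent.H49.isCohenMacaulayLocalRing_of_ringEquiv εS hcmQ
  haveI : IsLocalRing (EGA4.FibLocRing R S (q'.asIdeal.under S)) := hcmA.toIsLocalRing
  haveI : IsNoetherianRing (EGA4.FibLocRing R S (q'.asIdeal.under S)) := hcmA.toIsNoetherian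
  have h1 := Groth.Agent.H49.FibreDimRing.fibreDimAt_SpecMap R (S ⧸ I) p Qb q' hQb
  have h2 := localDim_eq_dim_add_coheight p.asIdeal.ResidueField (p.asIdeal.Fiber (S ⧸ I)) Qb
  have h3 := localDim_eq_of_equidim p.asIdeal.ResidueField (p.asIdeal.Fiber S) d (heq p) Q
  have h4 := localDim_eq_dim_add_coheight p.asIdeal.ResidueField (p.asIdeal.Fiber S) Q
  have h5 : Order.coheight Qb = Order.coheight Q :=
    coheight_comap_of_surjective φ.toRingHom hφ Qb
  have e1 : ringKrullDim (Localization.AtPrime Qb.asIdeal) =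
      ringKrullDim (EGA4.FibLocRing R S (q'.asIdeal.under S) ⧸
        I.map (algebraMap S (EGA4.FibLocRing R S (q'.asIdeal.under S)))) :=
    ringKrullDim_eq_of_ringEquiv (εT.trans εq)
  have e2 : ringKrullDim (Localization.AtPrime Q.asIdeal) =
      ringKrullDim (EGA4.FibLocRing R S (q'.asIdeal.under S)) :=
    ringKrullDim_eq_of_ringEquiv εS
  have hIq : I ≤ q'.asIdeal.under S := by
    intro s hs
    change algebraMap S (S ⧸ I) s ∈ q'.asIdeal
    have : algebraMap S (S ⧸ I) s = 0 := Ideal.Quotient.eq_zero_iff_mem.mpr hs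
    rw [this]
    exact q'.asIdeal.zero_mem
  have hmax : ∀ s ∈ q'.asIdeal.under S,
      algebraMap S (EGA4.FibLocRing R S (q'.asIdeal.under S)) s ∈
        maximalIdeal (EGA4.FibLocRing R S (q'.asIdeal.under S)) := by
    intro s hs
    rw [← IsLocalRing.map_maximalIdeal_of_surjective
      (Ideal.Quotient.mk (((q'.asIdeal.under S).comap (algebraMap R S)).map
        (algebraMap R (Localization.AtPrime (q'.asIdeal.under S)))))
      Ideal.Quotient.mk_surjective]
    refine Ideal.mem_map_of_mem _ ?_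
    exact (IsLocalization.AtPrime.to_map_mem_maximal_iff _ (q'.asIdeal.under S) s).mpr hs
  have hmem : ∀ x ∈ f.map (algebraMap S (EGA4.FibLocRing R S (q'.asIdeal.under S))),
      x ∈ maximalIdeal (EGA4.FibLocRing R S (q'.asIdeal.under S)) := by
    intro x hx
    obtain ⟨s, hs, rfl⟩ := List.mem_map.mp hx
    exact hmax s (hIq (hI ▸ Ideal.subset_span hs))
  have hImax : I.map (algebraMap S (EGA4.FibLocRing R S (q'.asIdeal.under S))) ≤
      maximalIdeal (EGA4.FibLocRing R S (q'.asIdeal.under S)) := by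
    rw [Ideal.map_le_iff_le_comap]
    intro s hs
    exact hmax s (hIq hs)
  haveI : Nontrivial (EGA4.FibLocRing R S (q'.asIdeal.under S) ⧸
      I.map (algebraMap S (EGA4.FibLocRing R S (q'.asIdeal.under S)))) := by
    apply Ideal.Quotient.nontrivial_iff.mpr
    intro htop
    rw [htop] at hImax
    exact (maximalIdeal.isMaximal _).ne_top (top_le_iff.mp hImax)
  rw [Groth.Agent.H49.CMRegSeqDim.isRegular_iff_dim hcmA _ hmem, ← Ideal.map_ofList,
    List.length_map, hI]
  change FlatMor.fibreDimAt (Spec.map (CommRingCat.ofHom (algebraMap R (S ⧸ I))))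
    (show ↥(Spec (CommRingCat.of (S ⧸ I))) from q') + _ ≤ _ ↔ _
  rw [h1, h2, e1, h5]
  have hd : (d : WithBot ℕ∞) = ringKrullDim (EGA4.FibLocRing R S (q'.asIdeal.under S)) +
      ((Order.coheight Q : ℕ∞) : WithBot ℕ∞) := by
    rw [← h3, h4, e2]
  have ha0 : (0 : WithBot ℕ∞) ≤ ringKrullDim (EGA4.FibLocRing R S (q'.asIdeal.under S)) :=
    ringKrullDim_nonneg_of_nontrivial
  have hx0 : (0 : WithBot ℕ∞) ≤ ringKrullDim (EGA4.FibLocRing R S (q'.asIdeal.under S) ⧸
      I.map (algebraMap S (EGA4.FibLocRing R S (q'.asIdeal.under S)))) :=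
    ringKrullDim_nonneg_of_nontrivial
  obtain ⟨n, hn⟩ : ∃ n : ℕ, Order.coheight Q = (n : ℕ∞) := by
    by_contra hcon
    have htop : Order.coheight Q = ⊤ := by
      by_contra hne
      exact hcon ⟨(Order.coheight Q).toNat, (ENat.natCast_toNat hne).symm⟩
    rw [htop] at hd
    generalize ringKrullDim (EGA4.FibLocRing R S (q'.asIdeal.under S)) = a at hd ha0
    induction a with
    | bot => exact absurd ha0 (by simp)
    | coe a =>
      have : ((d : ℕ∞) : WithBot ℕ∞) = ((a + ⊤ : ℕ∞) : WithBot ℕ∞) := hd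
      have h' : (d : ℕ∞) = a + ⊤ := WithBot.coe_injective this
      simp at h'
  rw [hd, hn]
  generalize ringKrullDim (EGA4.FibLocRing R S (q'.asIdeal.under S) ⧸
      I.map (algebraMap S (EGA4.FibLocRing R S (q'.asIdeal.under S)))) = x at hx0 ⊢
  generalize ringKrullDim (EGA4.FibLocRing R S (q'.asIdeal.under S)) = a
  have hcomm : x + ((n : ℕ∞) : WithBot ℕ∞) + (f.length : WithBot ℕ∞) =
      x + (f.length : WithBot ℕ∞) + (n : WithBot ℕ∞) := by
    rw [add_assoc, add_assoc]
    congr 1
    rw [add_comm]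
    rfl
  rw [hcomm]
  constructor
  · intro h
    refine Groth.Agent.H49.CMChartFlat.le_of_add_natCast_le n ?_ h
    exact add_nonneg hx0 (by exact_mod_cast Nat.zero_le _)
  · intro h
    exact add_le_add_left h _

omit [Algebra.FiniteType R S] in
theorem isRegular_congr (f : List S) (a b : Ideal S) [a.IsPrime] [b.IsPrime] (h : a = b) :
    RingTheory.Sequence.IsRegular (EGA4.FibLocRing R S a)
        (f.map (algebraMap S (EGA4.FibLocRing R S a))) ↔
      RingTheory.Sequence.IsRegular (EGA4.FibLocRing R S b)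
        (f.map (algebraMap S (EGA4.FibLocRing R S b))) := by
  subst h
  rfl

/-- **S9174**. -/
theorem main
    (hCM : ∀ p : PrimeSpectrum R, LocCoh.IsCohenMacaulayRing (p.asIdeal.Fiber S))
    (heq : ∀ p : PrimeSpectrum R, ∀ P ∈ minimalPrimes (p.asIdeal.Fiber S),
      ringKrullDim (p.asIdeal.Fiber S ⧸ P) = (d : WithBot ℕ∞))
    (f : List S) :
    ∃ U : Set (PrimeSpectrum S), IsOpen U ∧ ∀ q : PrimeSpectrum S, Ideal.ofList f ≤ q.asIdeal →
      (q ∈ U ↔ RingTheory.Sequence.IsRegular (EGA4.FibLocRing R S q.asIdeal)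
        (f.map (algebraMap S (EGA4.FibLocRing R S q.asIdeal)))) := by
  classical
  haveI : Algebra.FiniteType R (S ⧸ Ideal.ofList f) :=
    Algebra.FiniteType.of_surjective (Ideal.Quotient.mkₐ R (Ideal.ofList f))
      Ideal.Quotient.mk_surjective
  haveI := Groth.Agent.H49.CMFibreDecomp.loft_sm R (S ⧸ Ideal.ofList f)
  let W : Set (PrimeSpectrum (S ⧸ Ideal.ofList f)) :=
    {q' | FlatMor.fibreDimAt (Groth.Agent.H49.CMFibreDecomp.sm R (S ⧸ Ideal.ofList f))
        (show ↥(Spec (CommRingCat.of (S ⧸ Ideal.ofList f))) from q') +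
        (f.length : WithBot ℕ∞) ≤ (d : WithBot ℕ∞)}
  have hW : IsOpen W := by
    by_cases hi : f.length ≤ d
    · have : W = {q' : ↥(Spec (CommRingCat.of (S ⧸ Ideal.ofList f))) |
          FlatMor.fibreDimAt (Groth.Agent.H49.CMFibreDecomp.sm R (S ⧸ Ideal.ofList f)) q' ≤
            ((d - f.length : ℕ) : WithBot ℕ∞)} := by
        ext q'
        obtain ⟨n, hn⟩ := Groth.Agent.H17.Chev.exists_nat_eq_fibreDimAt
          (Groth.Agent.H49.CMFibreDecomp.sm R (S ⧸ Ideal.ofList f))
          (show ↥(Spec (CommRingCat.of (S ⧸ Ideal.ofList f))) from q')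
        change FlatMor.fibreDimAt _ _ + _ ≤ _ ↔ FlatMor.fibreDimAt _ _ ≤ _
        rw [hn]
        constructor
        · intro h
          have h' : n + f.length ≤ d := by exact_mod_cast h
          have : n ≤ d - f.length := by omega
          exact_mod_cast this
        · intro h
          have h' : n ≤ d - f.length := by exact_mod_cast h
          have : n + f.length ≤ d := by omega
          exact_mod_cast this
      rw [this]
      exact Groth.Agent.H17.Chev.isOpen_setOf_fibreDimAt_le _ _
    · have : W = ∅ := by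
        rw [Set.eq_empty_iff_forall_notMem]
        intro q' hq'
        obtain ⟨n, hn⟩ := Groth.Agent.H17.Chev.exists_nat_eq_fibreDimAt
          (Groth.Agent.H49.CMFibreDecomp.sm R (S ⧸ Ideal.ofList f))
          (show ↥(Spec (CommRingCat.of (S ⧸ Ideal.ofList f))) from q')
        have h : FlatMor.fibreDimAt _ _ + _ ≤ _ := hq'
        rw [hn] at h
        have h' : n + f.length ≤ d := by exact_mod_cast h
        omega
      rw [this]
      exact isOpen_empty
  have hcl := PrimeSpectrum.isClosedEmbedding_comap_of_surjective _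
    (Ideal.Quotient.mk (Ideal.ofList f)) Ideal.Quotient.mk_surjective
  refine ⟨(PrimeSpectrum.comap (Ideal.Quotient.mk (Ideal.ofList f)) '' Wᶜ)ᶜ,
    (hcl.isClosedMap _ hW.isClosed_compl).isOpen_compl, ?_⟩
  intro q hq
  let q' := Groth.Agent.H11.FtDim.mapMk (Ideal.ofList f) q hq
  have hq' : PrimeSpectrum.comap (Ideal.Quotient.mk (Ideal.ofList f)) q' = q :=
    Groth.Agent.H11.FtDim.comap_mapMk _ q hq
  have hU : q ∈ (PrimeSpectrum.comap (Ideal.Quotient.mk (Ideal.ofList f)) '' Wᶜ)ᶜ ↔ q' ∈ W := by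
    constructor
    · intro h
      by_contra hn
      exact h ⟨q', hn, hq'⟩
    · rintro h ⟨q'', hq'', heq''⟩
      have : q'' = q' := hcl.injective (heq''.trans hq'.symm)
      rw [this] at hq''
      exact hq'' h
  rw [hU]
  have key := fibreDimAt_add_le_iff R S d hCM heq f (Ideal.ofList f) rfl q'
  refine key.trans ?_
  exact isRegular_congr R S f _ _ (congrArg PrimeSpectrum.asIdeal hq')

end pointwise

end Groth.Agent.H49.RegSeqFibreOpen
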