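import Mathlib
import Groth.Agent.H99.FibModIso
import Groth.Prelude.Def_MoreMor

/-!
# The relative assassin `MoreMor.relAss` versus associated points of the fibres (helper49)

* `AssMaxM R M`: some nonzero element of `M` is killed by a power of every nonunit of `R`
  (for a local ring: the maximal ideal is an associated prime of `M`, in Mathlib's sense with radical).
* `mem_relAss_iff`: for quasi-coherent `F`, `x ∈ MoreMor.relAss f F` iff `x` (as a point of the fibre
  through `x`) is an associated point of the pullback of `F` to that fibre.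
* `fibMP_openImm'`: fibre-stalk properties invariant under semilinear isomorphisms are invariant
  under open immersions into the source (no finiteness assumptions).
-/

set_option autoImplicit false
set_option backward.isDefEq.respectTransparency.types false
set_option linter.style.haveILetI false
set_option linter.unusedSectionVars false
universe u

open AlgebraicGeometry CategoryTheory CategoryTheory.Limits TopologicalSpace Topology IsLocalRing
  TensorProduct

namespace Groth.Agent.H49.RelAssBridge

open Groth.Agent.H99.ModPair Groth.Agent.H99.FibModProp Groth.Agent.H99.FibModIso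
  Groth.Agent.H49.FibreStalk

/-- some nonzero element of `M` is killed by a power of every nonunit of `R`. -/
def AssMaxM (R : Type u) [CommRing R] (M : Type u) [AddCommGroup M] [Module R M] : Prop :=
  ∃ x : M, x ≠ 0 ∧ ∀ r : R, ¬ IsUnit r → ∃ n : ℕ, r ^ n • x = 0

theorem isAssociatedPrime_maximalIdeal_iff (R : Type u) [CommRing R] [IsLocalRing R] (M : Type u)
    [AddCommGroup M] [Module R M] :
    IsAssociatedPrime (maximalIdeal R) M ↔ AssMaxM R M := by
  constructor
  · rintro ⟨-, x, hx⟩
    refine ⟨x, ?_, ?_⟩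
    · rintro rfl
      have : (1 : R) ∈ maximalIdeal R := by
        rw [hx]
        apply Ideal.le_radical
        rw [Submodule.mem_colon_singleton]
        simp
      exact (maximalIdeal.isMaximal R).ne_top ((Ideal.eq_top_iff_one _).mpr this)
    · intro r hr
      have : r ∈ maximalIdeal R := (IsLocalRing.mem_maximalIdeal r).mpr hr
      rw [hx] at this
      obtain ⟨n, hn⟩ := this
      rw [Submodule.mem_colon_singleton, Submodule.mem_bot] at hn
      exact ⟨n, hn⟩
  · rintro ⟨x, hx0, hx⟩
    refine ⟨inferInstance, x, le_antisymm ?_ ?_⟩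
    · intro r hr
      obtain ⟨n, hn⟩ := hx r ((IsLocalRing.mem_maximalIdeal r).mp hr)
      refine ⟨n, ?_⟩
      rw [Submodule.mem_colon_singleton, Submodule.mem_bot]
      exact hn
    · apply IsLocalRing.le_maximalIdeal
      rw [Ne, Ideal.radical_eq_top, Ideal.eq_top_iff_one, Submodule.mem_colon_singleton,
        Submodule.mem_bot, one_smul]
      exact hx0

theorem isIsoPropM_assMaxM : IsIsoPropM AssMaxM.{u} where
  iso := by
    rintro R R' M M' _ _ _ _ _ _ σ φ h ⟨x, hx0, hx⟩
    refine ⟨φ x, fun h0 => hx0 (φ.injective (h0.trans (map_zero φ).symm)), fun r' hr' => ?_⟩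
    have hr : ¬ IsUnit (σ.symm r') := fun hu => hr' (by simpa using hu.map σ)
    obtain ⟨n, hn⟩ := hx _ hr
    refine ⟨n, ?_⟩
    have := congrArg φ hn
    rw [h, map_pow, RingEquiv.apply_symm_apply, map_zero] at this
    exact this

variable {P : ∀ (R : Type u) [CommRing R] (M : Type u) [AddCommGroup M] [Module R M], Prop}
variable {X Y X' : Scheme.{u}}

/-- passing from `R ⧸ I` to `R` for `AssMaxM`, `R` local and `I` a proper ideal. -/
theorem assMaxM_quotient_iff (R : Type u) [CommRing R] [IsLocalRing R] (M : Type u)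
    [AddCommGroup M] [Module R M] (I : Ideal R) (hI : I ≠ ⊤) :
    AssMaxM (R ⧸ I) (M ⧸ I • (⊤ : Submodule R M)) ↔ AssMaxM R (M ⧸ I • (⊤ : Submodule R M)) := by
  haveI : Nontrivial (R ⧸ I) := Ideal.Quotient.nontrivial_iff.mpr hI
  haveI : IsLocalHom (Ideal.Quotient.mk I) :=
    IsLocalHom.of_surjective _ Ideal.Quotient.mk_surjective
  constructor
  · rintro ⟨x, hx0, hx⟩
    refine ⟨x, hx0, fun r hr => ?_⟩
    obtain ⟨n, hn⟩ := hx (Ideal.Quotient.mk I r) (fun hu => hr (isUnit_of_map_unit _ r hu))
    exact ⟨n, by rw [← map_pow] at hn; exact hn⟩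
  · rintro ⟨x, hx0, hx⟩
    refine ⟨x, hx0, fun r hr => ?_⟩
    obtain ⟨r, rfl⟩ := Ideal.Quotient.mk_surjective r
    obtain ⟨n, hn⟩ := hx r (fun hu => hr (hu.map _))
    exact ⟨n, by rw [← map_pow]; exact hn⟩

theorem fibMP_assMaxM_iff {S : Scheme.{u}} (f : X ⟶ S) (F : X.Modules) (x : X) :
    FibMP AssMaxM f F x ↔
      Curv2.IsAssPoint ((Scheme.Modules.pullback (f.fiberι (f x))).obj F) (f.asFiber x) :=
  (isAssociatedPrime_maximalIdeal_iff _ _).symm

/-- **the bridge**: `x` lies in the relative assassin iff it is an associated point of the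
restriction of `F` to the fibre through `x`. -/
theorem mem_relAss_iff {S : Scheme.{u}} (f : X ⟶ S) (F : X.Modules) [F.IsQuasicoherent] (x : X) :
    x ∈ MoreMor.relAss f F ↔
      Curv2.IsAssPoint ((Scheme.Modules.pullback (f.fiberι (f x))).obj F) (f.asFiber x) := by
  rw [← fibMP_assMaxM_iff, fibMP_iff_quotient' isIsoPropM_assMaxM f F x,
    assMaxM_quotient_iff _ _ _ (fibreIdeal_ne_top f x), ← isAssociatedPrime_maximalIdeal_iff]
  rfl

theorem stalk_iff_of_iso' (hP : IsIsoPropM P) {F G : X.Modules} (e : F ≅ G) (x : X) :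
    P (X.presheaf.stalk x) (F.presheaf.stalk x) ↔ P (X.presheaf.stalk x) (G.presheaf.stalk x) :=
  hP.linearEquiv_iff (Groth.Agent.H70.RelFlatBC.stalkEquivOfIso e x)

theorem fibMP_iff_of_iso' (hP : IsIsoPropM P) (f : X ⟶ Y) {F G : X.Modules} (e : F ≅ G) (x : X) :
    FibMP P f F x ↔ FibMP P f G x :=
  stalk_iff_of_iso' hP ((Scheme.Modules.pullback (f.fiberι (f x))).mapIso e) _

/-- transfer along a morphism whose stalk map is bijective. -/
theorem stalk_pullback_iff_of_bijective (hP : IsIsoPropM P) (h : X' ⟶ X) (G : X.Modules)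
    [G.IsQuasicoherent] (x' : X') (hb : Function.Bijective (h.stalkMap x').hom) :
    P (X'.presheaf.stalk x') (((Scheme.Modules.pullback h).obj G).presheaf.stalk x') ↔
      P (X.presheaf.stalk (h x')) (G.presheaf.stalk (h x')) := by
  rw [stalk_pullback_iff' hP h G x']
  letI := (h.stalkMap x').hom.toAlgebra
  have hb' : Function.Bijective (Algebra.linearMap (X.presheaf.stalk (h x'))
      (X'.presheaf.stalk x')) := hb
  let σ : X.presheaf.stalk (h x') ≃+* X'.presheaf.stalk x' :=
    RingEquiv.ofBijective (h.stalkMap x').hom hb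
  let l : G.presheaf.stalk (h x') ≃ₗ[X.presheaf.stalk (h x')]
      (X'.presheaf.stalk x') ⊗[X.presheaf.stalk (h x')] (G.presheaf.stalk (h x')) :=
    (TensorProduct.lid _ _).symm ≪≫ₗ
      TensorProduct.congr (LinearEquiv.ofBijective _ hb') (LinearEquiv.refl _ _)
  have hl : ∀ (r : X.presheaf.stalk (h x')) (m : G.presheaf.stalk (h x')),
      l.toAddEquiv (r • m) = σ r • l.toAddEquiv m := by
    intro r m
    change l (r • m) = (algebraMap (X.presheaf.stalk (h x')) (X'.presheaf.stalk x') r) • l m
    rw [map_smul, algebraMap_smul]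
  exact (hP.iso_iff σ l.toAddEquiv hl).symm

/-- **fibre-stalk properties invariant under semilinear isomorphisms are invariant under open
immersions into the source.** -/
theorem fibMP_openImm' (hP : IsIsoPropM P) {U X S : Scheme.{u}} (j : U ⟶ X) [IsOpenImmersion j]
    (f : X ⟶ S) (F : X.Modules) [F.IsQuasicoherent] (u : U) :
    FibMP P (j ≫ f) ((Scheme.Modules.pullback j).obj F) u ↔ FibMP P f F (j u) := by
  set s : S := (j ≫ f) u with hs
  have hpb := Groth.Agent.H70.RelFlatBC.isPullback_fiberMap j f s
  set jfib := MoreMor.fiberMap j f s with hjfib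
  haveI : IsOpenImmersion jfib :=
    MorphismProperty.of_isPullback (P := @IsOpenImmersion) hpb inferInstance
  set u₀ := (j ≫ f).asFiber u with hu₀
  haveI hiso : IsIso (jfib.stalkMap u₀) := inferInstance
  have h1 := stalk_pullback_iff_of_bijective hP jfib
    ((Scheme.Modules.pullback (f.fiberι s)).obj F) u₀
    (ConcreteCategory.bijective_of_isIso (jfib.stalkMap u₀))
  let iso : (Scheme.Modules.pullback jfib).obj ((Scheme.Modules.pullback (f.fiberι s)).obj F) ≅
      (Scheme.Modules.pullback ((j ≫ f).fiberι s)).obj ((Scheme.Modules.pullback j).obj F) :=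
    (Scheme.Modules.pullbackComp jfib (f.fiberι s)).app F ≪≫
      (Scheme.Modules.pullbackCongr hpb.w.symm).app F ≪≫
      ((Scheme.Modules.pullbackComp ((j ≫ f).fiberι s) j).app F).symm
  have h2 := stalk_iff_of_iso' hP iso u₀
  have hz : f.fiberι s (jfib u₀) = j u := by
    have h6 := congrArg (fun h : ((j ≫ f).fiber s) ⟶ X => h u₀) hpb.w
    simp only [Scheme.Hom.comp_apply] at h6
    rw [← h6, hu₀, Scheme.Hom.fiberι_asFiber]
  have h3 := fiber_stalk_iff_asFiber (P := P) f F (j u) s rfl (jfib u₀) hz
  exact (h2.symm.trans h1).trans h3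

/-- transport of fibre-stalk properties along an open immersion `e` into the source, for a module
pulled back along a composite `e ≫ q`. -/
theorem fibMP_comp_openImm (hP : IsIsoPropM P) {U X S T : Scheme.{u}} (e : U ⟶ X)
    [IsOpenImmersion e] (p : X ⟶ S) (q : X ⟶ T) (F : T.Modules) [F.IsQuasicoherent] (u : U) :
    FibMP P (e ≫ p) ((Scheme.Modules.pullback (e ≫ q)).obj F) u ↔
      FibMP P p ((Scheme.Modules.pullback q).obj F) (e u) := by
  rw [← fibMP_openImm' hP e p ((Scheme.Modules.pullback q).obj F) u]
  exact fibMP_iff_of_iso' hP (e ≫ p) ((Scheme.Modules.pullbackComp e q).app F).symm u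

/-- `MoreMor.relAss` is compatible with open immersions into the source. -/
theorem mem_relAss_comp_openImm {U X S T : Scheme.{u}} (e : U ⟶ X)
    [IsOpenImmersion e] (p : X ⟶ S) (q : X ⟶ T) (F : T.Modules) [F.IsQuasicoherent] (u : U) :
    u ∈ MoreMor.relAss (e ≫ p) ((Scheme.Modules.pullback (e ≫ q)).obj F) ↔
      e u ∈ MoreMor.relAss p ((Scheme.Modules.pullback q).obj F) := by
  rw [mem_relAss_iff, mem_relAss_iff, ← fibMP_assMaxM_iff, ← fibMP_assMaxM_iff]
  exact fibMP_comp_openImm isIsoPropM_assMaxM e p q F u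

end Groth.Agent.H49.RelAssBridge
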