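import Mathlib
import Groth.Agent.H29.RelAssBC
import Groth.Agent.H17.ProConsDense

/-!
# Maximal points of `X ×_S S'` over a pair of points (helper49)
-/

set_option autoImplicit false
universe u

open AlgebraicGeometry CategoryTheory CategoryTheory.Limits TopologicalSpace Topology

namespace Groth.Agent.H49.RelAssBridge

open Groth.Agent.H29.AssTensor

/-- over a pair of points `x`, `s'` with the same image in `S` there is a point of `X ×_S S'`
which is maximal under generization among the points over `x` and `s'`. -/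
theorem exists_maximal_over {X S S' : Scheme.{u}} (f : X ⟶ S) (g : S' ⟶ S) (x : X) (s' : S')
    (h : f x = g s') :
    ∃ z : ↥(pullback f g), pullback.fst f g z = x ∧ pullback.snd f g z = s' ∧
      ∀ x'' : ↥(pullback f g), pullback.snd f g x'' = pullback.snd f g z →
        pullback.fst f g x'' = pullback.fst f g z → x'' ⤳ z → x'' = z := by
  obtain ⟨z₁, hz₁x, hz₁s⟩ := Scheme.Pullback.exists_preimage_pullback x s' h
  obtain ⟨w, hw⟩ : ∃ w : f.fiber (g s'), f.fiberι (g s') w = x := by
    have : x ∈ f ⁻¹' {g s'} := h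
    rw [← f.range_fiberι] at this
    exact this
  obtain ⟨z₀, hz₀⟩ : ∃ z₀ : (pullback.snd f g).fiber s', (pullback.snd f g).fiberι s' z₀ = z₁ := by
    have : z₁ ∈ (pullback.snd f g) ⁻¹' {s'} := hz₁s
    rw [← (pullback.snd f g).range_fiberι] at this
    exact this
  have hz₀w : fibMapR f g s' z₀ = w := by
    apply (f.fiberι (g s')).isEmbedding.injective
    rw [fibMapR_apply, hz₀, hz₁x, hw]
  obtain ⟨t₀, ht₀⟩ : ∃ t₀ : (fibMapR f g s').fiber w, (fibMapR f g s').fiberι w t₀ = z₀ := by
    have : z₀ ∈ (fibMapR f g s') ⁻¹' {w} := hz₀w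
    rw [← (fibMapR f g s').range_fiberι] at this
    exact this
  obtain ⟨t, -, ht⟩ := Groth.Agent.H17.exists_maximal_generization t₀
  have hw' : fibMapR f g s' ((fibMapR f g s').fiberι w t) = w :=
    fiberι_apply' (fibMapR f g s') w t
  have hs : pullback.snd f g ((pullback.snd f g).fiberι s' ((fibMapR f g s').fiberι w t)) = s' :=
    fiberι_apply' _ _ _
  refine ⟨(pullback.snd f g).fiberι s' ((fibMapR f g s').fiberι w t), ?_, hs, ?_⟩
  · rw [← fibMapR_apply, hw', hw]
  · intro x'' h1 h2 h3
    exact (forall_specializes_fibre_iff f g s' w t).mp ht x'' (h1.trans hs) h2 h3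

end Groth.Agent.H49.RelAssBridge
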