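import Groth.Agent.H49.RelFPComp
import Groth.Agent.H44.PullbackAffine

/-!
# Relative finite presentation and base change of the base (helper49)
-/

set_option autoImplicit false
universe u

open CategoryTheory CategoryTheory.Limits AlgebraicGeometry Opposite TopologicalSpace TensorProduct

namespace Groth.Agent.H49.RelFP

open Groth.Agent.H35

section Ring

attribute [local instance] MvPolynomial.algebraMvPolynomial

variable {R A R' A' M M' : Type u} [CommRing R] [CommRing A] [CommRing R'] [CommRing A']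
  [Algebra R A] [Algebra R R'] [Algebra A A'] [Algebra R' A'] [Algebra R A']
  [IsScalarTower R A A'] [IsScalarTower R R' A'] [Algebra.IsPushout R R' A A']
  [AddCommGroup M] [Module A M] [AddCommGroup M'] [Module A M'] [Module A' M']
  [IsScalarTower A A' M']

/-- Relative finite presentation is stable under base change of the base ring. -/
theorem relFP_baseChange (l : M →ₗ[A] M') (hl : IsBaseChange A' l)
    (H : FlatCA.RelFinitePresentation R A M) : FlatCA.RelFinitePresentation R' A' M' := by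
  obtain ⟨n, φ, hφ, hM⟩ := H
  let P := MvPolynomial (Fin n) R
  let P' := MvPolynomial (Fin n) R'
  let φ' : P' →ₐ[R'] A' := MvPolynomial.aeval (fun i => algebraMap A A' (φ (MvPolynomial.X i)))
  have hcomp : ∀ p : P, φ' (algebraMap P P' p) = algebraMap A A' (φ p) := by
    intro p
    have : φ'.toRingHom.comp (MvPolynomial.map (algebraMap R R')) =
        (algebraMap A A').comp φ.toRingHom := by
      apply MvPolynomial.ringHom_ext
      · intro r
        change φ' (MvPolynomial.map (algebraMap R R') (MvPolynomial.C r)) =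
          algebraMap A A' (φ (MvPolynomial.C r))
        rw [MvPolynomial.map_C]
        change φ' (algebraMap R' P' (algebraMap R R' r)) = algebraMap A A' (φ (algebraMap R P r))
        rw [φ'.commutes, φ.commutes, ← IsScalarTower.algebraMap_apply,
          ← IsScalarTower.algebraMap_apply]
      · intro i
        change φ' (MvPolynomial.map (algebraMap R R') (MvPolynomial.X i)) =
          algebraMap A A' (φ (MvPolynomial.X i))
        rw [MvPolynomial.map_X]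
        exact MvPolynomial.aeval_X _ i
    exact congr($this p)
  -- surjectivity of `φ'`
  have hφ' : Function.Surjective φ' := by
    intro x
    have hA' : IsBaseChange R' (IsScalarTower.toAlgHom R A A').toLinearMap :=
      (Algebra.IsPushout.out : _)
    refine hA'.inductionOn x (fun x => ∃ p, φ' p = x) ⟨0, map_zero _⟩ ?_ ?_ ?_
    · intro a
      obtain ⟨p, rfl⟩ := hφ a
      exact ⟨algebraMap P P' p, hcomp p⟩
    · rintro s _ ⟨p, rfl⟩
      exact ⟨s • p, by rw [map_smul]⟩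
    · rintro _ _ ⟨p, rfl⟩ ⟨q, rfl⟩
      exact ⟨p + q, map_add _ _ _⟩
  refine ⟨n, φ', hφ', ?_⟩
  -- module structures
  let _ : Module R M := Module.compHom M (algebraMap R A)
  have : IsScalarTower R A M := IsScalarTower.of_compHom _ _ _
  let _ : Module P M := Module.compHom M φ.toRingHom
  have : IsScalarTower R P M := IsScalarTower.of_algebraMap_smul fun r m => by
    change φ (algebraMap R P r) • m = algebraMap R A r • m
    rw [φ.commutes]
  have : Module.FinitePresentation P M := hM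
  let _ : Module P' M' := Module.compHom M' φ'.toRingHom
  let _ : Module P M' := Module.compHom M' φ.toRingHom
  have : IsScalarTower P P' M' := IsScalarTower.of_algebraMap_smul fun p m => by
    change φ' (algebraMap P P' p) • m = φ p • m
    rw [hcomp, algebraMap_smul]
  let lP : M →ₗ[P] M' :=
    { toFun := l, map_add' := l.map_add, map_smul' := fun p m => l.map_smul (φ p) m }
  let Λ : P' ⊗[P] M →ₗ[P'] M' := lP.liftBaseChange P'
  let c : P' ⊗[P] M ≃ₗ[R'] R' ⊗[R] M := Algebra.IsPushout.cancelBaseChange R R' P P' M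
  let d : A' ⊗[A] M ≃ₗ[R'] R' ⊗[R] M := Algebra.IsPushout.cancelBaseChange R R' A A' M
  have key : ∀ t : R' ⊗[R] M, Λ (c.symm t) = hl.equiv (d.symm t) := by
    intro t
    induction t with
    | zero => simp
    | add x y hx hy => rw [map_add, map_add, map_add, map_add, hx, hy]
    | tmul s m =>
      rw [Algebra.IsPushout.cancelBaseChange_symm_tmul,
        Algebra.IsPushout.cancelBaseChange_symm_tmul, LinearMap.liftBaseChange_tmul,
        IsBaseChange.equiv_tmul]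
      change φ' (algebraMap R' P' s) • l m = algebraMap R' A' s • l m
      rw [φ'.commutes]
  have hbij : Function.Bijective Λ := by
    have : (Λ : P' ⊗[P] M → M') = (fun t => hl.equiv (d.symm t)) ∘ c := by
      funext t
      simp only [Function.comp_apply]
      rw [← key, LinearEquiv.symm_apply_apply]
    rw [this]
    exact (hl.equiv.bijective.comp d.symm.bijective).comp c.bijective
  exact Module.FinitePresentation.of_equiv (LinearEquiv.ofBijective Λ hbij)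

end Ring

section Scheme

variable {X S X' S' : Scheme.{u}}

/-- The fibre product of affine opens is an affine open of the fibre product. -/
theorem isAffineOpen_inf_preimage {f : X ⟶ S} {g : S' ⟶ S} {f' : X' ⟶ S'} {g' : X' ⟶ X}
    (hc : IsPullback g' f' f g) {V : S.Opens} {V' : S'.Opens} {U : X.Opens}
    (hV : IsAffineOpen V) (hV' : IsAffineOpen V') (hU : IsAffineOpen U)
    (hV'V : V' ≤ g ⁻¹ᵁ V) (hUV : U ≤ f ⁻¹ᵁ V) :
    IsAffineOpen (g' ⁻¹ᵁ U ⊓ f' ⁻¹ᵁ V') := by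
  have : IsAffine (V : Scheme.{u}) := hV
  have : IsAffine (V' : Scheme.{u}) := hV'
  have : IsAffine (U : Scheme.{u}) := hU
  exact .of_isIso (Scheme.Hom.isPullback_resLE hc hV'V hUV rfl).isoPullback.hom

/-- Affine-level base change. -/
theorem RelFPOn'.baseChange {f : X ⟶ S} {g : S' ⟶ S} {f' : X' ⟶ S'} {g' : X' ⟶ X}
    (hc : IsPullback g' f' f g) (F : X.Modules) [F.IsQuasicoherent] {V : S.Opens}
    {V' : S'.Opens} {U : X.Opens} (hV : IsAffineOpen V) (hV' : IsAffineOpen V')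
    (hU : IsAffineOpen U) (hV'V : V' ≤ g ⁻¹ᵁ V) (hUV : U ≤ f ⁻¹ᵁ V)
    (H : RelFPOn' f F U V hUV) :
    RelFPOn' f' ((Scheme.Modules.pullback g').obj F) (g' ⁻¹ᵁ U ⊓ f' ⁻¹ᵁ V') V' inf_le_right := by
  have hU' : IsAffineOpen (g' ⁻¹ᵁ U ⊓ f' ⁻¹ᵁ V') := isAffineOpen_inf_preimage hc hV hV' hU hV'V hUV
  have hpo : IsPushout (f.appLE V U hUV) (g.appLE V V' hV'V)
      (g'.appLE U (g' ⁻¹ᵁ U ⊓ f' ⁻¹ᵁ V') inf_le_left)
      (f'.appLE V' (g' ⁻¹ᵁ U ⊓ f' ⁻¹ᵁ V') inf_le_right) := by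
    have := isIso_pushoutSection_of_isAffineOpen hc hV'V hUV rfl hV hV' hU
    exact (isIso_pushoutSection_iff hc hV'V hUV rfl).mp this
  let _ : Algebra Γ(S, V) Γ(X, U) := (f.appLE V U hUV).hom.toAlgebra
  let _ : Algebra Γ(S, V) Γ(S', V') := (g.appLE V V' hV'V).hom.toAlgebra
  let _ : Algebra Γ(X, U) Γ(X', g' ⁻¹ᵁ U ⊓ f' ⁻¹ᵁ V') :=
    (g'.appLE U (g' ⁻¹ᵁ U ⊓ f' ⁻¹ᵁ V') inf_le_left).hom.toAlgebra
  let _ : Algebra Γ(S', V') Γ(X', g' ⁻¹ᵁ U ⊓ f' ⁻¹ᵁ V') :=
    (f'.appLE V' (g' ⁻¹ᵁ U ⊓ f' ⁻¹ᵁ V') inf_le_right).hom.toAlgebra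
  let _ : Algebra Γ(S, V) Γ(X', g' ⁻¹ᵁ U ⊓ f' ⁻¹ᵁ V') :=
    ((f.appLE V U hUV) ≫ (g'.appLE U (g' ⁻¹ᵁ U ⊓ f' ⁻¹ᵁ V') inf_le_left)).hom.toAlgebra
  have : IsScalarTower Γ(S, V) Γ(X, U) Γ(X', g' ⁻¹ᵁ U ⊓ f' ⁻¹ᵁ V') :=
    IsScalarTower.of_algebraMap_eq fun r => rfl
  have : IsScalarTower Γ(S, V) Γ(S', V') Γ(X', g' ⁻¹ᵁ U ⊓ f' ⁻¹ᵁ V') :=
    IsScalarTower.of_algebraMap_eq fun r => congr($(hpo.w).hom r)
  have hpush : Algebra.IsPushout Γ(S, V) Γ(S', V') Γ(X, U) Γ(X', g' ⁻¹ᵁ U ⊓ f' ⁻¹ᵁ V') :=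
    CommRingCat.isPushout_iff_isPushout.mp hpo.flip
  let _ : Module Γ(X, U) Γ((Scheme.Modules.pullback g').obj F, g' ⁻¹ᵁ U ⊓ f' ⁻¹ᵁ V') :=
    Module.compHom _ (algebraMap Γ(X, U) Γ(X', g' ⁻¹ᵁ U ⊓ f' ⁻¹ᵁ V'))
  have : IsScalarTower Γ(X, U) Γ(X', g' ⁻¹ᵁ U ⊓ f' ⁻¹ᵁ V')
      Γ((Scheme.Modules.pullback g').obj F, g' ⁻¹ᵁ U ⊓ f' ⁻¹ᵁ V') :=
    IsScalarTower.of_compHom _ _ _
  let e := Groth.Agent.H44.pullbackSectionsEquiv g' F hU' hU inf_le_left
  let lin : Γ(F, U) →ₗ[Γ(X, U)] Γ((Scheme.Modules.pullback g').obj F, g' ⁻¹ᵁ U ⊓ f' ⁻¹ᵁ V') :=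
    (e.symm.toLinearMap.restrictScalars Γ(X, U)).comp
      (TensorProduct.mk Γ(X, U) Γ(X', g' ⁻¹ᵁ U ⊓ f' ⁻¹ᵁ V') Γ(F, U) 1)
  have hlin : IsBaseChange Γ(X', g' ⁻¹ᵁ U ⊓ f' ⁻¹ᵁ V') lin := by
    refine IsBaseChange.of_equiv e.symm (fun x => ?_)
    simp only [lin, LinearMap.comp_apply, LinearMap.restrictScalars_apply,
      LinearEquiv.coe_coe, TensorProduct.mk_apply]
  exact relFP_baseChange (R := Γ(S, V)) (A := Γ(X, U)) (R' := Γ(S', V'))
    (A' := Γ(X', g' ⁻¹ᵁ U ⊓ f' ⁻¹ᵁ V')) lin hlin H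

/-- Relative finite presentation is stable under base change. -/
theorem isRelFP_baseChange (f : X ⟶ S) [LocallyOfFiniteType f] (F : X.Modules)
    [F.IsQuasicoherent] (g : S' ⟶ S) (f' : X' ⟶ S') (g' : X' ⟶ X) (hc : IsPullback g' f' f g)
    (hF : Flatn.IsRelFP f F) : Flatn.IsRelFP f' ((Scheme.Modules.pullback g').obj F) := by
  refine isRelFP_of_forall_exists _ _ fun V'₀ hV'₀ x' hx' => ?_
  obtain ⟨_, ⟨V, hV, rfl⟩, hxV, -⟩ :=
    S.isBasis_affineOpens.exists_subset_of_mem_open (Set.mem_univ (g (f' x'))) isOpen_univ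
  have hV : IsAffineOpen V := hV
  obtain ⟨_, ⟨V', hV', rfl⟩, hxV', hV'le⟩ :=
    S'.isBasis_affineOpens.exists_subset_of_mem_open
      (show f' x' ∈ ((V'₀ ⊓ g ⁻¹ᵁ V : S'.Opens) : Set S') from ⟨hx', hxV⟩) (V'₀ ⊓ g ⁻¹ᵁ V).2
  have hV' : IsAffineOpen V' := hV'
  have hV'V'₀ : V' ≤ V'₀ := fun y hy => (hV'le hy).1
  have hV'V : V' ≤ g ⁻¹ᵁ V := fun y hy => (hV'le hy).2
  have hfx : f (g' x') ∈ V := by
    have : f (g' x') = g (f' x') := by
      rw [← Scheme.Hom.comp_apply, ← Scheme.Hom.comp_apply, hc.w]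
    rw [this]; exact hxV
  obtain ⟨_, ⟨U, hU, rfl⟩, hxU, hUle⟩ :=
    X.isBasis_affineOpens.exists_subset_of_mem_open
      (show g' x' ∈ ((f ⁻¹ᵁ V : X.Opens) : Set X) from hfx) (f ⁻¹ᵁ V).2
  have hU : IsAffineOpen U := hU
  have H := relFPOn'_of_isRelFP hF hU hV hUle
  have H' := H.baseChange hc F hV hV' hU hV'V hUle
  refine ⟨g' ⁻¹ᵁ U ⊓ f' ⁻¹ᵁ V', isAffineOpen_inf_preimage hc hV hV' hU hV'V hUle,
    inf_le_right.trans (f'.preimage_mono hV'V'₀), ⟨hxU, hxV'⟩, ?_⟩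
  exact (relFPOn'_iff_of_le hV' hV'₀ hV'V'₀ inf_le_right).mp H'

end Scheme

end Groth.Agent.H49.RelFP
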