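import Groth.Agent.H49.RelFPScheme

/-!
# Relative finite presentation: criteria and composition (helper49)
-/

set_option autoImplicit false
universe u

open CategoryTheory CategoryTheory.Limits AlgebraicGeometry Opposite TopologicalSpace

namespace Groth.Agent.H49.RelFP

variable {X Y S : Scheme.{u}}

/-- A pointwise criterion for relative finite presentation. -/
theorem isRelFP_of_forall_exists (f : X ⟶ S) (F : X.Modules)
    (H : ∀ (V : S.Opens) (_ : IsAffineOpen V) (x : X), f x ∈ V →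
      ∃ (U : X.Opens) (_ : IsAffineOpen U) (h : U ≤ f ⁻¹ᵁ V), x ∈ U ∧ RelFPOn' f F U V h) :
    Flatn.IsRelFP f F := by
  refine ⟨Set.univ, ?_, fun V _ => ⟨{U | ∃ h : (U : X.Opens) ≤ f ⁻¹ᵁ (V : S.Opens),
    RelFPOn' f F U.1 V.1 h}, ?_, fun U hU h => hU.2⟩⟩
  · refine eq_top_iff.mpr fun x _ => ?_
    obtain ⟨_, ⟨V, hV, rfl⟩, hxV, -⟩ :=
      S.isBasis_affineOpens.exists_subset_of_mem_open (Set.mem_univ x) isOpen_univ
    simp only [Opens.mem_iSup]
    exact ⟨⟨V, hV⟩, Set.mem_univ _, hxV⟩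
  · refine le_antisymm (iSup₂_le fun U hU => hU.1) fun x hx => ?_
    obtain ⟨U, hU, h, hxU, HU⟩ := H V.1 V.2 x hx
    simp only [Opens.mem_iSup]
    exact ⟨⟨U, hU⟩, ⟨h, HU⟩, hxU⟩

/-- Composition with a locally finitely presented morphism of the bases, on affine opens. -/
theorem RelFPOn'.comp (f : X ⟶ Y) (g : Y ⟶ S) [LocallyOfFinitePresentation g] {F : X.Modules}
    {U : X.Opens} {W : Y.Opens} {V : S.Opens} (hW : IsAffineOpen W) (hV : IsAffineOpen V)
    (hUW : U ≤ f ⁻¹ᵁ W) (hWV : W ≤ g ⁻¹ᵁ V) (H : RelFPOn' f F U W hUW) :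
    RelFPOn' (f ≫ g) F U V (hUW.trans (f.preimage_mono hWV)) := by
  let _ : Algebra Γ(Y, W) Γ(X, U) := (f.appLE W U hUW).hom.toAlgebra
  let _ : Algebra Γ(S, V) Γ(Y, W) := (g.appLE V W hWV).hom.toAlgebra
  let _ : Algebra Γ(S, V) Γ(X, U) :=
    ((f ≫ g).appLE V U (hUW.trans (f.preimage_mono hWV))).hom.toAlgebra
  have : IsScalarTower Γ(S, V) Γ(Y, W) Γ(X, U) :=
    IsScalarTower.of_algebraMap_eq fun r => by
      change ((f ≫ g).appLE V U _).hom r = (f.appLE W U hUW).hom ((g.appLE V W hWV).hom r)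
      rw [← Scheme.Hom.appLE_comp_appLE f g V W U hWV hUW]
      rfl
  have hfp : Algebra.FinitePresentation Γ(S, V) Γ(Y, W) :=
    HasRingHomProperty.appLE (P := @LocallyOfFinitePresentation) g inferInstance ⟨V, hV⟩ ⟨W, hW⟩
      hWV
  exact relFP_of_tower_finitePresentation (R := Γ(S, V)) (R' := Γ(Y, W)) H

/-- Relative finite presentation over `Y` implies relative finite presentation over `S` when
`Y ⟶ S` is locally of finite presentation. -/
theorem isRelFP_comp (f : X ⟶ Y) (g : Y ⟶ S) [LocallyOfFiniteType f]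
    [LocallyOfFinitePresentation g] (F : X.Modules) [F.IsQuasicoherent]
    (hF : Flatn.IsRelFP f F) : Flatn.IsRelFP (f ≫ g) F := by
  refine isRelFP_of_forall_exists _ _ fun V hV x hx => ?_
  obtain ⟨_, ⟨W, hW, rfl⟩, hxW, hWle⟩ :=
    Y.isBasis_affineOpens.exists_subset_of_mem_open (show f x ∈ ((g ⁻¹ᵁ V : Y.Opens) : Set Y)
      from hx) (g ⁻¹ᵁ V).2
  have hW : IsAffineOpen W := hW
  obtain ⟨_, ⟨U, hU, rfl⟩, hxU, hUle⟩ :=
    X.isBasis_affineOpens.exists_subset_of_mem_open (show x ∈ ((f ⁻¹ᵁ W : X.Opens) : Set X)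
      from hxW) (f ⁻¹ᵁ W).2
  have hU : IsAffineOpen U := hU
  have H := relFPOn'_of_isRelFP hF hU hW hUle
  exact ⟨U, hU, _, hxU, H.comp f g hW hV hUle hWle⟩

end Groth.Agent.H49.RelFP
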