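import Groth.Agent.H49.RelFPComp
import Groth.Agent.H49.SectionsExact

/-!
# Relative finite presentation: retracts and short exact sequences (helper49)
-/

set_option autoImplicit false
universe u

open CategoryTheory CategoryTheory.Limits AlgebraicGeometry Opposite TopologicalSpace

namespace Groth.Agent.H49.RelFP

open Groth.Agent.H35

section Ring

theorem fp_of_retract {P M N : Type*} [CommRing P] [AddCommGroup M] [AddCommGroup N] [Module P M]
    [Module P N] (i : M →ₗ[P] N) (r : N →ₗ[P] M) (h : ∀ x, r (i x) = x)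
    [Module.FinitePresentation P N] : Module.FinitePresentation P M := by
  have hr : Function.Surjective r := fun x => ⟨i x, h x⟩
  refine Module.finitePresentation_of_surjective r hr ?_
  have hker : LinearMap.ker r = LinearMap.range (LinearMap.id - i ∘ₗ r) := by
    ext x
    simp only [LinearMap.mem_ker, LinearMap.mem_range, LinearMap.sub_apply, LinearMap.id_coe,
      id_eq, LinearMap.coe_comp, Function.comp_apply]
    constructor
    · intro hx
      exact ⟨x, by rw [hx, map_zero, sub_zero]⟩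
    · rintro ⟨y, rfl⟩
      rw [map_sub, h, sub_self]
  rw [hker, LinearMap.range_eq_map]
  exact (Module.Finite.fg_top).map _

variable {R A M₁ M₂ M₃ : Type u} [CommRing R] [CommRing A] [Algebra R A] [AddCommGroup M₁]
  [AddCommGroup M₂] [AddCommGroup M₃] [Module A M₁] [Module A M₂] [Module A M₃]

/-- A retract of a relatively finitely presented module is relatively finitely presented. -/
theorem relFP_of_retract (i : M₁ →ₗ[A] M₂) (r : M₂ →ₗ[A] M₁) (h : ∀ x, r (i x) = x)
    (H : FlatCA.RelFinitePresentation R A M₂) : FlatCA.RelFinitePresentation R A M₁ := by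
  obtain ⟨n, φ, hφ, hN⟩ := H
  refine ⟨n, φ, hφ, ?_⟩
  let _ : Module (MvPolynomial (Fin n) R) M₁ := Module.compHom M₁ φ.toRingHom
  let _ : Module (MvPolynomial (Fin n) R) M₂ := Module.compHom M₂ φ.toRingHom
  have : Module.FinitePresentation (MvPolynomial (Fin n) R) M₂ := hN
  let iP : M₁ →ₗ[MvPolynomial (Fin n) R] M₂ :=
    { toFun := i, map_add' := i.map_add, map_smul' := fun p x => i.map_smul (φ p) x }
  let rP : M₂ →ₗ[MvPolynomial (Fin n) R] M₁ :=
    { toFun := r, map_add' := r.map_add, map_smul' := fun p x => r.map_smul (φ p) x }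
  exact fp_of_retract iP rP h

/-- An extension of relatively finitely presented modules is relatively finitely presented. -/
theorem relFP_of_exact (f : M₁ →ₗ[A] M₂) (g : M₂ →ₗ[A] M₃) (hf : Function.Injective f)
    (hfg : Function.Exact f g) (hg : Function.Surjective g)
    (H₁ : FlatCA.RelFinitePresentation R A M₁) (H₃ : FlatCA.RelFinitePresentation R A M₃) :
    FlatCA.RelFinitePresentation R A M₂ := by
  obtain ⟨n, φ, hφ, hN₁⟩ := H₁
  have hN₃ : FPVia φ.toRingHom M₃ := (relFP_iff_fpVia φ hφ).mp H₃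
  refine ⟨n, φ, hφ, ?_⟩
  let _ : Module (MvPolynomial (Fin n) R) M₁ := Module.compHom M₁ φ.toRingHom
  let _ : Module (MvPolynomial (Fin n) R) M₂ := Module.compHom M₂ φ.toRingHom
  let _ : Module (MvPolynomial (Fin n) R) M₃ := Module.compHom M₃ φ.toRingHom
  have : Module.FinitePresentation (MvPolynomial (Fin n) R) M₁ := hN₁
  have : Module.FinitePresentation (MvPolynomial (Fin n) R) M₃ := hN₃
  let fP : M₁ →ₗ[MvPolynomial (Fin n) R] M₂ :=
    { toFun := f, map_add' := f.map_add, map_smul' := fun p x => f.map_smul (φ p) x }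
  let gP : M₂ →ₗ[MvPolynomial (Fin n) R] M₃ :=
    { toFun := g, map_add' := g.map_add, map_smul' := fun p x => g.map_smul (φ p) x }
  have hfP : Function.Injective fP := hf
  have hex : Function.Exact fP gP := hfg
  have hker : LinearMap.ker gP = LinearMap.range fP := hex.linearMap_ker_eq
  let e : M₁ ≃ₗ[MvPolynomial (Fin n) R] LinearMap.ker gP :=
    (LinearEquiv.ofInjective fP hfP).trans (LinearEquiv.ofEq _ _ hker.symm)
  have : Module.FinitePresentation (MvPolynomial (Fin n) R) (LinearMap.ker gP) :=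
    Module.FinitePresentation.of_equiv e
  exact Module.finitePresentation_of_ker gP hg

/-- A quotient of a relatively finitely presented module by a finite submodule is relatively
finitely presented. -/
theorem relFP_of_exact_of_finite (f : M₁ →ₗ[A] M₂) (g : M₂ →ₗ[A] M₃)
    (hfg : Function.Exact f g) (hg : Function.Surjective g) [Module.Finite A M₁]
    (H₂ : FlatCA.RelFinitePresentation R A M₂) : FlatCA.RelFinitePresentation R A M₃ := by
  obtain ⟨n, φ, hφ, hN₂⟩ := H₂
  refine ⟨n, φ, hφ, ?_⟩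
  let _ : Algebra (MvPolynomial (Fin n) R) A := φ.toRingHom.toAlgebra
  let _ : Module (MvPolynomial (Fin n) R) M₁ := Module.compHom M₁ φ.toRingHom
  let _ : Module (MvPolynomial (Fin n) R) M₂ := Module.compHom M₂ φ.toRingHom
  let _ : Module (MvPolynomial (Fin n) R) M₃ := Module.compHom M₃ φ.toRingHom
  have : IsScalarTower (MvPolynomial (Fin n) R) A M₁ :=
    IsScalarTower.of_algebraMap_smul fun r x => rfl
  have : Module.FinitePresentation (MvPolynomial (Fin n) R) M₂ := hN₂
  have hPA : Module.Finite (MvPolynomial (Fin n) R) A :=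
    Module.Finite.of_surjective (Algebra.linearMap (MvPolynomial (Fin n) R) A) hφ
  have hfin : Module.Finite (MvPolynomial (Fin n) R) M₁ := Module.Finite.trans A M₁
  let fP : M₁ →ₗ[MvPolynomial (Fin n) R] M₂ :=
    { toFun := f, map_add' := f.map_add, map_smul' := fun p x => f.map_smul (φ p) x }
  let gP : M₂ →ₗ[MvPolynomial (Fin n) R] M₃ :=
    { toFun := g, map_add' := g.map_add, map_smul' := fun p x => g.map_smul (φ p) x }
  have hex : Function.Exact fP gP := hfg
  have hker : LinearMap.ker gP = LinearMap.range fP := hex.linearMap_ker_eq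
  refine Module.finitePresentation_of_surjective gP hg ?_
  rw [hker, LinearMap.range_eq_map]
  exact (Module.Finite.fg_top).map _

end Ring

section Scheme

variable {X S : Scheme.{u}}

/-- The sections of a morphism of modules over an open, as a linear map. -/
noncomputable def appₗ {M N : X.Modules} (φ : M ⟶ N) (U : X.Opens) :
    Γ(M, U) →ₗ[Γ(X, U)] Γ(N, U) where
  toFun := φ.app U
  map_add' := map_add _
  map_smul' r m := Scheme.Modules.Hom.app_smul φ r m

theorem RelFPOn'.of_retract (f : X ⟶ S) {F G : X.Modules} (i : F ⟶ G) (r : G ⟶ F)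
    (h : i ≫ r = 𝟙 F) {U : X.Opens} {V : S.Opens} {hUV : U ≤ f ⁻¹ᵁ V}
    (H : RelFPOn' f G U V hUV) : RelFPOn' f F U V hUV := by
  let _ : Algebra Γ(S, V) Γ(X, U) := (f.appLE V U hUV).hom.toAlgebra
  refine relFP_of_retract (R := Γ(S, V)) (A := Γ(X, U)) (appₗ i U) (appₗ r U) (fun x => ?_) H
  change (i.app U ≫ r.app U) x = x
  rw [← Scheme.Modules.Hom.comp_app, h]
  rfl

/-- A retract of a relatively finitely presented module is relatively finitely presented
(with the same covers; no quasi-coherence needed). -/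
theorem isRelFP_of_retract (f : X ⟶ S) {F G : X.Modules} (i : F ⟶ G) (r : G ⟶ F)
    (h : i ≫ r = 𝟙 F) (H : Flatn.IsRelFP f G) : Flatn.IsRelFP f F := by
  obtain ⟨𝒱, h𝒱, H⟩ := H
  refine ⟨𝒱, h𝒱, fun V hV => ?_⟩
  obtain ⟨𝒰, h𝒰, HU⟩ := H V hV
  exact ⟨𝒰, h𝒰, fun U hU hUV => RelFPOn'.of_retract f i r h (HU U hU hUV)⟩

/-- Extensions. -/
theorem isRelFP_of_shortExact (f : X ⟶ S) [LocallyOfFiniteType f] (E : ShortComplex X.Modules)
    (hE : E.ShortExact) [E.X₁.IsQuasicoherent] [E.X₃.IsQuasicoherent]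
    (h₁ : Flatn.IsRelFP f E.X₁) (h₃ : Flatn.IsRelFP f E.X₃) : Flatn.IsRelFP f E.X₂ := by
  refine isRelFP_of_forall fun U V hUV => ?_
  have H₁ := relFPOn'_of_isRelFP h₁ U.2 V.2 hUV
  have H₃ := relFPOn'_of_isRelFP h₃ U.2 V.2 hUV
  obtain ⟨hinj, hex, hsurj⟩ := SectionsExact.sections_shortExact E hE U.2
  let _ : Algebra Γ(S, V.1) Γ(X, U.1) := (f.appLE V.1 U.1 hUV).hom.toAlgebra
  exact relFP_of_exact (R := Γ(S, V.1)) (A := Γ(X, U.1)) (appₗ E.f U.1) (appₗ E.g U.1) hinj hex
    hsurj H₁ H₃

/-- Quotients by finite type submodules. -/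
theorem isRelFP_of_shortExact_of_isFiniteType (f : X ⟶ S) [LocallyOfFiniteType f]
    (E : ShortComplex X.Modules) (hE : E.ShortExact) [E.X₁.IsQuasicoherent]
    [E.X₂.IsQuasicoherent] [SheafOfModules.IsFiniteType (R := X.ringCatSheaf) E.X₁]
    (h₂ : Flatn.IsRelFP f E.X₂) : Flatn.IsRelFP f E.X₃ := by
  refine isRelFP_of_forall fun U V hUV => ?_
  have H₂ := relFPOn'_of_isRelFP h₂ U.2 V.2 hUV
  obtain ⟨hinj, hex, hsurj⟩ := SectionsExact.sections_shortExact E hE U.2
  let _ : Algebra Γ(S, V.1) Γ(X, U.1) := (f.appLE V.1 U.1 hUV).hom.toAlgebra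
  have : Module.Finite Γ(X, U.1) Γ(E.X₁, U.1) :=
    Groth.Agent.H44.finite_sections_of_isFiniteType E.X₁ U.2
  exact relFP_of_exact_of_finite (R := Γ(S, V.1)) (A := Γ(X, U.1)) (appₗ E.f U.1) (appₗ E.g U.1)
    hex hsurj H₂

end Scheme

end Groth.Agent.H49.RelFP
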