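import Groth.Agent.H49.RelFPComp
import Groth.Agent.H8.PushQCoh

/-!
# Relative finite presentation and finite pushforward (helper49)
-/

set_option autoImplicit false
universe u

open CategoryTheory CategoryTheory.Limits AlgebraicGeometry Opposite TopologicalSpace

namespace Groth.Agent.H49.RelFP

open Groth.Agent.H35

section Ring

/-- For a finite ring map `B → A` with `B` of finite type over `R`, an `A`-module is finitely
presented relative to `R` over `A` iff it is so over `B`. -/
theorem relFP_finite_iff {R B A N : Type u} [CommRing R] [CommRing B] [CommRing A] [Algebra R B]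
    [Algebra B A] [Algebra R A] [IsScalarTower R B A] [Module.Finite B A]
    [Algebra.FiniteType R B] [AddCommGroup N] [Module A N] [Module B N] [IsScalarTower B A N] :
    FlatCA.RelFinitePresentation R A N ↔ FlatCA.RelFinitePresentation R B N := by
  obtain ⟨n, φ, hφ⟩ := Algebra.FiniteType.iff_quotient_mvPolynomial''.mp
    (inferInstance : Algebra.FiniteType R B)
  let P := MvPolynomial (Fin n) R
  let _ : Algebra P B := φ.toRingHom.toAlgebra
  let _ : Algebra P A := ((algebraMap B A).comp φ.toRingHom).toAlgebra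
  have : IsScalarTower P B A := IsScalarTower.of_algebraMap_eq fun _ => rfl
  have : IsScalarTower R P B := IsScalarTower.of_algebraMap_eq fun r => (φ.commutes r).symm
  have : IsScalarTower R P A := IsScalarTower.of_algebraMap_eq fun r => by
    change algebraMap R A r = algebraMap B A (φ (algebraMap R P r))
    rw [φ.commutes, ← IsScalarTower.algebraMap_apply]
  have : Module.Finite P B := Module.Finite.of_surjective (Algebra.linearMap P B) hφ
  have : Module.Finite P A := Module.Finite.trans B A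
  obtain ⟨C, _, _, _, _, _, ψ, hψ⟩ := Module.Finite.exists_free_surjective P A
  let _ : Algebra R C := ((algebraMap P C).comp (algebraMap R P)).toAlgebra
  have : IsScalarTower R P C := IsScalarTower.of_algebraMap_eq fun _ => rfl
  have : Algebra.FinitePresentation R C := Algebra.FinitePresentation.trans R P C
  have : Module.FinitePresentation P C := Module.finitePresentation_of_projective P C
  -- the `P`-module structure on `N`
  let instPN : Module P N := Module.compHom N φ.toRingHom
  have : IsScalarTower P B N := IsScalarTower.of_algebraMap_smul fun r x => rfl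
  have : IsScalarTower P A N := IsScalarTower.of_algebraMap_smul fun r x => by
    change algebraMap B A (φ r) • x = φ r • x
    rw [algebraMap_smul]
  have e1 : FlatCA.RelFinitePresentation R A N ↔ FPVia (ψ.restrictScalars R).toRingHom N :=
    relFP_iff_fpVia (ψ.restrictScalars R) hψ
  have e2 : FPVia ψ.toRingHom N ↔ FPVia (algebraMap P A) N := fpVia_finite_iff ψ
  have e3 : FPVia (algebraMap P A) N ↔ Module.FinitePresentation P N := fpVia_algebraMap_iff
  have e4 : FlatCA.RelFinitePresentation R B N ↔ FPVia φ.toRingHom N := relFP_iff_fpVia φ hφ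
  have e5 : FPVia φ.toRingHom N ↔ Module.FinitePresentation P N :=
    fpVia_algebraMap_iff (P := P) (A := B)
  rw [e1, e4, e5, ← e3, ← e2]
  rfl

end Ring

section Scheme

variable {X Y S : Scheme.{u}}

/-- Affine-level comparison for a finite morphism `π`. -/
theorem relFPOn'_push_iff (π : X ⟶ Y) (g : Y ⟶ S) [IsFinite π] [LocallyOfFiniteType g]
    (F : X.Modules) {W : Y.Opens} {V : S.Opens} (hW : IsAffineOpen W) (hV : IsAffineOpen V)
    (hWV : W ≤ g ⁻¹ᵁ V) :
    RelFPOn' (π ≫ g) F (π ⁻¹ᵁ W) V (π.preimage_mono hWV) ↔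
      RelFPOn' g ((Scheme.Modules.pushforward π).obj F) W V hWV := by
  let _ : Algebra Γ(S, V) Γ(Y, W) := (g.appLE V W hWV).hom.toAlgebra
  let _ : Algebra Γ(Y, W) Γ(X, π ⁻¹ᵁ W) := (π.app W).hom.toAlgebra
  let _ : Algebra Γ(S, V) Γ(X, π ⁻¹ᵁ W) :=
    ((π ≫ g).appLE V (π ⁻¹ᵁ W) (π.preimage_mono hWV)).hom.toAlgebra
  have : IsScalarTower Γ(S, V) Γ(Y, W) Γ(X, π ⁻¹ᵁ W) :=
    IsScalarTower.of_algebraMap_eq fun r => by
      change ((π ≫ g).appLE V (π ⁻¹ᵁ W) _).hom r = (π.app W).hom ((g.appLE V W hWV).hom r)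
      rw [Scheme.Hom.app_eq_appLE, ← Scheme.Hom.appLE_comp_appLE π g V W (π ⁻¹ᵁ W) hWV le_rfl]
      rfl
  have : Module.Finite Γ(Y, W) Γ(X, π ⁻¹ᵁ W) := IsFinite.finite_app π W hW
  have : Algebra.FiniteType Γ(S, V) Γ(Y, W) :=
    HasRingHomProperty.appLE (P := @LocallyOfFiniteType) g inferInstance ⟨V, hV⟩ ⟨W, hW⟩ hWV
  let _ : Module Γ(Y, W) Γ(F, π ⁻¹ᵁ W) :=
    (inferInstance : Module Γ(Y, W) Γ((Scheme.Modules.pushforward π).obj F, W))
  have : IsScalarTower Γ(Y, W) Γ(X, π ⁻¹ᵁ W) Γ(F, π ⁻¹ᵁ W) :=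
    IsScalarTower.of_algebraMap_smul fun r x => rfl
  exact relFP_finite_iff (R := Γ(S, V)) (B := Γ(Y, W)) (A := Γ(X, π ⁻¹ᵁ W))
    (N := Γ(F, π ⁻¹ᵁ W))

theorem isRelFP_push_iff (π : X ⟶ Y) (g : Y ⟶ S) [IsFinite π] [LocallyOfFiniteType g]
    (F : X.Modules) [F.IsQuasicoherent] :
    Flatn.IsRelFP (π ≫ g) F ↔ Flatn.IsRelFP g ((Scheme.Modules.pushforward π).obj F) := by
  have : ((Scheme.Modules.pushforward π).obj F).IsQuasicoherent :=
    Groth.Agent.H8.isQuasicoherent_pushforward_of_isAffineHom π F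
  constructor
  · intro H
    refine isRelFP_of_forall fun W V hWV => ?_
    exact (relFPOn'_push_iff π g F W.2 V.2 hWV).mp
      (relFPOn'_of_isRelFP H (W.2.preimage π) V.2 _)
  · intro H
    refine isRelFP_of_forall_exists _ _ fun V hV x hx => ?_
    obtain ⟨_, ⟨W, hW, rfl⟩, hxW, hWle⟩ :=
      Y.isBasis_affineOpens.exists_subset_of_mem_open (show π x ∈ ((g ⁻¹ᵁ V : Y.Opens) : Set Y)
        from hx) (g ⁻¹ᵁ V).2
    have hW : IsAffineOpen W := hW
    exact ⟨π ⁻¹ᵁ W, hW.preimage π, π.preimage_mono hWle, hxW,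
      (relFPOn'_push_iff π g F hW hV hWle).mpr (relFPOn'_of_isRelFP H hW hV hWle)⟩

end Scheme

end Groth.Agent.H49.RelFP
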