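import Groth.Agent.H49.RelFPComp
import Groth.Agent.H44.PullbackAffine

/-!
# Relative finite presentation and pullback along a locally finitely presented morphism (helper49)
-/

set_option autoImplicit false
universe u

open CategoryTheory CategoryTheory.Limits AlgebraicGeometry Opposite TopologicalSpace TensorProduct

namespace Groth.Agent.H49.RelFP

variable {X Y S : Scheme.{u}}

/-- Affine-level statement: pulling back along a locally finitely presented morphism. -/
theorem RelFPOn'.pullback (f : X ⟶ Y) (g : Y ⟶ S) [LocallyOfFinitePresentation f]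
    (G : Y.Modules) [G.IsQuasicoherent] {U : X.Opens} {W : Y.Opens} {V : S.Opens}
    (hU : IsAffineOpen U) (hW : IsAffineOpen W)
    (hUW : U ≤ f ⁻¹ᵁ W) (hWV : W ≤ g ⁻¹ᵁ V) (H : RelFPOn' g G W V hWV) :
    RelFPOn' (f ≫ g) ((Scheme.Modules.pullback f).obj G) U V
      (hUW.trans (f.preimage_mono hWV)) := by
  let _ : Algebra Γ(Y, W) Γ(X, U) := (f.appLE W U hUW).hom.toAlgebra
  let _ : Algebra Γ(S, V) Γ(Y, W) := (g.appLE V W hWV).hom.toAlgebra
  let _ : Algebra Γ(S, V) Γ(X, U) :=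
    ((f ≫ g).appLE V U (hUW.trans (f.preimage_mono hWV))).hom.toAlgebra
  have : IsScalarTower Γ(S, V) Γ(Y, W) Γ(X, U) :=
    IsScalarTower.of_algebraMap_eq fun r => by
      change ((f ≫ g).appLE V U _).hom r = (f.appLE W U hUW).hom ((g.appLE V W hWV).hom r)
      rw [← Scheme.Hom.appLE_comp_appLE f g V W U hWV hUW]
      rfl
  have hfp : Algebra.FinitePresentation Γ(Y, W) Γ(X, U) :=
    HasRingHomProperty.appLE (P := @LocallyOfFinitePresentation) f inferInstance ⟨W, hW⟩ ⟨U, hU⟩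
      hUW
  let _ : Module Γ(Y, W) Γ((Scheme.Modules.pullback f).obj G, U) :=
    Module.compHom _ (algebraMap Γ(Y, W) Γ(X, U))
  have : IsScalarTower Γ(Y, W) Γ(X, U) Γ((Scheme.Modules.pullback f).obj G, U) :=
    IsScalarTower.of_compHom _ _ _
  let e := Groth.Agent.H44.pullbackSectionsEquiv f G hU hW hUW
  let lin : Γ(G, W) →ₗ[Γ(Y, W)] Γ((Scheme.Modules.pullback f).obj G, U) :=
    (e.symm.toLinearMap.restrictScalars Γ(Y, W)).comp (TensorProduct.mk Γ(Y, W) Γ(X, U) Γ(G, W) 1)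
  have hlin : IsBaseChange Γ(X, U) lin := by
    refine IsBaseChange.of_equiv e.symm (fun x => ?_)
    simp only [lin, LinearMap.comp_apply, LinearMap.restrictScalars_apply,
      LinearEquiv.coe_coe, TensorProduct.mk_apply]
  exact relFP_of_isBaseChange (R := Γ(S, V)) (A := Γ(Y, W)) (A' := Γ(X, U)) lin hlin H

theorem isRelFP_pullback (f : X ⟶ Y) (g : Y ⟶ S) [LocallyOfFinitePresentation f]
    [LocallyOfFiniteType g] (G : Y.Modules) [G.IsQuasicoherent] (hG : Flatn.IsRelFP g G) :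
    Flatn.IsRelFP (f ≫ g) ((Scheme.Modules.pullback f).obj G) := by
  refine isRelFP_of_forall_exists _ _ fun V hV x hx => ?_
  obtain ⟨_, ⟨W, hW, rfl⟩, hxW, hWle⟩ :=
    Y.isBasis_affineOpens.exists_subset_of_mem_open (show f x ∈ ((g ⁻¹ᵁ V : Y.Opens) : Set Y)
      from hx) (g ⁻¹ᵁ V).2
  have hW : IsAffineOpen W := hW
  obtain ⟨_, ⟨U, hU, rfl⟩, hxU, hUle⟩ :=
    X.isBasis_affineOpens.exists_subset_of_mem_open (show x ∈ ((f ⁻¹ᵁ W : X.Opens) : Set X)
      from hxW) (f ⁻¹ᵁ W).2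
  have hU : IsAffineOpen U := hU
  have H := relFPOn'_of_isRelFP hG hW hV hWle
  exact ⟨U, hU, _, hxU, H.pullback f g G hU hW hUle hWle⟩

end Groth.Agent.H49.RelFP
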