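import Mathlib
import Groth.Prelude.Def_FlatCA
import Groth.Agent.H35.RelFPLocal

/-!
# Ring-level lemmas on `FlatCA.RelFinitePresentation` (helper49)

Built on helper35's `FPVia` library.
-/

set_option autoImplicit false
universe u

namespace Groth.Agent.H49.RelFP

open Groth.Agent.H35

section

variable {R S N : Type u} [CommRing R] [CommRing S] [Algebra R S] [AddCommGroup N] [Module S N]

theorem relFP_iff_exists : FlatCA.RelFinitePresentation R S N ↔
    ∃ (n : ℕ) (φ : MvPolynomial (Fin n) R →ₐ[R] S), Function.Surjective φ ∧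
      FPVia φ.toRingHom N := Iff.rfl

theorem FPVia.of_comp_surjective {P Q A M : Type*} [CommRing P] [CommRing Q] [CommRing A]
    [AddCommGroup M] [Module A M] (φ : Q →+* A) (π : P →+* Q) (hπ : Function.Surjective π)
    (h : FPVia (φ.comp π) M) : FPVia φ M := by
  let : Algebra P Q := π.toAlgebra
  let : Module Q M := Module.compHom M φ
  let : Module P M := Module.compHom M (φ.comp π)
  have : IsScalarTower P Q M := IsScalarTower.of_algebraMap_smul fun r x => rfl
  have : Module.FinitePresentation P M := h
  exact fp_of_surjective (S := P) (S' := Q) hπ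

/-- Relative finite presentation can be tested on any surjection from a finitely presented
algebra. -/
theorem relFP_iff_fpVia {P : Type u} [CommRing P] [Algebra R P] [Algebra.FinitePresentation R P]
    (φ : P →ₐ[R] S) (hφ : Function.Surjective φ) :
    FlatCA.RelFinitePresentation R S N ↔ FPVia φ.toRingHom N := by
  constructor
  · rintro ⟨n, ψ, hψ, h⟩
    exact (fpVia_indep ψ hψ φ hφ).mp h
  · intro h
    obtain ⟨n, ρ, hρ, -⟩ := Algebra.FinitePresentation.out (R := R) (A := P)
    exact ⟨n, φ.comp ρ, hφ.comp hρ, (fpVia_comp_algHom_iff φ ρ hρ).mpr h⟩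

theorem finiteType_of_relFP (h : FlatCA.RelFinitePresentation R S N) : Algebra.FiniteType R S := by
  obtain ⟨n, φ, hφ, -⟩ := h
  exact Algebra.FiniteType.of_surjective φ hφ

end

section Tower

variable {R R' S N : Type u} [CommRing R] [CommRing R'] [CommRing S] [Algebra R R'] [Algebra R' S]
  [Algebra R S] [IsScalarTower R R' S] [AddCommGroup N] [Module S N]

/-- Passing to a finite type intermediate base ring. -/
theorem relFP_of_tower_finiteType [Algebra.FiniteType R R']
    (h : FlatCA.RelFinitePresentation R S N) : FlatCA.RelFinitePresentation R' S N := by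
  obtain ⟨n, φ, hφ, hN⟩ := h
  obtain ⟨k, ρ, hρ⟩ := Algebra.FiniteType.iff_quotient_mvPolynomial''.mp
    (inferInstance : Algebra.FiniteType R R')
  let φ' : MvPolynomial (Fin n) R' →ₐ[R'] S := MvPolynomial.aeval (fun i => φ (MvPolynomial.X i))
  have hcomp : φ'.toRingHom.comp (MvPolynomial.map (algebraMap R R')) = φ.toRingHom := by
    apply MvPolynomial.ringHom_ext
    · intro r
      simp [φ', ← IsScalarTower.algebraMap_apply]
    · intro i
      simp [φ']
  have hφ' : Function.Surjective φ' := by
    intro s
    obtain ⟨p, rfl⟩ := hφ s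
    exact ⟨MvPolynomial.map (algebraMap R R') p, congr($hcomp p)⟩
  let C := MvPolynomial (Fin n) (MvPolynomial (Fin k) R)
  let χ : C →ₐ[R] MvPolynomial (Fin n) R' := MvPolynomial.mapAlgHom ρ
  have hχ : Function.Surjective χ := MvPolynomial.map_surjective _ hρ
  have : Algebra.FinitePresentation R C := inferInstance
  have h1 : FPVia ((φ'.restrictScalars R).comp χ).toRingHom N :=
    (relFP_iff_fpVia ((φ'.restrictScalars R).comp χ) (hφ'.comp hχ)).mp ⟨n, φ, hφ, hN⟩
  exact ⟨n, φ', hφ', FPVia.of_comp_surjective φ'.toRingHom χ.toRingHom hχ h1⟩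

/-- Composing with a finitely presented base ring map. -/
theorem relFP_of_tower_finitePresentation [Algebra.FinitePresentation R R']
    (h : FlatCA.RelFinitePresentation R' S N) : FlatCA.RelFinitePresentation R S N := by
  obtain ⟨n, φ', hφ', hN⟩ := h
  have : Algebra.FinitePresentation R (MvPolynomial (Fin n) R') :=
    Algebra.FinitePresentation.trans R R' _
  exact (relFP_iff_fpVia (φ'.restrictScalars R) hφ').mpr hN

end Tower

section BaseChange

/-- Relative finite presentation is stable under base change along a finitely presented ring map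
of the top ring. -/
theorem relFP_of_isBaseChange {R A A' M N : Type u} [CommRing R] [CommRing A] [CommRing A']
    [Algebra R A] [Algebra A A'] [Algebra R A'] [IsScalarTower R A A']
    [Algebra.FinitePresentation A A'] [AddCommGroup M] [Module A M] [AddCommGroup N] [Module A N]
    [Module A' N] [IsScalarTower A A' N] (f : M →ₗ[A] N) (hf : IsBaseChange A' f)
    (h : FlatCA.RelFinitePresentation R A M) : FlatCA.RelFinitePresentation R A' N := by
  obtain ⟨n, φ, hφ, hM⟩ := h
  have h1 : Algebra.FiniteType R A := Algebra.FiniteType.of_surjective φ hφ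
  have h2 : Algebra.FiniteType R A' := Algebra.FiniteType.trans h1 inferInstance
  obtain ⟨k, ρ, hρ⟩ := Algebra.FiniteType.iff_quotient_mvPolynomial''.mp h2
  exact ⟨k, ρ, hρ, fpVia_of_isBaseChange φ hφ hM f hf ρ hρ⟩

/-- Relative finite presentation passes to localizations `A_g`, `M_g`. -/
theorem relFP_of_isLocalizedModule {R A A' M N : Type u} [CommRing R] [CommRing A] [CommRing A']
    [Algebra R A] [Algebra A A'] [Algebra R A'] [IsScalarTower R A A'] (g : A)
    [IsLocalization.Away g A'] [AddCommGroup M] [Module A M] [AddCommGroup N] [Module A N]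
    [Module A' N] [IsScalarTower A A' N] (f : M →ₗ[A] N) [IsLocalizedModule (.powers g) f]
    (h : FlatCA.RelFinitePresentation R A M) : FlatCA.RelFinitePresentation R A' N := by
  have : Algebra.FinitePresentation A A' := IsLocalization.Away.finitePresentation g
  exact relFP_of_isBaseChange f (IsLocalizedModule.isBaseChange (.powers g) A' f) h

end BaseChange

section Transport

/-- Transport along an algebra isomorphism and a compatible additive isomorphism. -/
theorem relFP_of_equiv {R S S' N N' : Type u} [CommRing R] [CommRing S] [CommRing S']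
    [Algebra R S] [Algebra R S'] [AddCommGroup N] [Module S N] [AddCommGroup N'] [Module S' N']
    (e : S ≃ₐ[R] S') (eN : N ≃+ N') (he : ∀ (s : S) (n : N), eN (s • n) = e s • eN n)
    (h : FlatCA.RelFinitePresentation R S N) : FlatCA.RelFinitePresentation R S' N' := by
  obtain ⟨n, φ, hφ, hN⟩ := h
  refine ⟨n, e.toAlgHom.comp φ, e.surjective.comp hφ, ?_⟩
  let : Module (MvPolynomial (Fin n) R) N := Module.compHom N φ.toRingHom
  let : Module (MvPolynomial (Fin n) R) N' := Module.compHom N' (e.toAlgHom.comp φ).toRingHom
  have : Module.FinitePresentation (MvPolynomial (Fin n) R) N := hN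
  let eL : N ≃ₗ[MvPolynomial (Fin n) R] N' :=
    { eN with
      map_smul' := fun p x => he (φ p) x }
  exact Module.FinitePresentation.of_equiv eL

end Transport

section Glue

/-- Transport of relative finite presentation from an arbitrary model of the localization
`A_a`, `M_a` to the standard one. -/
theorem relFP_localization_model {R A M A' M' : Type u} [CommRing R] [CommRing A] [Algebra R A]
    [AddCommGroup M] [Module A M] (a : A) [CommRing A'] [Algebra A A'] [Algebra R A']
    [IsScalarTower R A A'] [IsLocalization.Away a A'] [AddCommGroup M'] [Module A M']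
    [Module A' M'] [IsScalarTower A A' M'] (f : M →ₗ[A] M') [IsLocalizedModule (.powers a) f]
    (h : FlatCA.RelFinitePresentation R A' M') :
    FlatCA.RelFinitePresentation R (Localization.Away a) (LocalizedModule (.powers a) M) := by
  let e₀ : A' ≃ₐ[A] Localization.Away a :=
    IsLocalization.algEquiv (.powers a) A' (Localization.Away a)
  let e : A' ≃ₐ[R] Localization.Away a := e₀.restrictScalars R
  let : Module A' (LocalizedModule (.powers a) M) :=
    Module.compHom _ (e₀ : A' →+* Localization.Away a)
  have : IsScalarTower A A' (LocalizedModule (.powers a) M) :=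
    IsScalarTower.of_algebraMap_smul fun r x => by
      change e₀ (algebraMap A A' r) • x = r • x
      rw [e₀.commutes, algebraMap_smul]
  let i₀ : M' ≃ₗ[A] LocalizedModule (.powers a) M := (IsLocalizedModule.iso (.powers a) f).symm
  let i : M' ≃ₗ[A'] LocalizedModule (.powers a) M :=
    i₀.extendScalarsOfIsLocalization (.powers a) A'
  refine relFP_of_equiv e i.toAddEquiv (fun s n => ?_) h
  change i (s • n) = e₀ s • i n
  rw [i.map_smul]
  rfl

/-- Relative finite presentation can be checked on a standard open cover of the top ring. -/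
theorem relFP_of_localizationSpan {R A M : Type u} [CommRing R] [CommRing A] [Algebra R A]
    [Algebra.FiniteType R A] [AddCommGroup M] [Module A M] (s : Set A) (hs : Ideal.span s = ⊤)
    (A' : s → Type u) [∀ a, CommRing (A' a)] [∀ a, Algebra A (A' a)] [∀ a, Algebra R (A' a)]
    [∀ a, IsScalarTower R A (A' a)] [∀ a : s, IsLocalization.Away a.1 (A' a)]
    (M' : s → Type u) [∀ a, AddCommGroup (M' a)] [∀ a, Module A (M' a)]
    [∀ a, Module (A' a) (M' a)] [∀ a, IsScalarTower A (A' a) (M' a)] (f : ∀ a, M →ₗ[A] M' a)
    [∀ a : s, IsLocalizedModule (.powers a.1) (f a)]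
    (H : ∀ a, FlatCA.RelFinitePresentation R (A' a) (M' a)) :
    FlatCA.RelFinitePresentation R A M := by
  obtain ⟨n, φ₀, hφ₀⟩ := Algebra.FiniteType.iff_quotient_mvPolynomial''.mp
    (inferInstance : Algebra.FiniteType R A)
  refine ⟨n, φ₀, hφ₀, fpVia_of_localizationSpan φ₀ hφ₀ s hs fun a ha => ?_⟩
  have h1 : IsLocalization.Away a (A' ⟨a, ha⟩) :=
    (inferInstance : IsLocalization.Away (⟨a, ha⟩ : s).1 (A' ⟨a, ha⟩))
  have h2 : IsLocalizedModule (.powers a) (f ⟨a, ha⟩) :=
    (inferInstance : IsLocalizedModule (.powers (⟨a, ha⟩ : s).1) (f ⟨a, ha⟩))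
  exact relFP_localization_model a (f ⟨a, ha⟩) (H ⟨a, ha⟩)

end Glue

end Groth.Agent.H49.RelFP
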