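import Groth.Prelude.Def_Flatn
import Groth.Agent.H49.RelFPRing
import Groth.Agent.H44.FiniteSections

/-!
# Relative finite presentation of quasi-coherent modules: affine-local nature (helper49)
-/

set_option autoImplicit false
universe u

open CategoryTheory CategoryTheory.Limits AlgebraicGeometry Opposite TopologicalSpace

namespace Groth.Agent.H49.RelFP

open Groth.Agent.H44

variable {X S : Scheme.{u}} (f : X ⟶ S) (F : X.Modules)

/-- `Flatn.RelFPOn` for opens (without the affineness bundled). -/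
def RelFPOn' (U : X.Opens) (V : S.Opens) (h : U ≤ f ⁻¹ᵁ V) : Prop :=
  letI := (f.appLE V U h).hom.toAlgebra
  FlatCA.RelFinitePresentation Γ(S, V) Γ(X, U) Γ(F, U)

theorem relFPOn_iff' (U : X.affineOpens) (V : S.affineOpens)
    (h : (U : X.Opens) ≤ f ⁻¹ᵁ (V : S.Opens)) :
    Flatn.RelFPOn f F U V h ↔ RelFPOn' f F U.1 V.1 h := Iff.rfl

variable {f F}

theorem RelFPOn'.congr {U U' : X.Opens} {V V' : S.Opens} {h : U ≤ f ⁻¹ᵁ V}
    (H : RelFPOn' f F U V h) (hU : U = U') (hV : V = V') :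
    RelFPOn' f F U' V' (hU ▸ hV ▸ h) := by
  subst hU hV
  exact H

/-- Passing to a basic open of the source. -/
theorem RelFPOn'.basicOpen [F.IsQuasicoherent] {U : X.Opens} {V : S.Opens} {h : U ≤ f ⁻¹ᵁ V}
    (hU : IsAffineOpen U) (H : RelFPOn' f F U V h) (g : Γ(X, U)) :
    RelFPOn' f F (X.basicOpen g) V ((X.basicOpen_le g).trans h) := by
  let _ : Algebra Γ(S, V) Γ(X, U) := (f.appLE V U h).hom.toAlgebra
  let _ : Algebra Γ(S, V) Γ(X, X.basicOpen g) :=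
    (f.appLE V (X.basicOpen g) ((X.basicOpen_le g).trans h)).hom.toAlgebra
  have : IsScalarTower Γ(S, V) Γ(X, U) Γ(X, X.basicOpen g) :=
    IsScalarTower.of_algebraMap_eq fun r => by
      change (f.appLE V (X.basicOpen g) _).hom r =
        (X.presheaf.map (homOfLE (X.basicOpen_le g)).op).hom ((f.appLE V U h).hom r)
      rw [← Scheme.Hom.appLE_map f h (homOfLE (X.basicOpen_le g)).op]
      rfl
  have : IsLocalization.Away g Γ(X, X.basicOpen g) := hU.isLocalization_basicOpen g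
  let _ := basicOpenModule F g
  have := isScalarTower_basicOpen F g
  have := isLocalizedModule_resBasicOpen F g hU
  exact relFP_of_isLocalizedModule (R := Γ(S, V)) (A := Γ(X, U)) (A' := Γ(X, X.basicOpen g)) g
    (resBasicOpen F g) H

/-- The restriction map between affine opens is of finite presentation. -/
theorem finitePresentation_res {V₁ V₂ : S.Opens} (hV₁ : IsAffineOpen V₁) (hV₂ : IsAffineOpen V₂)
    (hV : V₁ ≤ V₂) : (S.presheaf.map (homOfLE hV).op).hom.FinitePresentation := by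
  have h := HasRingHomProperty.appLE (P := @LocallyOfFinitePresentation) (𝟙 S) inferInstance
    ⟨V₂, hV₂⟩ ⟨V₁, hV₁⟩ hV
  have e : (𝟙 S : S ⟶ S).appLE V₂ V₁ hV = S.presheaf.map (homOfLE hV).op := by
    rw [Scheme.Hom.appLE]
    simp
    rfl
  rwa [e] at h

/-- Changing the affine open of the base. -/
theorem relFPOn'_iff_of_le {U : X.Opens} {V₁ V₂ : S.Opens} (hV₁ : IsAffineOpen V₁)
    (hV₂ : IsAffineOpen V₂) (hV : V₁ ≤ V₂) (h : U ≤ f ⁻¹ᵁ V₁) :
    RelFPOn' f F U V₁ h ↔ RelFPOn' f F U V₂ (h.trans (f.preimage_mono hV)) := by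
  let _ : Algebra Γ(S, V₁) Γ(X, U) := (f.appLE V₁ U h).hom.toAlgebra
  let _ : Algebra Γ(S, V₂) Γ(X, U) :=
    (f.appLE V₂ U (h.trans (f.preimage_mono hV))).hom.toAlgebra
  let _ : Algebra Γ(S, V₂) Γ(S, V₁) := (S.presheaf.map (homOfLE hV).op).hom.toAlgebra
  have : IsScalarTower Γ(S, V₂) Γ(S, V₁) Γ(X, U) :=
    IsScalarTower.of_algebraMap_eq fun r => by
      change (f.appLE V₂ U _).hom r =
        (f.appLE V₁ U h).hom ((S.presheaf.map (homOfLE hV).op).hom r)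
      rw [← Scheme.Hom.map_appLE f h (homOfLE hV).op]
      rfl
  have hfp : Algebra.FinitePresentation Γ(S, V₂) Γ(S, V₁) := finitePresentation_res hV₁ hV₂ hV
  have : Algebra.FiniteType Γ(S, V₂) Γ(S, V₁) := inferInstance
  constructor
  · intro H
    exact relFP_of_tower_finitePresentation (R := Γ(S, V₂)) (R' := Γ(S, V₁)) H
  · intro H
    exact relFP_of_tower_finiteType (R := Γ(S, V₂)) (R' := Γ(S, V₁)) H

/-- Gluing over a cover of the source affine by basic opens. -/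
theorem RelFPOn'.of_basicOpen_cover [LocallyOfFiniteType f] [F.IsQuasicoherent] {U : X.Opens}
    {V : S.Opens} {h : U ≤ f ⁻¹ᵁ V} (hU : IsAffineOpen U) (hV : IsAffineOpen V)
    (s : Set Γ(X, U)) (hs : Ideal.span s = ⊤)
    (H : ∀ g ∈ s, RelFPOn' f F (X.basicOpen g) V ((X.basicOpen_le g).trans h)) :
    RelFPOn' f F U V h := by
  let _ : Algebra Γ(S, V) Γ(X, U) := (f.appLE V U h).hom.toAlgebra
  have hft : Algebra.FiniteType Γ(S, V) Γ(X, U) :=
    HasRingHomProperty.appLE (P := @LocallyOfFiniteType) f inferInstance ⟨V, hV⟩ ⟨U, hU⟩ h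
  let _ : ∀ g : s, Algebra Γ(S, V) Γ(X, X.basicOpen g.1) := fun g =>
    (f.appLE V (X.basicOpen g.1) ((X.basicOpen_le g.1).trans h)).hom.toAlgebra
  have : ∀ g : s, IsScalarTower Γ(S, V) Γ(X, U) Γ(X, X.basicOpen g.1) := fun g =>
    IsScalarTower.of_algebraMap_eq fun r => by
      change (f.appLE V (X.basicOpen g.1) _).hom r =
        (X.presheaf.map (homOfLE (X.basicOpen_le g.1)).op).hom ((f.appLE V U h).hom r)
      rw [← Scheme.Hom.appLE_map f h (homOfLE (X.basicOpen_le g.1)).op]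
      rfl
  have : ∀ g : s, IsLocalization.Away g.1 Γ(X, X.basicOpen g.1) := fun g =>
    hU.isLocalization_basicOpen g.1
  let _ : ∀ g : s, Module Γ(X, U) Γ(F, X.basicOpen g.1) := fun g => basicOpenModule F g.1
  have : ∀ g : s, IsScalarTower Γ(X, U) Γ(X, X.basicOpen g.1) Γ(F, X.basicOpen g.1) :=
    fun g => isScalarTower_basicOpen F g.1
  have : ∀ g : s, IsLocalizedModule (.powers g.1) (resBasicOpen F g.1) :=
    fun g => isLocalizedModule_resBasicOpen F g.1 hU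
  exact relFP_of_localizationSpan (R := Γ(S, V)) (A := Γ(X, U)) (M := Γ(F, U)) s hs
    (fun g => Γ(X, X.basicOpen g.1)) (fun g => Γ(F, X.basicOpen g.1))
    (fun g => resBasicOpen F g.1) (fun g => H g.1 g.2)

/-- Moving to another affine open of the base, locally on the source. -/
theorem RelFPOn'.exists_basicOpen_of_mem [F.IsQuasicoherent] {U : X.Opens} {V V' : S.Opens}
    {h : U ≤ f ⁻¹ᵁ V} (hU : IsAffineOpen U) (hV : IsAffineOpen V) (hV' : IsAffineOpen V')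
    (H : RelFPOn' f F U V h) (x : X) (hxU : x ∈ U) (hxV' : f x ∈ V') :
    ∃ (g : Γ(X, U)) (h' : X.basicOpen g ≤ f ⁻¹ᵁ V'), x ∈ X.basicOpen g ∧
      RelFPOn' f F (X.basicOpen g) V' h' := by
  have hxV : f x ∈ V := h hxU
  obtain ⟨_, ⟨V₀, hV₀, rfl⟩, hxV₀, hV₀le⟩ :=
    S.isBasis_affineOpens.exists_subset_of_mem_open (show f x ∈ ((V ⊓ V' : S.Opens) : Set S) from
      ⟨hxV, hxV'⟩) (V ⊓ V').2
  have hV₀ : IsAffineOpen V₀ := hV₀
  have hV₀V : V₀ ≤ V := fun y hy => (hV₀le hy).1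
  have hV₀V' : V₀ ≤ V' := fun y hy => (hV₀le hy).2
  obtain ⟨g, hg, hxg⟩ := hU.exists_basicOpen_le (V := U ⊓ f ⁻¹ᵁ V₀) ⟨x, ⟨hxU, hxV₀⟩⟩ hxU
  have hgV₀ : X.basicOpen g ≤ f ⁻¹ᵁ V₀ := hg.trans inf_le_right
  refine ⟨g, hgV₀.trans (f.preimage_mono hV₀V'), hxg, ?_⟩
  have H1 := H.basicOpen hU g
  have H2 := (relFPOn'_iff_of_le hV₀ hV hV₀V hgV₀).mpr H1
  exact (relFPOn'_iff_of_le hV₀ hV' hV₀V' hgV₀).mp H2

theorem exists_basicOpen_eq_of_eq {U' W : X.Opens} (hU' : IsAffineOpen U') (a' : Γ(X, U'))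
    (hW : W = X.basicOpen a') (g : Γ(X, W)) : ∃ g' : Γ(X, U'), X.basicOpen g' = X.basicOpen g := by
  subst hW
  exact hU'.basicOpen_basicOpen_is_basicOpen a' g

/-- **Relative finite presentation can be tested on every pair of affine opens.** -/
theorem relFPOn'_of_isRelFP [LocallyOfFiniteType f] [F.IsQuasicoherent] (H : Flatn.IsRelFP f F)
    {U' : X.Opens} {V' : S.Opens} (hU' : IsAffineOpen U') (hV' : IsAffineOpen V')
    (h : U' ≤ f ⁻¹ᵁ V') : RelFPOn' f F U' V' h := by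
  obtain ⟨𝒱, h𝒱, H⟩ := H
  let s : Set Γ(X, U') := {g | RelFPOn' f F (X.basicOpen g) V' ((X.basicOpen_le g).trans h)}
  refine RelFPOn'.of_basicOpen_cover hU' hV' s ?_ (fun g hg => hg)
  rw [← hU'.self_le_iSup_basicOpen_iff]
  intro x hx
  have hfx : f x ∈ (⨆ V ∈ 𝒱, (V : S.Opens)) := by rw [h𝒱]; trivial
  simp only [Opens.mem_iSup] at hfx
  obtain ⟨V, hV, hfxV⟩ := hfx
  obtain ⟨𝒰, h𝒰, HU⟩ := H V hV
  have hxV : x ∈ f ⁻¹ᵁ (V : S.Opens) := hfxV
  rw [← h𝒰] at hxV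
  simp only [Opens.mem_iSup] at hxV
  obtain ⟨U, hU, hxU⟩ := hxV
  have hUV : (U : X.Opens) ≤ f ⁻¹ᵁ (V : S.Opens) := by
    rw [← h𝒰]
    exact le_iSup₂ (f := fun (U : X.affineOpens) (_ : U ∈ 𝒰) => (U : X.Opens)) U hU
  have H0 : RelFPOn' f F U.1 V.1 hUV := HU U hU hUV
  obtain ⟨a, a', haa', hxa⟩ := exists_basicOpen_le_affine_inter U.2 hU' x ⟨hxU, hx⟩
  have H1 := H0.basicOpen U.2 a
  obtain ⟨g, hg', hxg, H2⟩ := H1.exists_basicOpen_of_mem (U.2.basicOpen a) V.2 hV' x hxa (h hx)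
  obtain ⟨g', hg'g⟩ := exists_basicOpen_eq_of_eq hU' a' haa' g
  simp only [Opens.mem_iSup]
  refine ⟨⟨g', ?_⟩, ?_⟩
  · exact H2.congr hg'g.symm rfl
  · change x ∈ X.basicOpen g'
    rw [hg'g]
    exact hxg

/-- The easy converse. -/
theorem isRelFP_of_forall (H : ∀ (U : X.affineOpens) (V : S.affineOpens)
    (h : (U : X.Opens) ≤ f ⁻¹ᵁ (V : S.Opens)), Flatn.RelFPOn f F U V h) : Flatn.IsRelFP f F := by
  refine ⟨Set.univ, ?_, fun V _ => ⟨{U | (U : X.Opens) ≤ f ⁻¹ᵁ (V : S.Opens)}, ?_,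
    fun U _ h => H U V h⟩⟩
  · refine eq_top_iff.mpr fun x _ => ?_
    obtain ⟨_, ⟨V, hV, rfl⟩, hxV, -⟩ :=
      S.isBasis_affineOpens.exists_subset_of_mem_open (Set.mem_univ x) isOpen_univ
    simp only [Opens.mem_iSup]
    exact ⟨⟨V, hV⟩, Set.mem_univ _, hxV⟩
  · refine le_antisymm (iSup₂_le fun U hU => hU) fun x hx => ?_
    obtain ⟨_, ⟨U, hU, rfl⟩, hxU, hUle⟩ :=
      X.isBasis_affineOpens.exists_subset_of_mem_open hx (f ⁻¹ᵁ (V : S.Opens)).2
    simp only [Opens.mem_iSup]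
    exact ⟨⟨U, hU⟩, hUle, hxU⟩

theorem isRelFP_iff [LocallyOfFiniteType f] [F.IsQuasicoherent] :
    Flatn.IsRelFP f F ↔ ∀ (U : X.affineOpens) (V : S.affineOpens)
      (h : (U : X.Opens) ≤ f ⁻¹ᵁ (V : S.Opens)), Flatn.RelFPOn f F U V h :=
  ⟨fun H U V h => relFPOn'_of_isRelFP H U.2 V.2 h, isRelFP_of_forall⟩

end Groth.Agent.H49.RelFP
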