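import Mathlib.CategoryTheory.Sites.LocallyBijective
import Mathlib.CategoryTheory.Sites.Limits
import Mathlib.CategoryTheory.Limits.Types.Coproducts
import Mathlib.CategoryTheory.Limits.FunctorCategory.Basic

/-!
# Coproducts of sheaves of sets

For a colimit cocone `c` over a discrete diagram `F : Discrete ι ⥤ Sheaf J (Type _)`:
* every section of `c.pt` is locally in the image of some coprojection;
* the coprojections are injective on sections;
* two sections coming from different summands can only agree over objects covered by the empty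
  sieve.
-/

set_option autoImplicit false
universe w t v₁ u₁
open CategoryTheory CategoryTheory.Limits Opposite

namespace Groth.Agent.H49

section TypeLevel

variable {ι : Type t} {G : Discrete ι ⥤ Type w} {d : Cocone G}

theorem discrete_eq_of_ι_apply_eq (hd : IsColimit d) {i j : Discrete ι} (a : G.obj i)
    (b : G.obj j) (h : d.ι.app i a = d.ι.app j b) : i = j := by
  classical
  let s : Cocone G :=
    { pt := ULift.{w} Prop
      ι := Discrete.natTrans (fun k => TypeCat.ofHom (fun _ => ULift.up (k = i))) }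
  have h1 := ConcreteCategory.congr_hom (hd.fac s i) a
  have h2 := ConcreteCategory.congr_hom (hd.fac s j) b
  rw [ConcreteCategory.comp_apply] at h1 h2
  rw [h] at h1
  have h3 : s.ι.app i a = s.ι.app j b := h1.symm.trans h2
  have h4 : (i = i) = (j = i) := congrArg ULift.down h3
  exact ((h4 ▸ rfl : j = i)).symm

theorem discrete_ι_injective (hd : IsColimit d) (i : Discrete ι) :
    Function.Injective (d.ι.app i) := by
  classical
  let s : Cocone G :=
    { pt := Option (G.obj i)
      ι := Discrete.natTrans (fun k => TypeCat.ofHom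
        (if h : k = i then fun x => some (h ▸ x) else fun _ => none)) }
  intro a b h
  have h1 := ConcreteCategory.congr_hom (hd.fac s i) a
  have h2 := ConcreteCategory.congr_hom (hd.fac s i) b
  rw [ConcreteCategory.comp_apply] at h1 h2
  rw [h] at h1
  have h3 : s.ι.app i a = s.ι.app i b := h1.symm.trans h2
  simpa [s] using h3

end TypeLevel

section SheafLevel

variable {C : Type u₁} [Category.{v₁} C] (J : GrothendieckTopology C) {ι : Type t}
  [HasColimitsOfShape (Discrete ι) (Type (max u₁ v₁))]
  {F : Discrete ι ⥤ Sheaf J (Type (max u₁ v₁))}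

/-- The presheaf-level colimit cocone. -/
noncomputable abbrev preCocone (F : Discrete ι ⥤ Sheaf J (Type (max u₁ v₁))) :
    Cocone (F ⋙ sheafToPresheaf J (Type (max u₁ v₁))) :=
  colimit.cocone _

/-- The evaluation of the presheaf-level colimit cocone is a colimit cocone of types. -/
noncomputable def preCoconeEvalIsColimit (F : Discrete ι ⥤ Sheaf J (Type (max u₁ v₁)))
    (X : Cᵒᵖ) :
    IsColimit (((evaluation Cᵒᵖ (Type (max u₁ v₁))).obj X).mapCocone (preCocone J F)) :=
  isColimitOfPreserves _ (colimit.isColimit _)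

theorem sheafifyCocone_locally_surjective (X : C)
    (x : (Sheaf.sheafifyCocone (preCocone J F)).pt.obj.obj (op X)) :
    ∃ R ∈ J X, ∀ ⦃Y : C⦄ (f : Y ⟶ X), R f → ∃ (i : Discrete ι) (y : (F.obj i).obj.obj (op Y)),
      ((Sheaf.sheafifyCocone (preCocone J F)).ι.app i).hom.app (op Y) y =
        (Sheaf.sheafifyCocone (preCocone J F)).pt.obj.map f.op x := by
  refine ⟨_, Presheaf.imageSieve_mem J (toSheafify J (preCocone J F).pt) (U := op X) x, ?_⟩
  rintro Y f ⟨e, he⟩
  obtain ⟨i, y, hy⟩ := Types.jointly_surjective_of_isColimit (preCoconeEvalIsColimit J F (op Y)) e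
  refine ⟨i, y, ?_⟩
  rw [Sheaf.sheafifyCocone_ι_app_val]
  refine Eq.trans ?_ he
  rw [← hy]
  rfl

theorem preCocone_ι_map (i : Discrete ι) {X Y : C} (f : Y ⟶ X) (a : (F.obj i).obj.obj (op X)) :
    (preCocone J F).pt.map f.op (((preCocone J F).ι.app i).app (op X) a) =
      ((preCocone J F).ι.app i).app (op Y) ((F.obj i).obj.map f.op a) :=
  (NatTrans.naturality_apply ((preCocone J F).ι.app i) f.op a).symm

theorem sheafifyCocone_ι_injective (i : Discrete ι) (X : C) (a a' : (F.obj i).obj.obj (op X))
    (h : ((Sheaf.sheafifyCocone (preCocone J F)).ι.app i).hom.app (op X) a =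
      ((Sheaf.sheafifyCocone (preCocone J F)).ι.app i).hom.app (op X) a') : a = a' := by
  rw [Sheaf.sheafifyCocone_ι_app_val] at h
  have hmem := Presheaf.equalizerSieve_mem J (toSheafify J (preCocone J F).pt) (X := op X)
    (((preCocone J F).ι.app i).app (op X) a) (((preCocone J F).ι.app i).app (op X) a') h
  have hsep := ((isSheaf_iff_isSheaf_of_type J _).1 (F.obj i).property).isSeparated
  refine (hsep _ hmem).ext ?_
  intro Y f hf
  change (preCocone J F).pt.map f.op _ = (preCocone J F).pt.map f.op _ at hf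
  rw [preCocone_ι_map, preCocone_ι_map] at hf
  exact discrete_ι_injective (preCoconeEvalIsColimit J F (op Y)) i hf

theorem sheafifyCocone_bot_mem {i j : Discrete ι} (hij : i ≠ j) (X : C)
    (a : (F.obj i).obj.obj (op X)) (b : (F.obj j).obj.obj (op X))
    (h : ((Sheaf.sheafifyCocone (preCocone J F)).ι.app i).hom.app (op X) a =
      ((Sheaf.sheafifyCocone (preCocone J F)).ι.app j).hom.app (op X) b) : ⊥ ∈ J X := by
  rw [Sheaf.sheafifyCocone_ι_app_val, Sheaf.sheafifyCocone_ι_app_val] at h
  have hmem := Presheaf.equalizerSieve_mem J (toSheafify J (preCocone J F).pt) (X := op X)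
    (((preCocone J F).ι.app i).app (op X) a) (((preCocone J F).ι.app j).app (op X) b) h
  refine J.superset_covering ?_ hmem
  intro Y f hf
  exfalso
  change (preCocone J F).pt.map f.op _ = (preCocone J F).pt.map f.op _ at hf
  rw [preCocone_ι_map, preCocone_ι_map] at hf
  exact hij (discrete_eq_of_ι_apply_eq (preCoconeEvalIsColimit J F (op Y)) _ _ hf)

variable {J} {c : Cocone F} (hc : IsColimit c)
include hc

/-- The comparison isomorphism from any colimit cocone to the sheafified presheaf colimit. -/
noncomputable def toSheafifyCoconeIso :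
    c.pt ≅ (Sheaf.sheafifyCocone (preCocone J F)).pt :=
  hc.coconePointUniqueUpToIso (Sheaf.isColimitSheafifyCocone _ (colimit.isColimit _))

theorem ι_toSheafifyCoconeIso_hom (i : Discrete ι) :
    c.ι.app i ≫ (toSheafifyCoconeIso hc).hom =
      (Sheaf.sheafifyCocone (preCocone J F)).ι.app i :=
  hc.comp_coconePointUniqueUpToIso_hom _ i

theorem ι_toSheafifyCoconeIso_hom_apply (i : Discrete ι) (X : C) (a : (F.obj i).obj.obj (op X)) :
    (toSheafifyCoconeIso hc).hom.hom.app (op X) ((c.ι.app i).hom.app (op X) a) =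
      ((Sheaf.sheafifyCocone (preCocone J F)).ι.app i).hom.app (op X) a := by
  rw [← ι_toSheafifyCoconeIso_hom hc i]
  rfl

theorem toSheafifyCoconeIso_hom_injective (X : C) :
    Function.Injective ((toSheafifyCoconeIso hc).hom.hom.app (op X)) := by
  intro a b h
  have := congrArg ((toSheafifyCoconeIso hc).inv.hom.app (op X)) h
  have e : (toSheafifyCoconeIso hc).hom.hom.app (op X) ≫
      (toSheafifyCoconeIso (J := J) hc).inv.hom.app (op X) = 𝟙 _ := by
    rw [← NatTrans.comp_app, ← ObjectProperty.FullSubcategory.comp_hom, Iso.hom_inv_id]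
    rfl
  have ea := ConcreteCategory.congr_hom e a
  have eb := ConcreteCategory.congr_hom e b
  rw [ConcreteCategory.comp_apply] at ea eb
  rw [← ea.trans (by rfl : (𝟙 (c.pt.obj.obj (op X)) : _ ⟶ _) a = a),
    ← eb.trans (by rfl : (𝟙 (c.pt.obj.obj (op X)) : _ ⟶ _) b = b)]
  exact this

/-- Every section of a coproduct of sheaves of sets comes locally from one of the summands. -/
theorem coprod_locally_surjective (X : C) (x : c.pt.obj.obj (op X)) :
    ∃ R ∈ J X, ∀ ⦃Y : C⦄ (f : Y ⟶ X), R f → ∃ (i : Discrete ι) (y : (F.obj i).obj.obj (op Y)),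
      (c.ι.app i).hom.app (op Y) y = c.pt.obj.map f.op x := by
  obtain ⟨R, hR, h⟩ := sheafifyCocone_locally_surjective J X
    ((toSheafifyCoconeIso hc).hom.hom.app (op X) x)
  refine ⟨R, hR, fun Y f hf => ?_⟩
  obtain ⟨i, y, hy⟩ := h f hf
  refine ⟨i, y, toSheafifyCoconeIso_hom_injective hc Y ?_⟩
  rw [ι_toSheafifyCoconeIso_hom_apply, hy]
  exact (NatTrans.naturality_apply (toSheafifyCoconeIso hc).hom.hom f.op x).symm

/-- The coprojections of a coproduct of sheaves of sets are injective on sections. -/
theorem coprod_ι_injective (i : Discrete ι) (X : C) :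
    Function.Injective ((c.ι.app i).hom.app (op X)) := by
  intro a a' h
  apply sheafifyCocone_ι_injective J i X
  rw [← ι_toSheafifyCoconeIso_hom_apply hc, ← ι_toSheafifyCoconeIso_hom_apply hc, h]

/-- Sections of two different summands of a coproduct of sheaves of sets can only agree over
objects covered by the empty sieve. -/
theorem coprod_bot_mem {i j : Discrete ι} (hij : i ≠ j) (X : C)
    (a : (F.obj i).obj.obj (op X)) (b : (F.obj j).obj.obj (op X))
    (h : (c.ι.app i).hom.app (op X) a = (c.ι.app j).hom.app (op X) b) : ⊥ ∈ J X := by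
  apply sheafifyCocone_bot_mem J hij X a b
  rw [← ι_toSheafifyCoconeIso_hom_apply hc, ← ι_toSheafifyCoconeIso_hom_apply hc, h]

omit hc in
/-- A section which is locally in the image of a sectionwise injective map of sheaves of sets is in
the image. -/
theorem exists_preimage_of_locally {A B : Sheaf J (Type (max u₁ v₁))} (f : A ⟶ B)
    (hf : ∀ X : C, Function.Injective (f.hom.app (op X))) {X : C} (x : B.obj.obj (op X))
    (R : Sieve X) (hR : R ∈ J X)
    (h : ∀ ⦃Y : C⦄ (g : Y ⟶ X), R g → ∃ y : A.obj.obj (op Y), f.hom.app (op Y) y = B.obj.map g.op x) :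
    ∃ y : A.obj.obj (op X), f.hom.app (op X) y = x := by
  have hsheaf : Presieve.IsSheaf J A.obj := (isSheaf_iff_isSheaf_of_type _ _).1 A.property
  have hsep : Presieve.IsSeparated J B.obj :=
    ((isSheaf_iff_isSheaf_of_type _ _).1 B.property).isSeparated
  let fam : Presieve.FamilyOfElements A.obj R.arrows := fun Y g hg => Exists.choose (h g hg)
  have hfam : ∀ {Y : C} (g : Y ⟶ X) (hg : R g),
      f.hom.app (op Y) (fam g hg) = B.obj.map g.op x := fun g hg => Exists.choose_spec (h g hg)
  have hcompat : fam.Compatible := by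
    intro Y₁ Y₂ Z g₁ g₂ f₁ f₂ h₁ h₂ e
    apply hf Z
    rw [NatTrans.naturality_apply, NatTrans.naturality_apply, hfam f₁ h₁, hfam f₂ h₂,
      ← Functor.map_comp_apply, ← Functor.map_comp_apply, ← op_comp, ← op_comp, e]
  refine ⟨(hsheaf _ hR).amalgamate fam hcompat, ?_⟩
  refine (hsep _ hR).ext ?_
  intro Y g hg
  have h1 := NatTrans.naturality_apply f.hom g.op ((hsheaf _ hR).amalgamate fam hcompat)
  have h2 : A.obj.map g.op ((hsheaf _ hR).amalgamate fam hcompat) = fam g hg :=
    (hsheaf _ hR).valid_glue hcompat g hg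
  rw [h2, hfam g hg] at h1
  exact h1.symm

omit hc in
/-- Sections of a sheaf of sets over an object covered by the empty sieve are unique. -/
theorem eq_of_bot_mem {A : Sheaf J (Type (max u₁ v₁))} {X : C} (h : ⊥ ∈ J X)
    (a b : A.obj.obj (op X)) : a = b :=
  (((isSheaf_iff_isSheaf_of_type _ _).1 A.property).isSeparated _ h).ext
    fun _ _ hf => False.elim hf

omit hc in
/-- A cocone over a discrete diagram of sheaves of sets is a colimit cocone as soon as sections of
its point come locally from the summands, the coprojections are injective on sections, and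
sections of different summands only agree over objects covered by the empty sieve. -/
theorem nonempty_isColimit_of_coprod_conditions (c : Cocone F)
    (h1 : ∀ (X : C) (x : c.pt.obj.obj (op X)), ∃ R ∈ J X, ∀ ⦃Y : C⦄ (f : Y ⟶ X), R f →
      ∃ (i : Discrete ι) (y : (F.obj i).obj.obj (op Y)),
        (c.ι.app i).hom.app (op Y) y = c.pt.obj.map f.op x)
    (h2 : ∀ (i : Discrete ι) (X : C), Function.Injective ((c.ι.app i).hom.app (op X)))
    (h3 : ∀ (i j : Discrete ι), i ≠ j → ∀ (X : C) (a : (F.obj i).obj.obj (op X))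
      (b : (F.obj j).obj.obj (op X)),
      (c.ι.app i).hom.app (op X) a = (c.ι.app j).hom.app (op X) b → ⊥ ∈ J X) :
    Nonempty (IsColimit c) := by
  let d := Sheaf.sheafifyCocone (preCocone J F)
  have hd : IsColimit d := Sheaf.isColimitSheafifyCocone _ (colimit.isColimit _)
  let ψ : d.pt ⟶ c.pt := hd.desc c
  have hψ : ∀ (i : Discrete ι) (X : C) (a : (F.obj i).obj.obj (op X)),
      ψ.hom.app (op X) ((d.ι.app i).hom.app (op X) a) = (c.ι.app i).hom.app (op X) a := by
    intro i X a
    rw [← hd.fac c i]
    rfl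
  have hinj : ∀ X : C, Function.Injective (ψ.hom.app (op X)) := by
    intro X α β hαβ
    obtain ⟨Rα, hRα, hα⟩ := coprod_locally_surjective hd X α
    obtain ⟨Rβ, hRβ, hβ⟩ := coprod_locally_surjective hd X β
    have hsep : Presieve.IsSeparated J d.pt.obj :=
      ((isSheaf_iff_isSheaf_of_type _ _).1 d.pt.property).isSeparated
    refine (hsep _ (J.intersection_covering hRα hRβ)).ext ?_
    intro Y f hf
    obtain ⟨i, a, ha⟩ := hα f hf.1
    obtain ⟨j, b, hb⟩ := hβ f hf.2
    have e : (c.ι.app i).hom.app (op Y) a = (c.ι.app j).hom.app (op Y) b := by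
      rw [← hψ, ← hψ, ha, hb, NatTrans.naturality_apply, NatTrans.naturality_apply, hαβ]
    by_cases hij : i = j
    · subst hij
      rw [← ha, ← hb, h2 i Y e]
    · exact eq_of_bot_mem (h3 i j hij Y a b e) _ _
  have hli : Sheaf.IsLocallyInjective ψ := Presheaf.isLocallyInjective_of_injective J _
    (fun X => hinj X.unop)
  have hls : Sheaf.IsLocallySurjective ψ := by
    refine ⟨fun {X} x => ?_⟩
    obtain ⟨R, hR, h⟩ := h1 X x
    refine J.superset_covering ?_ hR
    intro Y f hf
    obtain ⟨i, y, hy⟩ := h f hf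
    exact ⟨(d.ι.app i).hom.app (op Y) y, (hψ i Y y).trans hy⟩
  have hiso : IsIso ψ := (Sheaf.isLocallyBijective_iff_isIso ψ).1 ⟨hli, hls⟩
  exact ⟨IsColimit.ofPointIso hd⟩

omit hc in
/-- Sections of a pullback square of sheaves of sets. -/
theorem sections_of_isPullback {P X Y Z : Sheaf J (Type (max u₁ v₁))} {fst : P ⟶ X}
    {snd : P ⟶ Y} {f : X ⟶ Z} {g : Y ⟶ Z} (sq : IsPullback fst snd f g) (U : Cᵒᵖ) :
    (∀ p p' : P.obj.obj U, fst.hom.app U p = fst.hom.app U p' →
      snd.hom.app U p = snd.hom.app U p' → p = p') ∧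
    (∀ (a : X.obj.obj U) (b : Y.obj.obj U), f.hom.app U a = g.hom.app U b →
      ∃ p : P.obj.obj U, fst.hom.app U p = a ∧ snd.hom.app U p = b) := by
  have h1 := (sq.map (sheafToPresheaf J (Type (max u₁ v₁)))).app U
  rw [Types.isPullback_iff] at h1
  exact ⟨fun p p' e1 e2 => h1.2.1 p p' ⟨e1, e2⟩, fun a b e => h1.2.2 a b e⟩

/-- Coproducts of sheaves of sets are universal: if all the squares over a colimit cocone are
pullbacks, the upper cocone is a colimit cocone. -/
theorem nonempty_isColimit_of_isPullback {G : Discrete ι ⥤ Sheaf J (Type (max u₁ v₁))}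
    (c' : Cocone G) (q : ∀ i, G.obj i ⟶ F.obj i) (ξ : c'.pt ⟶ c.pt)
    (sq : ∀ i, IsPullback (c'.ι.app i) (q i) ξ (c.ι.app i)) : Nonempty (IsColimit c') := by
  have hw : ∀ (i : Discrete ι) (X : C) (a : (G.obj i).obj.obj (op X)),
      ξ.hom.app (op X) ((c'.ι.app i).hom.app (op X) a) =
        (c.ι.app i).hom.app (op X) ((q i).hom.app (op X) a) := by
    intro i X a
    have := congrArg (fun k => k.hom.app (op X) a) (sq i).w
    exact this
  refine nonempty_isColimit_of_coprod_conditions c' ?_ ?_ ?_
  · intro X x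
    obtain ⟨R, hR, h⟩ := coprod_locally_surjective hc X (ξ.hom.app (op X) x)
    refine ⟨R, hR, fun Y f hf => ?_⟩
    obtain ⟨i, y, hy⟩ := h f hf
    have e : ξ.hom.app (op Y) (c'.pt.obj.map f.op x) = (c.ι.app i).hom.app (op Y) y := by
      rw [hy]
      exact NatTrans.naturality_apply ξ.hom f.op x
    obtain ⟨p, hp, -⟩ := (sections_of_isPullback (sq i) (op Y)).2 _ _ e
    exact ⟨i, p, hp⟩
  · intro i X a b hab
    refine (sections_of_isPullback (sq i) (op X)).1 a b hab ?_
    apply coprod_ι_injective hc i X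
    rw [← hw, ← hw, hab]
  · intro i j hij X a b hab
    refine coprod_bot_mem hc hij X ((q i).hom.app (op X) a) ((q j).hom.app (op X) b) ?_
    rw [← hw, ← hw, hab]

end SheafLevel

end Groth.Agent.H49
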