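import Mathlib
import Groth.Prelude.Def_CAlg
import Groth.Agent.H49.SliceScheme
import Groth.Agent.H49.FibreStalk

/-!
# Effective Cartier divisor through a point of positive fibre depth (helper49)
-/

open CategoryTheory AlgebraicGeometry TopologicalSpace
universe u
set_option autoImplicit false
set_option linter.style.haveILetI false

namespace Groth.Agent.H49.SliceDepth

open RingTheory.Sequence

/-- A local ring of depth at least one has a regular element in its maximal ideal. -/
theorem exists_regular_of_one_le_depth (R : Type u) [CommRing R] [IsLocalRing R]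
    (h : (1 : ℕ∞) ≤ LocCoh.depth R R) :
    ∃ r ∈ IsLocalRing.maximalIdeal R, r ∈ nonZeroDivisors R := by
  have hne : (IsLocalRing.maximalIdeal R) • (⊤ : Submodule R R) ≠ ⊤ := by
    rw [smul_eq_mul, Ideal.mul_top]
    exact (IsLocalRing.maximalIdeal.isMaximal R).ne_top
  unfold LocCoh.depth LocCoh.idealDepth at h
  rw [if_neg hne] at h
  have hex : ∃ rs : List R, (IsWeaklyRegular R rs ∧ ∀ r ∈ rs, r ∈ IsLocalRing.maximalIdeal R) ∧
      1 ≤ rs.length := by
    by_contra hcon
    push Not at hcon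
    have : (⨆ (rs : List R) (_ : IsWeaklyRegular R rs ∧
        ∀ r ∈ rs, r ∈ IsLocalRing.maximalIdeal R), (rs.length : ℕ∞)) ≤ 0 := by
      refine iSup₂_le fun rs hrs => ?_
      have := hcon rs hrs
      have h0 : rs.length = 0 := by omega
      simp [h0]
    have := h.trans this
    simp at this
  obtain ⟨rs, ⟨hreg, hmem⟩, hlen⟩ := hex
  match rs, hreg, hmem, hlen with
  | [], _, _, hlen => simp at hlen
  | y :: rs', hreg, hmem, _ =>
    refine ⟨y, hmem y List.mem_cons_self, ?_⟩
    have hy : IsSMulRegular R y := ((isWeaklyRegular_cons_iff _ _ _).mp hreg).1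
    rw [mem_nonZeroDivisors_iff_right]
    intro z hz
    apply hy
    simp only [smul_eq_mul, mul_zero]
    rw [mul_comm]; exact hz


open Groth.Agent.H49.FlatApprox Groth.Agent.H49.FibreStalk in
/-- **S9756**, modulo S4848. -/
theorem slice_of_depth (H : Hyp4848.{u}) {X S : Scheme.{u}} (f : X ⟶ S)
    [LocallyOfFinitePresentation f] (x : X) (hflat : (f.stalkMap x).hom.Flat)
    (hdepth : 1 ≤ LocCoh.depth ↑((f.fiber (f x)).presheaf.stalk (f.asFiber x))
      ↑((f.fiber (f x)).presheaf.stalk (f.asFiber x))) :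
    ∃ (U : X.Opens) (hU : IsAffineOpen U) (hx : x ∈ U) (h' : Γ(X, U)),
      h' ∈ nonZeroDivisors Γ(X, U) ∧
      X.presheaf.germ U x hx h' ∈ IsLocalRing.maximalIdeal ↑(X.presheaf.stalk x) ∧
      Flat (Spec.map (CommRingCat.ofHom (Ideal.Quotient.mk (Ideal.span {h'}))) ≫
        hU.fromSpec ≫ f) ∧
      LocallyOfFinitePresentation (Spec.map (CommRingCat.ofHom
        (Ideal.Quotient.mk (Ideal.span {h'}))) ≫ hU.fromSpec ≫ f) := by
  obtain ⟨r, hrm, hr⟩ := exists_regular_of_one_le_depth _ hdepth
  let E := quotientEquivStalkAsFiber f x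
  obtain ⟨h, hh⟩ := Ideal.Quotient.mk_surjective (E.symm r)
  have hreg : Ideal.Quotient.mk (fibreIdeal f x) h ∈ nonZeroDivisors _ := by
    rw [hh]
    refine mem_nonZeroDivisors_of_injective E.injective ?_
    rw [RingEquiv.apply_symm_apply]; exact hr
  have hm : h ∈ IsLocalRing.maximalIdeal (X.presheaf.stalk x) := by
    rw [IsLocalRing.mem_maximalIdeal, mem_nonunits_iff]
    intro hu
    have h1 : IsUnit (Ideal.Quotient.mk (fibreIdeal f x) h) := hu.map _
    rw [hh] at h1
    have h2 : IsUnit (E (E.symm r)) := h1.map E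
    rw [RingEquiv.apply_symm_apply] at h2
    exact hrm h2
  obtain ⟨U, hU, hx, h', hgerm, hnzd, hfl, hfp⟩ :=
    Groth.Agent.H49.SliceScheme.slice f x H hflat h hreg
  exact ⟨U, hU, hx, h', hnzd, hgerm ▸ hm, hfl, hfp⟩


end Groth.Agent.H49.SliceDepth
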