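import Mathlib
import Groth.Agent.H49.SliceBC

/-!
# Weakly regular sequences with flat partial quotients (helper49)

`Good A R l`: `l` is a weakly regular sequence on the `A`-algebra `R` and all partial quotients
`R ⧸ (l₁, …, l_j)` are flat over `A`.  API: `Good.nil`, `Good.cons`, `Good.uncons`, `Good.flat`,
`Good.flat_quotient`, `Good.of_algEquiv`, `Good.of_isLocalization`,
`Good.isWeaklyRegular_baseChange` (the sequence stays weakly regular after any base change `A → A'`).
-/

open TensorProduct RingTheory.Sequence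
open scoped Pointwise
universe u
set_option autoImplicit false
set_option linter.style.haveILetI false

namespace Groth.Agent.H49.SliceGood

theorem isWeaklyRegular_ringEquiv {R R' : Type*} [CommRing R] [CommRing R'] (e : R ≃+* R')
    (l : List R) : IsWeaklyRegular R l ↔ IsWeaklyRegular R' (l.map e) :=
  e.toAddEquiv.isWeaklyRegular_congr <| List.forall₂_map_right_iff.mpr <|
    List.forall₂_same.mpr fun r _ x => map_mul e r x

theorem isWeaklyRegular_cons_ring {R : Type*} [CommRing R] (x : R) (l : List R) :
    IsWeaklyRegular R (x :: l) ↔ x ∈ nonZeroDivisors R ∧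
      IsWeaklyRegular (R ⧸ Ideal.span {x}) (l.map (Ideal.Quotient.mk (Ideal.span {x}))) := by
  rw [isWeaklyRegular_cons_iff]
  have h1 : IsSMulRegular R x ↔ x ∈ nonZeroDivisors R := by
    rw [mem_nonZeroDivisors_iff_right]
    constructor
    · intro h y hy
      apply h
      simpa [mul_comm] using hy
    · intro h a b hab
      have : (a - b) * x = 0 := by
        have : x * a = x * b := hab
        rw [sub_mul, mul_comm a, mul_comm b, this, sub_self]
      exact sub_eq_zero.mp (h _ this)
  have h2 : (x • (⊤ : Submodule R R)) = Ideal.span {x} := by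
    rw [← Submodule.ideal_span_singleton_smul, smul_eq_mul, Ideal.mul_top]
  let e : QuotSMulTop x R ≃ₗ[R] (R ⧸ Ideal.span {x}) := Submodule.quotEquivOfEq _ _ h2
  rw [h1, e.isWeaklyRegular_congr l,
    ← isWeaklyRegular_map_algebraMap_iff (R ⧸ Ideal.span {x}) (R ⧸ Ideal.span {x}) l]
  rfl

/-- `l` is weakly regular on `R` with all partial quotients flat over `A`. -/
def Good (A : Type u) [CommRing A] (R : Type u) [CommRing R] [Algebra A R] (l : List R) : Prop :=
  IsWeaklyRegular R l ∧ ∀ j ≤ l.length, Module.Flat A (R ⧸ Ideal.ofList (l.take j))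

variable (A : Type u) [CommRing A] (R : Type u) [CommRing R] [Algebra A R]

theorem flat_quotient_bot [Module.Flat A R] : Module.Flat A (R ⧸ (⊥ : Ideal R)) :=
  Module.Flat.of_linearEquiv (AlgEquiv.quotientBot A R).toLinearEquiv

theorem Good.nil [Module.Flat A R] : Good A R [] := by
  refine ⟨IsWeaklyRegular.nil R R, fun j hj => ?_⟩
  simp only [List.length_nil, Nat.le_zero] at hj
  subst hj
  have h0 : Ideal.ofList (([] : List R).take 0) = ⊥ := by rw [List.take_nil]; exact Ideal.ofList_nil
  rw [h0]
  exact flat_quotient_bot A R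

theorem Good.cons [Module.Flat A R] (x : R) (l : List R) (hx : x ∈ nonZeroDivisors R)
    (h : Good A (R ⧸ Ideal.span {x}) (l.map (Ideal.Quotient.mk (Ideal.span {x})))) :
    Good A R (x :: l) := by
  refine ⟨(isWeaklyRegular_cons_ring x l).mpr ⟨hx, h.1⟩, fun j hj => ?_⟩
  rcases j with _ | k
  · have h0 : Ideal.ofList ((x :: l).take 0) = ⊥ := by rw [List.take_zero]; exact Ideal.ofList_nil
    rw [h0]
    exact flat_quotient_bot A R
  · simp only [List.length_cons, Nat.add_le_add_iff_right] at hj
    have h2 := h.2 k (by simpa using hj)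
    rw [List.take_succ_cons, Ideal.ofList_cons]
    have e1 := DoubleQuot.quotQuotEquivQuotSupₐ A (Ideal.span {x}) (Ideal.ofList (l.take k))
    have hI : (Ideal.ofList (l.take k)).map (Ideal.Quotient.mkₐ A (Ideal.span {x})) =
        Ideal.ofList ((l.map (Ideal.Quotient.mk (Ideal.span {x}))).take k) := by
      rw [← List.map_take]
      exact Ideal.map_ofList _ _
    have e2 := Ideal.quotientEquivAlgOfEq A hI
    exact Module.Flat.of_linearEquiv (e1.symm.trans e2).toLinearEquiv

variable {A R}

theorem Good.flat {l : List R} (h : Good A R l) : Module.Flat A R := by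
  have h0 := h.2 0 (Nat.zero_le _)
  have h1 : Ideal.ofList (l.take 0) = ⊥ := by rw [List.take_zero]; exact Ideal.ofList_nil
  rw [h1] at h0
  exact Module.Flat.of_linearEquiv (AlgEquiv.quotientBot A R).symm.toLinearEquiv

theorem Good.flat_quotient {l : List R} (h : Good A R l) : Module.Flat A (R ⧸ Ideal.ofList l) := by
  have h0 := h.2 l.length le_rfl
  rwa [List.take_length] at h0

theorem Good.uncons {x : R} {l : List R} (h : Good A R (x :: l)) :
    x ∈ nonZeroDivisors R ∧ Good A (R ⧸ Ideal.span {x}) (l.map (Ideal.Quotient.mk (Ideal.span {x}))) := by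
  obtain ⟨h1, h2⟩ := (isWeaklyRegular_cons_ring x l).mp h.1
  refine ⟨h1, h2, fun k hk => ?_⟩
  have hk' : k + 1 ≤ (x :: l).length := by simpa using hk
  have h3 := h.2 (k + 1) hk'
  rw [List.take_succ_cons, Ideal.ofList_cons] at h3
  have e1 := DoubleQuot.quotQuotEquivQuotSupₐ A (Ideal.span {x}) (Ideal.ofList (l.take k))
  have hI : (Ideal.ofList (l.take k)).map (Ideal.Quotient.mkₐ A (Ideal.span {x})) =
      Ideal.ofList ((l.map (Ideal.Quotient.mk (Ideal.span {x}))).take k) := by
    rw [← List.map_take]
    exact Ideal.map_ofList _ _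
  have e2 := Ideal.quotientEquivAlgOfEq A hI
  exact Module.Flat.of_linearEquiv (e1.symm.trans e2).symm.toLinearEquiv

theorem flat_quotient_of_algEquiv {R' : Type u} [CommRing R'] [Algebra A R'] (e : R ≃ₐ[A] R')
    (I : Ideal R) (J : Ideal R') (hIJ : J = I.map (e : R →+* R')) (h : Module.Flat A (R ⧸ I)) :
    Module.Flat A (R' ⧸ J) := by
  have e2 := Ideal.quotientEquivAlg I J e hIJ
  exact Module.Flat.of_linearEquiv e2.symm.toLinearEquiv

theorem ofList_map_take {R R' : Type*} [CommRing R] [CommRing R'] (e : R →+* R') (l : List R) (j : ℕ) :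
    Ideal.ofList ((l.map e).take j) = (Ideal.ofList (l.take j)).map e := by
  rw [← List.map_take]
  exact (Ideal.map_ofList _ _).symm

theorem Good.of_algEquiv {R' : Type u} [CommRing R'] [Algebra A R'] (e : R ≃ₐ[A] R') {l : List R}
    (h : Good A R l) : Good A R' (l.map e) := by
  refine ⟨(isWeaklyRegular_ringEquiv e.toRingEquiv l).mp h.1, fun j hj => ?_⟩
  have hj' : j ≤ l.length := by simpa using hj
  exact flat_quotient_of_algEquiv e _ _ (ofList_map_take (e : R →+* R') l j) (h.2 j hj')

theorem Good.of_isLocalization (M : Submonoid R) (R' : Type u) [CommRing R'] [Algebra R R']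
    [IsLocalization M R'] [Algebra A R'] [IsScalarTower A R R'] {l : List R}
    (h : Good A R l) : Good A R' (l.map (algebraMap R R')) := by
  refine ⟨h.1.of_isLocalization R' M, fun j hj => ?_⟩
  have hj' : j ≤ l.length := by simpa using hj
  have h2 := h.2 j hj'
  rw [ofList_map_take (algebraMap R R') l j]
  set I := Ideal.ofList (l.take j) with hIdef
  haveI : Module.Flat (R ⧸ I) (R' ⧸ I.map (algebraMap R R')) :=
    IsLocalization.flat _ (Algebra.algebraMapSubmonoid (R ⧸ I) M)
  haveI : IsScalarTower A (R ⧸ I) (R' ⧸ I.map (algebraMap R R')) := by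
    refine IsScalarTower.of_algebraMap_eq (fun a => ?_)
    rw [IsScalarTower.algebraMap_apply A R' (R' ⧸ I.map (algebraMap R R')),
      IsScalarTower.algebraMap_apply A R R', IsScalarTower.algebraMap_apply A R (R ⧸ I)]
    rfl
  exact Module.Flat.trans A (R ⧸ I) (R' ⧸ I.map (algebraMap R R'))

theorem Good.isWeaklyRegular_baseChange_aux (A' : Type u) [CommRing A'] [Algebra A A'] :
    ∀ (n : ℕ) {R : Type u} [CommRing R] [Algebra A R] {l : List R}, l.length = n → Good A R l →
      IsWeaklyRegular (A' ⊗[A] R)
        (l.map (Algebra.TensorProduct.includeRight : R →ₐ[A] A' ⊗[A] R)) := by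
  intro n
  induction n with
  | zero =>
    intro R _ _ l hl _
    rw [List.length_eq_zero_iff.mp hl]
    exact IsWeaklyRegular.nil _ _
  | succ n ih =>
    intro R _ _ l hl h
    obtain ⟨x, l, rfl⟩ := List.exists_cons_of_length_eq_add_one hl
    obtain ⟨hx, hq⟩ := h.uncons
    haveI := hq.flat
    obtain ⟨hnzd, -⟩ := Groth.Agent.H49.SliceBC.base_change A A' R x hx inferInstance
    rw [List.map_cons, isWeaklyRegular_cons_ring]
    refine ⟨hnzd, ?_⟩
    have IH := ih (l := l.map (Ideal.Quotient.mk (Ideal.span {x}))) (by simpa using hl) hq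
    let e := Algebra.TensorProduct.tensorQuotientEquiv (R := A) A' R A' (Ideal.span {x})
    have hI : (Ideal.span {x}).map
        (Algebra.TensorProduct.includeRight : R →ₐ[A] A' ⊗[A] R) =
        Ideal.span {(Algebra.TensorProduct.includeRight : R →ₐ[A] A' ⊗[A] R) x} := by
      rw [Ideal.map_span, Set.image_singleton]
    let e' : A' ⊗[A] (R ⧸ Ideal.span {x}) ≃+* (A' ⊗[A] R) ⧸
        Ideal.span {(Algebra.TensorProduct.includeRight : R →ₐ[A] A' ⊗[A] R) x} :=
      e.toRingEquiv.trans (Ideal.quotEquivOfEq hI)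
    have h3 := (isWeaklyRegular_ringEquiv e' _).mp IH
    have hl' : ((l.map (Ideal.Quotient.mk (Ideal.span {x}))).map
        (Algebra.TensorProduct.includeRight : (R ⧸ Ideal.span {x}) →ₐ[A] A' ⊗[A] (R ⧸ Ideal.span {x}))).map e' =
        (l.map (Algebra.TensorProduct.includeRight : R →ₐ[A] A' ⊗[A] R)).map
          (Ideal.Quotient.mk _) := by
      rw [List.map_map, List.map_map, List.map_map]
      apply List.map_congr_left
      intro r _
      rfl
    rw [hl'] at h3
    exact h3

theorem Good.isWeaklyRegular_baseChange (A' : Type u) [CommRing A'] [Algebra A A'] {l : List R}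
    (h : Good A R l) :
    IsWeaklyRegular (A' ⊗[A] R)
      (l.map (Algebra.TensorProduct.includeRight : R →ₐ[A] A' ⊗[A] R)) :=
  Good.isWeaklyRegular_baseChange_aux A' l.length rfl h

end Groth.Agent.H49.SliceGood
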