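import Mathlib
import Groth.Agent.H49.CMRegSeqDim
import Groth.Agent.H49.SliceGood
import Groth.Agent.H46.CIField
import Groth.Agent.H72.CMLocal
import Groth.Agent.H17.Chev.DimIneqScheme

/-!
# Regular sequences in a Cohen–Macaulay local ring coming from an ideal of another ring (helper49)

Algebra for slicing groupoids (Stacks 0461): `C` Cohen–Macaulay local, `τ' : Λ →+* C`, `M` an ideal
of `Λ` with `dim C/(M C) + n ≤ dim C`: there are `f₁, …, fₙ ∈ M` whose images form a regular
sequence on `C`.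
-/

set_option autoImplicit false
set_option linter.style.haveILetI false
universe u

open RingTheory.Sequence IsLocalRing

namespace Groth.Agent.H49.SliceGrpdAlg

set_option backward.isDefEq.respectTransparency false in
/-- an element outside all minimal primes cuts the dimension down. -/
theorem ringKrullDim_quotient_succ_le_of_notMem_minimalPrimes {R : Type*} [CommRing R] {r : R}
    (hr : ∀ p ∈ minimalPrimes R, r ∉ p) :
    ringKrullDim (R ⧸ Ideal.span {r}) + 1 ≤ ringKrullDim R := by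
  by_cases hr' : Ideal.span {r} = ⊤
  · rw [hr', ringKrullDim_eq_bot_of_subsingleton]
    simp
  have : Nonempty (PrimeSpectrum.zeroLocus (R := R) (Ideal.span {r})) := by
    rwa [Set.nonempty_coe_sort, Set.nonempty_iff_ne_empty, ne_eq,
      PrimeSpectrum.zeroLocus_empty_iff_eq_top]
  have := Ideal.Quotient.nontrivial_iff.mpr hr'
  have := (Ideal.Quotient.mk (Ideal.span {r})).domain_nontrivial
  rw [ringKrullDim_quotient, Order.krullDim_eq_iSup_length, ringKrullDim,
    Order.krullDim_eq_iSup_length, ← WithBot.coe_one, ← WithBot.coe_add,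
    ENat.iSup_add, WithBot.coe_le_coe, iSup_le_iff]
  intro l
  obtain ⟨p, hp, hp'⟩ := Ideal.exists_minimalPrimes_le (J := l.head.1.asIdeal) bot_le
  let p' : PrimeSpectrum R := ⟨p, hp.1.1⟩
  have hp' : p' < l.head := lt_of_le_of_ne hp' fun h ↦
    hr p hp (show r ∈ p by simpa [← h] using l.head.2)
  refine le_trans ?_ (le_iSup _ ((l.map Subtype.val (fun _ _ ↦ id)).cons p' hp'))
  simp

variable {Λ : Type u} [CommRing Λ]

/-- one regular element. -/
theorem exists_regular_elem {C : Type u} [CommRing C] [IsLocalRing C]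
    (hC : LocCoh.IsCohenMacaulayLocalRing C) (τ' : Λ →+* C) (M : Ideal Λ)
    (hdim : ringKrullDim (C ⧸ M.map τ') < ringKrullDim C) :
    ∃ f ∈ M, ∀ P ∈ minimalPrimes C, τ' f ∉ P := by
  classical
  haveI : IsNoetherianRing C := hC.toIsNoetherian
  have hfin := minimalPrimes.finite_of_isNoetherianRing C
  have hnot : ∀ P ∈ minimalPrimes C, ¬ (M ≤ P.comap τ') := by
    intro P hP hle
    haveI : P.IsPrime := hP.1.1
    have h1 : M.map τ' ≤ P := Ideal.map_le_iff_le_comap.mpr hle
    have h2 : ringKrullDim (C ⧸ P) ≤ ringKrullDim (C ⧸ M.map τ') :=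
      ringKrullDim_le_of_surjective (Ideal.Quotient.factor h1)
        (Ideal.Quotient.factor_surjective h1)
    have h3 := Groth.Agent.H72.CMLocal.ringKrullDim_eq_quotient_add_height C hC P
    have h4 : P.height = 0 := Ideal.height_eq_zero_iff.mpr hP
    rw [h4] at h3
    simp only [WithBot.coe_zero, add_zero] at h3
    rw [h3] at hdim
    exact absurd h2 (not_le.mpr hdim)
  by_contra hcon
  push Not at hcon
  have hsub : (M : Set Λ) ⊆ ⋃ P ∈ (↑hfin.toFinset : Set (Ideal C)), (P.comap τ' : Set Λ) := by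
    intro f hf
    obtain ⟨P, hP, hfP⟩ := hcon f hf
    simp only [Set.mem_iUnion]
    exact ⟨P, by simpa using hP, hfP⟩
  have hsub' : (M : Set Λ) ⊆ ⋃ P ∈ (↑hfin.toFinset : Set (Ideal C)),
      ((fun P : Ideal C => P.comap τ') P : Set Λ) := hsub
  rw [Ideal.subset_union_prime (f := fun P : Ideal C => P.comap τ') ⊥ ⊥] at hsub'
  · obtain ⟨P, hP, hle⟩ := hsub'
    exact hnot P (by simpa using hP) hle
  · intro P hP _ _
    haveI : P.IsPrime := (by simpa using hP : P ∈ minimalPrimes C).1.1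
    exact Ideal.comap_isPrime τ' P

/-- an element outside all minimal primes of a Cohen–Macaulay local ring, in the maximal ideal,
is a nonzerodivisor. -/
theorem mem_nonZeroDivisors_of_notMem_minimalPrimes {C : Type u} [CommRing C] [IsLocalRing C]
    (hC : LocCoh.IsCohenMacaulayLocalRing C) (x : C) (hx : x ∈ maximalIdeal C)
    (hmin : ∀ P ∈ minimalPrimes C, x ∉ P) : x ∈ nonZeroDivisors C := by
  have h1 := ringKrullDim_quotient_succ_le_of_notMem_minimalPrimes hmin
  have h2 : IsRegular C [x] := by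
    rw [Groth.Agent.H49.CMRegSeqDim.isRegular_iff_dim hC [x] (by simpa using hx),
      Ideal.ofList_singleton]
    simpa using h1
  have h3 : IsWeaklyRegular C [x] := h2.toIsWeaklyRegular
  have h4 := (Groth.Agent.H49.SliceGood.isWeaklyRegular_cons_ring x []).mp h3
  exact h4.1

/-- the regular list. -/
theorem exists_regular_list (M : Ideal Λ) (n : ℕ) :
    ∀ (C : Type u) [CommRing C] [IsLocalRing C] (_ : LocCoh.IsCohenMacaulayLocalRing C)
      (τ' : Λ →+* C) (_ : M.map τ' ≤ maximalIdeal C)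
      (_ : ringKrullDim (C ⧸ M.map τ') + (n : WithBot ℕ∞) ≤ ringKrullDim C),
      ∃ l : List Λ, l.length = n ∧ (∀ f ∈ l, f ∈ M) ∧ IsWeaklyRegular C (l.map τ') := by
  induction n with
  | zero =>
    intro C _ _ _ τ' _ _
    exact ⟨[], rfl, by simp, IsWeaklyRegular.nil C C⟩
  | succ n ih =>
    intro C _ _ hC τ' hloc hdim
    haveI : IsNoetherianRing C := hC.toIsNoetherian
    have hne : M.map τ' ≠ ⊤ := fun h =>
      (maximalIdeal.isMaximal C).ne_top (top_le_iff.mp (h ▸ hloc))
    haveI : Nontrivial (C ⧸ M.map τ') := Ideal.Quotient.nontrivial_iff.mpr hne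
    haveI : IsLocalRing (C ⧸ M.map τ') :=
      IsLocalRing.of_surjective' (Ideal.Quotient.mk _) Ideal.Quotient.mk_surjective
    obtain ⟨d, hd⟩ := Groth.Agent.H17.Chev.exists_nat_eq_ringKrullDim C
    obtain ⟨d', hd'⟩ := Groth.Agent.H17.Chev.exists_nat_eq_ringKrullDim (C ⧸ M.map τ')
    have hlt : ringKrullDim (C ⧸ M.map τ') < ringKrullDim C := by
      rw [hd, hd'] at hdim ⊢
      have : d' + (n + 1) ≤ d := by exact_mod_cast hdim
      exact_mod_cast (by omega : d' < d)
    obtain ⟨f, hfM, hfmin⟩ := exists_regular_elem hC τ' M hlt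
    set x : C := τ' f with hx
    have hxm : x ∈ maximalIdeal C := hloc (Ideal.mem_map_of_mem τ' hfM)
    have hxnzd : x ∈ nonZeroDivisors C :=
      mem_nonZeroDivisors_of_notMem_minimalPrimes hC x hxm hfmin
    have hxreg : IsSMulRegular C x := Module.Flat.isSMulRegular_of_nonZeroDivisors hxnzd
    have hwr : IsWeaklyRegular C [x] := by
      rw [isWeaklyRegular_singleton_iff]; exact hxreg
    have hC₁' : LocCoh.IsCohenMacaulayLocalRing (C ⧸ Ideal.ofList [x]) :=
      Groth.Agent.H46.CIField.isCM_quotient_ofList C hC [x] (by simpa using hxm) hwr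
    have hC₁ : LocCoh.IsCohenMacaulayLocalRing (C ⧸ Ideal.span {x}) := by
      rw [Ideal.ofList_singleton] at hC₁'; exact hC₁'
    haveI : IsLocalRing (C ⧸ Ideal.span {x}) := hC₁.toIsLocalRing
    let mk₁ : C →+* C ⧸ Ideal.span {x} := Ideal.Quotient.mk (Ideal.span {x})
    have hmk₁ : Function.Surjective mk₁ := Ideal.Quotient.mk_surjective
    haveI : IsLocalHom mk₁ := IsLocalHom.of_surjective _ hmk₁
    let τ'₁ : Λ →+* C ⧸ Ideal.span {x} := mk₁.comp τ'
    have hmap : M.map τ'₁ = (M.map τ').map mk₁ := (Ideal.map_map τ' mk₁).symm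
    have hloc₁ : M.map τ'₁ ≤ maximalIdeal (C ⧸ Ideal.span {x}) := by
      rw [hmap, Ideal.map_le_iff_le_comap]
      intro y hy
      have hym : y ∈ maximalIdeal C := hloc hy
      rw [Ideal.mem_comap, IsLocalRing.mem_maximalIdeal, mem_nonunits_iff]
      intro hu
      exact hym ((isUnit_map_iff mk₁ y).mp hu)
    have hdim1 : ringKrullDim (C ⧸ Ideal.span {x}) + 1 = ringKrullDim C :=
      ringKrullDim_quotient_span_singleton_succ_eq_ringKrullDim hxreg hxm
    have hle : ringKrullDim ((C ⧸ Ideal.span {x}) ⧸ M.map τ'₁) ≤ ringKrullDim (C ⧸ M.map τ') := by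
      have hcomap : M.map τ' ≤ (M.map τ'₁).comap mk₁ := by
        rw [hmap]; exact Ideal.le_comap_map
      exact ringKrullDim_le_of_surjective (Ideal.quotientMap (M.map τ'₁) mk₁ hcomap)
        (Ideal.quotientMap_surjective hmk₁)
    have hne₁ : M.map τ'₁ ≠ ⊤ := fun h =>
      (maximalIdeal.isMaximal _).ne_top (top_le_iff.mp (h ▸ hloc₁))
    haveI : Nontrivial ((C ⧸ Ideal.span {x}) ⧸ M.map τ'₁) :=
      Ideal.Quotient.nontrivial_iff.mpr hne₁
    haveI : IsLocalRing ((C ⧸ Ideal.span {x}) ⧸ M.map τ'₁) :=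
      IsLocalRing.of_surjective' (Ideal.Quotient.mk _) Ideal.Quotient.mk_surjective
    haveI : IsNoetherianRing (C ⧸ Ideal.span {x}) := hC₁.toIsNoetherian
    obtain ⟨d₁, hd₁⟩ := Groth.Agent.H17.Chev.exists_nat_eq_ringKrullDim (C ⧸ Ideal.span {x})
    obtain ⟨d₁', hd₁'⟩ := Groth.Agent.H17.Chev.exists_nat_eq_ringKrullDim
      ((C ⧸ Ideal.span {x}) ⧸ M.map τ'₁)
    have hdim₁ : ringKrullDim ((C ⧸ Ideal.span {x}) ⧸ M.map τ'₁) + (n : WithBot ℕ∞) ≤
        ringKrullDim (C ⧸ Ideal.span {x}) := by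
      rw [hd, hd₁] at hdim1
      rw [hd, hd'] at hdim
      rw [hd₁', hd'] at hle
      rw [hd₁, hd₁']
      have e1 : d₁ + 1 = d := by exact_mod_cast hdim1
      have e2 : d' + (n + 1) ≤ d := by exact_mod_cast hdim
      have e3 : d₁' ≤ d' := by exact_mod_cast hle
      exact_mod_cast (by omega : d₁' + n ≤ d₁)
    obtain ⟨l₁, hlen, hmem, hreg⟩ := ih (C ⧸ Ideal.span {x}) hC₁ τ'₁ hloc₁ hdim₁
    refine ⟨f :: l₁, by simp [hlen], ?_, ?_⟩
    · intro g hg
      rcases List.mem_cons.mp hg with rfl | hg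
      · exact hfM
      · exact hmem g hg
    · rw [List.map_cons, Groth.Agent.H49.SliceGood.isWeaklyRegular_cons_ring]
      refine ⟨hxnzd, ?_⟩
      rw [List.map_map]
      exact hreg

end Groth.Agent.H49.SliceGrpdAlg
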