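import Groth.Agent.H49.GrpdStabDim
import Groth.Agent.H40.GQ.RestrictMono
import Groth.Agent.H49.CMMor

/-!
# Slicing groupoids: the dimension of `O_{R,e(u)} / (s(m_u) + t(m_u))` (helper49)

For a groupoid scheme `(U, R, s, t, c)` with `s`, `t` locally of finite type and a finite type
point `u` of `U`, the local ring of `R` at `e(u)` modulo `s(m_u) + t(m_u)` has dimension at most
`dim G_u`, where `G_u` is the fibre of the stabilizer over `u` (Stacks 0461, first part of the
proof).
-/

set_option autoImplicit false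
set_option linter.style.haveILetI false

universe u

open CategoryTheory CategoryTheory.Limits AlgebraicGeometry Topology IsLocalRing

namespace Groth.Agent.H49.SliceGrpdDim

open Groth.Agent.H40.GQ Groth.Agent.H40.GQ.RM Groth.Agent.H49.FibreStalk

/-- the dimension of a local ring of a scheme is at most the dimension of the scheme. -/
theorem ringKrullDim_stalk_le (X : Scheme.{u}) (x : X) :
    ringKrullDim (X.presheaf.stalk x) ≤ topologicalKrullDim X := by
  rw [ringKrullDim_stalk_eq_coheight]
  have h1 : topologicalKrullDim ↥X = Order.krullDim ↥X :=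
    Order.krullDim_eq_of_orderIso (irreducibleSetEquivPoints (α := ↥X))
  rw [h1]
  exact Order.coheight_le_krullDim x

variable {S : Scheme.{u}} (G : Grpd.GroupoidScheme S) (u : G.U)

/-- the restricted groupoid on `Spec κ(u)` has dimension at most `dim G_u`. -/
theorem dim_restrict_le (hu : LocallyOfFiniteType (G.U.fromSpecResidueField u))
    [LocallyOfFiniteType G.s] [LocallyOfFiniteType G.t] :
    topologicalKrullDim (R' G (G.U.fromSpecResidueField u)) ≤
      topologicalKrullDim (G.stabilizerToU.fiber u) := by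
  set u_ := G.U.fromSpecResidueField u with hu_
  haveI := hu
  let G'' := restrictMono G u_
  haveI hv : LocallyOfFiniteType (v G u_) := by
    unfold v; infer_instance
  haveI hs'' : LocallyOfFiniteType G''.s := by
    change LocallyOfFiniteType (pullback.snd (v G u_) u_); infer_instance
  haveI ht'' : LocallyOfFiniteType G''.t := by
    change LocallyOfFiniteType (pullback.fst (v G u_) u_ ≫ pullback.snd G.t u_); infer_instance
  let eU : G''.U ≅ Spec (CommRingCat.of (G.U.residueField u)) := Iso.refl _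
  obtain ⟨A', ι, hst, hι, hdim⟩ := Groth.Agent.H49.GrpdStabDim.exists_integral_piece G''
    (G.U.residueField u) eU
  refine hdim.trans ?_
  -- the map to the stabilizer
  have hst' : ι ≫ s' G u_ = ι ≫ t' G u_ := hst
  have hjt : G.j ≫ pullback.fst G.pU G.pU = G.t := by
    rw [Grpd.GroupoidScheme.j, pullback.lift_fst]
  have hjs : G.j ≫ pullback.snd G.pU G.pU = G.s := by
    rw [Grpd.GroupoidScheme.j, pullback.lift_snd]
  have hd1 : G.diag ≫ pullback.fst G.pU G.pU = 𝟙 _ := by
    rw [Grpd.GroupoidScheme.diag, pullback.lift_fst]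
  have hd2 : G.diag ≫ pullback.snd G.pU G.pU = 𝟙 _ := by
    rw [Grpd.GroupoidScheme.diag, pullback.lift_snd]
  have hcond : (ι ≫ ρ G u_) ≫ G.j = (ι ≫ s' G u_ ≫ u_) ≫ G.diag := by
    apply pullback.hom_ext
    · simp only [Category.assoc, hjt, hd1, Category.comp_id]
      rw [ρ_t, ← Category.assoc, ← hst', Category.assoc]
    · simp only [Category.assoc, hjs, hd2, Category.comp_id]
      rw [ρ_s]
  let toStab : Spec A' ⟶ pullback G.j G.diag := pullback.lift (ι ≫ ρ G u_) (ι ≫ s' G u_ ≫ u_) hcond
  let ψ : Spec A' ⟶ pullback (pullback.snd G.j G.diag) u_ :=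
    pullback.lift toStab (ι ≫ s' G u_) (by
      rw [pullback.lift_snd, Category.assoc])
  -- the map back to the restricted groupoid
  let γ : pullback (pullback.snd G.j G.diag) u_ ⟶ pullback G.j G.diag := pullback.fst _ _
  let y : pullback (pullback.snd G.j G.diag) u_ ⟶ Spec (G.U.residueField u) := pullback.snd _ _
  have hγy : γ ≫ pullback.snd G.j G.diag = y ≫ u_ := pullback.condition
  let α : pullback (pullback.snd G.j G.diag) u_ ⟶ G.R := γ ≫ pullback.fst G.j G.diag
  have hαt : α ≫ G.t = y ≫ u_ := by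
    rw [← hjt, ← hγy]
    change (γ ≫ pullback.fst G.j G.diag) ≫ G.j ≫ _ = _
    rw [Category.assoc, ← Category.assoc (pullback.fst G.j G.diag), pullback.condition,
      Category.assoc, hd1, Category.comp_id]
  have hαs : α ≫ G.s = y ≫ u_ := by
    rw [← hjs, ← hγy]
    change (γ ≫ pullback.fst G.j G.diag) ≫ G.j ≫ _ = _
    rw [Category.assoc, ← Category.assoc (pullback.fst G.j G.diag), pullback.condition,
      Category.assoc, hd2, Category.comp_id]
  let χ : pullback (pullback.snd G.j G.diag) u_ ⟶ R' G u_ := RM.lift G u_ α y y hαt hαs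
  have hψχ : ψ ≫ χ = ι := by
    rw [← cancel_mono (ρ G u_), Category.assoc, lift_ρ]
    change ψ ≫ γ ≫ pullback.fst G.j G.diag = _
    rw [← Category.assoc, pullback.lift_fst, pullback.lift_fst]
  have hcomp : (ι : Spec A' → R' G u_) =
      (χ : ↥(pullback (pullback.snd G.j G.diag) u_) → R' G u_) ∘
        (ψ : Spec A' → ↥(pullback (pullback.snd G.j G.diag) u_)) := by
    rw [← hψχ]; rfl
  have hψ : IsInducing (ψ : Spec A' → ↥(pullback (pullback.snd G.j G.diag) u_)) := by
    apply IsInducing.of_comp ψ.continuous χ.continuous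
    rw [← hcomp]
    exact hι
  exact hψ.topologicalKrullDim_le

/-- the local ring of the restricted groupoid at a point `z''` is the local ring of `R` at its
image modulo `s(m_u) + t(m_u)`. -/
theorem ringKrullDim_quotient_eq_stalk (z'' : R' G (G.U.fromSpecResidueField u)) (r : G.R)
    (hr : ρ G (G.U.fromSpecResidueField u) z'' = r) :
    ringKrullDim (G.R.presheaf.stalk r ⧸ (fibreIdeal G.s r ⊔ fibreIdeal G.t r)) =
      ringKrullDim ((R' G (G.U.fromSpecResidueField u)).presheaf.stalk z'') := by
  let v₀ : G.t.fiber u ⟶ G.U := G.t.fiberι u ≫ G.s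
  let z₂ : v₀.fiber u := z''
  let x' : G.t.fiber u := v₀.fiberι u z₂
  have hρ : ρ G (G.U.fromSpecResidueField u) z'' = G.t.fiberι u x' := rfl
  obtain rfl : r = G.t.fiberι u x' := hr.symm.trans hρ
  let φ₂ := ((v₀.fiberι u).stalkMap z₂).hom
  let φ₁ := ((G.t.fiberι u).stalkMap x').hom
  have hφ₂s : Function.Surjective φ₂ := (v₀.fiberι u).stalkMap_surjective z₂
  have hφ₁s : Function.Surjective φ₁ := (G.t.fiberι u).stalkMap_surjective x'
  have hk₂ : RingHom.ker φ₂ = fibreIdeal v₀ x' := ker_stalkMap_fiberι v₀ u z₂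
  have hk₁ : RingHom.ker φ₁ = fibreIdeal G.t (G.t.fiberι u x') := ker_stalkMap_fiberι G.t u x'
  have hcomp : fibreIdeal v₀ x' = Ideal.map φ₁ (fibreIdeal G.s (G.t.fiberι u x')) :=
    Groth.Agent.H49.CMMor.fibreIdeal_comp (G.t.fiberι u) G.s x'
  let ψ := φ₂.comp φ₁
  have hψs : Function.Surjective ψ := hφ₂s.comp hφ₁s
  have hkψ : RingHom.ker ψ =
      fibreIdeal G.s (G.t.fiberι u x') ⊔ fibreIdeal G.t (G.t.fiberι u x') := by
    rw [← RingHom.comap_ker, hk₂, hcomp, Ideal.comap_map_of_surjective φ₁ hφ₁s,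
      ← RingHom.ker_eq_comap_bot, hk₁]
  have e := (Ideal.quotEquivOfEq hkψ.symm).trans (RingHom.quotientKerEquivOfSurjective hψs)
  exact ringKrullDim_eq_of_ringEquiv e

/-- **Key dimension estimate**: `dim O_{R,e(u)}/(s(m_u) + t(m_u)) ≤ dim G_u`. -/
theorem ringKrullDim_quotient_le (hu : LocallyOfFiniteType (G.U.fromSpecResidueField u))
    [LocallyOfFiniteType G.s] [LocallyOfFiniteType G.t] :
    ringKrullDim (G.R.presheaf.stalk (G.e u) ⧸ (fibreIdeal G.s (G.e u) ⊔ fibreIdeal G.t (G.e u))) ≤
      topologicalKrullDim (G.stabilizerToU.fiber u) := by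
  set u_ := G.U.fromSpecResidueField u with hu_
  let pt : Spec (G.U.residueField u) := IsLocalRing.closedPoint (G.U.residueField u)
  let z'' : R' G u_ := e' G u_ pt
  have hz : ρ G u_ z'' = G.e u := by
    change (e' G u_ ≫ ρ G u_) pt = _
    rw [e'_ρ]
    change G.e (u_ pt) = _
    rw [hu_, Scheme.fromSpecResidueField_apply]
  rw [ringKrullDim_quotient_eq_stalk G u z'' (G.e u) hz]
  exact (ringKrullDim_stalk_le _ z'').trans (dim_restrict_le G u hu)

end Groth.Agent.H49.SliceGrpdDim
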