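import Groth.Agent.H49.SliceScheme
import Groth.Agent.H49.CMMor
import Groth.Agent.H51.FibreDimTrdeg
import Groth.Agent.H51.ResTrdeg

/-!
# Stalks of a closed subscheme of an affine open (helper49)
-/

set_option autoImplicit false
set_option linter.style.haveILetI false

universe u

open CategoryTheory CategoryTheory.Limits AlgebraicGeometry Topology IsLocalRing

namespace Groth.Agent.H49.SliceGrpdStalk

open Groth.Agent.H49.FibreStalk

/-- localizing a surjection: surjective with kernel the extension of the kernel. -/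
theorem surjective_and_ker_of_isLocalization {B B' L L' : Type*} [CommRing B] [CommRing B']
    [CommRing L] [CommRing L'] (φ : B →+* B') (hφ : Function.Surjective φ)
    (q' : Ideal B') [q'.IsPrime] (q : Ideal B) [q.IsPrime] (hq : q = q'.comap φ)
    [Algebra B L] [IsLocalization.AtPrime L q] [Algebra B' L'] [IsLocalization.AtPrime L' q']
    (ψ : L →+* L') (hψ : ψ.comp (algebraMap B L) = (algebraMap B' L').comp φ) :
    Function.Surjective ψ ∧ RingHom.ker ψ = (RingHom.ker φ).map (algebraMap B L) := by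
  have hψ' : ∀ b, ψ (algebraMap B L b) = algebraMap B' L' (φ b) := fun b =>
    congrArg (fun f : B →+* L' => f b) hψ
  have hmem : ∀ s : B, s ∈ q.primeCompl ↔ φ s ∈ q'.primeCompl := by
    intro s
    subst hq
    rfl
  have hmk : ∀ (b : B) (s : q.primeCompl),
      ψ (IsLocalization.mk' L b s) =
        IsLocalization.mk' L' (φ b) ⟨φ s.1, (hmem s.1).mp s.2⟩ := by
    intro b s
    rw [IsLocalization.eq_mk'_iff_mul_eq]
    change ψ _ * algebraMap B' L' (φ s.1) = _
    rw [← hψ', ← map_mul, IsLocalization.mk'_spec, hψ']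
  constructor
  · intro y
    obtain ⟨b', ⟨s', hs'⟩, rfl⟩ := IsLocalization.exists_mk'_eq q'.primeCompl y
    obtain ⟨b, rfl⟩ := hφ b'
    obtain ⟨s, rfl⟩ := hφ s'
    exact ⟨IsLocalization.mk' L b ⟨s, (hmem s).mpr hs'⟩, hmk b _⟩
  · apply le_antisymm
    · intro x hx
      rw [RingHom.mem_ker] at hx
      obtain ⟨b, s, rfl⟩ := IsLocalization.exists_mk'_eq q.primeCompl x
      rw [hmk, IsLocalization.mk'_eq_zero_iff] at hx
      obtain ⟨⟨t', ht'⟩, htb⟩ := hx
      obtain ⟨t, rfl⟩ := hφ t'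
      rw [IsLocalization.mk'_mem_map_algebraMap_iff q.primeCompl]
      refine ⟨t, (hmem t).mpr ht', ?_⟩
      rw [RingHom.mem_ker, map_mul]
      exact htb
    · rw [Ideal.map_le_iff_le_comap]
      intro b hb
      rw [Ideal.mem_comap, RingHom.mem_ker, hψ', (RingHom.mem_ker).mp hb, map_zero]

section K

variable {X : Scheme.{u}} {U : X.Opens} (hU : IsAffineOpen U) (I : Ideal Γ(X, U))

/-- the closed subscheme of the affine open `U` cut out by `I`, mapping to `X`. -/
noncomputable abbrev sliceι :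
    Spec (CommRingCat.of (Γ(X, U) ⧸ I)) ⟶ X :=
  Spec.map (CommRingCat.ofHom (Ideal.Quotient.mk I)) ≫ hU.fromSpec

theorem sliceι_mem (p₀ : Spec (CommRingCat.of (Γ(X, U) ⧸ I))) : sliceι hU I p₀ ∈ U := by
  have : sliceι hU I p₀ ∈ Set.range hU.fromSpec := ⟨_, rfl⟩
  rw [hU.range_fromSpec] at this
  exact this

theorem top_le_preimage : (⊤ : (Spec (CommRingCat.of (Γ(X, U) ⧸ I))).Opens) ≤ sliceι hU I ⁻¹ᵁ U :=
  fun p₀ _ => sliceι_mem hU I p₀

/-- the map on sections of the slice. -/
theorem sliceι_appLE :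
    (sliceι hU I).appLE U ⊤ (top_le_preimage hU I) =
      CommRingCat.ofHom (Ideal.Quotient.mk I) ≫
        (Scheme.ΓSpecIso (CommRingCat.of (Γ(X, U) ⧸ I))).inv := by
  apply Spec.map_injective
  rw [← cancel_mono hU.fromSpec]
  have h1 := IsAffineOpen.SpecMap_appLE_fromSpec (sliceι hU I) hU
    (isAffineOpen_top (Spec (CommRingCat.of (Γ(X, U) ⧸ I)))) (top_le_preimage hU I)
  rw [h1, IsAffineOpen.fromSpec_top, Scheme.isoSpec_Spec_inv, Spec.map_comp, Category.assoc]

/-- **Stalk of the slice**: the stalk map of `Spec (Γ(X,U)/I) → X` is surjective with kernel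
generated by the germs of `I`. -/
theorem sliceι_stalkMap (p₀ : Spec (CommRingCat.of (Γ(X, U) ⧸ I))) :
    Function.Surjective ((sliceι hU I).stalkMap p₀).hom ∧
      RingHom.ker ((sliceι hU I).stalkMap p₀).hom =
        I.map (X.presheaf.germ U (sliceι hU I p₀) (sliceι_mem hU I p₀)).hom := by
  have hT : IsAffineOpen (⊤ : (Spec (CommRingCat.of (Γ(X, U) ⧸ I))).Opens) := isAffineOpen_top _
  have e₀ := top_le_preimage hU I
  have hx : sliceι hU I p₀ ∈ U := sliceι_mem hU I p₀
  letI := TopCat.Presheaf.algebra_section_stalk X.presheaf ⟨sliceι hU I p₀, hx⟩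
  haveI := hU.isLocalization_stalk ⟨sliceι hU I p₀, hx⟩
  letI := TopCat.Presheaf.algebra_section_stalk (Spec (CommRingCat.of (Γ(X, U) ⧸ I))).presheaf
    (⟨p₀, trivial⟩ : (⊤ : (Spec (CommRingCat.of (Γ(X, U) ⧸ I))).Opens))
  haveI := hT.isLocalization_stalk ⟨p₀, trivial⟩
  have hφ : ((sliceι hU I).appLE U ⊤ e₀).hom =
      ((Scheme.ΓSpecIso (CommRingCat.of (Γ(X, U) ⧸ I))).inv.hom).comp (Ideal.Quotient.mk I) := by
    rw [sliceι_appLE]; rfl
  have hφs : Function.Surjective ((sliceι hU I).appLE U ⊤ e₀).hom := by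
    rw [hφ]
    exact (ConcreteCategory.bijective_of_isIso
      (Scheme.ΓSpecIso (CommRingCat.of (Γ(X, U) ⧸ I))).inv).surjective.comp
        Ideal.Quotient.mk_surjective
  have hker : RingHom.ker ((sliceι hU I).appLE U ⊤ e₀).hom = I := by
    rw [hφ, ← RingHom.comap_ker]
    have : RingHom.ker (Scheme.ΓSpecIso (CommRingCat.of (Γ(X, U) ⧸ I))).inv.hom = ⊥ :=
      (RingHom.injective_iff_ker_eq_bot _).mp (ConcreteCategory.bijective_of_isIso
        (Scheme.ΓSpecIso (CommRingCat.of (Γ(X, U) ⧸ I))).inv).injective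
    rw [this, ← RingHom.ker_eq_comap_bot, Ideal.mk_ker]
  have hq := (Groth.Agent.H49.SliceScheme.primeIdealOf_comap (sliceι hU I) p₀ hU hT e₀
    trivial).symm
  have hψ : (((sliceι hU I).stalkMap p₀).hom).comp
      (algebraMap Γ(X, U) (X.presheaf.stalk (sliceι hU I p₀))) =
      (algebraMap Γ(Spec (CommRingCat.of (Γ(X, U) ⧸ I)), ⊤)
        ((Spec (CommRingCat.of (Γ(X, U) ⧸ I))).presheaf.stalk p₀)).comp
          ((sliceι hU I).appLE U ⊤ e₀).hom :=
    (Groth.Agent.H49.SliceScheme.germ_comp_appLE (sliceι hU I) p₀ e₀ trivial).symm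
  have key := surjective_and_ker_of_isLocalization ((sliceι hU I).appLE U ⊤ e₀).hom hφs
    (hT.primeIdealOf ⟨p₀, trivial⟩).asIdeal (hU.primeIdealOf ⟨sliceι hU I p₀, hx⟩).asIdeal hq
    ((sliceι hU I).stalkMap p₀).hom hψ
  rw [hker] at key
  exact key

end K

section T

variable {X' X Y : Scheme.{u}}

/-- **Fibre ring of a composite through a map which is surjective on a stalk.** -/
theorem nonempty_fibreRing_equiv (ι : X' ⟶ X) (f : X ⟶ Y) (p : X')
    (hsurj : Function.Surjective (ι.stalkMap p).hom) (K : Ideal (X.presheaf.stalk (ι p)))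
    (hK : RingHom.ker (ι.stalkMap p).hom = K) :
    Nonempty ((X'.presheaf.stalk p ⧸ fibreIdeal (ι ≫ f) p) ≃+*
      ((X.presheaf.stalk (ι p) ⧸ fibreIdeal f (ι p)) ⧸
        K.map (Ideal.Quotient.mk (fibreIdeal f (ι p))))) := by
  set ψ := (ι.stalkMap p).hom with hψ
  have hcomp : fibreIdeal (ι ≫ f) p = Ideal.map ψ (fibreIdeal f (ι p)) :=
    Groth.Agent.H49.CMMor.fibreIdeal_comp ι f p
  let π := (Ideal.Quotient.mk (fibreIdeal (ι ≫ f) p)).comp ψ
  have hπs : Function.Surjective π := Ideal.Quotient.mk_surjective.comp hsurj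
  have hkπ : RingHom.ker π = fibreIdeal f (ι p) ⊔ K := by
    rw [← RingHom.comap_ker, Ideal.mk_ker, hcomp, Ideal.comap_map_of_surjective ψ hsurj,
      ← RingHom.ker_eq_comap_bot, hK]
  have e1 : (X.presheaf.stalk (ι p) ⧸ (fibreIdeal f (ι p) ⊔ K)) ≃+*
      (X'.presheaf.stalk p ⧸ fibreIdeal (ι ≫ f) p) :=
    (Ideal.quotEquivOfEq hkπ.symm).trans (RingHom.quotientKerEquivOfSurjective hπs)
  have e2 := DoubleQuot.quotQuotEquivQuotSup (fibreIdeal f (ι p)) K
  exact ⟨e1.symm.trans e2.symm⟩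

/-- Cohen–Macaulayness at a point is insensitive to open immersions into the source. -/
theorem isCMAt_comp_isOpenImmersion_left (j : X' ⟶ X) [IsOpenImmersion j] (f : X ⟶ Y) (p : X') :
    Grpd.IsCMAt (j ≫ f) p ↔ Grpd.IsCMAt f (j p) := by
  have hbij : Function.Bijective (j.stalkMap p).hom :=
    ConcreteCategory.bijective_of_isIso (j.stalkMap p)
  have hker : RingHom.ker (j.stalkMap p).hom = ⊥ :=
    (RingHom.injective_iff_ker_eq_bot _).mp hbij.injective
  obtain ⟨e⟩ := nonempty_fibreRing_equiv j f p hbij.surjective ⊥ hker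
  have e' : (X'.presheaf.stalk p ⧸ fibreIdeal (j ≫ f) p) ≃+*
      (X.presheaf.stalk (j p) ⧸ fibreIdeal f (j p)) := by
    refine e.trans ?_
    rw [Ideal.map_bot]
    exact RingEquiv.quotientBot _
  have hflat : ((j ≫ f).stalkMap p).hom.Flat ↔ (f.stalkMap (j p)).hom.Flat := by
    constructor
    · intro h
      rw [Scheme.Hom.stalkMap_comp] at h
      have h' : ((j.stalkMap p).hom.comp (f.stalkMap (j p)).hom).Flat := h
      let εj := RingEquiv.ofBijective (j.stalkMap p).hom hbij
      have h2 : (εj.symm.toRingHom).Flat :=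
        RingHom.Flat.of_bijective (f := εj.symm.toRingHom) εj.symm.bijective
      have h3 := RingHom.Flat.comp h' h2
      have h4 : (εj.symm.toRingHom).comp ((j.stalkMap p).hom.comp (f.stalkMap (j p)).hom) =
          (f.stalkMap (j p)).hom := by
        ext a
        exact εj.symm_apply_apply _
      rwa [h4] at h3
    · intro h
      rw [Scheme.Hom.stalkMap_comp]
      exact RingHom.Flat.comp h (RingHom.Flat.of_bijective hbij)
  exact and_congr hflat
    ⟨Groth.Agent.H49.isCohenMacaulayLocalRing_of_ringEquiv e',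
      Groth.Agent.H49.isCohenMacaulayLocalRing_of_ringEquiv e'.symm⟩

/-- for a point with trivial residue transcendence degree, the fibre dimension is the dimension of
the fibre ring. -/
theorem fibreDimAt_eq_of_resTrdeg_eq_zero (f : X ⟶ Y) [LocallyOfFiniteType f] (x : X)
    (h0 : Dual3.resTrdeg f x = 0) :
    FlatMor.fibreDimAt f x = ringKrullDim (X.presheaf.stalk x ⧸ fibreIdeal f x) := by
  rw [Groth.Agent.H51.fibreDimAt_eq_dim_stalk_add_trdeg f x, h0]
  simp only [map_zero, WithBot.coe_zero, add_zero]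
  exact ringKrullDim_eq_of_ringEquiv (quotientEquivStalkAsFiber f x).symm

/-- a point in the image of a section has trivial residue transcendence degree. -/
theorem resTrdeg_section (f : X ⟶ Y) (e : Y ⟶ X) (he : e ≫ f = 𝟙 Y) (y : Y) :
    Dual3.resTrdeg f (e y) = 0 := by
  have h1 := Groth.Agent.H51.resTrdeg_comp e f y
  rw [he, Groth.Agent.H51.resTrdeg_eq_zero_of_lqf (𝟙 Y)] at h1
  exact (add_eq_zero.mp h1.symm).1

end T

end Groth.Agent.H49.SliceGrpdStalk
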