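import Groth.Agent.H49.SliceGrpdDim
import Groth.Agent.H49.SliceGrpdStalk
import Groth.Agent.H51.GpdFieldDim
import Groth.Agent.H17.Chev.CompDim

/-!
# Slicing groupoids: `dim G_u = dim O_{R,e(u)} / (s(m_u) + t(m_u))` (helper49)

The reverse inequality to `SliceGrpdDim.ringKrullDim_quotient_le`, using that the restriction of
the groupoid to `Spec κ(u)` is equidimensional (helper51's `s7518`).
-/

set_option autoImplicit false
set_option linter.style.haveILetI false

universe u

open CategoryTheory CategoryTheory.Limits AlgebraicGeometry Topology IsLocalRing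

namespace Groth.Agent.H49.SliceGrpdDim

open Groth.Agent.H40.GQ Groth.Agent.H40.GQ.RM Groth.Agent.H49.FibreStalk

theorem localDim_subtype_of_eq_univ {B : Type*} [TopologicalSpace B] (T : Set B)
    (hT : T = Set.univ) (b : B) (hb : b ∈ T) :
    FlatMor.localDim ↥T ⟨b, hb⟩ = FlatMor.localDim B b := by
  subst hT
  exact Groth.Agent.H17.Chev.localDim_univ_eq b

variable {S : Scheme.{u}} (G : Grpd.GroupoidScheme S) (u : G.U)

/-- `dim G_u` is at most the dimension of the restricted groupoid on `Spec κ(u)`. -/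
theorem dim_fiber_le_restrict :
    topologicalKrullDim (G.stabilizerToU.fiber u) ≤
      topologicalKrullDim (R' G (G.U.fromSpecResidueField u)) := by
  set u_ := G.U.fromSpecResidueField u with hu_
  have hjt : G.j ≫ pullback.fst G.pU G.pU = G.t := by
    rw [Grpd.GroupoidScheme.j, pullback.lift_fst]
  have hjs : G.j ≫ pullback.snd G.pU G.pU = G.s := by
    rw [Grpd.GroupoidScheme.j, pullback.lift_snd]
  have hd1 : G.diag ≫ pullback.fst G.pU G.pU = 𝟙 _ := by
    rw [Grpd.GroupoidScheme.diag, pullback.lift_fst]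
  have hd2 : G.diag ≫ pullback.snd G.pU G.pU = 𝟙 _ := by
    rw [Grpd.GroupoidScheme.diag, pullback.lift_snd]
  let γ : pullback (pullback.snd G.j G.diag) u_ ⟶ pullback G.j G.diag := pullback.fst _ _
  let y : pullback (pullback.snd G.j G.diag) u_ ⟶ Spec (G.U.residueField u) := pullback.snd _ _
  have hγy : γ ≫ pullback.snd G.j G.diag = y ≫ u_ := pullback.condition
  let α : pullback (pullback.snd G.j G.diag) u_ ⟶ G.R := γ ≫ pullback.fst G.j G.diag
  have hαt : α ≫ G.t = y ≫ u_ := by
    rw [← hjt, ← hγy]
    change (γ ≫ pullback.fst G.j G.diag) ≫ G.j ≫ _ = _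
    rw [Category.assoc, ← Category.assoc (pullback.fst G.j G.diag), pullback.condition,
      Category.assoc, hd1, Category.comp_id]
  have hαs : α ≫ G.s = y ≫ u_ := by
    rw [← hjs, ← hγy]
    change (γ ≫ pullback.fst G.j G.diag) ≫ G.j ≫ _ = _
    rw [Category.assoc, ← Category.assoc (pullback.fst G.j G.diag), pullback.condition,
      Category.assoc, hd2, Category.comp_id]
  let χ : pullback (pullback.snd G.j G.diag) u_ ⟶ R' G u_ := RM.lift G u_ α y y hαt hαs
  have hχρ : χ ≫ ρ G u_ = α := lift_ρ _ _ _ _ _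
  haveI h1 : IsImmersion G.diag := (inferInstance : IsImmersion (pullback.diagonal G.pU))
  haveI h2 : IsImmersion (pullback.fst G.j G.diag) := inferInstance
  haveI h3 : IsPreimmersion γ := (inferInstance : IsPreimmersion (G.stabilizerToU.fiberι u))
  have hα : IsInducing (α : ↥(pullback (pullback.snd G.j G.diag) u_) → G.R) := by
    have : (α : ↥(pullback (pullback.snd G.j G.diag) u_) → G.R) =
        (pullback.fst G.j G.diag : ↥(pullback G.j G.diag) → G.R) ∘ γ := rfl
    rw [this]
    exact (pullback.fst G.j G.diag).isEmbedding.isInducing.comp γ.isEmbedding.isInducing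
  have hχ : IsInducing (χ : ↥(pullback (pullback.snd G.j G.diag) u_) → R' G u_) := by
    apply IsInducing.of_comp χ.continuous (ρ G u_).continuous
    have : (ρ G u_ : R' G u_ → G.R) ∘ χ = α := by
      rw [← hχρ]; rfl
    rw [this]
    exact hα
  exact hχ.topologicalKrullDim_le

/-- **Reverse dimension estimate**: `dim G_u ≤ dim O_{R,e(u)}/(s(m_u) + t(m_u))`. -/
theorem le_ringKrullDim_quotient (hu : LocallyOfFiniteType (G.U.fromSpecResidueField u))
    [LocallyOfFiniteType G.s] [LocallyOfFiniteType G.t] :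
    topologicalKrullDim (G.stabilizerToU.fiber u) ≤
      ringKrullDim (G.R.presheaf.stalk (G.e u) ⧸
        (fibreIdeal G.s (G.e u) ⊔ fibreIdeal G.t (G.e u))) := by
  set u_ := G.U.fromSpecResidueField u with hu_
  haveI := hu
  let G'' := restrictMono G u_
  haveI hv : LocallyOfFiniteType (v G u_) := by
    unfold v; infer_instance
  haveI hs'' : LocallyOfFiniteType G''.s := by
    change LocallyOfFiniteType (pullback.snd (v G u_) u_); infer_instance
  let eU : G''.U ≅ Spec (CommRingCat.of (G.U.residueField u)) := Iso.refl _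
  let pt : Spec (G.U.residueField u) := IsLocalRing.closedPoint (G.U.residueField u)
  let z'' : R' G u_ := e' G u_ pt
  have hz : ρ G u_ z'' = G.e u := by
    change (e' G u_ ≫ ρ G u_) pt = _
    rw [e'_ρ]
    change G.e (u_ pt) = _
    rw [hu_, Scheme.fromSpecResidueField_apply]
  rw [ringKrullDim_quotient_eq_stalk G u z'' (G.e u) hz]
  refine (dim_fiber_le_restrict G u).trans ?_
  -- equidimensionality
  have h1 : FlatMor.localDim (R' G u_) z'' = topologicalKrullDim (R' G u_) :=
    (Groth.Agent.H51.s7518 S G'' (G.U.residueField u) eU).2 z''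
  rw [← h1]
  -- the fibre dimension
  have h2 : FlatMor.fibreDimAt G''.s z'' = FlatMor.localDim (R' G u_) z'' := by
    rw [Groth.Agent.H17.Chev.fibreDimAt_eq]
    refine localDim_subtype_of_eq_univ (G''.s.base ⁻¹' {G''.s.base z''}) ?_ z'' rfl
    ext w
    simp only [Set.mem_preimage, Set.mem_singleton_iff, Set.mem_univ, iff_true]
    exact Subsingleton.elim (α := PrimeSpectrum (G.U.residueField u)) _ _
  rw [← h2]
  have h0 : Dual3.resTrdeg G''.s z'' = 0 :=
    Groth.Agent.H49.SliceGrpdStalk.resTrdeg_section G''.s G''.e G''.e_s pt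
  rw [Groth.Agent.H49.SliceGrpdStalk.fibreDimAt_eq_of_resTrdeg_eq_zero G''.s z'' h0]
  exact _root_.ringKrullDim_quotient_le _

/-- **Dimension equality**: `dim O_{R,e(u)}/(s(m_u) + t(m_u)) = dim G_u`. -/
theorem ringKrullDim_quotient_eq (hu : LocallyOfFiniteType (G.U.fromSpecResidueField u))
    [LocallyOfFiniteType G.s] [LocallyOfFiniteType G.t] :
    ringKrullDim (G.R.presheaf.stalk (G.e u) ⧸
        (fibreIdeal G.s (G.e u) ⊔ fibreIdeal G.t (G.e u))) =
      topologicalKrullDim (G.stabilizerToU.fiber u) :=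
  le_antisymm (ringKrullDim_quotient_le G u hu) (le_ringKrullDim_quotient G u hu)

end Groth.Agent.H49.SliceGrpdDim
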