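import Groth.Agent.H49.SliceGrpdQF

/-!
# Slicing flat groupoids at points where `s` is Cohen–Macaulay (helper49)

The pointwise versions of Stacks 0461/0463/0464: `s`, `t` only flat and locally of finite
presentation, `s` Cohen–Macaulay at `e(u)`.
-/

set_option autoImplicit false
set_option linter.style.haveILetI false
set_option maxHeartbeats 400000

universe u

open CategoryTheory CategoryTheory.Limits AlgebraicGeometry Topology IsLocalRing
  RingTheory.Sequence

namespace Groth.Agent.H49.SliceGrpdFlat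

open Groth.Agent.H49.FibreStalk Groth.Agent.H49.SliceGrpdStalk Groth.Agent.H49.SliceGrpdPull
  Groth.Agent.H49.FlatApprox Groth.Agent.H49.SliceGood Groth.Agent.H49.SliceGrpdMain
  Groth.Agent.H49.SliceGrpdTrans Groth.Agent.H49.SliceGrpdRestrict Groth.Agent.H49.SliceGrpdMax Grpd

variable {S : Scheme.{u}} (G : Grpd.GroupoidScheme S)

/-- the slice by `n` functions. -/
theorem exists_slice_n' [Flat G.s] [LocallyOfFinitePresentation G.s]
    [LocallyOfFinitePresentation G.t] (u : G.U) (hcm : Grpd.IsCMAt G.s (G.e u))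
    (hu : LocallyOfFiniteType (G.U.fromSpecResidueField u)) (n : ℕ)
    (hn : topologicalKrullDim (G.stabilizerToU.fiber u) + (n : WithBot ℕ∞) ≤
      FlatMor.fibreDimAt G.s (G.e u)) :
    ∃ (W : G.U.Opens) (hW : IsAffineOpen W) (l : List Γ(G.U, W))
      (p : ↑(pullback (sliceι hW (Ideal.ofList l)) G.t)),
      l.length = n ∧ u ∈ W ∧ pullback.snd (sliceι hW (Ideal.ofList l)) G.t p = G.e u ∧
      Grpd.IsCMAt (pullback.snd (sliceι hW (Ideal.ofList l)) G.t ≫ G.s) p ∧
      FlatMor.fibreDimAt (pullback.snd (sliceι hW (Ideal.ofList l)) G.t ≫ G.s) p +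
        (n : WithBot ℕ∞) = FlatMor.fibreDimAt G.s (G.e u) := by
  obtain ⟨W, hW, huW, -⟩ := exists_isAffineOpen_mem_and_subset (x := u) (U := ⊤) trivial
  have hrW : G.e u ∈ G.s ⁻¹ᵁ W ⊓ G.t ⁻¹ᵁ W := by
    refine ⟨?_, ?_⟩
    · change G.s (G.e u) ∈ W
      rw [e_s_apply]; exact huW
    · change G.t (G.e u) ∈ W
      rw [e_t_apply]; exact huW
  obtain ⟨V, hV, hr, hVle⟩ := exists_isAffineOpen_mem_and_subset hrW
  have es : V ≤ G.s ⁻¹ᵁ W := fun x hx => (hVle hx).1
  have et : V ≤ G.t ⁻¹ᵁ W := fun x hx => (hVle hx).2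
  set r := G.e u with hr_def
  have hCM : LocCoh.IsCohenMacaulayLocalRing (G.R.presheaf.stalk r ⧸ fibreIdeal G.s r) := hcm.2
  have h0 : Dual3.resTrdeg G.s r = 0 := resTrdeg_section G.s G.e G.e_s u
  have hd2 : FlatMor.fibreDimAt G.s r = ringKrullDim (G.R.presheaf.stalk r ⧸ fibreIdeal G.s r) :=
    fibreDimAt_eq_of_resTrdeg_eq_zero G.s r h0
  -- the ring map
  let τ : Γ(G.U, W) →+* G.R.presheaf.stalk r :=
    (G.R.presheaf.germ V r hr).hom.comp (G.t.appLE W V et).hom
  let τ' : Γ(G.U, W) →+* (G.R.presheaf.stalk r ⧸ fibreIdeal G.s r) :=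
    (Ideal.Quotient.mk (fibreIdeal G.s r)).comp τ
  set M : Ideal Γ(G.U, W) := (hW.primeIdealOf ⟨G.t r, et hr⟩).asIdeal with hM
  have hMτ : M.map τ = fibreIdeal G.t r :=
    Groth.Agent.H47.CI.map_primeIdealOf_eq_fibreIdeal G.t V hV W hW et r hr
  have hMτ' : M.map τ' = (fibreIdeal G.t r).map (Ideal.Quotient.mk (fibreIdeal G.s r)) := by
    rw [← hMτ, Ideal.map_map]
  have hloc : M.map τ' ≤ maximalIdeal (G.R.presheaf.stalk r ⧸ fibreIdeal G.s r) := by
    rw [hMτ']
    refine Ideal.map_le_iff_le_comap.mpr ?_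
    intro x hx
    have hx' : x ∈ maximalIdeal (G.R.presheaf.stalk r) := fibreIdeal_le_maximalIdeal G.t r hx
    rw [Ideal.mem_comap, IsLocalRing.mem_maximalIdeal, mem_nonunits_iff]
    intro hunit
    haveI : IsLocalHom (Ideal.Quotient.mk (fibreIdeal G.s r)) :=
      IsLocalHom.of_surjective _ Ideal.Quotient.mk_surjective
    exact hx' ((isUnit_map_iff (Ideal.Quotient.mk (fibreIdeal G.s r)) _).mp hunit)
  have hdim1 : ringKrullDim ((G.R.presheaf.stalk r ⧸ fibreIdeal G.s r) ⧸ M.map τ') ≤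
      topologicalKrullDim (G.stabilizerToU.fiber u) := by
    rw [hMτ']
    have e := DoubleQuot.quotQuotEquivQuotSup (fibreIdeal G.s r) (fibreIdeal G.t r)
    rw [ringKrullDim_eq_of_ringEquiv e]
    exact Groth.Agent.H49.SliceGrpdDim.ringKrullDim_quotient_le G u hu
  have hdim : ringKrullDim ((G.R.presheaf.stalk r ⧸ fibreIdeal G.s r) ⧸ M.map τ') +
      (n : WithBot ℕ∞) ≤ ringKrullDim (G.R.presheaf.stalk r ⧸ fibreIdeal G.s r) := by
    rw [← hd2]
    exact (add_le_add_left hdim1 _).trans hn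
  obtain ⟨l, hlen, hlM, hlreg⟩ :=
    Groth.Agent.H49.SliceGrpdAlg.exists_regular_list M n _ hCM τ' hloc hdim
  have hmem : ∀ a ∈ l, (G.t.appLE W V et).hom a ∈ (hV.primeIdealOf ⟨r, hr⟩).asIdeal := by
    intro a ha
    have h1 := Groth.Agent.H49.SliceScheme.primeIdealOf_comap G.t r hW hV et hr
    have h2 : a ∈ (hV.primeIdealOf ⟨r, hr⟩).asIdeal.comap (G.t.appLE W V et).hom := by
      rw [h1]; exact hlM a ha
    exact h2
  have hreg : IsWeaklyRegular (G.R.presheaf.stalk r ⧸ fibreIdeal G.s r)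
      (((l.map (G.t.appLE W V et)).map (G.R.presheaf.germ V r hr)).map
        (Ideal.Quotient.mk (fibreIdeal G.s r))) := by
    have : ((l.map (G.t.appLE W V et)).map (G.R.presheaf.germ V r hr)).map
        (Ideal.Quotient.mk (fibreIdeal G.s r)) = l.map τ' := by
      rw [List.map_map, List.map_map]
      rfl
    rw [this]
    exact hlreg
  obtain ⟨p, hp1, hp2, hp3⟩ := Groth.Agent.H49.SliceGrpdPoint.slice_at_point G.s G.t hyp4848
    hW hV es et r hr l hmem hCM hreg h0
  refine ⟨W, hW, l, p, hlen, huW, hp1, hp2, ?_⟩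
  rw [hd2, ← hlen]
  exact hp3


/-- the maximal slice, at the point. -/
theorem exists_max_slice_point' [Flat G.s] [LocallyOfFinitePresentation G.s]
    [LocallyOfFinitePresentation G.t] (u : G.U) (hcm : Grpd.IsCMAt G.s (G.e u))
    (hu : LocallyOfFiniteType (G.U.fromSpecResidueField u)) :
    ∃ (W : G.U.Opens) (hW : IsAffineOpen W) (l : List Γ(G.U, W))
      (p : ↑(pullback (sliceι hW (Ideal.ofList l)) G.t)),
      u ∈ W ∧ pullback.snd (sliceι hW (Ideal.ofList l)) G.t p = G.e u ∧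
      Grpd.IsCMAt (pullback.snd (sliceι hW (Ideal.ofList l)) G.t ≫ G.s) p ∧
      FlatMor.fibreDimAt (pullback.snd (sliceι hW (Ideal.ofList l)) G.t ≫ G.s) p =
        topologicalKrullDim (G.stabilizerToU.fiber u) := by
  set r := G.e u with hr_def
  have hCM : LocCoh.IsCohenMacaulayLocalRing (G.R.presheaf.stalk r ⧸ fibreIdeal G.s r) := hcm.2
  haveI : IsNoetherianRing (G.R.presheaf.stalk r ⧸ fibreIdeal G.s r) := hCM.toIsNoetherian
  have h0 : Dual3.resTrdeg G.s r = 0 := resTrdeg_section G.s G.e G.e_s u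
  have hd2 : FlatMor.fibreDimAt G.s r = ringKrullDim (G.R.presheaf.stalk r ⧸ fibreIdeal G.s r) :=
    fibreDimAt_eq_of_resTrdeg_eq_zero G.s r h0
  have hd1 : ringKrullDim (G.R.presheaf.stalk r ⧸ (fibreIdeal G.s r ⊔ fibreIdeal G.t r)) =
      topologicalKrullDim (G.stabilizerToU.fiber u) :=
    Groth.Agent.H49.SliceGrpdDim.ringKrullDim_quotient_eq G u hu
  have hle : ringKrullDim (G.R.presheaf.stalk r ⧸ (fibreIdeal G.s r ⊔ fibreIdeal G.t r)) ≤
      ringKrullDim (G.R.presheaf.stalk r ⧸ fibreIdeal G.s r) := by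
    have e := DoubleQuot.quotQuotEquivQuotSup (fibreIdeal G.s r) (fibreIdeal G.t r)
    rw [← ringKrullDim_eq_of_ringEquiv e]
    exact ringKrullDim_quotient_le _
  have hnt : Nontrivial (G.R.presheaf.stalk r ⧸ (fibreIdeal G.s r ⊔ fibreIdeal G.t r)) := by
    rw [Ideal.Quotient.nontrivial_iff]
    intro htop
    have hle' : fibreIdeal G.s r ⊔ fibreIdeal G.t r ≤ maximalIdeal (G.R.presheaf.stalk r) :=
      sup_le (fibreIdeal_le_maximalIdeal G.s r) (fibreIdeal_le_maximalIdeal G.t r)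
    exact (maximalIdeal.isMaximal _).ne_top (top_le_iff.mp (htop ▸ hle'))
  obtain ⟨b, hb⟩ := Groth.Agent.H17.Chev.exists_nat_eq_ringKrullDim
    (G.R.presheaf.stalk r ⧸ fibreIdeal G.s r)
  obtain ⟨a, ha, hab⟩ : ∃ a : ℕ,
      ringKrullDim (G.R.presheaf.stalk r ⧸ (fibreIdeal G.s r ⊔ fibreIdeal G.t r)) = a ∧ a ≤ b := by
    have hnn := ringKrullDim_nonneg_of_nontrivial
      (R := G.R.presheaf.stalk r ⧸ (fibreIdeal G.s r ⊔ fibreIdeal G.t r))
    rw [hb] at hle
    generalize ringKrullDim (G.R.presheaf.stalk r ⧸ (fibreIdeal G.s r ⊔ fibreIdeal G.t r)) = x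
      at hle hnn
    induction x using WithBot.recBotCoe with
    | bot => simp at hnn
    | coe x =>
      induction x using ENat.recTopCoe with
      | top =>
        exfalso
        have : ((⊤ : ℕ∞) : WithBot ℕ∞) ≤ ((b : ℕ∞) : WithBot ℕ∞) := by exact_mod_cast hle
        rw [WithBot.coe_le_coe, top_le_iff] at this
        exact ENat.natCast_ne_top b this
      | coe m =>
        refine ⟨m, rfl, ?_⟩
        have : ((m : ℕ∞) : WithBot ℕ∞) ≤ ((b : ℕ∞) : WithBot ℕ∞) := by exact_mod_cast hle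
        rw [WithBot.coe_le_coe] at this
        exact_mod_cast this
  have hn : topologicalKrullDim (G.stabilizerToU.fiber u) + ((b - a : ℕ) : WithBot ℕ∞) ≤
      FlatMor.fibreDimAt G.s (G.e u) := by
    rw [← hd1, ha, hd2, hb]
    have : a + (b - a) ≤ b := by omega
    exact_mod_cast this
  obtain ⟨W, hW, l, p, hlen, huW, hp1, hp2, hp3⟩ := exists_slice_n' G u hcm hu (b - a) hn
  refine ⟨W, hW, l, p, huW, hp1, hp2, ?_⟩
  rw [← hd1, ha]
  rw [hd2, hb] at hp3
  exact eq_of_add_nat_eq (by omega) hp3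


/-- **Stacks 0464, pointwise**: a quasi-finite slice through a finite type point `u` with `s`
Cohen–Macaulay at `e(u)` and `dim G_u ≤ 0`. -/
theorem exists_qf_slice' [Flat G.s] [Flat G.t] [LocallyOfFinitePresentation G.s]
    [LocallyOfFinitePresentation G.t] (u : G.U) (hcm : Grpd.IsCMAt G.s (G.e u))
    (hu : LocallyOfFiniteType (G.U.fromSpecResidueField u))
    (hdim0 : topologicalKrullDim ↥(G.stabilizerToU.fiber u) ≤ 0) :
    ∃ (U' : Scheme.{u}) (_ : IsAffine U') (g : U' ⟶ G.U) (u' : U'),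
      IsImmersion g ∧ LocallyOfFinitePresentation g ∧ g u' = u ∧
      Flat (pullback.snd g G.t ≫ G.s) ∧ LocallyOfFinitePresentation (pullback.snd g G.t ≫ G.s) ∧
        LocallyQuasiFinite (pullback.snd g G.t ≫ G.s) := by
  obtain ⟨W, hW, l, p, huW, hp1, hp2, hp3⟩ := exists_max_slice_point' G u hcm hu
  haveI : LocallyOfFinitePresentation (sliceι hW (Ideal.ofList l)) := lfp_sliceι hW l
  have hopen := Groth.Agent.H49.CMLocusOpen.isOpen_setOf_isCMAt (hh G (sliceι hW (Ideal.ofList l)))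
  have hqfp : (hh G (sliceι hW (Ideal.ofList l))).QuasiFiniteAt p := by
    rw [Groth.Agent.H53.quasiFiniteAt_iff_fibreDimAt_eq_zero]
    exact le_antisymm (hp3.le.trans hdim0) (Groth.Agent.H52.localDim_nonneg _)
  have hσ : MoreMor.IsCMAt (hh G (sliceι hW (Ideal.ofList l)))
      (σ G (sliceι hW (Ideal.ofList l)) (pullback.fst (sliceι hW (Ideal.ofList l)) G.t p)) :=
    (isCMAt_iff_section G (sliceι hW (Ideal.ofList l)) p).mp
      ((Groth.Agent.H49.GrpdCM.grpdIsCMAt_iff _ _).mp hp2)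
  have hσq : (hh G (sliceι hW (Ideal.ofList l))).QuasiFiniteAt
      (σ G (sliceι hW (Ideal.ofList l)) (pullback.fst (sliceι hW (Ideal.ofList l)) G.t p)) := by
    rw [Groth.Agent.H53.quasiFiniteAt_iff_fibreDimAt_eq_zero,
      ← fibreDimAt_eq_section G (sliceι hW (Ideal.ofList l)) p,
      ← Groth.Agent.H53.quasiFiniteAt_iff_fibreDimAt_eq_zero]
    exact hqfp
  let V : (Spec (CommRingCat.of (Γ(G.U, W) ⧸ Ideal.ofList l))).Opens :=
    ⟨(σ G (sliceι hW (Ideal.ofList l))) ⁻¹'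
      ({x | MoreMor.IsCMAt (hh G (sliceι hW (Ideal.ofList l))) x} ∩
        ((hh G (sliceι hW (Ideal.ofList l))).quasiFiniteLocus : Set _)),
      (hopen.inter (hh G (sliceι hW (Ideal.ofList l))).quasiFiniteLocus.isOpen).preimage
        (σ G (sliceι hW (Ideal.ofList l))).continuous⟩
  have hu₀V : pullback.fst (sliceι hW (Ideal.ofList l)) G.t p ∈ V := ⟨hσ, hσq⟩
  obtain ⟨V'', hV'', hu₀V'', hV''V⟩ := exists_isAffineOpen_mem_and_subset hu₀V
  have hmemV : ∀ q : ↑(pullback (V''.ι ≫ sliceι hW (Ideal.ofList l)) G.t),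
      pullback.fst (sliceι hW (Ideal.ofList l)) G.t (jj G (sliceι hW (Ideal.ofList l)) V'' q) ∈ V := by
    intro q
    apply hV''V
    have : pullback.fst (sliceι hW (Ideal.ofList l)) G.t (jj G (sliceι hW (Ideal.ofList l)) V'' q) =
        V''.ι (pullback.fst (V''.ι ≫ sliceι hW (Ideal.ofList l)) G.t q) := by
      rw [← Scheme.Hom.comp_apply, jj_fst]; rfl
    rw [this]
    exact (pullback.fst (V''.ι ≫ sliceι hW (Ideal.ofList l)) G.t q).2
  have hcm' : ∀ q, MoreMor.IsCMAt (hh G (V''.ι ≫ sliceι hW (Ideal.ofList l))) q := by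
    intro q
    rw [isCMAt_hh_shrink, isCMAt_iff_section]
    exact (hmemV q).1
  have hqf : ∀ q, (hh G (V''.ι ≫ sliceι hW (Ideal.ofList l))).QuasiFiniteAt q := by
    intro q
    rw [Groth.Agent.H53.quasiFiniteAt_iff_fibreDimAt_eq_zero, fibreDimAt_hh_shrink,
      fibreDimAt_eq_section, ← Groth.Agent.H53.quasiFiniteAt_iff_fibreDimAt_eq_zero]
    exact (hmemV q).2
  have hflat : Flat (hh G (V''.ι ≫ sliceι hW (Ideal.ofList l))) := by
    rw [Flat.iff_flat_stalkMap]
    intro q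
    exact (hcm' q).1
  have hlqf : LocallyQuasiFinite (hh G (V''.ι ≫ sliceι hW (Ideal.ofList l))) := by
    rw [← Scheme.Hom.quasiFiniteLocus_eq_top_iff, eq_top_iff]
    intro q _
    exact hqf q
  refine ⟨V''.toScheme, hV'', V''.ι ≫ sliceι hW (Ideal.ofList l),
    ⟨pullback.fst (sliceι hW (Ideal.ofList l)) G.t p, hu₀V''⟩, inferInstance, inferInstance,
    ?_, hflat, inferInstance, hlqf⟩
  change sliceι hW (Ideal.ofList l) (pullback.fst (sliceι hW (Ideal.ofList l)) G.t p) = u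
  have h1 : sliceι hW (Ideal.ofList l) (pullback.fst (sliceι hW (Ideal.ofList l)) G.t p) =
      G.t (pullback.snd (sliceι hW (Ideal.ofList l)) G.t p) := by
    rw [← Scheme.Hom.comp_apply, ← Scheme.Hom.comp_apply, pullback.condition]
  rw [h1, hp1, e_t_apply]

end Groth.Agent.H49.SliceGrpdFlat
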