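import Groth.Agent.H49.SliceGrpdPoint
import Groth.Agent.H49.SliceGrpdDim
import Groth.Agent.H49.SliceGrpdAlg
import Groth.Agent.H47.CI.FibreStalk
import Groth.Agent.S4848

/-!
# Slicing a groupoid scheme at a finite type point (helper49)

Stacks 0461 (list version): if `dim G_u + n ≤ dim_{e(u)} F_u` there is a slice of the groupoid by
`n` functions vanishing at `u` such that `h = s ∘ pr₁ : U' ×_{g,U,t} R → U` is Cohen–Macaulay at the
point `(u', e(u))` and the fibre dimension drops by `n`.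
-/

set_option autoImplicit false
set_option linter.style.haveILetI false
set_option maxHeartbeats 400000

universe u

open CategoryTheory CategoryTheory.Limits AlgebraicGeometry Topology IsLocalRing
  RingTheory.Sequence

namespace Groth.Agent.H49.SliceGrpdMain

open Groth.Agent.H49.FibreStalk Groth.Agent.H49.SliceGrpdStalk Groth.Agent.H49.SliceGrpdPull
  Groth.Agent.H49.FlatApprox Groth.Agent.H49.SliceGood Grpd

theorem hyp4848 : Hyp4848.{u} := by
  intro A₀ _ ι _ G _ _ g A _ _ _ _ hcolim B₀ _ _ _ M₀ _ _ _ _ _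
  exact Groth.Agent.S4848.result G g A hcolim (B₀ := B₀) M₀

variable {S : Scheme.{u}} (G : Grpd.GroupoidScheme S)

theorem flat_of_isCMAt {X Y : Scheme.{u}} (f : X ⟶ Y) (h : ∀ x, Grpd.IsCMAt f x) : Flat f := by
  rw [Flat.iff_flat_stalkMap]
  intro x
  exact (h x).1

theorem e_s_apply (u : G.U) : G.s (G.e u) = u := by
  rw [← Scheme.Hom.comp_apply, G.e_s]; rfl

theorem e_t_apply (u : G.U) : G.t (G.e u) = u := by
  rw [← Scheme.Hom.comp_apply, G.e_t]; rfl

/-- the slice by `n` functions. -/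
theorem exists_slice_n [LocallyOfFinitePresentation G.s] [LocallyOfFinitePresentation G.t]
    (hs : ∀ r : G.R, Grpd.IsCMAt G.s r) (u : G.U)
    (hu : LocallyOfFiniteType (G.U.fromSpecResidueField u)) (n : ℕ)
    (hn : topologicalKrullDim (G.stabilizerToU.fiber u) + (n : WithBot ℕ∞) ≤
      FlatMor.fibreDimAt G.s (G.e u)) :
    ∃ (W : G.U.Opens) (hW : IsAffineOpen W) (l : List Γ(G.U, W))
      (p : ↑(pullback (sliceι hW (Ideal.ofList l)) G.t)),
      l.length = n ∧ u ∈ W ∧ pullback.snd (sliceι hW (Ideal.ofList l)) G.t p = G.e u ∧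
      Grpd.IsCMAt (pullback.snd (sliceι hW (Ideal.ofList l)) G.t ≫ G.s) p ∧
      FlatMor.fibreDimAt (pullback.snd (sliceι hW (Ideal.ofList l)) G.t ≫ G.s) p +
        (n : WithBot ℕ∞) = FlatMor.fibreDimAt G.s (G.e u) := by
  haveI : Flat G.s := flat_of_isCMAt G.s hs
  obtain ⟨W, hW, huW, -⟩ := exists_isAffineOpen_mem_and_subset (x := u) (U := ⊤) trivial
  have hrW : G.e u ∈ G.s ⁻¹ᵁ W ⊓ G.t ⁻¹ᵁ W := by
    refine ⟨?_, ?_⟩
    · change G.s (G.e u) ∈ W
      rw [e_s_apply]; exact huW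
    · change G.t (G.e u) ∈ W
      rw [e_t_apply]; exact huW
  obtain ⟨V, hV, hr, hVle⟩ := exists_isAffineOpen_mem_and_subset hrW
  have es : V ≤ G.s ⁻¹ᵁ W := fun x hx => (hVle hx).1
  have et : V ≤ G.t ⁻¹ᵁ W := fun x hx => (hVle hx).2
  set r := G.e u with hr_def
  have hCM : LocCoh.IsCohenMacaulayLocalRing (G.R.presheaf.stalk r ⧸ fibreIdeal G.s r) := (hs r).2
  have h0 : Dual3.resTrdeg G.s r = 0 := resTrdeg_section G.s G.e G.e_s u
  have hd2 : FlatMor.fibreDimAt G.s r = ringKrullDim (G.R.presheaf.stalk r ⧸ fibreIdeal G.s r) :=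
    fibreDimAt_eq_of_resTrdeg_eq_zero G.s r h0
  -- the ring map
  let τ : Γ(G.U, W) →+* G.R.presheaf.stalk r :=
    (G.R.presheaf.germ V r hr).hom.comp (G.t.appLE W V et).hom
  let τ' : Γ(G.U, W) →+* (G.R.presheaf.stalk r ⧸ fibreIdeal G.s r) :=
    (Ideal.Quotient.mk (fibreIdeal G.s r)).comp τ
  set M : Ideal Γ(G.U, W) := (hW.primeIdealOf ⟨G.t r, et hr⟩).asIdeal with hM
  have hMτ : M.map τ = fibreIdeal G.t r :=
    Groth.Agent.H47.CI.map_primeIdealOf_eq_fibreIdeal G.t V hV W hW et r hr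
  have hMτ' : M.map τ' = (fibreIdeal G.t r).map (Ideal.Quotient.mk (fibreIdeal G.s r)) := by
    rw [← hMτ, Ideal.map_map]
  have hloc : M.map τ' ≤ maximalIdeal (G.R.presheaf.stalk r ⧸ fibreIdeal G.s r) := by
    rw [hMτ']
    refine Ideal.map_le_iff_le_comap.mpr ?_
    intro x hx
    have hx' : x ∈ maximalIdeal (G.R.presheaf.stalk r) := fibreIdeal_le_maximalIdeal G.t r hx
    rw [Ideal.mem_comap, IsLocalRing.mem_maximalIdeal, mem_nonunits_iff]
    intro hunit
    haveI : IsLocalHom (Ideal.Quotient.mk (fibreIdeal G.s r)) :=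
      IsLocalHom.of_surjective _ Ideal.Quotient.mk_surjective
    exact hx' ((isUnit_map_iff (Ideal.Quotient.mk (fibreIdeal G.s r)) _).mp hunit)
  have hdim1 : ringKrullDim ((G.R.presheaf.stalk r ⧸ fibreIdeal G.s r) ⧸ M.map τ') ≤
      topologicalKrullDim (G.stabilizerToU.fiber u) := by
    rw [hMτ']
    have e := DoubleQuot.quotQuotEquivQuotSup (fibreIdeal G.s r) (fibreIdeal G.t r)
    rw [ringKrullDim_eq_of_ringEquiv e]
    exact Groth.Agent.H49.SliceGrpdDim.ringKrullDim_quotient_le G u hu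
  have hdim : ringKrullDim ((G.R.presheaf.stalk r ⧸ fibreIdeal G.s r) ⧸ M.map τ') +
      (n : WithBot ℕ∞) ≤ ringKrullDim (G.R.presheaf.stalk r ⧸ fibreIdeal G.s r) := by
    rw [← hd2]
    exact (add_le_add_left hdim1 _).trans hn
  obtain ⟨l, hlen, hlM, hlreg⟩ :=
    Groth.Agent.H49.SliceGrpdAlg.exists_regular_list M n _ hCM τ' hloc hdim
  have hmem : ∀ a ∈ l, (G.t.appLE W V et).hom a ∈ (hV.primeIdealOf ⟨r, hr⟩).asIdeal := by
    intro a ha
    have h1 := Groth.Agent.H49.SliceScheme.primeIdealOf_comap G.t r hW hV et hr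
    have h2 : a ∈ (hV.primeIdealOf ⟨r, hr⟩).asIdeal.comap (G.t.appLE W V et).hom := by
      rw [h1]; exact hlM a ha
    exact h2
  have hreg : IsWeaklyRegular (G.R.presheaf.stalk r ⧸ fibreIdeal G.s r)
      (((l.map (G.t.appLE W V et)).map (G.R.presheaf.germ V r hr)).map
        (Ideal.Quotient.mk (fibreIdeal G.s r))) := by
    have : ((l.map (G.t.appLE W V et)).map (G.R.presheaf.germ V r hr)).map
        (Ideal.Quotient.mk (fibreIdeal G.s r)) = l.map τ' := by
      rw [List.map_map, List.map_map]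
      rfl
    rw [this]
    exact hlreg
  obtain ⟨p, hp1, hp2, hp3⟩ := Groth.Agent.H49.SliceGrpdPoint.slice_at_point G.s G.t hyp4848
    hW hV es et r hr l hmem hCM hreg h0
  refine ⟨W, hW, l, p, hlen, huW, hp1, hp2, ?_⟩
  rw [hd2, ← hlen]
  exact hp3

theorem add_one_le_of_lt {a b : WithBot ℕ∞} (h : a < b) : a + 1 ≤ b := by
  induction a using WithBot.recBotCoe with
  | bot => simp
  | coe a =>
    induction b using WithBot.recBotCoe with
    | bot => exact absurd h (not_lt_bot)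
    | coe b =>
      have h' : a < b := WithBot.coe_lt_coe.mp h
      have : a + 1 ≤ b := Order.add_one_le_of_lt h'
      exact_mod_cast this

theorem lfp_sliceι {X : Scheme.{u}} {W : X.Opens} (hW : IsAffineOpen W) (l : List Γ(X, W)) :
    LocallyOfFinitePresentation (sliceι hW (Ideal.ofList l)) := by
  haveI : LocallyOfFinitePresentation
      (Spec.map (CommRingCat.ofHom (Ideal.Quotient.mk (Ideal.ofList l)))) := by
    rw [HasRingHomProperty.Spec_iff (P := @LocallyOfFinitePresentation)]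
    refine RingHom.FinitePresentation.of_surjective _ Ideal.Quotient.mk_surjective ?_
    rw [CommRingCat.hom_ofHom, Ideal.mk_ker]
    classical
    exact ⟨l.toFinset, by simp [Ideal.ofList]⟩
  infer_instance

end Groth.Agent.H49.SliceGrpdMain
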