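import Groth.Agent.H49.SliceGrpdTrans
import Groth.Agent.H49.SliceGrpdStalk
import Groth.Agent.H17.Chev.FibreLocal

/-!
# The restriction of a groupoid along `g : U' → U` (helper49)

For a groupoid `(U, R, s, t, c, e, i)` and `g : U' → U`, put `h = s ∘ pr₁ : U' ×_{g,U,t} R → U`
and `R' = (U' ×_{g,U,t} R) ×_{h,U,g} U'` with `s' = pr₂`, `t' = pr₀ ∘ pr₁`.
* `inv'` : the inverse of `R'`, an involution with `inv' ≫ s' = t'`;
* if `h` is Cohen–Macaulay so are `s'` and `t'`;
* compatibility with shrinking `U'` to an open subscheme.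
-/

set_option autoImplicit false
set_option linter.style.haveILetI false

universe u

open CategoryTheory CategoryTheory.Limits AlgebraicGeometry

namespace Groth.Agent.H49.SliceGrpdRestrict

open Groth.Agent.H90 Groth.Agent.H49.SliceGrpdTrans

section general
variable {X Y X' Y' : Scheme.{u}}

/-- Cohen–Macaulayness at a point is stable under arbitrary base change. -/
theorem isCMAt_of_isPullback (f : X ⟶ Y) (f' : X' ⟶ Y') (g' : X' ⟶ X) (g : Y' ⟶ Y)
    (hc : IsPullback g' f' f g) [LocallyOfFiniteType f] (x' : X')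
    (h : MoreMor.IsCMAt f (g' x')) : MoreMor.IsCMAt f' x' := by
  haveI := Groth.Agent.H49.CMChart.isLocallyNoetherian_fiber f (g (f' x'))
  have hcm := Groth.Agent.H49.CMMorBC.cm_fiber_stalk_iff_of_isPullback f f' g' g hc x' (Or.inl ‹_›)
  exact ⟨Groth.Agent.H25.FlatBCpt.flat_stalkMap_of_isPullback hc x' h.1, hcm.mp h.2⟩

/-- precomposing with an isomorphism. -/
theorem isCMAt_iso_comp (θ : X' ⟶ X) [IsIso θ] (f : X ⟶ Y) (x' : X') :
    MoreMor.IsCMAt (θ ≫ f) x' ↔ MoreMor.IsCMAt f (θ x') := by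
  rw [← Groth.Agent.H49.GrpdCM.grpdIsCMAt_iff, ← Groth.Agent.H49.GrpdCM.grpdIsCMAt_iff]
  exact Groth.Agent.H49.SliceGrpdStalk.isCMAt_comp_isOpenImmersion_left θ f x'

end general

variable {S : Scheme.{u}} (G : Grpd.GroupoidScheme S) {U' : Scheme.{u}} (g : U' ⟶ G.U)

/-- `h = s ∘ pr₁ : U' ×_{g,U,t} R → U`. -/
noncomputable abbrev hh : pullback g G.t ⟶ G.U := pullback.snd g G.t ≫ G.s

/-- the inverse of the restricted groupoid. -/
noncomputable def inv' : pullback (hh G g) g ⟶ pullback (hh G g) g :=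
  pullback.lift
    (pullback.lift (pullback.snd (hh G g) g)
      (pullback.fst (hh G g) g ≫ pullback.snd g G.t ≫ G.i)
      (by
        rw [Category.assoc, Category.assoc, G.i_t, ← pullback.condition]))
    (pullback.fst (hh G g) g ≫ pullback.fst g G.t)
    (by
      change pullback.lift _ _ _ ≫ pullback.snd g G.t ≫ G.s = _
      rw [pullback.lift_snd_assoc, Category.assoc, Category.assoc, G.i_s, Category.assoc,
        ← pullback.condition])

@[reassoc]
theorem inv'_snd : inv' G g ≫ pullback.snd (hh G g) g =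
    pullback.fst (hh G g) g ≫ pullback.fst g G.t := pullback.lift_snd _ _ _

@[reassoc]
theorem inv'_fst_fst : inv' G g ≫ pullback.fst (hh G g) g ≫ pullback.fst g G.t =
    pullback.snd (hh G g) g := by
  rw [inv', pullback.lift_fst_assoc, pullback.lift_fst]

@[reassoc]
theorem inv'_fst_snd : inv' G g ≫ pullback.fst (hh G g) g ≫ pullback.snd g G.t =
    pullback.fst (hh G g) g ≫ pullback.snd g G.t ≫ G.i := by
  rw [inv', pullback.lift_fst_assoc, pullback.lift_snd]

theorem inv'_inv' : inv' G g ≫ inv' G g = 𝟙 _ := by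
  apply pullback.hom_ext
  · apply pullback.hom_ext
    · simp only [Category.assoc, Category.id_comp]
      rw [inv'_fst_fst, inv'_snd]
    · simp only [Category.assoc, Category.id_comp]
      rw [inv'_fst_snd, inv'_fst_snd_assoc, i_i, Category.comp_id]
  · simp only [Category.assoc, Category.id_comp]
    rw [inv'_snd, inv'_fst_fst]

instance : IsIso (inv' G g) := ⟨inv' G g, inv'_inv' G g, inv'_inv' G g⟩

/-- **`s'` is Cohen–Macaulay if `h` is.** -/
theorem isCMAt_s' [LocallyOfFiniteType (hh G g)] (hcm : ∀ q, MoreMor.IsCMAt (hh G g) q)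
    (q : ↑(pullback (hh G g) g)) : MoreMor.IsCMAt (pullback.snd (hh G g) g) q :=
  isCMAt_of_isPullback (hh G g) (pullback.snd (hh G g) g) (pullback.fst (hh G g) g) g
    (IsPullback.of_hasPullback _ _) q (hcm _)

/-- **`t'` is Cohen–Macaulay if `h` is.** -/
theorem isCMAt_t' [LocallyOfFiniteType (hh G g)] (hcm : ∀ q, MoreMor.IsCMAt (hh G g) q)
    (q : ↑(pullback (hh G g) g)) :
    MoreMor.IsCMAt (pullback.fst (hh G g) g ≫ pullback.fst g G.t) q := by
  rw [← inv'_snd, isCMAt_iso_comp]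
  exact isCMAt_s' G g hcm _

section shrink
variable (V : U'.Opens)

/-- the open immersion `V ×_{U,t} R → U' ×_{g,U,t} R`. -/
noncomputable def jj : pullback (V.ι ≫ g) G.t ⟶ pullback g G.t :=
  pullback.map (V.ι ≫ g) G.t g G.t V.ι (𝟙 _) (𝟙 _) (by simp) (by simp)

instance : IsOpenImmersion (jj G g V) := by
  unfold jj; infer_instance

theorem jj_fst : jj G g V ≫ pullback.fst g G.t = pullback.fst (V.ι ≫ g) G.t ≫ V.ι :=
  pullback.lift_fst _ _ _

theorem jj_snd : jj G g V ≫ pullback.snd g G.t = pullback.snd (V.ι ≫ g) G.t := by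
  rw [jj, pullback.map, pullback.lift_snd, Category.comp_id]

theorem jj_hh : jj G g V ≫ hh G g = hh G (V.ι ≫ g) := by
  rw [hh, ← Category.assoc, jj_snd]

theorem range_jj : Set.range (jj G g V) = pullback.fst g G.t ⁻¹' (V : Set U') := by
  rw [jj, Scheme.Pullback.range_map]
  simp

theorem exists_jj_eq (p : ↑(pullback g G.t)) (hp : pullback.fst g G.t p ∈ V) :
    ∃ p' : ↑(pullback (V.ι ≫ g) G.t), jj G g V p' = p := by
  have : p ∈ Set.range (jj G g V) := by rw [range_jj]; exact hp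
  exact this

theorem isCMAt_hh_shrink (q : ↑(pullback (V.ι ≫ g) G.t)) :
    MoreMor.IsCMAt (hh G (V.ι ≫ g)) q ↔ MoreMor.IsCMAt (hh G g) (jj G g V q) := by
  rw [← jj_hh, ← Groth.Agent.H49.GrpdCM.grpdIsCMAt_iff, ← Groth.Agent.H49.GrpdCM.grpdIsCMAt_iff]
  exact Groth.Agent.H49.SliceGrpdStalk.isCMAt_comp_isOpenImmersion_left (jj G g V) (hh G g) q

theorem fibreDimAt_hh_shrink (q : ↑(pullback (V.ι ≫ g) G.t)) :
    FlatMor.fibreDimAt (hh G (V.ι ≫ g)) q = FlatMor.fibreDimAt (hh G g) (jj G g V q) :=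
  Groth.Agent.H17.Chev.fibreDimAt_eq_of_isOpenImmersion (hh G g) (hh G (V.ι ≫ g)) (jj G g V)
    (𝟙 G.U) Function.injective_id (by rw [Category.comp_id, jj_hh]) q

end shrink

end Groth.Agent.H49.SliceGrpdRestrict
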