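import Groth.Agent.H49.SliceGrpdMain
import Groth.Agent.H49.SliceGrpdDim2
import Groth.Agent.H49.SliceGrpdRestrict

/-!
# Maximal slices of a groupoid scheme at a finite type point (helper49)

Stacks 0463: slicing by `dim_{e(u)} F_u - dim G_u` functions, then shrinking `U'` so that
`h = s ∘ pr₁` is Cohen–Macaulay everywhere.
-/

set_option autoImplicit false
set_option linter.style.haveILetI false
set_option maxHeartbeats 400000

universe u

open CategoryTheory CategoryTheory.Limits AlgebraicGeometry Topology IsLocalRing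

namespace Groth.Agent.H49.SliceGrpdMax

open Groth.Agent.H49.FibreStalk Groth.Agent.H49.SliceGrpdStalk Groth.Agent.H49.SliceGrpdMain
  Groth.Agent.H49.SliceGrpdTrans Groth.Agent.H49.SliceGrpdRestrict Grpd

theorem eq_of_add_nat_eq {x : WithBot ℕ∞} {a n b : ℕ} (hab : a + n = b)
    (h : x + (n : WithBot ℕ∞) = (b : WithBot ℕ∞)) : x = (a : WithBot ℕ∞) := by
  induction x using WithBot.recBotCoe with
  | bot => simp at h
  | coe x =>
    induction x using ENat.recTopCoe with
    | top =>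
      exfalso
      have h' : ((⊤ : ℕ∞) + (n : ℕ∞) : WithBot ℕ∞) = ((b : ℕ∞) : WithBot ℕ∞) := by exact_mod_cast h
      rw [← WithBot.coe_add, WithBot.coe_inj, top_add] at h'
      exact ENat.top_ne_natCast b h'
    | coe m =>
      have h' : (((m + n : ℕ) : ℕ∞) : WithBot ℕ∞) = ((b : ℕ∞) : WithBot ℕ∞) := by exact_mod_cast h
      rw [WithBot.coe_inj, Nat.cast_inj] at h'
      have : m = a := by omega
      subst this
      rfl

variable {S : Scheme.{u}} (G : Grpd.GroupoidScheme S)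

/-- the maximal slice, at the point. -/
theorem exists_max_slice_point [LocallyOfFinitePresentation G.s] [LocallyOfFinitePresentation G.t]
    (hs : ∀ r : G.R, Grpd.IsCMAt G.s r) (u : G.U)
    (hu : LocallyOfFiniteType (G.U.fromSpecResidueField u)) :
    ∃ (W : G.U.Opens) (hW : IsAffineOpen W) (l : List Γ(G.U, W))
      (p : ↑(pullback (sliceι hW (Ideal.ofList l)) G.t)),
      u ∈ W ∧ pullback.snd (sliceι hW (Ideal.ofList l)) G.t p = G.e u ∧
      Grpd.IsCMAt (pullback.snd (sliceι hW (Ideal.ofList l)) G.t ≫ G.s) p ∧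
      FlatMor.fibreDimAt (pullback.snd (sliceι hW (Ideal.ofList l)) G.t ≫ G.s) p =
        topologicalKrullDim (G.stabilizerToU.fiber u) := by
  set r := G.e u with hr_def
  have hCM : LocCoh.IsCohenMacaulayLocalRing (G.R.presheaf.stalk r ⧸ fibreIdeal G.s r) := (hs r).2
  haveI : IsNoetherianRing (G.R.presheaf.stalk r ⧸ fibreIdeal G.s r) := hCM.toIsNoetherian
  have h0 : Dual3.resTrdeg G.s r = 0 := resTrdeg_section G.s G.e G.e_s u
  have hd2 : FlatMor.fibreDimAt G.s r = ringKrullDim (G.R.presheaf.stalk r ⧸ fibreIdeal G.s r) :=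
    fibreDimAt_eq_of_resTrdeg_eq_zero G.s r h0
  have hd1 : ringKrullDim (G.R.presheaf.stalk r ⧸ (fibreIdeal G.s r ⊔ fibreIdeal G.t r)) =
      topologicalKrullDim (G.stabilizerToU.fiber u) :=
    Groth.Agent.H49.SliceGrpdDim.ringKrullDim_quotient_eq G u hu
  have hle : ringKrullDim (G.R.presheaf.stalk r ⧸ (fibreIdeal G.s r ⊔ fibreIdeal G.t r)) ≤
      ringKrullDim (G.R.presheaf.stalk r ⧸ fibreIdeal G.s r) := by
    have e := DoubleQuot.quotQuotEquivQuotSup (fibreIdeal G.s r) (fibreIdeal G.t r)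
    rw [← ringKrullDim_eq_of_ringEquiv e]
    exact ringKrullDim_quotient_le _
  have hnt : Nontrivial (G.R.presheaf.stalk r ⧸ (fibreIdeal G.s r ⊔ fibreIdeal G.t r)) := by
    rw [Ideal.Quotient.nontrivial_iff]
    intro htop
    have hle' : fibreIdeal G.s r ⊔ fibreIdeal G.t r ≤ maximalIdeal (G.R.presheaf.stalk r) :=
      sup_le (fibreIdeal_le_maximalIdeal G.s r) (fibreIdeal_le_maximalIdeal G.t r)
    exact (maximalIdeal.isMaximal _).ne_top (top_le_iff.mp (htop ▸ hle'))
  obtain ⟨b, hb⟩ := Groth.Agent.H17.Chev.exists_nat_eq_ringKrullDim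
    (G.R.presheaf.stalk r ⧸ fibreIdeal G.s r)
  obtain ⟨a, ha, hab⟩ : ∃ a : ℕ,
      ringKrullDim (G.R.presheaf.stalk r ⧸ (fibreIdeal G.s r ⊔ fibreIdeal G.t r)) = a ∧ a ≤ b := by
    have hnn := ringKrullDim_nonneg_of_nontrivial
      (R := G.R.presheaf.stalk r ⧸ (fibreIdeal G.s r ⊔ fibreIdeal G.t r))
    rw [hb] at hle
    generalize ringKrullDim (G.R.presheaf.stalk r ⧸ (fibreIdeal G.s r ⊔ fibreIdeal G.t r)) = x
      at hle hnn
    induction x using WithBot.recBotCoe with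
    | bot => simp at hnn
    | coe x =>
      induction x using ENat.recTopCoe with
      | top =>
        exfalso
        have : ((⊤ : ℕ∞) : WithBot ℕ∞) ≤ ((b : ℕ∞) : WithBot ℕ∞) := by exact_mod_cast hle
        rw [WithBot.coe_le_coe, top_le_iff] at this
        exact ENat.natCast_ne_top b this
      | coe m =>
        refine ⟨m, rfl, ?_⟩
        have : ((m : ℕ∞) : WithBot ℕ∞) ≤ ((b : ℕ∞) : WithBot ℕ∞) := by exact_mod_cast hle
        rw [WithBot.coe_le_coe] at this
        exact_mod_cast this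
  have hn : topologicalKrullDim (G.stabilizerToU.fiber u) + ((b - a : ℕ) : WithBot ℕ∞) ≤
      FlatMor.fibreDimAt G.s (G.e u) := by
    rw [← hd1, ha, hd2, hb]
    have : a + (b - a) ≤ b := by omega
    exact_mod_cast this
  obtain ⟨W, hW, l, p, hlen, huW, hp1, hp2, hp3⟩ := exists_slice_n G hs u hu (b - a) hn
  refine ⟨W, hW, l, p, huW, hp1, hp2, ?_⟩
  rw [← hd1, ha]
  rw [hd2, hb] at hp3
  exact eq_of_add_nat_eq (by omega) hp3

/-- **Stacks 0463.** -/
theorem exists_max_slice [LocallyOfFinitePresentation G.s] [LocallyOfFinitePresentation G.t]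
    (hs : ∀ r : G.R, Grpd.IsCMAt G.s r) (ht : ∀ r : G.R, Grpd.IsCMAt G.t r) (u : G.U)
    (hu : LocallyOfFiniteType (G.U.fromSpecResidueField u)) :
    ∃ (U' : Scheme.{u}) (_ : IsAffine U') (g : U' ⟶ G.U) (u' : U') (p : ↑(pullback g G.t)),
      IsImmersion g ∧ LocallyOfFinitePresentation g ∧ g u' = u ∧ pullback.fst g G.t p = u' ∧
      pullback.snd g G.t p = G.e u ∧ (∀ q, Grpd.IsCMAt (pullback.snd g G.t ≫ G.s) q) ∧
      LocallyOfFinitePresentation (pullback.snd g G.t ≫ G.s) ∧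
      (∀ q, Grpd.IsCMAt (pullback.snd (pullback.snd g G.t ≫ G.s) g) q) ∧
      LocallyOfFinitePresentation (pullback.snd (pullback.snd g G.t ≫ G.s) g) ∧
      (∀ q, Grpd.IsCMAt (pullback.fst (pullback.snd g G.t ≫ G.s) g ≫ pullback.fst g G.t) q) ∧
      LocallyOfFinitePresentation
        (pullback.fst (pullback.snd g G.t ≫ G.s) g ≫ pullback.fst g G.t) ∧
      FlatMor.fibreDimAt (pullback.snd g G.t ≫ G.s) p =
        topologicalKrullDim ↥(G.stabilizerToU.fiber u) := by
  haveI : Flat G.s := flat_of_isCMAt G.s hs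
  haveI : Flat G.t := flat_of_isCMAt G.t ht
  obtain ⟨W, hW, l, p, huW, hp1, hp2, hp3⟩ := exists_max_slice_point G hs u hu
  haveI : LocallyOfFinitePresentation (sliceι hW (Ideal.ofList l)) := lfp_sliceι hW l
  have hopen := Groth.Agent.H49.CMLocusOpen.isOpen_setOf_isCMAt (hh G (sliceι hW (Ideal.ofList l)))
  have hσ : MoreMor.IsCMAt (hh G (sliceι hW (Ideal.ofList l)))
      (σ G (sliceι hW (Ideal.ofList l)) (pullback.fst (sliceι hW (Ideal.ofList l)) G.t p)) :=
    (isCMAt_iff_section G (sliceι hW (Ideal.ofList l)) p).mp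
      ((Groth.Agent.H49.GrpdCM.grpdIsCMAt_iff _ _).mp hp2)
  let V : (Spec (CommRingCat.of (Γ(G.U, W) ⧸ Ideal.ofList l))).Opens :=
    ⟨(σ G (sliceι hW (Ideal.ofList l))) ⁻¹'
      {x | MoreMor.IsCMAt (hh G (sliceι hW (Ideal.ofList l))) x},
      hopen.preimage (σ G (sliceι hW (Ideal.ofList l))).continuous⟩
  have hu₀V : pullback.fst (sliceι hW (Ideal.ofList l)) G.t p ∈ V := hσ
  obtain ⟨V'', hV'', hu₀V'', hV''V⟩ := exists_isAffineOpen_mem_and_subset hu₀V
  obtain ⟨p'', hp''⟩ := exists_jj_eq G (sliceι hW (Ideal.ofList l)) V'' p hu₀V''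
  have hcm : ∀ q, MoreMor.IsCMAt (hh G (V''.ι ≫ sliceι hW (Ideal.ofList l))) q := by
    intro q
    rw [isCMAt_hh_shrink, isCMAt_iff_section]
    apply hV''V
    have : pullback.fst (sliceι hW (Ideal.ofList l)) G.t (jj G (sliceι hW (Ideal.ofList l)) V'' q) =
        V''.ι (pullback.fst (V''.ι ≫ sliceι hW (Ideal.ofList l)) G.t q) := by
      rw [← Scheme.Hom.comp_apply, jj_fst]; rfl
    rw [this]
    exact (pullback.fst (V''.ι ≫ sliceι hW (Ideal.ofList l)) G.t q).2
  refine ⟨V''.toScheme, hV'', V''.ι ≫ sliceι hW (Ideal.ofList l),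
    ⟨pullback.fst (sliceι hW (Ideal.ofList l)) G.t p, hu₀V''⟩, p'', inferInstance, inferInstance,
    ?_, ?_, ?_, ?_, inferInstance, ?_, inferInstance, ?_, inferInstance, ?_⟩
  · change sliceι hW (Ideal.ofList l) (pullback.fst (sliceι hW (Ideal.ofList l)) G.t p) = u
    have h1 : sliceι hW (Ideal.ofList l) (pullback.fst (sliceι hW (Ideal.ofList l)) G.t p) =
        G.t (pullback.snd (sliceι hW (Ideal.ofList l)) G.t p) := by
      rw [← Scheme.Hom.comp_apply, ← Scheme.Hom.comp_apply, pullback.condition]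
    rw [h1, hp1, e_t_apply]
  · apply V''.ι.isEmbedding.injective
    change (pullback.fst (V''.ι ≫ sliceι hW (Ideal.ofList l)) G.t ≫ V''.ι) p'' = _
    rw [← jj_fst, Scheme.Hom.comp_apply, hp'']
    rfl
  · rw [← jj_snd G (sliceι hW (Ideal.ofList l)) V'', Scheme.Hom.comp_apply, hp'', hp1]
  · intro q
    exact (Groth.Agent.H49.GrpdCM.grpdIsCMAt_iff _ _).mpr (hcm q)
  · intro q
    exact (Groth.Agent.H49.GrpdCM.grpdIsCMAt_iff _ _).mpr
      (isCMAt_s' G (V''.ι ≫ sliceι hW (Ideal.ofList l)) hcm q)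
  · intro q
    exact (Groth.Agent.H49.GrpdCM.grpdIsCMAt_iff _ _).mpr
      (isCMAt_t' G (V''.ι ≫ sliceι hW (Ideal.ofList l)) hcm q)
  · have := fibreDimAt_hh_shrink G (sliceι hW (Ideal.ofList l)) V'' p''
    rw [hp''] at this
    exact this.trans hp3

end Groth.Agent.H49.SliceGrpdMax
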