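import Mathlib
import Groth.Agent.H49.SliceCore
import Groth.Agent.H49.SliceGood

/-!
# Iterated slicing by a fibrewise regular sequence, ring level (helper49)

`core_list`: see below.  Built by induction on the sequence from `SliceCore.core`.
-/

open TensorProduct RingTheory.Sequence
universe u
set_option autoImplicit false
set_option linter.style.haveILetI false

namespace Groth.Agent.H49.SliceList
open Groth.Agent.H49.SliceGood

/-- `B_q` is the localization of `B_g` at `q B_g` when `g ∉ q`. -/
theorem isLocalization_atPrime_of_away {B : Type*} [CommRing B] (q : Ideal B) [q.IsPrime] (g : B)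
    (hg : g ∉ q) (B₁ : Type*) [CommRing B₁] [Algebra B B₁] [IsLocalization.Away g B₁]
    (Bq : Type*) [CommRing Bq] [Algebra B Bq] [IsLocalization.AtPrime Bq q]
    [Algebra B₁ Bq] [IsScalarTower B B₁ Bq] [(q.map (algebraMap B B₁)).IsPrime] :
    IsLocalization.AtPrime Bq (q.map (algebraMap B B₁)) := by
  have hle : Submonoid.powers g ≤ q.primeCompl := by
    rw [Submonoid.powers_le]; exact hg
  have h1 : IsLocalization (q.primeCompl.map (algebraMap B B₁)) Bq :=
    IsLocalization.isLocalization_of_submonoid_le (S := B₁) (T := Bq) (Submonoid.powers g)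
      q.primeCompl hle
  have hdisj : Disjoint (Submonoid.powers g : Set B) (q : Set B) := by
    rw [Set.disjoint_left]
    rintro _ ⟨n, rfl⟩ hn
    exact hg ((inferInstance : q.IsPrime).mem_of_pow_mem n hn)
  have hcomap : (q.map (algebraMap B B₁)).under B = q :=
    IsLocalization.under_map_of_isPrime_disjoint (Submonoid.powers g) B₁ inferInstance hdisj
  refine IsLocalization.isLocalization_of_is_exists_mul_mem (S := Bq)
    (q.primeCompl.map (algebraMap B B₁)) (q.map (algebraMap B B₁)).primeCompl ?_ ?_
  · rintro _ ⟨b, hb, rfl⟩ h
    have : b ∈ (q.map (algebraMap B B₁)).under B := h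
    rw [hcomap] at this
    exact hb this
  · rintro ⟨x, hx⟩
    obtain ⟨⟨b, ⟨_, n, rfl⟩⟩, hxb⟩ := IsLocalization.surj (Submonoid.powers g) x
    refine ⟨algebraMap B B₁ (g ^ n), ?_⟩
    rw [mul_comm]
    refine ⟨b, ?_, hxb.symm⟩
    intro hbq
    have h2 : algebraMap B B₁ b ∈ q.map (algebraMap B B₁) := Ideal.mem_map_of_mem _ hbq
    rw [← hxb] at h2
    rcases Ideal.IsPrime.mem_or_mem ‹(q.map (algebraMap B B₁)).IsPrime› h2 with h3 | h3
    · exact hx h3
    · have : g ^ n ∈ (q.map (algebraMap B B₁)).under B := h3
      rw [hcomap] at this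
      exact hg ((inferInstance : q.IsPrime).mem_of_pow_mem n this)

/-- image of the complement of a prime under a surjection with small kernel -/
theorem primeCompl_map_of_surjective {R R' : Type*} [CommRing R] [CommRing R'] (f : R →+* R')
    (hf : Function.Surjective f) (q : Ideal R) [q.IsPrime] (hk : RingHom.ker f ≤ q)
    [(q.map f).IsPrime] : q.primeCompl.map f = (q.map f).primeCompl := by
  ext y
  constructor
  · rintro ⟨x, hx, rfl⟩ h
    replace h : f x ∈ Ideal.map f q := h
    rw [Ideal.mem_map_iff_of_surjective f hf] at h
    obtain ⟨z, hz, hzx⟩ := h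
    have : x - z ∈ RingHom.ker f := by rw [RingHom.mem_ker, map_sub, hzx, sub_self]
    have h2 := q.add_mem (hk this) hz
    rw [sub_add_cancel] at h2
    exact hx h2
  · intro hy
    obtain ⟨x, rfl⟩ := hf y
    exact ⟨x, fun hx => hy (Ideal.mem_map_of_mem _ hx), rfl⟩

/-- passing a regular sequence on `(Bq/P)/(x)` to `(Bq/(x))/P`. -/
theorem transfer_reg {Bq : Type*} [CommRing Bq] (P J : Ideal Bq) (x : Bq)
    (hJ : J = Ideal.span {x}) (P' : Ideal (Bq ⧸ J)) (hP' : P' = P.map (Ideal.Quotient.mk J))
    (l : List Bq)
    (h : IsWeaklyRegular ((Bq ⧸ P) ⧸ Ideal.span {Ideal.Quotient.mk P x})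
      ((l.map (Ideal.Quotient.mk P)).map
        (Ideal.Quotient.mk (Ideal.span {Ideal.Quotient.mk P x})))) :
    IsWeaklyRegular ((Bq ⧸ J) ⧸ P') ((l.map (Ideal.Quotient.mk J)).map (Ideal.Quotient.mk P')) := by
  subst hJ
  subst hP'
  have h1 : Ideal.span {Ideal.Quotient.mk P x} = (Ideal.span {x}).map (Ideal.Quotient.mk P) := by
    rw [Ideal.map_span, Set.image_singleton]
  let E : (Bq ⧸ P) ⧸ Ideal.span {Ideal.Quotient.mk P x} ≃+*
      (Bq ⧸ Ideal.span {x}) ⧸ P.map (Ideal.Quotient.mk (Ideal.span {x})) :=
    (Ideal.quotEquivOfEq h1).trans (DoubleQuot.quotQuotEquivComm P (Ideal.span {x}))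
  have h2 := (isWeaklyRegular_ringEquiv E _).mp h
  have hl : ((l.map (Ideal.Quotient.mk P)).map
      (Ideal.Quotient.mk (Ideal.span {Ideal.Quotient.mk P x}))).map E =
      (l.map (Ideal.Quotient.mk (Ideal.span {x}))).map
        (Ideal.Quotient.mk (P.map (Ideal.Quotient.mk (Ideal.span {x})))) := by
    rw [List.map_map, List.map_map, List.map_map]
    apply List.map_congr_left
    intro r _
    rfl
  rw [hl] at h2
  exact h2


open Groth.Agent.H49.FlatApprox Groth.Agent.H49.SliceCore

set_option maxHeartbeats 1600000 in
theorem core_list_aux (H : Hyp4848.{u}) (A : Type u) [CommRing A] :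
    ∀ (n : ℕ) (B : Type u) [CommRing B] [Algebra A B] [Algebra.FinitePresentation A B]
      [Module.Flat A B] (q : Ideal B) [q.IsPrime] (Bq : Type u) [CommRing Bq] [Algebra B Bq]
      [IsLocalization.AtPrime Bq q] (hs : List B), hs.length = n → (∀ h ∈ hs, h ∈ q) →
      IsWeaklyRegular
        (Bq ⧸ (((q.comap (algebraMap A B)).map (algebraMap A B)).map (algebraMap B Bq)))
        ((hs.map (algebraMap B Bq)).map (Ideal.Quotient.mk
          (((q.comap (algebraMap A B)).map (algebraMap A B)).map (algebraMap B Bq)))) →
      ∃ g : B, g ∉ q ∧ ∃ (Bg : Type u) (_ : CommRing Bg) (_ : Algebra B Bg) (_ : Algebra A Bg)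
        (_ : IsScalarTower A B Bg) (_ : IsLocalization.Away g Bg),
        Good A Bg (hs.map (algebraMap B Bg)) := by
  intro n
  induction n with
  | zero =>
    intro B _ _ _ _ q _ Bq _ _ _ hs hlen _ _
    rw [List.length_eq_zero_iff.mp hlen]
    refine ⟨1, fun h => (inferInstance : q.IsPrime).ne_top ((Ideal.eq_top_iff_one q).mpr h), B,
      inferInstance, inferInstance, inferInstance, inferInstance,
      IsLocalization.away_of_isUnit_of_bijective B isUnit_one Function.bijective_id, ?_⟩
    exact Good.nil A B
  | succ n ih =>
    intro B _ _ _ _ q _ Bq _ _ _ hs hlen hmem hreg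
    obtain ⟨h, t, rfl⟩ := List.exists_cons_of_length_eq_add_one hlen
    have hhq : h ∈ q := hmem h List.mem_cons_self
    have htq : ∀ h' ∈ t, h' ∈ q := fun h' hh' => hmem h' (List.mem_cons_of_mem _ hh')
    have hlen' : t.length = n := by simpa using hlen
    rw [List.map_cons, List.map_cons, isWeaklyRegular_cons_ring] at hreg
    obtain ⟨hreg1, hreg2⟩ := hreg
    -- step 1: slice by `h`
    obtain ⟨g₁, hg₁, hcore⟩ := core H A B q Bq h hreg1
    -- the ring `B₁ = B_{g₁}` and `C = B₁/(h)`
    haveI : Algebra.FinitePresentation B (Localization.Away g₁) :=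
      IsLocalization.Away.finitePresentation g₁
    haveI : Algebra.FinitePresentation A (Localization.Away g₁) :=
      Algebra.FinitePresentation.trans A B (Localization.Away g₁)
    haveI : Module.Flat B (Localization.Away g₁) :=
      IsLocalization.flat (Localization.Away g₁) (Submonoid.powers g₁)
    haveI : Module.Flat A (Localization.Away g₁) := Module.Flat.trans A B (Localization.Away g₁)
    obtain ⟨hnzd₁, hfl₁⟩ := hcore (Localization.Away g₁)
    obtain ⟨h₁, hh₁⟩ : ∃ h₁ : Localization.Away g₁, h₁ = algebraMap B (Localization.Away g₁) h :=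
      ⟨_, rfl⟩
    rw [← hh₁] at hnzd₁ hfl₁
    haveI : Module.Flat A (Localization.Away g₁ ⧸ Ideal.span {h₁}) := hfl₁
    haveI : Algebra.FinitePresentation A (Localization.Away g₁ ⧸ Ideal.span {h₁}) :=
      Algebra.FinitePresentation.quotient ⟨{h₁}, by simp⟩
    -- primes
    have hdisj : Disjoint (Submonoid.powers g₁ : Set B) (q : Set B) := by
      rw [Set.disjoint_left]
      rintro _ ⟨n, rfl⟩ hn
      exact hg₁ ((inferInstance : q.IsPrime).mem_of_pow_mem n hn)
    haveI hq₁ : (q.map (algebraMap B (Localization.Away g₁))).IsPrime :=
      IsLocalization.isPrime_of_isPrime_disjoint (Submonoid.powers g₁) _ q inferInstance hdisj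
    have hcomap₁ : (q.map (algebraMap B (Localization.Away g₁))).under B = q :=
      IsLocalization.under_map_of_isPrime_disjoint (Submonoid.powers g₁) _ inferInstance hdisj
    have hh₁q : h₁ ∈ q.map (algebraMap B (Localization.Away g₁)) := by
      rw [hh₁]; exact Ideal.mem_map_of_mem _ hhq
    have hker : RingHom.ker (Ideal.Quotient.mk (Ideal.span {h₁})) ≤
        q.map (algebraMap B (Localization.Away g₁)) := by
      rw [Ideal.mk_ker, Ideal.span_le, Set.singleton_subset_iff]
      exact hh₁q
    haveI hqC : ((q.map (algebraMap B (Localization.Away g₁))).map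
        (Ideal.Quotient.mk (Ideal.span {h₁}))).IsPrime :=
      Ideal.map_isPrime_of_surjective Ideal.Quotient.mk_surjective hker
    -- `Bq` as a `B₁`-algebra
    have hunit : IsUnit (algebraMap B Bq g₁) :=
      IsLocalization.map_units Bq (⟨g₁, hg₁⟩ : q.primeCompl)
    letI algB₁q : Algebra (Localization.Away g₁) Bq :=
      (IsLocalization.Away.lift g₁ hunit).toAlgebra
    haveI : IsScalarTower B (Localization.Away g₁) Bq :=
      IsScalarTower.of_algebraMap_eq (fun b => (IsLocalization.Away.lift_eq g₁ hunit b).symm)
    haveI : IsLocalization.AtPrime Bq (q.map (algebraMap B (Localization.Away g₁))) :=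
      isLocalization_atPrime_of_away q g₁ hg₁ (Localization.Away g₁) Bq
    -- the model `D = Bq/(h)` of the localization of `C`
    haveI hlocD : IsLocalization.AtPrime
        (Bq ⧸ (Ideal.span {h₁}).map (algebraMap (Localization.Away g₁) Bq))
        ((q.map (algebraMap B (Localization.Away g₁))).map
          (Ideal.Quotient.mk (Ideal.span {h₁}))) := by
      have h1 : IsLocalization (Algebra.algebraMapSubmonoid
          (Localization.Away g₁ ⧸ Ideal.span {h₁})
          (q.map (algebraMap B (Localization.Away g₁))).primeCompl)
          (Bq ⧸ (Ideal.span {h₁}).map (algebraMap (Localization.Away g₁) Bq)) := inferInstance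
      have h2 : Algebra.algebraMapSubmonoid (Localization.Away g₁ ⧸ Ideal.span {h₁})
          (q.map (algebraMap B (Localization.Away g₁))).primeCompl =
          ((q.map (algebraMap B (Localization.Away g₁))).map
            (Ideal.Quotient.mk (Ideal.span {h₁}))).primeCompl :=
        primeCompl_map_of_surjective (Ideal.Quotient.mk (Ideal.span {h₁}))
          Ideal.Quotient.mk_surjective _ hker
      rw [h2] at h1
      exact h1
    -- the hypothesis for the induction
    have hJ : (Ideal.span {h₁}).map (algebraMap (Localization.Away g₁) Bq) =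
        Ideal.span {algebraMap B Bq h} := by
      rw [Ideal.map_span, Set.image_singleton, hh₁, ← IsScalarTower.algebraMap_apply]
    have hp : ((q.map (algebraMap B (Localization.Away g₁))).map
        (Ideal.Quotient.mk (Ideal.span {h₁}))).comap
          (algebraMap A (Localization.Away g₁ ⧸ Ideal.span {h₁})) =
        q.comap (algebraMap A B) := by
      ext a
      rw [Ideal.mem_comap, Ideal.mem_comap,
        IsScalarTower.algebraMap_apply A (Localization.Away g₁)
          (Localization.Away g₁ ⧸ Ideal.span {h₁}), Ideal.Quotient.algebraMap_eq,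
        ← Ideal.mem_comap, Ideal.comap_map_of_surjective _ Ideal.Quotient.mk_surjective,
        ← RingHom.ker_eq_comap_bot, sup_eq_left.mpr hker,
        IsScalarTower.algebraMap_apply A B (Localization.Away g₁)]
      conv_rhs => rw [← hcomap₁]
      rfl
    have hcompA : (algebraMap (Localization.Away g₁ ⧸ Ideal.span {h₁})
        (Bq ⧸ (Ideal.span {h₁}).map (algebraMap (Localization.Away g₁) Bq))).comp
          (algebraMap A (Localization.Away g₁ ⧸ Ideal.span {h₁})) =
        (Ideal.Quotient.mk ((Ideal.span {h₁}).map (algebraMap (Localization.Away g₁) Bq))).comp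
          ((algebraMap B Bq).comp (algebraMap A B)) := by
      ext a
      simp only [RingHom.comp_apply]
      rw [IsScalarTower.algebraMap_apply A (Localization.Away g₁)
          (Localization.Away g₁ ⧸ Ideal.span {h₁}),
        IsScalarTower.algebraMap_apply A B (Localization.Away g₁),
        IsScalarTower.algebraMap_apply B (Localization.Away g₁) Bq]
      rfl
    have hP' : (((((q.map (algebraMap B (Localization.Away g₁))).map
        (Ideal.Quotient.mk (Ideal.span {h₁}))).comap
          (algebraMap A (Localization.Away g₁ ⧸ Ideal.span {h₁}))).map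
          (algebraMap A (Localization.Away g₁ ⧸ Ideal.span {h₁}))).map
          (algebraMap (Localization.Away g₁ ⧸ Ideal.span {h₁})
            (Bq ⧸ (Ideal.span {h₁}).map (algebraMap (Localization.Away g₁) Bq)))) =
        (((q.comap (algebraMap A B)).map (algebraMap A B)).map (algebraMap B Bq)).map
          (Ideal.Quotient.mk ((Ideal.span {h₁}).map (algebraMap (Localization.Away g₁) Bq))) := by
      rw [hp, Ideal.map_map, Ideal.map_map, Ideal.map_map, hcompA, RingHom.comp_assoc]
    have hregD := transfer_reg _ _ _ hJ _ hP' (t.map (algebraMap B Bq)) hreg2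
    have hlist : (t.map (algebraMap B Bq)).map
        (Ideal.Quotient.mk ((Ideal.span {h₁}).map (algebraMap (Localization.Away g₁) Bq))) =
        ((t.map (algebraMap B (Localization.Away g₁))).map
          (Ideal.Quotient.mk (Ideal.span {h₁}))).map
          (algebraMap (Localization.Away g₁ ⧸ Ideal.span {h₁})
            (Bq ⧸ (Ideal.span {h₁}).map (algebraMap (Localization.Away g₁) Bq))) := by
      rw [List.map_map, List.map_map, List.map_map]
      apply List.map_congr_left
      intro b _
      simp only [Function.comp_apply]
      rw [IsScalarTower.algebraMap_apply B (Localization.Away g₁) Bq]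
      rfl
    rw [hlist] at hregD
    have hmemC : ∀ c ∈ (t.map (algebraMap B (Localization.Away g₁))).map
        (Ideal.Quotient.mk (Ideal.span {h₁})),
        c ∈ (q.map (algebraMap B (Localization.Away g₁))).map
          (Ideal.Quotient.mk (Ideal.span {h₁})) := by
      intro c hc
      rw [List.map_map, List.mem_map] at hc
      obtain ⟨b, hb, rfl⟩ := hc
      exact Ideal.mem_map_of_mem _ (Ideal.mem_map_of_mem _ (htq b hb))
    obtain ⟨g₂, hg₂, Cg, _, _, _, _, _, hgood⟩ :=
      ih (Localization.Away g₁ ⧸ Ideal.span {h₁})
        ((q.map (algebraMap B (Localization.Away g₁))).map (Ideal.Quotient.mk (Ideal.span {h₁})))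
        (Bq ⧸ (Ideal.span {h₁}).map (algebraMap (Localization.Away g₁) Bq))
        ((t.map (algebraMap B (Localization.Away g₁))).map (Ideal.Quotient.mk (Ideal.span {h₁})))
        (by simpa using hlen') hmemC hregD
    -- lift `g₂`
    obtain ⟨b₁, rfl⟩ := Ideal.Quotient.mk_surjective g₂
    have hb₁ : b₁ ∉ q.map (algebraMap B (Localization.Away g₁)) :=
      fun hb => hg₂ (Ideal.mem_map_of_mem _ hb)
    obtain ⟨⟨b, ⟨_, n', rfl⟩⟩, hb⟩ := IsLocalization.surj (Submonoid.powers g₁) b₁
    have hb' : b₁ * algebraMap B (Localization.Away g₁) (g₁ ^ n') =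
        algebraMap B (Localization.Away g₁) b := hb
    have hbq : b ∉ q := by
      intro hbq
      have h2 : algebraMap B (Localization.Away g₁) b ∈
          q.map (algebraMap B (Localization.Away g₁)) := Ideal.mem_map_of_mem _ hbq
      rw [← hb'] at h2
      rcases hq₁.mem_or_mem h2 with h3 | h3
      · exact hb₁ h3
      · have : g₁ ^ n' ∈ (q.map (algebraMap B (Localization.Away g₁))).under B := h3
        rw [hcomap₁] at this
        exact hg₁ ((inferInstance : q.IsPrime).mem_of_pow_mem n' this)
    refine ⟨g₁ * b, fun hm => ((inferInstance : q.IsPrime).mem_or_mem hm).elim hg₁ hbq,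
      Localization.Away b₁, inferInstance, inferInstance, inferInstance, inferInstance, ?_, ?_⟩
    · have hunit' : IsUnit (algebraMap B (Localization.Away g₁) (g₁ ^ n')) :=
        IsLocalization.map_units _ (⟨g₁ ^ n', n', rfl⟩ : Submonoid.powers g₁)
      have hassoc : Associated (algebraMap B (Localization.Away g₁) b) b₁ := by
        refine Associated.symm ⟨hunit'.unit, ?_⟩
        rw [IsUnit.unit_spec]
        exact hb'
      exact IsLocalization.Away.mul_of_associated g₁ b b₁ hassoc
    · haveI : Module.Flat (Localization.Away g₁) (Localization.Away b₁) :=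
        IsLocalization.flat _ (Submonoid.powers b₁)
      haveI : Module.Flat A (Localization.Away b₁) :=
        Module.Flat.trans A (Localization.Away g₁) (Localization.Away b₁)
      have hhg : algebraMap B (Localization.Away b₁) h =
          algebraMap (Localization.Away g₁) (Localization.Away b₁) h₁ := by
        rw [hh₁, ← IsScalarTower.algebraMap_apply]
      rw [List.map_cons]
      refine Good.cons A (Localization.Away b₁) _ _ ?_ ?_
      · rw [hhg]
        exact IsLocalization.map_nonZeroDivisors_le (Submonoid.powers b₁) (Localization.Away b₁)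
          ⟨h₁, hnzd₁, rfl⟩
      · have hI' : (Ideal.span {h₁}).map (algebraMap (Localization.Away g₁) (Localization.Away b₁)) =
            Ideal.span {algebraMap B (Localization.Away b₁) h} := by
          rw [Ideal.map_span, Set.image_singleton, hhg]
        haveI hloc' : IsLocalization.Away (Ideal.Quotient.mk (Ideal.span {h₁}) b₁)
            (Localization.Away b₁ ⧸ (Ideal.span {h₁}).map
              (algebraMap (Localization.Away g₁) (Localization.Away b₁))) := by
          have h1 : IsLocalization (Algebra.algebraMapSubmonoid
              (Localization.Away g₁ ⧸ Ideal.span {h₁}) (Submonoid.powers b₁))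
              (Localization.Away b₁ ⧸ (Ideal.span {h₁}).map
                (algebraMap (Localization.Away g₁) (Localization.Away b₁))) := inferInstance
          have h2 : Algebra.algebraMapSubmonoid (Localization.Away g₁ ⧸ Ideal.span {h₁})
              (Submonoid.powers b₁) =
              Submonoid.powers (Ideal.Quotient.mk (Ideal.span {h₁}) b₁) := by
            rw [Algebra.algebraMapSubmonoid, Submonoid.map_powers]
            rfl
          rw [h2] at h1
          exact h1
        let e : Cg ≃ₐ[Localization.Away g₁ ⧸ Ideal.span {h₁}]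
            (Localization.Away b₁ ⧸ (Ideal.span {h₁}).map
              (algebraMap (Localization.Away g₁) (Localization.Away b₁))) :=
          IsLocalization.algEquiv (Submonoid.powers (Ideal.Quotient.mk (Ideal.span {h₁}) b₁)) Cg
            (Localization.Away b₁ ⧸ (Ideal.span {h₁}).map
              (algebraMap (Localization.Away g₁) (Localization.Away b₁)))
        let eA : Cg ≃ₐ[A] (Localization.Away b₁ ⧸ (Ideal.span {h₁}).map
              (algebraMap (Localization.Away g₁) (Localization.Away b₁))) :=
          AlgEquiv.ofRingEquiv (f := e.toRingEquiv) (fun a => by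
            change e (algebraMap A Cg a) = _
            rw [IsScalarTower.algebraMap_apply A (Localization.Away g₁ ⧸ Ideal.span {h₁}) Cg,
              AlgEquiv.commutes,
              IsScalarTower.algebraMap_apply A (Localization.Away g₁)
                (Localization.Away g₁ ⧸ Ideal.span {h₁}),
              IsScalarTower.algebraMap_apply A (Localization.Away b₁)
                (Localization.Away b₁ ⧸ (Ideal.span {h₁}).map
                  (algebraMap (Localization.Away g₁) (Localization.Away b₁))),
              IsScalarTower.algebraMap_apply A (Localization.Away g₁) (Localization.Away b₁)]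
            rfl)
        have hgood' := Good.of_algEquiv (R' := Localization.Away b₁ ⧸ (Ideal.span {h₁}).map
              (algebraMap (Localization.Away g₁) (Localization.Away b₁))) eA hgood
        have hgood'' := Good.of_algEquiv
          (R' := Localization.Away b₁ ⧸ Ideal.span {algebraMap B (Localization.Away b₁) h})
          (Ideal.quotientEquivAlgOfEq A hI') hgood'
        have hlist' : ((((t.map (algebraMap B (Localization.Away g₁))).map
            (Ideal.Quotient.mk (Ideal.span {h₁}))).map
            (algebraMap (Localization.Away g₁ ⧸ Ideal.span {h₁}) Cg)).map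
            eA).map (Ideal.quotientEquivAlgOfEq A hI') =
            (t.map (algebraMap B (Localization.Away b₁))).map
              (Ideal.Quotient.mk (Ideal.span {algebraMap B (Localization.Away b₁) h})) := by
          rw [List.map_map, List.map_map, List.map_map, List.map_map, List.map_map]
          apply List.map_congr_left
          intro b' _
          simp only [Function.comp_apply]
          change (Ideal.quotientEquivAlgOfEq A hI') (e (algebraMap _ Cg _)) = _
          rw [AlgEquiv.commutes]
          change Ideal.Quotient.mk _ (algebraMap (Localization.Away g₁) (Localization.Away b₁)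
            (algebraMap B (Localization.Away g₁) b')) = _
          exact congrArg (Ideal.Quotient.mk _)
            (IsScalarTower.algebraMap_apply B (Localization.Away g₁) (Localization.Away b₁) b').symm
        rw [hlist'] at hgood''
        exact hgood''

/-- **Iterated slicing**, ring level: `B` flat of finite presentation over `A`, `q` a prime of `B`,
`hs` a list of elements of `q` whose images form a weakly regular sequence on the fibre local ring
`B_q / p B_q`.  Then for some `g ∉ q` the sequence `hs` is weakly regular on `B_g` with all partial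
quotients flat over `A` (for every model `Bg` of the localization). -/
theorem core_list (H : Hyp4848.{u}) (A B : Type u) [CommRing A] [CommRing B] [Algebra A B]
    [Algebra.FinitePresentation A B] [Module.Flat A B] (q : Ideal B) [q.IsPrime] (Bq : Type u)
    [CommRing Bq] [Algebra B Bq] [IsLocalization.AtPrime Bq q] (hs : List B)
    (hmem : ∀ h ∈ hs, h ∈ q)
    (hreg : IsWeaklyRegular
      (Bq ⧸ (((q.comap (algebraMap A B)).map (algebraMap A B)).map (algebraMap B Bq)))
      ((hs.map (algebraMap B Bq)).map (Ideal.Quotient.mk
        (((q.comap (algebraMap A B)).map (algebraMap A B)).map (algebraMap B Bq))))) :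
    ∃ g : B, g ∉ q ∧ ∀ (Bg : Type u) [CommRing Bg] [Algebra B Bg] [IsLocalization.Away g Bg]
      [Algebra A Bg] [IsScalarTower A B Bg], Good A Bg (hs.map (algebraMap B Bg)) := by
  obtain ⟨g, hg, Bg₀, _, _, _, _, _, hgood⟩ :=
    core_list_aux H A hs.length B q Bq hs rfl hmem hreg
  refine ⟨g, hg, fun Bg _ _ _ _ _ => ?_⟩
  let e : Bg₀ ≃ₐ[B] Bg := IsLocalization.algEquiv (Submonoid.powers g) Bg₀ Bg
  have h1 := Good.of_algEquiv (e.restrictScalars A) hgood
  have hl : ((hs.map (algebraMap B Bg₀)).map (e.restrictScalars A)) =
      hs.map (algebraMap B Bg) := by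
    rw [List.map_map]
    apply List.map_congr_left
    intro b _
    exact e.commutes b
  rw [hl] at h1
  exact h1

end Groth.Agent.H49.SliceList
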