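import Mathlib
import Groth.Prelude.Def_Mor2
import Groth.Agent.H94.RegImmScheme
import Groth.Agent.H49.SliceGood
import Groth.Agent.H49.SliceList
import Groth.Agent.H49.SliceScheme

/-!
# Iterated slicing by a fibrewise regular sequence, scheme level (helper49)

* `isRegularClosedImmersion_of_iso`: `Spec (R/(l)) → Spec R ≅ Y` is a regular closed immersion for a
  regular sequence `l`; `ker_appTop_comp_iso` computes its kernel on global sections.
* `slice_list`: iterated slicing: affine charts `U ∋ x`, `V ∋ f x`, sections `hs'` with the given germs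
  and `Good Γ(S, V) Γ(X, U) hs'`.
-/

open CategoryTheory AlgebraicGeometry TopologicalSpace RingTheory.Sequence
universe u
set_option autoImplicit false
set_option linter.style.haveILetI false

namespace Groth.Agent.H49.SliceListScheme
open Groth.Agent.H49.SliceGood

theorem isRegular_ringEquiv {R R' : Type*} [CommRing R] [CommRing R'] (e : R ≃+* R')
    (l : List R) : IsRegular R l ↔ IsRegular R' (l.map e) :=
  e.toAddEquiv.isRegular_congr <| List.forall₂_map_right_iff.mpr <|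
    List.forall₂_same.mpr fun r _ x => map_mul e r x

/-- the ring iso `R ≅ Γ(Y, ⊤)` induced by `e : Y ≅ Spec R`. -/
noncomputable def topIsoOfIso {R : CommRingCat.{u}} {Y : Scheme.{u}} (e : Y ≅ Spec R) :
    R ≅ Γ(Y, ⊤) :=
  (Scheme.ΓSpecIso R).symm ≪≫
    { hom := e.hom.appTop
      inv := e.inv.appTop
      hom_inv_id := by rw [← Scheme.Hom.comp_appTop, e.inv_hom_id]; rfl
      inv_hom_id := by rw [← Scheme.Hom.comp_appTop, e.hom_inv_id]; rfl }

theorem ker_appTop_comp_iso {R : CommRingCat.{u}} {Y : Scheme.{u}} (e : Y ≅ Spec R)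
    (I : Ideal R) :
    RingHom.ker ((Spec.map (CommRingCat.ofHom (Ideal.Quotient.mk I)) ≫ e.inv).appTop).hom =
      I.map (topIsoOfIso e).hom.hom := by
  have h1 : (Spec.map (CommRingCat.ofHom (Ideal.Quotient.mk I)) ≫ e.inv).appTop =
      e.inv.appTop ≫ (Spec.map (CommRingCat.ofHom (Ideal.Quotient.mk I))).appTop :=
    Scheme.Hom.comp_appTop _ _
  rw [h1, CommRingCat.hom_comp, ← RingHom.comap_ker,
    Groth.Agent.H94.RegImmScheme.ker_appTop]
  have h2 : RingHom.ker (CommRingCat.ofHom (Ideal.Quotient.mk I)).hom = I := Ideal.mk_ker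
  rw [h2]
  have h3 : I.map (topIsoOfIso e).hom.hom =
      (I.map (Scheme.ΓSpecIso R).inv.hom).map e.hom.appTop.hom := by
    rw [Ideal.map_map]; rfl
  rw [h3]
  apply le_antisymm
  · intro y hy
    rw [Ideal.mem_comap] at hy
    have h4 : e.hom.appTop.hom (e.inv.appTop.hom y) = y := by
      have : e.inv.appTop ≫ e.hom.appTop = 𝟙 _ := by
        rw [← Scheme.Hom.comp_appTop, e.hom_inv_id]; rfl
      exact congr($(this).hom y)
    rw [← h4]
    exact Ideal.mem_map_of_mem _ hy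
  · rw [Ideal.map_le_iff_le_comap]
    intro j hj
    rw [Ideal.mem_comap, Ideal.mem_comap]
    have h4 : e.inv.appTop.hom (e.hom.appTop.hom j) = j := by
      have : e.hom.appTop ≫ e.inv.appTop = 𝟙 _ := by
        rw [← Scheme.Hom.comp_appTop, e.inv_hom_id]; rfl
      exact congr($(this).hom j)
    rw [h4]
    exact hj


theorem isRegularClosedImmersion_of_iso {R : CommRingCat.{u}} {Y : Scheme.{u}} (e : Y ≅ Spec R)
    (l : List R) (hl : IsRegular R l) :
    Mor2.IsRegularClosedImmersion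
      (Spec.map (CommRingCat.ofHom (Ideal.Quotient.mk (Ideal.ofList l))) ≫ e.inv) := by
  haveI : IsAffine Y := .of_isIso e.hom
  haveI : IsClosedImmersion (Spec.map (CommRingCat.ofHom (Ideal.Quotient.mk (Ideal.ofList l)))) :=
    IsClosedImmersion.spec_of_surjective _ Ideal.Quotient.mk_surjective
  refine ⟨inferInstance, fun z => ⟨⊤, isAffineOpen_top Y, trivial,
    l.map (topIsoOfIso e).hom.hom, ?_, ?_⟩⟩
  · exact (isRegular_ringEquiv (topIsoOfIso e).commRingCatIsoToRingEquiv l).mp hl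
  · rw [Scheme.Hom.ker_apply]
    exact (ker_appTop_comp_iso e _).trans (Ideal.map_ofList _ _)


open Groth.Agent.H49.FlatApprox Groth.Agent.H49.SliceCore Groth.Agent.H49.SliceModel
  Groth.Agent.H49.SliceShrink Groth.Agent.H49.SliceScheme Groth.Agent.H49.SliceList

theorem exists_list_germ_eq {X : Scheme.{u}} (x : X) (hs : List (X.presheaf.stalk x)) :
    ∃ (W : X.Opens) (hxW : x ∈ W) (s : List Γ(X, W)),
      s.map (X.presheaf.germ W x hxW) = hs := by
  induction hs with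
  | nil => exact ⟨⊤, trivial, [], rfl⟩
  | cons h t ih =>
    obtain ⟨W₁, hx₁, s₁, hs₁⟩ := ih
    obtain ⟨W₂, hx₂, a, ha⟩ := X.presheaf.exists_germ_eq h
    refine ⟨W₁ ⊓ W₂, ⟨hx₁, hx₂⟩, X.presheaf.map (homOfLE inf_le_right).op a ::
      s₁.map (X.presheaf.map (homOfLE inf_le_left).op), ?_⟩
    rw [List.map_cons, List.map_map, ← hs₁, ← ha]
    congr 1
    · exact TopCat.Presheaf.germ_res_apply X.presheaf (homOfLE inf_le_right) x ⟨hx₁, hx₂⟩ a
    · apply List.map_congr_left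
      intro b _
      exact TopCat.Presheaf.germ_res_apply X.presheaf (homOfLE inf_le_left) x ⟨hx₁, hx₂⟩ b

theorem isWeaklyRegular_quotient_of_ideal_eq {R : Type*} [CommRing R] (I J : Ideal R) (h : I = J)
    (l : List R) (hl : IsWeaklyRegular (R ⧸ I) (l.map (Ideal.Quotient.mk I))) :
    IsWeaklyRegular (R ⧸ J) (l.map (Ideal.Quotient.mk J)) := by
  subst h; exact hl

variable {X S : Scheme.{u}} (f : X ⟶ S) (x : X) {V : S.Opens} {U : X.Opens}

theorem slice_list_of_flat_chart (H : Hyp4848.{u}) [LocallyOfFinitePresentation f]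
    (hV : IsAffineOpen V) (hU : IsAffineOpen U) (e : U ≤ f ⁻¹ᵁ V) (hx : x ∈ U)
    (hflatU : (f.appLE V U e).hom.Flat) (hs' : List Γ(X, U))
    (hmem : ∀ h ∈ hs', h ∈ (hU.primeIdealOf ⟨x, hx⟩).asIdeal)
    (hreg : IsWeaklyRegular (X.presheaf.stalk x ⧸ Ideal.map (f.stalkMap x).hom
        (IsLocalRing.maximalIdeal (S.presheaf.stalk (f x))))
      ((hs'.map (X.presheaf.germ U x hx)).map (Ideal.Quotient.mk (Ideal.map (f.stalkMap x).hom
        (IsLocalRing.maximalIdeal (S.presheaf.stalk (f x))))))) :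
    ∃ (U' : X.Opens) (hU' : IsAffineOpen U') (hle : U' ≤ U) (hx' : x ∈ U'),
      letI := (f.appLE V U' (hle.trans e)).hom.toAlgebra
      Good Γ(S, V) Γ(X, U') (hs'.map (X.presheaf.map (homOfLE hle).op)) := by
  letI algAB : Algebra Γ(S, V) Γ(X, U) := (f.appLE V U e).hom.toAlgebra
  have hfpU : (f.appLE V U e).hom.FinitePresentation :=
    HasRingHomProperty.appLE (P := @LocallyOfFinitePresentation) f inferInstance ⟨V, hV⟩ ⟨U, hU⟩ e
  haveI : Algebra.FinitePresentation Γ(S, V) Γ(X, U) := hfpU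
  haveI : Module.Flat Γ(S, V) Γ(X, U) := hflatU
  letI := TopCat.Presheaf.algebra_section_stalk X.presheaf ⟨x, hx⟩
  haveI := hU.isLocalization_stalk ⟨x, hx⟩
  have hreg' : IsWeaklyRegular (X.presheaf.stalk x ⧸
      ((((hU.primeIdealOf ⟨x, hx⟩).asIdeal.comap (algebraMap Γ(S, V) Γ(X, U))).map
        (algebraMap Γ(S, V) Γ(X, U))).map (algebraMap Γ(X, U) (X.presheaf.stalk x))))
      ((hs'.map (algebraMap Γ(X, U) (X.presheaf.stalk x))).map (Ideal.Quotient.mk
        ((((hU.primeIdealOf ⟨x, hx⟩).asIdeal.comap (algebraMap Γ(S, V) Γ(X, U))).map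
        (algebraMap Γ(S, V) Γ(X, U))).map (algebraMap Γ(X, U) (X.presheaf.stalk x))))) :=
    isWeaklyRegular_quotient_of_ideal_eq _ _ (fibreIdeal_eq f x hV hU e hx) _ hreg
  obtain ⟨g, hg, hcore⟩ := core_list H Γ(S, V) Γ(X, U) (hU.primeIdealOf ⟨x, hx⟩).asIdeal
    (X.presheaf.stalk x) hs' hmem hreg'
  have hle : X.basicOpen g ≤ U := X.basicOpen_le g
  have hU' : IsAffineOpen (X.basicOpen g) := hU.basicOpen g
  have hx' : x ∈ X.basicOpen g := by
    rw [X.mem_basicOpen g x hx]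
    exact (IsLocalization.AtPrime.isUnit_to_map_iff (X.presheaf.stalk x)
      (hU.primeIdealOf ⟨x, hx⟩).asIdeal g).mpr hg
  have e' : X.basicOpen g ≤ f ⁻¹ᵁ V := hle.trans e
  letI algABg : Algebra Γ(S, V) Γ(X, X.basicOpen g) := (f.appLE V (X.basicOpen g) e').hom.toAlgebra
  haveI : IsScalarTower Γ(S, V) Γ(X, U) Γ(X, X.basicOpen g) :=
    IsScalarTower.of_algebraMap_eq (fun a => by
      change (f.appLE V (X.basicOpen g) e').hom a =
        (X.presheaf.map (homOfLE hle).op).hom ((f.appLE V U e).hom a)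
      rw [← Scheme.Hom.appLE_map f e (homOfLE hle).op]
      rfl)
  haveI := hU.isLocalization_basicOpen g
  exact ⟨X.basicOpen g, hU', hle, hx', hcore Γ(X, X.basicOpen g)⟩


theorem mem_maximalIdeal_of_isRegular {R : Type*} [CommRing R] [IsLocalRing R] (I : Ideal R)
    (hs : List R) (hreg : IsRegular (R ⧸ I) (hs.map (Ideal.Quotient.mk I))) :
    ∀ h ∈ hs, h ∈ IsLocalRing.maximalIdeal R := by
  intro h hh
  by_contra hnm
  have hu : IsUnit h := by
    rwa [IsLocalRing.mem_maximalIdeal, mem_nonunits_iff, not_not] at hnm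
  apply hreg.top_ne_smul
  have : Ideal.ofList (hs.map (Ideal.Quotient.mk I)) = ⊤ :=
    Ideal.eq_top_of_isUnit_mem _ (Ideal.subset_span (List.mem_map_of_mem hh)) (hu.map _)
  rw [this, Submodule.top_smul]

/-- **Iterated slicing**, scheme level (modulo S4848). -/
theorem slice_list (H : Hyp4848.{u}) [LocallyOfFinitePresentation f]
    (hflat : (f.stalkMap x).hom.Flat) (hs : List (X.presheaf.stalk x))
    (hreg : IsRegular (X.presheaf.stalk x ⧸ Ideal.map (f.stalkMap x).hom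
        (IsLocalRing.maximalIdeal (S.presheaf.stalk (f x))))
      (hs.map (Ideal.Quotient.mk (Ideal.map (f.stalkMap x).hom
        (IsLocalRing.maximalIdeal (S.presheaf.stalk (f x))))))) :
    ∃ (V : S.Opens) (hV : IsAffineOpen V) (U : X.Opens) (hU : IsAffineOpen U)
      (e : U ≤ f ⁻¹ᵁ V) (hx : x ∈ U) (hs' : List Γ(X, U)),
      hs'.map (X.presheaf.germ U x hx) = hs ∧
      (∀ h ∈ hs', h ∈ (hU.primeIdealOf ⟨x, hx⟩).asIdeal) ∧
      letI := (f.appLE V U e).hom.toAlgebra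
      Good Γ(S, V) Γ(X, U) hs' := by
  obtain ⟨V, hV, hfxV, -⟩ := Opens.isBasis_iff_nbhd.mp S.isBasis_affineOpens
    (show f x ∈ (⊤ : S.Opens) from trivial)
  obtain ⟨W, hxW, s, hs_eq⟩ := exists_list_germ_eq x hs
  obtain ⟨U₀, hU₀, hxU₀, hU₀le⟩ := Opens.isBasis_iff_nbhd.mp X.isBasis_affineOpens
    (show x ∈ W ⊓ f ⁻¹ᵁ V from ⟨hxW, hfxV⟩)
  have hU₀W : U₀ ≤ W := hU₀le.trans inf_le_left
  have e₀ : U₀ ≤ f ⁻¹ᵁ V := hU₀le.trans inf_le_right
  -- shrink to the flat locus
  letI algAB : Algebra Γ(S, V) Γ(X, U₀) := (f.appLE V U₀ e₀).hom.toAlgebra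
  have hfpU : (f.appLE V U₀ e₀).hom.FinitePresentation :=
    HasRingHomProperty.appLE (P := @LocallyOfFinitePresentation) f inferInstance ⟨V, hV⟩
      ⟨U₀, hU₀⟩ e₀
  haveI : Algebra.FinitePresentation Γ(S, V) Γ(X, U₀) := hfpU
  letI := TopCat.Presheaf.algebra_section_stalk X.presheaf ⟨x, hxU₀⟩
  haveI := hU₀.isLocalization_stalk ⟨x, hxU₀⟩
  letI algAq : Algebra Γ(S, V) (X.presheaf.stalk x) :=
    ((X.presheaf.germ U₀ x hxU₀).hom.comp (f.appLE V U₀ e₀).hom).toAlgebra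
  haveI : IsScalarTower Γ(S, V) Γ(X, U₀) (X.presheaf.stalk x) :=
    IsScalarTower.of_algebraMap_eq (fun _ => rfl)
  have hflat' : Module.Flat Γ(S, V) (X.presheaf.stalk x) :=
    flat_stalk_of_flat_stalkMap f x hV e₀ hxU₀ hflat
  obtain ⟨g₁, hg₁, hshrink⟩ := exists_away_flat Γ(S, V) Γ(X, U₀)
    (hU₀.primeIdealOf ⟨x, hxU₀⟩).asIdeal (X.presheaf.stalk x) hflat'
  have hle : X.basicOpen g₁ ≤ U₀ := X.basicOpen_le g₁
  have hU₁ : IsAffineOpen (X.basicOpen g₁) := hU₀.basicOpen g₁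
  have hx₁ : x ∈ X.basicOpen g₁ := by
    rw [X.mem_basicOpen g₁ x hxU₀]
    exact (IsLocalization.AtPrime.isUnit_to_map_iff (X.presheaf.stalk x)
      (hU₀.primeIdealOf ⟨x, hxU₀⟩).asIdeal g₁).mpr hg₁
  have e₁ : X.basicOpen g₁ ≤ f ⁻¹ᵁ V := hle.trans e₀
  letI algABg : Algebra Γ(S, V) Γ(X, X.basicOpen g₁) :=
    (f.appLE V (X.basicOpen g₁) e₁).hom.toAlgebra
  haveI : IsScalarTower Γ(S, V) Γ(X, U₀) Γ(X, X.basicOpen g₁) :=
    IsScalarTower.of_algebraMap_eq (fun a => by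
      change (f.appLE V (X.basicOpen g₁) e₁).hom a =
        (X.presheaf.map (homOfLE hle).op).hom ((f.appLE V U₀ e₀).hom a)
      rw [← Scheme.Hom.appLE_map f e₀ (homOfLE hle).op]
      rfl)
  haveI := hU₀.isLocalization_basicOpen g₁
  have hflatU₁ : (f.appLE V (X.basicOpen g₁) e₁).hom.Flat := hshrink Γ(X, X.basicOpen g₁)
  -- the sections on `U₁`
  have hU₁W : X.basicOpen g₁ ≤ W := hle.trans hU₀W
  obtain ⟨hs₁, hhs₁⟩ : ∃ hs₁ : List Γ(X, X.basicOpen g₁),
      hs₁ = s.map (X.presheaf.map (homOfLE hU₁W).op) := ⟨_, rfl⟩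
  have hgerm₁ : hs₁.map (X.presheaf.germ (X.basicOpen g₁) x hx₁) = hs := by
    rw [hhs₁, List.map_map, ← hs_eq]
    apply List.map_congr_left
    intro b _
    exact TopCat.Presheaf.germ_res_apply X.presheaf (homOfLE hU₁W) x hx₁ b
  have hmax := mem_maximalIdeal_of_isRegular _ hs hreg
  have hmem_of : ∀ (U : X.Opens) (hU : IsAffineOpen U) (hx : x ∈ U) (l : List Γ(X, U)),
      l.map (X.presheaf.germ U x hx) = hs → ∀ h ∈ l, h ∈ (hU.primeIdealOf ⟨x, hx⟩).asIdeal := by
    intro U hU hx l hl h hh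
    letI := TopCat.Presheaf.algebra_section_stalk X.presheaf ⟨x, hx⟩
    haveI := hU.isLocalization_stalk ⟨x, hx⟩
    rw [← IsLocalization.AtPrime.to_map_mem_maximal_iff (X.presheaf.stalk x)
      (hU.primeIdealOf ⟨x, hx⟩).asIdeal]
    apply hmax
    rw [← hl]
    exact List.mem_map_of_mem hh
  have hreg₁ := hreg.toIsWeaklyRegular
  rw [← hgerm₁] at hreg₁
  obtain ⟨U', hU', hle', hx', hgood⟩ := slice_list_of_flat_chart f x H hV hU₁ e₁ hx₁ hflatU₁ hs₁
    (hmem_of _ hU₁ hx₁ hs₁ hgerm₁) hreg₁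
  have hgerm' : (hs₁.map (X.presheaf.map (homOfLE hle').op)).map (X.presheaf.germ U' x hx') =
      hs := by
    rw [List.map_map, ← hgerm₁]
    apply List.map_congr_left
    intro b _
    exact TopCat.Presheaf.germ_res_apply X.presheaf (homOfLE hle') x hx' b
  exact ⟨V, hV, U', hU', hle'.trans e₁, hx', _, hgerm', hmem_of _ hU' hx' _ hgerm', hgood⟩

end Groth.Agent.H49.SliceListScheme
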