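import Groth.Agent.H49.SliceGrpdPull
import Groth.Agent.H49.SliceListScheme
import Groth.Agent.H46.CIField
import Groth.Agent.H17.Chev.FibreLocal
import Groth.Prelude.Def_Grpd
import Groth.Agent.H47.CMSlice.Scheme

/-!
# Slicing a flat morphism by the pullback of a list of functions on the base (helper49)

`s t : R ⟶ U`, `s` flat and locally of finite presentation, `r : R`, `W ⊆ U` and `V ⊆ R` affine
opens with `V ≤ s⁻¹W ⊓ t⁻¹W`, `l` a list of sections over `W` whose pullbacks along `t` form a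
regular sequence on the (Cohen–Macaulay) local ring at `r` of the fibre of `s`.  Then the base
change `P = Spec (Γ(U,W)/(l)) ×_{U,t} R → R → U` is Cohen–Macaulay at a point over `r`, with fibre
dimension dropping by the length of `l`.
-/

set_option autoImplicit false
set_option linter.style.haveILetI false
set_option maxHeartbeats 400000

universe u

open CategoryTheory CategoryTheory.Limits AlgebraicGeometry Topology IsLocalRing
  RingTheory.Sequence

namespace Groth.Agent.H49.SliceGrpdPoint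

open Groth.Agent.H49.FibreStalk Groth.Agent.H49.SliceGrpdStalk Groth.Agent.H49.SliceGrpdPull
  Groth.Agent.H49.FlatApprox Groth.Agent.H49.SliceGood

variable {U R : Scheme.{u}} (s t : R ⟶ U)

/-- auxiliary: the statement at the point `ι' p₀`. -/
theorem slice_aux [Flat s] [LocallyOfFinitePresentation s]
    {W : U.Opens} (hW : IsAffineOpen W) {V : R.Opens} (hV : IsAffineOpen V)
    (es : V ≤ s ⁻¹ᵁ W) (et : V ≤ t ⁻¹ᵁ W) (l : List Γ(U, W))
    {V' : R.Opens} (hV' : IsAffineOpen V') (hle : V' ≤ V)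
    (p₀ : Spec (CommRingCat.of (Γ(R, V') ⧸ extIdeal t (Ideal.ofList l) (hle.trans et))))
    (hr : sliceι hV' (extIdeal t (Ideal.ofList l) (hle.trans et)) p₀ ∈ V)
    (hr' : sliceι hV' (extIdeal t (Ideal.ofList l) (hle.trans et)) p₀ ∈ V')
    (hgood : letI := (s.appLE W V' (hle.trans es)).hom.toAlgebra
      Good Γ(U, W) Γ(R, V') ((l.map (t.appLE W V et)).map (R.presheaf.map (homOfLE hle).op)))
    (hCM : LocCoh.IsCohenMacaulayLocalRing
      (R.presheaf.stalk (sliceι hV' (extIdeal t (Ideal.ofList l) (hle.trans et)) p₀) ⧸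
        fibreIdeal s (sliceι hV' (extIdeal t (Ideal.ofList l) (hle.trans et)) p₀)))
    (hreg : IsWeaklyRegular
      (R.presheaf.stalk (sliceι hV' (extIdeal t (Ideal.ofList l) (hle.trans et)) p₀) ⧸
        fibreIdeal s (sliceι hV' (extIdeal t (Ideal.ofList l) (hle.trans et)) p₀))
      (((l.map (t.appLE W V et)).map (R.presheaf.germ V _ hr)).map
        (Ideal.Quotient.mk
          (fibreIdeal s (sliceι hV' (extIdeal t (Ideal.ofList l) (hle.trans et)) p₀)))))
    (hmemB : ∀ b ∈ l.map (t.appLE W V et), b ∈ (hV.primeIdealOf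
      ⟨sliceι hV' (extIdeal t (Ideal.ofList l) (hle.trans et)) p₀, hr⟩).asIdeal)
    (h0 : Dual3.resTrdeg s (sliceι hV' (extIdeal t (Ideal.ofList l) (hle.trans et)) p₀) = 0)
    (hext : extIdeal t (Ideal.ofList l) (hle.trans et) =
      Ideal.ofList ((l.map (t.appLE W V et)).map (R.presheaf.map (homOfLE hle).op))) :
    ∃ p : ↑(pullback (sliceι hW (Ideal.ofList l)) t),
      pullback.snd (sliceι hW (Ideal.ofList l)) t p =
        sliceι hV' (extIdeal t (Ideal.ofList l) (hle.trans et)) p₀ ∧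
      Grpd.IsCMAt (pullback.snd (sliceι hW (Ideal.ofList l)) t ≫ s) p ∧
      FlatMor.fibreDimAt (pullback.snd (sliceι hW (Ideal.ofList l)) t ≫ s) p +
          (l.length : WithBot ℕ∞) =
        ringKrullDim
          (R.presheaf.stalk (sliceι hV' (extIdeal t (Ideal.ofList l) (hle.trans et)) p₀) ⧸
            fibreIdeal s (sliceι hV' (extIdeal t (Ideal.ofList l) (hle.trans et)) p₀)) := by
  have hjsnd : toPullback t hW (Ideal.ofList l) hV' (hle.trans et) ≫
      pullback.snd (sliceι hW (Ideal.ofList l)) t =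
      sliceι hV' (extIdeal t (Ideal.ofList l) (hle.trans et)) := pullback.lift_snd _ _ _
  have hfac : toPullback t hW (Ideal.ofList l) hV' (hle.trans et) ≫
      pullback.snd (sliceι hW (Ideal.ofList l)) t ≫ s =
      sliceι hV' (extIdeal t (Ideal.ofList l) (hle.trans et)) ≫ s := by
    rw [← Category.assoc, hjsnd]
  -- flatness of the slice
  have hflat : Flat (sliceι hV' (extIdeal t (Ideal.ofList l) (hle.trans et)) ≫ s) := by
    have hfac2 : sliceι hV' (extIdeal t (Ideal.ofList l) (hle.trans et)) ≫ s =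
        Spec.map (s.appLE W V' (hle.trans es) ≫
          CommRingCat.ofHom (Ideal.Quotient.mk (extIdeal t (Ideal.ofList l) (hle.trans et)))) ≫
            hW.fromSpec := by
      rw [Category.assoc, ← IsAffineOpen.SpecMap_appLE_fromSpec s hW hV' (hle.trans es),
        ← Category.assoc, ← Spec.map_comp]
    rw [hfac2]
    haveI : Flat (Spec.map (s.appLE W V' (hle.trans es) ≫
        CommRingCat.ofHom (Ideal.Quotient.mk (extIdeal t (Ideal.ofList l) (hle.trans et))))) := by
      rw [HasRingHomProperty.Spec_iff (P := @Flat)]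
      refine Groth.Agent.H49.SliceScheme.flat_comp_quotient_mk _ _ ?_
      letI := (s.appLE W V' (hle.trans es)).hom.toAlgebra
      rw [hext]
      exact hgood.flat_quotient
    infer_instance
  set ι' := sliceι hV' (extIdeal t (Ideal.ofList l) (hle.trans et)) with hι'
  set j := toPullback t hW (Ideal.ofList l) hV' (hle.trans et) with hj
  haveI : IsLocalRing (R.presheaf.stalk (ι' p₀) ⧸ fibreIdeal s (ι' p₀)) := hCM.toIsLocalRing
  haveI : IsNoetherianRing (R.presheaf.stalk (ι' p₀) ⧸ fibreIdeal s (ι' p₀)) := hCM.toIsNoetherian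
  -- stalk
  obtain ⟨hsurj, hker⟩ := sliceι_stalkMap hV' (extIdeal t (Ideal.ofList l) (hle.trans et)) p₀
  obtain ⟨ε⟩ := nonempty_fibreRing_equiv ι' s p₀ hsurj _ hker
  -- the list in the fibre ring
  set xs := ((l.map (t.appLE W V et)).map (R.presheaf.germ V _ hr)).map
    (Ideal.Quotient.mk (fibreIdeal s (ι' p₀))) with hxs
  have hK : ((extIdeal t (Ideal.ofList l) (hle.trans et)).map
      (R.presheaf.germ V' (ι' p₀) (sliceι_mem hV' _ p₀)).hom).map
      (Ideal.Quotient.mk (fibreIdeal s (ι' p₀))) = Ideal.ofList xs := by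
    have h1 := congrArg (Ideal.map (R.presheaf.germ V' (ι' p₀) (sliceι_mem hV' _ p₀)).hom) hext
    rw [h1, Ideal.map_ofList, Ideal.map_ofList, hxs]
    congr 1
    simp only [List.map_map]
    apply List.map_congr_left
    intro a _
    simp only [Function.comp]
    congr 1
    exact TopCat.Presheaf.germ_res_apply R.presheaf (homOfLE hle) (ι' p₀) hr' _
  have hxs_mem : ∀ x ∈ xs, x ∈ maximalIdeal (R.presheaf.stalk (ι' p₀) ⧸ fibreIdeal s (ι' p₀)) := by
    intro x hx
    obtain ⟨y, hy, rfl⟩ := List.mem_map.mp hx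
    obtain ⟨b, hb, rfl⟩ := List.mem_map.mp hy
    have hbm : (R.presheaf.germ V _ hr).hom b ∈ maximalIdeal (R.presheaf.stalk (ι' p₀)) := by
      letI := TopCat.Presheaf.algebra_section_stalk R.presheaf ⟨ι' p₀, hr⟩
      haveI := hV.isLocalization_stalk ⟨ι' p₀, hr⟩
      exact (IsLocalization.AtPrime.to_map_mem_maximal_iff _
        (hV.primeIdealOf ⟨ι' p₀, hr⟩).asIdeal b).mpr (hmemB b hb)
    rw [IsLocalRing.mem_maximalIdeal, mem_nonunits_iff]
    intro hu
    haveI : IsLocalHom (Ideal.Quotient.mk (fibreIdeal s (ι' p₀))) :=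
      IsLocalHom.of_surjective _ Ideal.Quotient.mk_surjective
    exact hbm ((isUnit_map_iff (Ideal.Quotient.mk (fibreIdeal s (ι' p₀))) _).mp hu)
  have hCMq : LocCoh.IsCohenMacaulayLocalRing
      ((R.presheaf.stalk (ι' p₀) ⧸ fibreIdeal s (ι' p₀)) ⧸ Ideal.ofList xs) :=
    Groth.Agent.H46.CIField.isCM_quotient_ofList _ hCM xs hxs_mem hreg
  have e2 := Ideal.quotEquivOfEq hK
  have hcm1 : Grpd.IsCMAt (ι' ≫ s) p₀ :=
    ⟨Flat.stalkMap (ι' ≫ s) p₀,
      Groth.Agent.H49.isCohenMacaulayLocalRing_of_ringEquiv (ε.trans e2).symm hCMq⟩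
  have hcm2 : Grpd.IsCMAt (pullback.snd (sliceι hW (Ideal.ofList l)) t ≫ s) (j p₀) :=
    (isCMAt_comp_isOpenImmersion_left j (pullback.snd (sliceι hW (Ideal.ofList l)) t ≫ s) p₀).mp
      (by rw [hfac]; exact hcm1)
  have h0' : Dual3.resTrdeg (ι' ≫ s) p₀ = 0 := by
    rw [Groth.Agent.H51.resTrdeg_comp ι' s p₀, h0,
      Groth.Agent.H51.resTrdeg_eq_zero_of_lqf ι' p₀, add_zero]
  have hd1 := fibreDimAt_eq_of_resTrdeg_eq_zero (ι' ≫ s) p₀ h0'
  have hd2 : FlatMor.fibreDimAt (pullback.snd (sliceι hW (Ideal.ofList l)) t ≫ s) (j p₀) =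
      FlatMor.fibreDimAt (ι' ≫ s) p₀ :=
    (Groth.Agent.H17.Chev.fibreDimAt_eq_of_isOpenImmersion
      (pullback.snd (sliceι hW (Ideal.ofList l)) t ≫ s) (ι' ≫ s) j (𝟙 U)
      Function.injective_id (by rw [Category.comp_id, hfac]) p₀).symm
  have hd3 := ringKrullDim_eq_of_ringEquiv (ε.trans e2)
  have hreg' : IsRegular (R.presheaf.stalk (ι' p₀) ⧸ fibreIdeal s (ι' p₀)) xs := by
    refine ⟨hreg, ?_⟩
    intro htop
    have hle' : Ideal.ofList xs ≤
        maximalIdeal (R.presheaf.stalk (ι' p₀) ⧸ fibreIdeal s (ι' p₀)) :=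
      Ideal.span_le.mpr hxs_mem
    have h1 : Ideal.ofList xs • (⊤ : Submodule _ (R.presheaf.stalk (ι' p₀) ⧸ fibreIdeal s (ι' p₀))) =
        Ideal.ofList xs := by rw [smul_eq_mul, Ideal.mul_top]
    rw [h1] at htop
    have h2 : (⊤ : Ideal (R.presheaf.stalk (ι' p₀) ⧸ fibreIdeal s (ι' p₀))) ≤
        maximalIdeal (R.presheaf.stalk (ι' p₀) ⧸ fibreIdeal s (ι' p₀)) := htop.le.trans hle'
    exact (maximalIdeal.isMaximal _).ne_top (top_le_iff.mp h2)
  have hd4 := ringKrullDim_add_length_eq_ringKrullDim_of_isRegular xs hreg'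
  have hlen : xs.length = l.length := by simp [hxs]
  refine ⟨j p₀, ?_, hcm2, ?_⟩
  · rw [← Scheme.Hom.comp_apply, hjsnd]
  · rw [hd2, hd1, hd3, ← hlen]
    exact hd4

theorem slice_at_point (H : Hyp4848.{u}) [Flat s] [LocallyOfFinitePresentation s]
    {W : U.Opens} (hW : IsAffineOpen W) {V : R.Opens} (hV : IsAffineOpen V)
    (es : V ≤ s ⁻¹ᵁ W) (et : V ≤ t ⁻¹ᵁ W) (r : R) (hr : r ∈ V) (l : List Γ(U, W))
    (hmem : ∀ a ∈ l, (t.appLE W V et).hom a ∈ (hV.primeIdealOf ⟨r, hr⟩).asIdeal)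
    (hCM : LocCoh.IsCohenMacaulayLocalRing (R.presheaf.stalk r ⧸ fibreIdeal s r))
    (hreg : IsWeaklyRegular (R.presheaf.stalk r ⧸ fibreIdeal s r)
      (((l.map (t.appLE W V et)).map (R.presheaf.germ V r hr)).map
        (Ideal.Quotient.mk (fibreIdeal s r))))
    (h0 : Dual3.resTrdeg s r = 0) :
    ∃ p : ↑(pullback (sliceι hW (Ideal.ofList l)) t),
      pullback.snd (sliceι hW (Ideal.ofList l)) t p = r ∧
      Grpd.IsCMAt (pullback.snd (sliceι hW (Ideal.ofList l)) t ≫ s) p ∧
      FlatMor.fibreDimAt (pullback.snd (sliceι hW (Ideal.ofList l)) t ≫ s) p +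
          (l.length : WithBot ℕ∞) =
        ringKrullDim (R.presheaf.stalk r ⧸ fibreIdeal s r) := by
  classical
  set lB : List Γ(R, V) := l.map (t.appLE W V et) with hlB
  have hflatV : (s.appLE W V es).hom.Flat :=
    HasRingHomProperty.appLE (P := @Flat) s inferInstance ⟨W, hW⟩ ⟨V, hV⟩ es
  have hmemB : ∀ b ∈ lB, b ∈ (hV.primeIdealOf ⟨r, hr⟩).asIdeal := by
    intro b hb
    obtain ⟨a, ha, rfl⟩ := List.mem_map.mp hb
    exact hmem a ha
  obtain ⟨V', hV', hle, hr', hgood⟩ :=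
    Groth.Agent.H49.SliceListScheme.slice_list_of_flat_chart s r H hW hV es hr hflatV lB hmemB hreg
  have et' : V' ≤ t ⁻¹ᵁ W := hle.trans et
  have es' : V' ≤ s ⁻¹ᵁ W := hle.trans es
  have hlist : l.map (t.appLE W V' et') = lB.map (R.presheaf.map (homOfLE hle).op) := by
    rw [hlB, List.map_map]
    apply List.map_congr_left
    intro a _
    change (t.appLE W V' et').hom a = (R.presheaf.map (homOfLE hle).op).hom ((t.appLE W V et).hom a)
    rw [← Scheme.Hom.appLE_map t et (homOfLE hle).op]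
    rfl
  have hext : extIdeal t (Ideal.ofList l) et' =
      Ideal.ofList (lB.map (R.presheaf.map (homOfLE hle).op)) := by
    rw [extIdeal, Ideal.map_ofList, ← hlist]
  -- the prime of `r` contains the extended ideal
  have hmemB' : ∀ b ∈ lB.map (R.presheaf.map (homOfLE hle).op),
      b ∈ (hV'.primeIdealOf ⟨r, hr'⟩).asIdeal := by
    intro b hb
    obtain ⟨b₀, hb₀, rfl⟩ := List.mem_map.mp hb
    have := Groth.Agent.H47.CMSlice.primeIdealOf_comap_res hV hV' hle r hr'
    rw [← this] at hmemB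
    exact hmemB b₀ hb₀
  have hIle : extIdeal t (Ideal.ofList l) et' ≤ (hV'.primeIdealOf ⟨r, hr'⟩).asIdeal := by
    rw [hext, Ideal.ofList, Ideal.span_le]
    intro b hb
    exact hmemB' b hb
  -- the point `p₀`
  obtain ⟨p₀, hp₀⟩ : ∃ p₀ : Spec (CommRingCat.of (Γ(R, V') ⧸ extIdeal t (Ideal.ofList l) et')),
      sliceι hV' (extIdeal t (Ideal.ofList l) et') p₀ = r := by
    have hmemr : hV'.primeIdealOf ⟨r, hr'⟩ ∈ Set.range (PrimeSpectrum.comap
        (Ideal.Quotient.mk (extIdeal t (Ideal.ofList l) et'))) := by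
      rw [range_comap_of_surjective _ _ Ideal.Quotient.mk_surjective, Ideal.mk_ker]
      exact hIle
    obtain ⟨p₀, hp₀⟩ := hmemr
    refine ⟨p₀, ?_⟩
    change hV'.fromSpec (PrimeSpectrum.comap (Ideal.Quotient.mk _) p₀) = r
    rw [hp₀]
    exact hV'.fromSpec_primeIdealOf ⟨r, hr'⟩
  subst hp₀
  exact slice_aux s t hW hV es et l hV' hle p₀ hr hr' hgood hCM hreg hmemB h0 hext

end Groth.Agent.H49.SliceGrpdPoint
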