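import Groth.Agent.H49.SliceGrpdStalk
import Groth.Agent.H4.ClosedLift

/-!
# Base change of a slice of an affine open (helper49)

Let `t : R ⟶ U`, `W ⊆ U` an affine open, `I` an ideal of `Γ(U, W)` and `V ⊆ R` an affine open with
`V ≤ t⁻¹ W`.  The base change along `t` of the slice `Spec (Γ(U,W)/I) ⟶ U` contains the slice
`Spec (Γ(R,V)/I Γ(R,V))` of `V` as an open subscheme.
-/

set_option autoImplicit false
set_option linter.style.haveILetI false

universe u

open CategoryTheory CategoryTheory.Limits AlgebraicGeometry Topology TensorProduct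

namespace Groth.Agent.H49.SliceGrpdPull

open Groth.Agent.H49.SliceGrpdStalk

/-- post-composing a pullback square with a monomorphism. -/
theorem isPullback_comp_mono {C : Type*} [Category C] {P A B X Y : C} {a : P ⟶ A} {b : P ⟶ B}
    {c : A ⟶ X} {d : B ⟶ X} (h : IsPullback a b c d) (m : X ⟶ Y) [Mono m] :
    IsPullback a b (c ≫ m) (d ≫ m) := by
  have h2 : IsPullback (𝟙 A) c (c ≫ m) m :=
    IsPullback.of_horiz_isIso_mono ⟨by rw [Category.id_comp]⟩
  have := h.paste_horiz h2
  rwa [Category.comp_id] at this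

/-- the affine pullback square for a quotient. -/
theorem isPullback_quotient (C B : Type u) [CommRing C] [CommRing B] [Algebra C B]
    (I : Ideal C) :
    IsPullback
      (Spec.map (CommRingCat.ofHom
        (Ideal.quotientMap (I.map (algebraMap C B)) (algebraMap C B) Ideal.le_comap_map)))
      (Spec.map (CommRingCat.ofHom (Ideal.Quotient.mk (I.map (algebraMap C B)))))
      (Spec.map (CommRingCat.ofHom (Ideal.Quotient.mk I)))
      (Spec.map (CommRingCat.ofHom (algebraMap C B))) := by
  let l : (C ⧸ I) →ₐ[C] (B ⧸ I.map (algebraMap C B)) :=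
    Ideal.quotientMapₐ (I.map (algebraMap C B)) (Algebra.ofId C B) Ideal.le_comap_map
  let e : B ⊗[C] (C ⧸ I) ≃ₐ[B] (B ⧸ I.map (algebraMap C B)) :=
    (Algebra.TensorProduct.quotIdealMapEquivTensorQuot B I).symm
  have he : ∀ r, l r = e (1 ⊗ₜ r) := by
    intro r
    obtain ⟨c, rfl⟩ := Ideal.Quotient.mk_surjective r
    change _ = (Algebra.TensorProduct.quotIdealMapEquivTensorQuot B I).symm
      ((1 : B) ⊗ₜ[C] (Ideal.Quotient.mk I c))
    rw [Algebra.TensorProduct.quotIdealMapEquivTensorQuot_symm_tmul]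
    change Ideal.Quotient.mk _ (algebraMap C B c) = Ideal.Quotient.mk _ (c • (1 : B))
    rw [Algebra.smul_def, mul_one]
  exact Groth.Agent.H4.ClosedLift.isPullback_of_equiv l e he

section L

variable {U R : Scheme.{u}} (t : R ⟶ U) {W : U.Opens} (hW : IsAffineOpen W) (I : Ideal Γ(U, W))
  {V : R.Opens} (hV : IsAffineOpen V) (e : V ≤ t ⁻¹ᵁ W)

/-- the extended ideal. -/
noncomputable abbrev extIdeal : Ideal Γ(R, V) := I.map (t.appLE W V e).hom

/-- the map between the slices. -/
noncomputable abbrev sliceMap :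
    Spec (CommRingCat.of (Γ(R, V) ⧸ extIdeal t I e)) ⟶ Spec (CommRingCat.of (Γ(U, W) ⧸ I)) :=
  Spec.map (CommRingCat.ofHom
    (Ideal.quotientMap (extIdeal t I e) (t.appLE W V e).hom Ideal.le_comap_map))

theorem sliceMap_comm :
    sliceMap t I e ≫ sliceι hW I = sliceι hV (extIdeal t I e) ≫ t := by
  have h1 := IsAffineOpen.SpecMap_appLE_fromSpec t hW hV e
  unfold sliceMap sliceι
  rw [Category.assoc, ← h1, ← Category.assoc, ← Category.assoc, ← Spec.map_comp, ← Spec.map_comp]
  rfl

/-- the map from the slice of `V` to the base change of the slice of `W`. -/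
noncomputable abbrev toPullback :
    Spec (CommRingCat.of (Γ(R, V) ⧸ extIdeal t I e)) ⟶ pullback (sliceι hW I) t :=
  pullback.lift (sliceMap t I e) (sliceι hV (extIdeal t I e)) (sliceMap_comm t hW I hV e)

theorem isPullback_toPullback :
    IsPullback (toPullback t hW I hV e)
      (Spec.map (CommRingCat.ofHom (Ideal.Quotient.mk (extIdeal t I e))))
      (pullback.snd (sliceι hW I) t) hV.fromSpec := by
  letI : Algebra Γ(U, W) Γ(R, V) := (t.appLE W V e).hom.toAlgebra
  have h1 := isPullback_quotient Γ(U, W) Γ(R, V) I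
  have h2 := isPullback_comp_mono h1 hW.fromSpec
  have h3 : Spec.map (CommRingCat.ofHom (algebraMap Γ(U, W) Γ(R, V))) ≫ hW.fromSpec =
      hV.fromSpec ≫ t := IsAffineOpen.SpecMap_appLE_fromSpec t hW hV e
  rw [h3] at h2
  have h4 : toPullback t hW I hV e ≫ pullback.fst (sliceι hW I) t = sliceMap t I e :=
    pullback.lift_fst _ _ _
  refine IsPullback.of_right (h₁₂ := pullback.fst (sliceι hW I) t) (v₁₃ := sliceι hW I)
    (h₂₂ := t) ?_ ?_ (IsPullback.of_hasPullback (sliceι hW I) t)
  · rw [h4]
    exact h2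
  · exact pullback.lift_snd _ _ _

instance : IsOpenImmersion (toPullback t hW I hV e) :=
  MorphismProperty.of_isPullback (P := @IsOpenImmersion)
    (isPullback_toPullback t hW I hV e).flip inferInstance

/-- points of the base change lying over `V` come from the slice of `V`. -/
theorem exists_toPullback_eq (p : ↑(pullback (sliceι hW I) t))
    (hp : pullback.snd (sliceι hW I) t p ∈ V) :
    ∃ p₀, toPullback t hW I hV e p₀ = p := by
  have hsq := isPullback_toPullback t hW I hV e
  have hr : pullback.snd (sliceι hW I) t p ∈ Set.range hV.fromSpec := by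
    rw [hV.range_fromSpec]; exact hp
  obtain ⟨y, hy⟩ := hr
  obtain ⟨z, hz1, hz2⟩ := Scheme.Pullback.exists_preimage_pullback
    (f := pullback.snd (sliceι hW I) t) (g := hV.fromSpec) p y hy.symm
  refine ⟨hsq.isoPullback.inv z, ?_⟩
  rw [← Scheme.Hom.comp_apply, IsPullback.isoPullback_inv_fst]
  exact hz1

end L

end Groth.Agent.H49.SliceGrpdPull
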