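import Groth.Agent.H49.SliceGrpdMax
import Groth.Agent.H53.QfLocus

/-!
# Quasi-finite slices of a groupoid scheme with quasi-finite stabilizer (helper49)

Stacks 0464: if the stabilizer `G → U` is locally quasi-finite, then at every finite type point
`u` there is a slice `g : U' → U` such that `h = s ∘ pr₁` and the source and target maps of the
restricted groupoid are flat, locally of finite presentation and locally quasi-finite.
-/

set_option autoImplicit false
set_option linter.style.haveILetI false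
set_option maxHeartbeats 400000

universe u

open CategoryTheory CategoryTheory.Limits AlgebraicGeometry Topology IsLocalRing

namespace Groth.Agent.H49.SliceGrpdQF

open Groth.Agent.H49.FibreStalk Groth.Agent.H49.SliceGrpdStalk Groth.Agent.H49.SliceGrpdMain
  Groth.Agent.H49.SliceGrpdTrans Groth.Agent.H49.SliceGrpdRestrict Groth.Agent.H49.SliceGrpdMax Grpd

variable {S : Scheme.{u}} (G : Grpd.GroupoidScheme S)

/-- **Stacks 0464.** -/
theorem exists_qf_slice [LocallyOfFinitePresentation G.s] [LocallyOfFinitePresentation G.t]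
    (hs : ∀ r : G.R, Grpd.IsCMAt G.s r) (ht : ∀ r : G.R, Grpd.IsCMAt G.t r)
    [LocallyOfFiniteType G.stabilizerToU] [LocallyQuasiFinite G.stabilizerToU] (u : G.U)
    (hu : LocallyOfFiniteType (G.U.fromSpecResidueField u)) :
    ∃ (U' : Scheme.{u}) (_ : IsAffine U') (g : U' ⟶ G.U) (u' : U'),
      IsImmersion g ∧ LocallyOfFinitePresentation g ∧ g u' = u ∧
      (Flat (pullback.snd g G.t ≫ G.s) ∧ LocallyOfFinitePresentation (pullback.snd g G.t ≫ G.s) ∧
        LocallyOfFiniteType (pullback.snd g G.t ≫ G.s) ∧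
        LocallyQuasiFinite (pullback.snd g G.t ≫ G.s)) ∧
      (Flat (pullback.snd (pullback.snd g G.t ≫ G.s) g) ∧
        LocallyOfFinitePresentation (pullback.snd (pullback.snd g G.t ≫ G.s) g) ∧
        LocallyQuasiFinite (pullback.snd (pullback.snd g G.t ≫ G.s) g)) ∧
      (Flat (pullback.fst (pullback.snd g G.t ≫ G.s) g ≫ pullback.fst g G.t) ∧
        LocallyOfFinitePresentation
          (pullback.fst (pullback.snd g G.t ≫ G.s) g ≫ pullback.fst g G.t) ∧
        LocallyQuasiFinite (pullback.fst (pullback.snd g G.t ≫ G.s) g ≫ pullback.fst g G.t)) := by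
  haveI : Flat G.s := flat_of_isCMAt G.s hs
  haveI : Flat G.t := flat_of_isCMAt G.t ht
  obtain ⟨W, hW, l, p, huW, hp1, hp2, hp3⟩ := exists_max_slice_point G hs u hu
  haveI : LocallyOfFinitePresentation (sliceι hW (Ideal.ofList l)) := lfp_sliceι hW l
  have hopen := Groth.Agent.H49.CMLocusOpen.isOpen_setOf_isCMAt (hh G (sliceι hW (Ideal.ofList l)))
  -- the fibre dimension at `p` is zero
  have hdim0 : topologicalKrullDim ↥(G.stabilizerToU.fiber u) ≤ 0 :=
    topologicalKrullDim_zero_of_discreteTopology _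
  have hqfp : (hh G (sliceι hW (Ideal.ofList l))).QuasiFiniteAt p := by
    rw [Groth.Agent.H53.quasiFiniteAt_iff_fibreDimAt_eq_zero]
    exact le_antisymm (hp3.le.trans hdim0) (Groth.Agent.H52.localDim_nonneg _)
  have hσ : MoreMor.IsCMAt (hh G (sliceι hW (Ideal.ofList l)))
      (σ G (sliceι hW (Ideal.ofList l)) (pullback.fst (sliceι hW (Ideal.ofList l)) G.t p)) :=
    (isCMAt_iff_section G (sliceι hW (Ideal.ofList l)) p).mp
      ((Groth.Agent.H49.GrpdCM.grpdIsCMAt_iff _ _).mp hp2)
  have hσq : (hh G (sliceι hW (Ideal.ofList l))).QuasiFiniteAt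
      (σ G (sliceι hW (Ideal.ofList l)) (pullback.fst (sliceι hW (Ideal.ofList l)) G.t p)) := by
    rw [Groth.Agent.H53.quasiFiniteAt_iff_fibreDimAt_eq_zero,
      ← fibreDimAt_eq_section G (sliceι hW (Ideal.ofList l)) p,
      ← Groth.Agent.H53.quasiFiniteAt_iff_fibreDimAt_eq_zero]
    exact hqfp
  let V : (Spec (CommRingCat.of (Γ(G.U, W) ⧸ Ideal.ofList l))).Opens :=
    ⟨(σ G (sliceι hW (Ideal.ofList l))) ⁻¹'
      ({x | MoreMor.IsCMAt (hh G (sliceι hW (Ideal.ofList l))) x} ∩
        ((hh G (sliceι hW (Ideal.ofList l))).quasiFiniteLocus : Set _)),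
      (hopen.inter (hh G (sliceι hW (Ideal.ofList l))).quasiFiniteLocus.isOpen).preimage
        (σ G (sliceι hW (Ideal.ofList l))).continuous⟩
  have hu₀V : pullback.fst (sliceι hW (Ideal.ofList l)) G.t p ∈ V := ⟨hσ, hσq⟩
  obtain ⟨V'', hV'', hu₀V'', hV''V⟩ := exists_isAffineOpen_mem_and_subset hu₀V
  have hmemV : ∀ q : ↑(pullback (V''.ι ≫ sliceι hW (Ideal.ofList l)) G.t),
      pullback.fst (sliceι hW (Ideal.ofList l)) G.t (jj G (sliceι hW (Ideal.ofList l)) V'' q) ∈ V := by
    intro q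
    apply hV''V
    have : pullback.fst (sliceι hW (Ideal.ofList l)) G.t (jj G (sliceι hW (Ideal.ofList l)) V'' q) =
        V''.ι (pullback.fst (V''.ι ≫ sliceι hW (Ideal.ofList l)) G.t q) := by
      rw [← Scheme.Hom.comp_apply, jj_fst]; rfl
    rw [this]
    exact (pullback.fst (V''.ι ≫ sliceι hW (Ideal.ofList l)) G.t q).2
  have hcm : ∀ q, MoreMor.IsCMAt (hh G (V''.ι ≫ sliceι hW (Ideal.ofList l))) q := by
    intro q
    rw [isCMAt_hh_shrink, isCMAt_iff_section]
    exact (hmemV q).1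
  have hqf : ∀ q, (hh G (V''.ι ≫ sliceι hW (Ideal.ofList l))).QuasiFiniteAt q := by
    intro q
    rw [Groth.Agent.H53.quasiFiniteAt_iff_fibreDimAt_eq_zero, fibreDimAt_hh_shrink,
      fibreDimAt_eq_section, ← Groth.Agent.H53.quasiFiniteAt_iff_fibreDimAt_eq_zero]
    exact (hmemV q).2
  haveI hflat : Flat (hh G (V''.ι ≫ sliceι hW (Ideal.ofList l))) := by
    rw [Flat.iff_flat_stalkMap]
    intro q
    exact (hcm q).1
  haveI hlqf : LocallyQuasiFinite (hh G (V''.ι ≫ sliceι hW (Ideal.ofList l))) := by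
    rw [← Scheme.Hom.quasiFiniteLocus_eq_top_iff, eq_top_iff]
    intro q _
    exact hqf q
  have ht' : pullback.fst (hh G (V''.ι ≫ sliceι hW (Ideal.ofList l)))
        (V''.ι ≫ sliceι hW (Ideal.ofList l)) ≫
      pullback.fst (V''.ι ≫ sliceι hW (Ideal.ofList l)) G.t =
      inv' G (V''.ι ≫ sliceι hW (Ideal.ofList l)) ≫
        pullback.snd (hh G (V''.ι ≫ sliceι hW (Ideal.ofList l)))
          (V''.ι ≫ sliceι hW (Ideal.ofList l)) := (inv'_snd G _).symm
  refine ⟨V''.toScheme, hV'', V''.ι ≫ sliceι hW (Ideal.ofList l),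
    ⟨pullback.fst (sliceι hW (Ideal.ofList l)) G.t p, hu₀V''⟩, inferInstance, inferInstance,
    ?_, ⟨hflat, inferInstance, inferInstance, hlqf⟩, ⟨inferInstance, inferInstance, inferInstance⟩,
    ?_⟩
  · change sliceι hW (Ideal.ofList l) (pullback.fst (sliceι hW (Ideal.ofList l)) G.t p) = u
    have h1 : sliceι hW (Ideal.ofList l) (pullback.fst (sliceι hW (Ideal.ofList l)) G.t p) =
        G.t (pullback.snd (sliceι hW (Ideal.ofList l)) G.t p) := by
      rw [← Scheme.Hom.comp_apply, ← Scheme.Hom.comp_apply, pullback.condition]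
    rw [h1, hp1, e_t_apply]
  · rw [ht']
    exact ⟨inferInstance, inferInstance, inferInstance⟩

end Groth.Agent.H49.SliceGrpdQF
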