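import Groth.Agent.H49.GrpdCM
import Groth.Agent.H49.FibreDimAtBC
import Groth.Agent.H90.GrpdMaxOpen

/-!
# Translation invariance for `h = s ∘ pr₁ : U' ×_{g,U,t} R → U` (helper49)

Stacks 0460 in pointwise form: for a groupoid `(U, R, s, t, c)` and `g : U' → U`, the local
behaviour of `h = s ∘ pr₁` at a point `x` of `U' ×_{g,U,t} R` only depends on `pr₀ x`; more
precisely `x` and `σ (pr₀ x)` (`σ` the identity section) are linked by two flat base change
squares.
-/

set_option autoImplicit false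
set_option linter.style.haveILetI false

universe u

open CategoryTheory CategoryTheory.Limits AlgebraicGeometry

namespace Groth.Agent.H49.SliceGrpdTrans

open Groth.Agent.H90

variable {S : Scheme.{u}} (G : Grpd.GroupoidScheme S) {U' : Scheme.{u}} (g : U' ⟶ G.U)

/-- the identity section `u' ↦ (u', e (g u'))` of `pr₀ : U' ×_{g,U,t} R → U'`. -/
noncomputable def σ : U' ⟶ pullback g G.t :=
  pullback.lift (𝟙 U') (g ≫ G.e) (by rw [Category.id_comp, Category.assoc, G.e_t, Category.comp_id])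

@[reassoc (attr := simp)]
theorem σ_fst : σ G g ≫ pullback.fst g G.t = 𝟙 U' := pullback.lift_fst _ _ _

@[reassoc (attr := simp)]
theorem σ_snd : σ G g ≫ pullback.snd g G.t = g ≫ G.e := pullback.lift_snd _ _ _

/-- the translation data. -/
theorem exists_translate :
    ∃ (ψ : pullback g G.t ⟶ pullback (pullback.snd g G.t ≫ G.s) G.t)
      (a₁ : pullback (pullback.snd g G.t ≫ G.s) G.t ⟶ pullback g G.t),
      ψ ≫ a₁ = 𝟙 _ ∧
      ψ ≫ pullback.fst (pullback.snd g G.t ≫ G.s) G.t = pullback.fst g G.t ≫ σ G g ∧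
      IsPullback a₁ (pullback.snd (pullback.snd g G.t ≫ G.s) G.t)
        (pullback.snd g G.t ≫ G.s) G.s := by
  obtain ⟨a₁, ha₁fst, ha₁snd, sq⟩ := isPullback_act G g
  have hσfst : σ G g ≫ pullback.fst g G.t = 𝟙 U' := σ_fst G g
  have hσsnd : σ G g ≫ pullback.snd g G.t = g ≫ G.e := σ_snd G g
  obtain ⟨ψ, hψ⟩ : ∃ ψ : pullback g G.t ⟶ pullback (pullback.snd g G.t ≫ G.s) G.t,
      ψ = pullback.lift (pullback.fst g G.t ≫ σ G g) (pullback.snd g G.t)
        (by rw [Category.assoc, ← Category.assoc (σ G g), hσsnd, Category.assoc, G.e_s,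
          Category.comp_id, pullback.condition]) := ⟨_, rfl⟩
  have hψfst : ψ ≫ pullback.fst (pullback.snd g G.t ≫ G.s) G.t = pullback.fst g G.t ≫ σ G g := by
    rw [hψ, pullback.lift_fst]
  have hψsnd : ψ ≫ pullback.snd (pullback.snd g G.t ≫ G.s) G.t = pullback.snd g G.t := by
    rw [hψ, pullback.lift_snd]
  have hψa₁ : ψ ≫ a₁ = 𝟙 _ := by
    apply pullback.hom_ext
    · rw [Category.assoc, ha₁fst, ← Category.assoc, hψfst, Category.assoc, hσfst,
        Category.comp_id, Category.id_comp]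
    · rw [Category.assoc, ha₁snd, comp_gcomp, Category.id_comp]
      have hfirst : ψ ≫ pullback.fst (pullback.snd g G.t ≫ G.s) G.t ≫ pullback.snd g G.t =
          pullback.snd g G.t ≫ G.t ≫ G.e := by
        rw [← Category.assoc, hψfst, Category.assoc, hσsnd, ← Category.assoc, pullback.condition,
          Category.assoc]
      exact (gcomp_congr G hfirst hψsnd _
        (by rw [Category.assoc, Category.assoc, G.e_s, Category.comp_id])).trans
        (e_gcomp G _ _ rfl _)
  exact ⟨ψ, a₁, hψa₁, hψfst, sq⟩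

/-- **Translation invariance of the Cohen–Macaulay locus of `h`.** -/
theorem isCMAt_iff_section [LocallyOfFiniteType (pullback.snd g G.t ≫ G.s)] [Flat G.s] [Flat G.t]
    (x : ↑(pullback g G.t)) :
    MoreMor.IsCMAt (pullback.snd g G.t ≫ G.s) x ↔
      MoreMor.IsCMAt (pullback.snd g G.t ≫ G.s) (σ G g (pullback.fst g G.t x)) := by
  obtain ⟨ψ, a₁, h1, h2, sq⟩ := exists_translate G g
  have e1 := Groth.Agent.H49.GrpdCM.isCMAt_iff_of_isPullback (pullback.snd g G.t ≫ G.s)
    (pullback.snd (pullback.snd g G.t ≫ G.s) G.t) (pullback.fst (pullback.snd g G.t ≫ G.s) G.t)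
    G.t (IsPullback.of_hasPullback _ _) (ψ x)
  have e2 := Groth.Agent.H49.GrpdCM.isCMAt_iff_of_isPullback (pullback.snd g G.t ≫ G.s)
    (pullback.snd (pullback.snd g G.t ≫ G.s) G.t) a₁ G.s sq (ψ x)
  have hx1 : a₁ (ψ x) = x := by
    rw [← Scheme.Hom.comp_apply, h1]; rfl
  have hx2 : pullback.fst (pullback.snd g G.t ≫ G.s) G.t (ψ x) = σ G g (pullback.fst g G.t x) := by
    rw [← Scheme.Hom.comp_apply, h2]; rfl
  rw [hx1] at e2
  rw [hx2] at e1
  exact e2.symm.trans e1

/-- **Translation invariance of the fibre dimension of `h`.** -/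
theorem fibreDimAt_eq_section [LocallyOfFiniteType (pullback.snd g G.t ≫ G.s)]
    (x : ↑(pullback g G.t)) :
    FlatMor.fibreDimAt (pullback.snd g G.t ≫ G.s) x =
      FlatMor.fibreDimAt (pullback.snd g G.t ≫ G.s) (σ G g (pullback.fst g G.t x)) := by
  obtain ⟨ψ, a₁, h1, h2, sq⟩ := exists_translate G g
  have e1 := Groth.Agent.H49.FibreDimAtBC.fibreDimAt_eq_of_isPullback (pullback.snd g G.t ≫ G.s)
    G.t (pullback.snd (pullback.snd g G.t ≫ G.s) G.t)
    (pullback.fst (pullback.snd g G.t ≫ G.s) G.t) (IsPullback.of_hasPullback _ _) (ψ x)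
  have e2 := Groth.Agent.H49.FibreDimAtBC.fibreDimAt_eq_of_isPullback (pullback.snd g G.t ≫ G.s)
    G.s (pullback.snd (pullback.snd g G.t ≫ G.s) G.t) a₁ sq (ψ x)
  have hx1 : a₁ (ψ x) = x := by
    rw [← Scheme.Hom.comp_apply, h1]; rfl
  have hx2 : pullback.fst (pullback.snd g G.t ≫ G.s) G.t (ψ x) = σ G g (pullback.fst g G.t x) := by
    rw [← Scheme.Hom.comp_apply, h2]; rfl
  rw [hx1] at e2
  rw [hx2] at e1
  exact e2.symm.trans e1

end Groth.Agent.H49.SliceGrpdTrans
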