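import Mathlib
import Groth.Prelude.Def_Mor2
import Groth.Agent.H39.RelRegGeom
import Groth.Agent.H49.SliceListScheme

/-!
# Iterated slicing: base change of the regular closed immersion (helper49)

* `isPullback_map`: `pullback.map` along identities of the base is a base change.
* `regularClosedImmersion_of_isPullback_of_good`: a closed immersion into an affine scheme cut out by
  a `Good` sequence stays a regular closed immersion after ANY base change.
* `main`: the statement of S1459 modulo `Hyp4848` (= S4848).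
-/

open CategoryTheory CategoryTheory.Limits AlgebraicGeometry TopologicalSpace RingTheory.Sequence
open TensorProduct
universe u
set_option autoImplicit false
set_option linter.style.haveILetI false

namespace Groth.Agent.H49.SliceListBC
open Groth.Agent.H49.SliceGood Groth.Agent.H49.SliceListScheme
open Groth.Agent.H39.RegImmStalk3 Groth.Agent.H39.RelRegAlg Groth.Agent.H39.RelRegGeom

theorem isPullback_map {Z X₁ S S' : Scheme.{u}} (f₁' : Z ⟶ S) (f₁ : X₁ ⟶ S) (g : S' ⟶ S)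
    (i : Z ⟶ X₁) (h1 : f₁' ≫ 𝟙 S = i ≫ f₁) (h2 : g ≫ 𝟙 S = 𝟙 S' ≫ g) :
    IsPullback (pullback.fst f₁' g) (pullback.map f₁' g f₁ g i (𝟙 S') (𝟙 S) h1 h2) i
      (pullback.fst f₁ g) := by
  obtain rfl : f₁' = i ≫ f₁ := by simpa using h1
  have hs : IsPullback (pullback.map (i ≫ f₁) g f₁ g i (𝟙 S') (𝟙 S) h1 h2 ≫ pullback.snd f₁ g)
      (pullback.fst (i ≫ f₁) g) g (i ≫ f₁) := by
    have : pullback.map (i ≫ f₁) g f₁ g i (𝟙 S') (𝟙 S) h1 h2 ≫ pullback.snd f₁ g =
        pullback.snd (i ≫ f₁) g := by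
      unfold pullback.map
      rw [pullback.lift_snd, Category.comp_id]
    rw [this]
    exact (IsPullback.of_hasPullback (i ≫ f₁) g).flip
  have ht : IsPullback (pullback.snd f₁ g) (pullback.fst f₁ g) g f₁ :=
    (IsPullback.of_hasPullback f₁ g).flip
  have hp : pullback.map (i ≫ f₁) g f₁ g i (𝟙 S') (𝟙 S) h1 h2 ≫ pullback.fst f₁ g =
      pullback.fst (i ≫ f₁) g ≫ i := by
    unfold pullback.map
    rw [pullback.lift_fst]
  exact (IsPullback.of_right hs hp ht).flip


set_option maxHeartbeats 800000 in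
theorem regularClosedImmersion_of_isPullback_of_good {Z X₁ S S' X' Z' : Scheme.{u}}
    {f₁ : X₁ ⟶ S} {i : Z ⟶ X₁} {g : S' ⟶ S} {g' : X' ⟶ X₁} {f' : X' ⟶ S'} {p : Z' ⟶ Z}
    {i' : Z' ⟶ X'} (H₁ : IsPullback p i' i g') (H₂ : IsPullback g' f' f₁ g)
    [IsClosedImmersion i] [IsAffine X₁]
    (V : S.Opens) (hV : IsAffineOpen V) (hXV : (⊤ : X₁.Opens) ≤ f₁ ⁻¹ᵁ V)
    (rs : List Γ(X₁, ⊤)) (hker : RingHom.ker (i.app ⊤).hom = Ideal.ofList rs)
    (hgood : letI := (f₁.appLE V ⊤ hXV).hom.toAlgebra; Good Γ(S, V) Γ(X₁, ⊤) rs) :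
    Mor2.IsRegularClosedImmersion i' := by
  haveI : IsClosedImmersion i' :=
    MorphismProperty.of_isPullback (P := @IsClosedImmersion) H₁ inferInstance
  refine ⟨inferInstance, fun z' => ?_⟩
  have hgf : g (f' (i' z')) ∈ V := by
    have h1 : g (f' (i' z')) = f₁ (g' (i' z')) := by
      generalize i' z' = y
      rw [← Scheme.Hom.comp_apply, ← Scheme.Hom.comp_apply, H₂.w]
    rw [h1]
    exact hXV trivial
  have hs' : f' (i' z') ∈ g ⁻¹ᵁ V := hgf
  obtain ⟨_, ⟨V', hV', rfl⟩, hsV', hV'V⟩ :=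
    S'.isBasis_affineOpens.exists_subset_of_mem_open hs' (g ⁻¹ᵁ V).2
  obtain ⟨U', hU'def⟩ : ∃ U' : X'.Opens, U' = g' ⁻¹ᵁ ⊤ ⊓ f' ⁻¹ᵁ V' := ⟨_, rfl⟩
  have hU' : IsAffineOpen U' := by
    haveI : IsAffine (V : Scheme.{u}) := hV
    haveI : IsAffine (V' : Scheme.{u}) := hV'
    haveI : IsAffine ((⊤ : X₁.Opens) : Scheme.{u}) := isAffineOpen_top X₁
    exact .of_isIso (Scheme.Hom.isPullback_resLE H₂ hV'V hXV hU'def).isoPullback.hom
  have hz'U' : i' z' ∈ U' := by
    rw [hU'def]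
    exact ⟨trivial, hsV'⟩
  have hU'U : U' ≤ g' ⁻¹ᵁ ⊤ := by rw [hU'def]; exact inf_le_left
  haveI : IsClosedImmersion (i ∣_ ⊤) := inferInstance
  haveI hcl' : IsClosedImmersion (i' ∣_ U') := isClosedImmersion_restrict_of_isPullback H₁ hU'U
  have hker' := ker_app_of_isPullback H₁ hU'U (isAffineOpen_top X₁) hU'
  have hkereq : RingHom.ker (i'.app U').hom =
      Ideal.ofList (rs.map (g'.appLE ⊤ U' hU'U).hom) := by
    rw [hker', hker, Ideal.map_ofList]
  refine ⟨U', hU', hz'U', rs.map (g'.appLE ⊤ U' hU'U).hom, ⟨?_, ?_⟩, ?_⟩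
  · -- weak regularity after base change
    have hpo := (isIso_pushoutSection_iff H₂ hV'V hXV hU'def).mp
      (isIso_pushoutSection_of_isAffineOpen H₂ hV'V hXV hU'def hV hV' (isAffineOpen_top X₁))
    letI := (f₁.appLE V ⊤ hXV).hom.toAlgebra
    letI := (g.appLE V V' hV'V).hom.toAlgebra
    obtain ⟨e, he1, -⟩ := exists_tensor_ringEquiv_of_isPushout hpo
    have h1 := hgood.isWeaklyRegular_baseChange Γ(S', V')
    have h2 := (isWeaklyRegular_ringEquiv e _).mp h1
    have hl : (rs.map (Algebra.TensorProduct.includeRight :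
        Γ(X₁, ⊤) →ₐ[Γ(S, V)] Γ(S', V') ⊗[Γ(S, V)] Γ(X₁, ⊤))).map e =
        rs.map (g'.appLE ⊤ U' hU'U).hom := by
      rw [List.map_map]
      apply List.map_congr_left
      intro a _
      exact he1 a
    rw [hl] at h2
    exact h2
  · rw [smul_eq_mul, Ideal.mul_top, ← hkereq]
    intro htop
    haveI : Nontrivial Γ(Z', i' ⁻¹ᵁ U') :=
      @Scheme.component_nontrivial Z' (i' ⁻¹ᵁ U') ⟨⟨z', hz'U'⟩⟩
    have h1 : (1 : Γ(X', U')) ∈ RingHom.ker (i'.app U').hom := by
      rw [← htop]; trivial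
    rw [RingHom.mem_ker, map_one] at h1
    exact one_ne_zero h1
  · rw [Scheme.Hom.ker_apply]
    exact hkereq


open Groth.Agent.H49.FlatApprox Groth.Agent.H49.SliceScheme

theorem fp_comp_quotient_mk_fg {A B : Type u} [CommRing A] [CommRing B] (φ : A →+* B)
    (hφ : φ.FinitePresentation) (I : Ideal B) (hI : I.FG) :
    ((Ideal.Quotient.mk I).comp φ).FinitePresentation := by
  refine RingHom.FinitePresentation.comp ?_ hφ
  refine RingHom.FinitePresentation.of_surjective _ Ideal.Quotient.mk_surjective ?_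
  rw [Ideal.mk_ker]
  exact hI

theorem ofList_fg {R : Type*} [CommRing R] (l : List R) : (Ideal.ofList l).FG := by
  classical
  exact ⟨l.toFinset, by simp [Ideal.ofList]⟩

variable {X S : Scheme.{u}} (f : X ⟶ S) (x : X)

/-- the `Good` property on `Γ(↑U, ⊤)` from that on `Γ(X, U)`. -/
theorem good_top {V : S.Opens} {U : X.Opens} (hU : IsAffineOpen U) (e : U ≤ f ⁻¹ᵁ V)
    (hs' : List Γ(X, U))
    (hgood : letI := (f.appLE V U e).hom.toAlgebra; Good Γ(S, V) Γ(X, U) hs')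
    (hXV : (⊤ : (U : Scheme.{u}).Opens) ≤ (U.ι ≫ f) ⁻¹ᵁ V) :
    letI := ((U.ι ≫ f).appLE V ⊤ hXV).hom.toAlgebra
    Good Γ(S, V) Γ((U : Scheme.{u}), ⊤) (hs'.map (topIsoOfIso hU.isoSpec).hom.hom) := by
  letI := (f.appLE V U e).hom.toAlgebra
  letI := ((U.ι ≫ f).appLE V ⊤ hXV).hom.toAlgebra
  have hψ : (topIsoOfIso hU.isoSpec).hom = U.topIso.inv := by
    simp only [topIsoOfIso, Iso.trans_hom, Iso.symm_hom]
    rw [IsAffineOpen.isoSpec_hom_appTop, Iso.inv_hom_id_assoc]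
  have hcomp : f.appLE V U e ≫ (topIsoOfIso hU.isoSpec).hom = (U.ι ≫ f).appLE V ⊤ hXV := by
    rw [hψ, ← Scheme.Hom.appLE_comp_appLE U.ι f V U ⊤ e (by simp), Scheme.Opens.ι_appLE,
      Scheme.Opens.topIso_inv]
    rfl
  let E : Γ(X, U) ≃ₐ[Γ(S, V)] Γ((U : Scheme.{u}), ⊤) :=
    AlgEquiv.ofRingEquiv (f := (topIsoOfIso hU.isoSpec).commRingCatIsoToRingEquiv) (fun a => by
      exact congr($(hcomp).hom a))
  exact Good.of_algEquiv E hgood


/-- **S1459**, modulo S4848. -/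
theorem main (H : Hyp4848.{u}) [LocallyOfFinitePresentation f]
    (hflat : (f.stalkMap x).hom.Flat) (hs : List ↑(X.presheaf.stalk x))
    (hreg : RingTheory.Sequence.IsRegular (↑(X.presheaf.stalk x) ⧸ Ideal.map (f.stalkMap x).hom
        (IsLocalRing.maximalIdeal ↑(S.presheaf.stalk (f x))))
      (hs.map (Ideal.Quotient.mk (Ideal.map (f.stalkMap x).hom
        (IsLocalRing.maximalIdeal ↑(S.presheaf.stalk (f x))))))) :
    ∃ (U : X.Opens) (hU : IsAffineOpen U) (hx : x ∈ U) (hs' : List Γ(X, U)),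
      hs'.map (X.presheaf.germ U x hx) = hs ∧
      Mor2.IsRegularClosedImmersion (Spec.map (CommRingCat.ofHom
        (Ideal.Quotient.mk (Ideal.ofList hs'))) ≫ hU.isoSpec.inv) ∧
      x ∈ Set.range ⇑(Spec.map (CommRingCat.ofHom (Ideal.Quotient.mk (Ideal.ofList hs'))) ≫
        hU.fromSpec) ∧
      Flat (Spec.map (CommRingCat.ofHom (Ideal.Quotient.mk (Ideal.ofList hs'))) ≫
        hU.fromSpec ≫ f) ∧
      LocallyOfFinitePresentation (Spec.map (CommRingCat.ofHom
        (Ideal.Quotient.mk (Ideal.ofList hs'))) ≫ hU.fromSpec ≫ f) ∧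
      ∀ (S' : Scheme.{u}) (g : S' ⟶ S), Mor2.IsRegularClosedImmersion
        (pullback.map (Spec.map (CommRingCat.ofHom (Ideal.Quotient.mk (Ideal.ofList hs'))) ≫
            hU.isoSpec.inv ≫ U.ι ≫ f) g (U.ι ≫ f) g
          (Spec.map (CommRingCat.ofHom (Ideal.Quotient.mk (Ideal.ofList hs'))) ≫ hU.isoSpec.inv)
          (𝟙 S') (𝟙 S) (Category.comp_id _)
          ((Category.comp_id g).trans (Category.id_comp g).symm)) := by
  obtain ⟨V, hV, U, hU, e, hx, hs', hgerm, hmem, hgood⟩ := slice_list f x H hflat hs hreg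
  letI algAB : Algebra Γ(S, V) Γ(X, U) := (f.appLE V U e).hom.toAlgebra
  have hgood' : Good Γ(S, V) Γ(X, U) hs' := hgood
  have hle : Ideal.ofList hs' ≤ (hU.primeIdealOf ⟨x, hx⟩).asIdeal := Ideal.span_le.mpr hmem
  have hregR : IsRegular Γ(X, U) hs' := by
    refine ⟨hgood'.1, fun htop => ?_⟩
    rw [smul_eq_mul, Ideal.mul_top] at htop
    exact (hU.primeIdealOf ⟨x, hx⟩).isPrime.ne_top (top_le_iff.mp (htop ▸ hle))
  have hfac : hU.fromSpec ≫ f = Spec.map (f.appLE V U e) ≫ hV.fromSpec :=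
    (IsAffineOpen.SpecMap_appLE_fromSpec f hV hU e).symm
  refine ⟨U, hU, hx, hs', hgerm, isRegularClosedImmersion_of_iso hU.isoSpec hs' hregR, ?_, ?_,
    ?_, ?_⟩
  · -- the point
    have h1 : hU.primeIdealOf ⟨x, hx⟩ ∈
        Set.range (PrimeSpectrum.comap (Ideal.Quotient.mk (Ideal.ofList hs'))) := by
      rw [range_comap_of_surjective _ _ Ideal.Quotient.mk_surjective,
        PrimeSpectrum.mem_zeroLocus, Ideal.mk_ker]
      exact hle
    obtain ⟨z, hz⟩ := h1
    let z' : Spec (CommRingCat.of (Γ(X, U) ⧸ Ideal.ofList hs')) := z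
    refine ⟨z', ?_⟩
    rw [Scheme.Hom.comp_apply]
    have h2 : Spec.map (CommRingCat.ofHom (Ideal.Quotient.mk (Ideal.ofList hs'))) z' =
        hU.primeIdealOf ⟨x, hx⟩ := hz
    rw [h2]
    exact hU.fromSpec_primeIdealOf ⟨x, hx⟩
  · rw [hfac, ← Spec.map_comp_assoc]
    haveI : Flat (Spec.map (f.appLE V U e ≫ CommRingCat.ofHom (Ideal.Quotient.mk
        (Ideal.ofList hs')))) := by
      rw [HasRingHomProperty.Spec_iff (P := @Flat)]
      exact flat_comp_quotient_mk _ _ hgood'.flat_quotient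
    infer_instance
  · rw [hfac, ← Spec.map_comp_assoc]
    haveI : LocallyOfFinitePresentation (Spec.map (f.appLE V U e ≫
        CommRingCat.ofHom (Ideal.Quotient.mk (Ideal.ofList hs')))) := by
      rw [HasRingHomProperty.Spec_iff (P := @LocallyOfFinitePresentation)]
      exact fp_comp_quotient_mk_fg _ (HasRingHomProperty.appLE (P := @LocallyOfFinitePresentation) f
        inferInstance ⟨V, hV⟩ ⟨U, hU⟩ e) _ (ofList_fg hs')
    infer_instance
  · intro S' g
    haveI : IsAffine (U : Scheme.{u}) := hU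
    haveI : IsClosedImmersion (Spec.map (CommRingCat.ofHom
        (Ideal.Quotient.mk (Ideal.ofList hs')))) :=
      IsClosedImmersion.spec_of_surjective _ Ideal.Quotient.mk_surjective
    have hXV : (⊤ : (U : Scheme.{u}).Opens) ≤ (U.ι ≫ f) ⁻¹ᵁ V := by
      intro y _
      exact e y.2
    have hker : RingHom.ker ((Spec.map (CommRingCat.ofHom
        (Ideal.Quotient.mk (Ideal.ofList hs'))) ≫ hU.isoSpec.inv).app ⊤).hom =
        Ideal.ofList (hs'.map (topIsoOfIso hU.isoSpec).hom.hom) :=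
      (ker_appTop_comp_iso hU.isoSpec _).trans (Ideal.map_ofList _ _)
    exact regularClosedImmersion_of_isPullback_of_good
      (isPullback_map _ (U.ι ≫ f) g _ _ _) (IsPullback.of_hasPullback (U.ι ≫ f) g) V hV hXV
      _ hker (good_top f hU e hs' hgood hXV)

end Groth.Agent.H49.SliceListBC
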