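import Groth.Agent.H25.FibreSmoothPt
import Mathlib.AlgebraicGeometry.Morphisms.Proper

set_option autoImplicit false
universe u
open CategoryTheory AlgebraicGeometry

namespace Groth.Agent.H49.SmoothFibreOpen

/-- The fibre over `y` is smooth iff all points over `y` are in the smooth locus (flat case). -/
theorem smooth_fiber_iff {X Y : Scheme.{u}} (f : X ⟶ Y) [Flat f] [LocallyOfFinitePresentation f]
    (y : Y) : Smooth (f.fiberToSpecResidueField y) ↔ ∀ x : X, f x = y → x ∈ f.smoothLocus := by
  have hlfp : ∀ y', LocallyOfFinitePresentation (f.fiberToSpecResidueField y') := fun y' =>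
    inferInstanceAs (LocallyOfFinitePresentation (Limits.pullback.snd f (Y.fromSpecResidueField y')))
  constructor
  · rintro hs x rfl
    have h1 : (f.fiberToSpecResidueField (f x)).smoothLocus = ⊤ :=
      (f.fiberToSpecResidueField (f x)).smoothLocus_eq_top
    exact Groth.Agent.H25.FibreSmoothPt.mem_smoothLocus_of_flat_of_fibre f x (Flat.stalkMap f x)
      (h1 ▸ trivial)
  · intro h
    rw [← Scheme.Hom.smoothLocus_eq_top_iff, eq_top_iff]
    intro z _
    have key : ∀ (x : X) (y' : Y) (hxy : f x = y') (hx : x ∈ f.smoothLocus),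
        ∃ z' : f.fiber y', f.fiberι y' z' = x ∧
        z' ∈ (f.fiberToSpecResidueField y').smoothLocus := by
      rintro x _ rfl hx
      exact ⟨f.asFiber x, f.fiberι_asFiber x,
        (Groth.Agent.H25.FibreSmoothPt.flat_and_fibre_of_mem_smoothLocus f x hx).2⟩
    have hz : f (f.fiberι y z) = y := by
      have := f.range_fiberι y ▸ Set.mem_range_self z
      exact this
    obtain ⟨z', hz', hmem⟩ := key (f.fiberι y z) y hz (h _ hz)
    have : z' = z := (f.fiberι y).isEmbedding.injective hz'
    exact this ▸ hmem

/-- For a proper flat morphism of finite presentation the locus of smooth fibres is open. -/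
theorem isOpen_setOf_smooth_fiber {X Y : Scheme.{u}} (f : X ⟶ Y) [IsProper f] [Flat f]
    [LocallyOfFinitePresentation f] :
    IsOpen {y : Y | Smooth (f.fiberToSpecResidueField y)} := by
  have heq : {y : Y | Smooth (f.fiberToSpecResidueField y)} =
      (f '' ((f.smoothLocus : Set X)ᶜ))ᶜ := by
    ext y
    simp only [Set.mem_ofPred_eq, Set.mem_compl_iff, Set.mem_image, not_exists, not_and]
    rw [smooth_fiber_iff]
    constructor
    · intro h x hx hxy
      exact hx (h x hxy)
    · intro h x hxy
      by_contra hx
      exact h x hx hxy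
  rw [heq, isOpen_compl_iff]
  exact f.isClosedMap _ f.smoothLocus.isOpen.isClosed_compl

end Groth.Agent.H49.SmoothFibreOpen
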