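import Groth.Agent.H49.FlatInfScheme
import Groth.Agent.H3.SmoothAtFlat
import Groth.Agent.H25.EtaleAt
import Mathlib.AlgebraicGeometry.Morphisms.Smooth

/-!
# Smoothness from smoothness over all infinitesimal neighbourhoods of a closed subscheme (helper49)
-/

set_option autoImplicit false
universe u

open CategoryTheory CategoryTheory.Limits AlgebraicGeometry Opposite TopologicalSpace

namespace Groth.Agent.H49.SmoothInf

open TensorProduct in
/-- If `Q = A/I` with `I ≤ p`, and `T = Q ⊗[A] B` is formally smooth over `Q`, then the fibre of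
`B` over `p` is formally smooth over the residue field of `p`. -/
theorem formallySmooth_fiber_of_isPushout {A B Q T : Type*} [CommRing A] [CommRing B]
    [CommRing Q] [CommRing T] [Algebra A B] [Algebra A Q] [Algebra Q T] [Algebra B T]
    [Algebra A T] [IsScalarTower A Q T] [IsScalarTower A B T]
    (p : Ideal A) [p.IsPrime] (hs : Function.Surjective (algebraMap A Q))
    (hk : RingHom.ker (algebraMap A Q) ≤ p)
    (hpo : Algebra.IsPushout A B Q T) [Algebra.FormallySmooth Q T] :
    Algebra.FormallySmooth p.ResidueField (p.Fiber B) := by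
  let K := p.ResidueField
  let φ : Q →+* K := RingHom.liftOfSurjective (algebraMap A Q) hs
    ⟨algebraMap A K, by rwa [Ideal.ker_algebraMap_residueField]⟩
  let _ : Algebra Q K := φ.toAlgebra
  have hφ : ∀ a : A, φ (algebraMap A Q a) = algebraMap A K a := fun a =>
    RingHom.liftOfSurjective_comp_apply _ _ _ a
  have : IsScalarTower A Q K := IsScalarTower.of_algebraMap_eq fun a => (hφ a).symm
  have hpo' : Algebra.IsPushout A Q B T := hpo.symm
  let e : Q ⊗[A] B ≃ₐ[Q] T := hpo'.equiv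
  have h1 : Algebra.FormallySmooth K (K ⊗[Q] T) := inferInstance
  let e1 : K ⊗[Q] T ≃ₐ[K] K ⊗[Q] (Q ⊗[A] B) :=
    Algebra.TensorProduct.congr AlgEquiv.refl e.symm
  let e2 : K ⊗[Q] (Q ⊗[A] B) ≃ₐ[K] K ⊗[A] B :=
    Algebra.TensorProduct.cancelBaseChange A Q K K B
  exact Algebra.FormallySmooth.of_equiv (e1.trans e2)

variable {X S : Scheme.{u}}

/-- The data needed at level `n` (smooth version): sections of the closed subscheme and of the
fibre product. -/
theorem exists_pushout_data_smooth (f : X ⟶ S) (I : S.IdealSheafData) (n : ℕ)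
    (h : Smooth (pullback.snd f (I ^ (n + 1)).subschemeι)) {U : X.Opens} {V : S.Opens}
    (hU : IsAffineOpen U) (hV : IsAffineOpen V) (hUV : U ≤ f ⁻¹ᵁ V) :
    letI := (f.appLE V U hUV).hom.toAlgebra
    ∃ (Q T : Type u) (_ : CommRing Q) (_ : CommRing T) (_ : Algebra Γ(S, V) Q)
      (_ : Algebra Q T) (_ : Algebra Γ(X, U) T) (_ : Algebra Γ(S, V) T)
      (_ : IsScalarTower Γ(S, V) Q T) (_ : IsScalarTower Γ(S, V) Γ(X, U) T),
      Function.Surjective (algebraMap Γ(S, V) Q) ∧
      RingHom.ker (algebraMap Γ(S, V) Q) = (I.ideal ⟨V, hV⟩) ^ (n + 1) ∧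
      Algebra.IsPushout Γ(S, V) Γ(X, U) Q T ∧ Algebra.Smooth Q T := by
  let _ : Algebra Γ(S, V) Γ(X, U) := (f.appLE V U hUV).hom.toAlgebra
  let ι := (I ^ (n + 1)).subschemeι
  let W : (I ^ (n + 1)).subscheme.Opens := ι ⁻¹ᵁ V
  have hW : IsAffineOpen W := hV.preimage ι
  let fst := pullback.fst f ι
  let snd := pullback.snd f ι
  have hc : IsPullback fst snd f ι := IsPullback.of_hasPullback f ι
  let UY : (pullback f ι).Opens := fst ⁻¹ᵁ U ⊓ snd ⁻¹ᵁ W
  have hUY : IsAffineOpen UY := FlatInf.isAffineOpen_inf_preimage hc hV hW hU le_rfl hUV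
  have hpo : IsPushout (f.appLE V U hUV) (ι.appLE V W le_rfl)
      (fst.appLE U UY inf_le_left) (snd.appLE W UY inf_le_right) := by
    have := isIso_pushoutSection_of_isAffineOpen hc (le_refl W) hUV rfl hV hW hU
    exact (isIso_pushoutSection_iff hc (le_refl W) hUV rfl).mp this
  let _ : Algebra Γ(S, V) Γ((I ^ (n + 1)).subscheme, W) := (ι.appLE V W le_rfl).hom.toAlgebra
  let _ : Algebra Γ((I ^ (n + 1)).subscheme, W) Γ(pullback f ι, UY) :=
    (snd.appLE W UY inf_le_right).hom.toAlgebra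
  let _ : Algebra Γ(X, U) Γ(pullback f ι, UY) := (fst.appLE U UY inf_le_left).hom.toAlgebra
  let _ : Algebra Γ(S, V) Γ(pullback f ι, UY) :=
    ((f.appLE V U hUV) ≫ (fst.appLE U UY inf_le_left)).hom.toAlgebra
  have t1 : IsScalarTower Γ(S, V) Γ(X, U) Γ(pullback f ι, UY) :=
    IsScalarTower.of_algebraMap_eq fun r => rfl
  have t2 : IsScalarTower Γ(S, V) Γ((I ^ (n + 1)).subscheme, W) Γ(pullback f ι, UY) :=
    IsScalarTower.of_algebraMap_eq fun r => congr($(hpo.w).hom r)
  refine ⟨Γ((I ^ (n + 1)).subscheme, W), Γ(pullback f ι, UY), inferInstance, inferInstance,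
    inferInstance, inferInstance, inferInstance, inferInstance, t2, t1, ?_, ?_, ?_, ?_⟩
  · have := (I ^ (n + 1)).subschemeι_app_surjective ⟨V, hV⟩
    rw [Scheme.Hom.app_eq_appLE] at this
    exact this
  · have := (I ^ (n + 1)).ker_subschemeι_app ⟨V, hV⟩
    rw [Scheme.Hom.app_eq_appLE] at this
    exact this
  · exact CommRingCat.isPushout_iff_isPushout.mp hpo
  · have h3 : (snd.appLE W UY inf_le_right).hom.Smooth :=
      HasRingHomProperty.appLE (P := @Smooth) snd h ⟨W, hW⟩ ⟨UY, hUY⟩ inf_le_right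
    exact RingHom.smooth_algebraMap.mp h3

/-- **Smoothness from smoothness over the first infinitesimal neighbourhood plus flatness over all
of them.** -/
theorem mem_smoothLocus_of_smooth_infinitesimal (f : X ⟶ S) [IsLocallyNoetherian S]
    [LocallyOfFinitePresentation f] [QuasiCompact f] (I : S.IdealSheafData)
    (h : ∀ n : ℕ, Smooth (pullback.snd f (I ^ (n + 1)).subschemeι)) (x : X)
    (hx : f x ∈ I.support) : x ∈ f.smoothLocus := by
  have : IsLocallyNoetherian X := LocallyOfFiniteType.isLocallyNoetherian f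
  have h1 : (f.stalkMap x).hom.Flat :=
    FlatInf.flat_stalkMap_of_flat_infinitesimal f I (fun n => inferInstance) x hx
  obtain ⟨_, ⟨V, hV, rfl⟩, hxV, -⟩ :=
    S.isBasis_affineOpens.exists_subset_of_mem_open (Set.mem_univ (f x)) isOpen_univ
  have hV : IsAffineOpen V := hV
  obtain ⟨_, ⟨U, hU, rfl⟩, hxU, hUV⟩ :=
    X.isBasis_affineOpens.exists_subset_of_mem_open
      (show x ∈ ((f ⁻¹ᵁ V : X.Opens) : Set X) from hxV) (f ⁻¹ᵁ V).2
  have hU : IsAffineOpen U := hU
  have hUV : U ≤ f ⁻¹ᵁ V := hUV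
  have hxU : x ∈ U := hxU
  have hfp := f.finitePresentation_appLE hV hU hUV
  rw [Scheme.Hom.mem_smoothLocus, formallySmooth_stalkMap_iff V hV U hU hUV hxU]
  algebraize [(f.appLE V U hUV).hom]
  let p := (hV.primeIdealOf ⟨f x, hUV hxU⟩).asIdeal
  let q := (hU.primeIdealOf ⟨x, hxU⟩).asIdeal
  have hqp : q.LiesOver p :=
    ⟨congr($(IsAffineOpen.comap_primeIdealOf_appLE V hV U hU hUV hxU).1).symm⟩
  have hIp : I.ideal ⟨V, hV⟩ ≤ p := FlatInf.ideal_le_primeIdealOf_of_mem_support I hV (hUV hxU) hx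
  have hfl : Module.Flat Γ(S, V) (Localization.AtPrime q) :=
    Groth.Agent.H25.EtaleAt.flat_localization_of_flat_stalkMap V hV U hU hUV hxU h1
  obtain ⟨Q, T, _, _, _, _, _, _, _, _, hsurj, hker, hpo, hsm⟩ :=
    exists_pushout_data_smooth f I 0 (h 0) hU hV hUV
  have hk : RingHom.ker (algebraMap Γ(S, V) Q) ≤ p := by
    rw [hker, zero_add, pow_one]; exact hIp
  have : Algebra.FormallySmooth p.ResidueField (p.Fiber Γ(X, U)) :=
    formallySmooth_fiber_of_isPushout p hsurj hk hpo
  exact Groth.Agent.H3.SmoothAtFlat.isSmoothAt_of_flat_of_formallySmooth_fiber p q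

end Groth.Agent.H49.SmoothInf
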