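import Mathlib.Topology.Spectral.ConstructibleTopology
import Mathlib.Topology.Spectral.Prespectral

set_option autoImplicit false

namespace Groth.Agent.H49

open TopologicalSpace Topology

/-- In a T1 spectral space, every compact open subset is closed. -/
theorem isClosed_of_isCompact_of_isOpen_of_t1 {X : Type*} [TopologicalSpace X] [T1Space X]
    [CompactSpace X] [QuasiSober X] [PrespectralSpace X] [QuasiSeparatedSpace X]
    {U : Set X} (hU : IsOpen U) (hc : IsCompact U) : IsClosed U := by
  rw [← closure_subset_iff_isClosed]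
  intro x hx
  -- the family of constructible-closed sets
  let F : Set (Set (WithConstructibleTopology X)) :=
    {W | ∃ V : Set X, IsOpen V ∧ IsCompact V ∧ (V = U ∨ x ∈ V) ∧ W = WithTopology.ofTopology ⁻¹' V}
  have hclosed : ∀ W ∈ F, IsClosed W := by
    rintro W ⟨V, hVo, hVc, -, rfl⟩
    rw [WithTopology.isClosed_iff]
    change IsClosed[constructibleTopology X] V
    rw [← @isOpen_compl_iff _ _ (constructibleTopology X)]
    exact IsCompact.isOpen_constructibleTopology_of_isClosed (by simpa using hVc)
      hVo.isClosed_compl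
  have hfin : ∀ G ⊆ F, G.Finite → (⋂₀ G).Nonempty := by
    intro G hGF hG
    -- the intersection of the nbhds of x in G is a compact open nbhd of x, hence meets U
    have key : ∀ G : Set (Set (WithConstructibleTopology X)), G.Finite → G ⊆ F →
        ∃ V : Set X, IsOpen V ∧ x ∈ V ∧
          WithTopology.ofTopology ⁻¹' (V ∩ U) ⊆ ⋂₀ G := by
      intro G hG
      induction G, hG using Set.Finite.induction_on with
      | empty => exact fun _ => ⟨Set.univ, isOpen_univ, trivial, by simp⟩
      | @insert W G _ _ ih =>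
        intro hsub
        obtain ⟨V, hVo, hxV, hV⟩ := ih (fun _ h => hsub (Set.mem_insert_of_mem _ h))
        obtain ⟨V', hV'o, hV'c, hor, rfl⟩ := hsub (Set.mem_insert _ _)
        rcases hor with rfl | hxV'
        · refine ⟨V, hVo, hxV, ?_⟩
          rw [Set.sInter_insert]
          exact Set.subset_inter (Set.preimage_mono Set.inter_subset_right) hV
        · refine ⟨V ∩ V', hVo.inter hV'o, ⟨hxV, hxV'⟩, ?_⟩
          rw [Set.sInter_insert]
          refine Set.subset_inter (Set.preimage_mono ?_) (subset_trans (Set.preimage_mono ?_) hV)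
          · exact fun z hz => hz.1.2
          · exact fun z hz => ⟨hz.1.1, hz.2⟩
    obtain ⟨V, hVo, hxV, hV⟩ := key G hG hGF
    obtain ⟨z, hzV, hzU⟩ := mem_closure_iff.mp hx V hVo hxV
    exact ⟨WithTopology.toTopology _ z, hV ⟨hzV, hzU⟩⟩
  obtain ⟨z, hz⟩ := CompactSpace.nonempty_sInter hclosed hfin
  have hzU : WithTopology.ofTopology z ∈ U :=
    hz _ ⟨U, hU, hc, Or.inl rfl, rfl⟩
  have hsp : WithTopology.ofTopology z ⤳ x := by
    rw [specializes_iff_forall_open]
    intro W hW hxW
    obtain ⟨V, ⟨hVo, hVc⟩, hxV, hVW⟩ :=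
      PrespectralSpace.isTopologicalBasis.exists_subset_of_mem_open hxW hW
    exact hVW (hz _ ⟨V, hVo, hVc, Or.inr hxV, rfl⟩)
  rw [← hsp.eq]
  exact hzU

end Groth.Agent.H49
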