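import Groth.Agent.H49.SubGrpdRel

/-!
# The scheme `A = P ×_U R ×_U P` of the two-sided action (helper49)
-/

set_option autoImplicit false
set_option linter.style.haveILetI false

universe u

open CategoryTheory CategoryTheory.Limits AlgebraicGeometry

namespace Groth.Agent.H49.SubGrpd

open Groth.Agent.H90

variable {S : Scheme.{u}} (G : Grpd.GroupoidScheme S) {P : Scheme.{u}} (ιP : P ⟶ G.R)

/-- triples `(p, α, p')` with `s p = t α`, `s α = t p'`. -/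
noncomputable abbrev A : Scheme.{u} :=
  pullback (pullback.snd (ιP ≫ G.s) G.t ≫ G.s) (ιP ≫ G.t)

noncomputable def pA : A G ιP ⟶ P := pullback.fst _ _ ≫ pullback.fst _ _

noncomputable def αA : A G ιP ⟶ G.R := pullback.fst _ _ ≫ pullback.snd _ _

noncomputable def qA : A G ιP ⟶ P := pullback.snd _ _

theorem pA_αA : (pA G ιP ≫ ιP) ≫ G.s = αA G ιP ≫ G.t := by
  unfold pA αA
  simp only [Category.assoc]
  rw [pullback.condition]

theorem αA_qA : αA G ιP ≫ G.s = (qA G ιP ≫ ιP) ≫ G.t := by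
  unfold αA qA
  simp only [Category.assoc]
  exact pullback.condition

/-- the image `p ∘ α ∘ p'` of a triple. -/
noncomputable def tA : A G ιP ⟶ G.R :=
  gc G (gc G (pA G ιP ≫ ιP) (αA G ιP)) (qA G ιP ≫ ιP)

variable {G ιP} {T : Scheme.{u}}

/-- the point of `A` given by a triple. -/
noncomputable def mkA (p : T ⟶ P) (α : T ⟶ G.R) (q : T ⟶ P)
    (h1 : (p ≫ ιP) ≫ G.s = α ≫ G.t) (h2 : α ≫ G.s = (q ≫ ιP) ≫ G.t) : T ⟶ A G ιP :=
  pullback.lift (pullback.lift p α (by rw [← Category.assoc, h1])) q (by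
    rw [pullback.lift_snd_assoc, h2, Category.assoc])

theorem mkA_pA (p : T ⟶ P) (α : T ⟶ G.R) (q : T ⟶ P)
    (h1 : (p ≫ ιP) ≫ G.s = α ≫ G.t) (h2 : α ≫ G.s = (q ≫ ιP) ≫ G.t) :
    mkA p α q h1 h2 ≫ pA G ιP = p := by
  unfold mkA pA
  rw [pullback.lift_fst_assoc, pullback.lift_fst]

theorem mkA_αA (p : T ⟶ P) (α : T ⟶ G.R) (q : T ⟶ P)
    (h1 : (p ≫ ιP) ≫ G.s = α ≫ G.t) (h2 : α ≫ G.s = (q ≫ ιP) ≫ G.t) :
    mkA p α q h1 h2 ≫ αA G ιP = α := by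
  unfold mkA αA
  rw [pullback.lift_fst_assoc, pullback.lift_snd]

theorem mkA_qA (p : T ⟶ P) (α : T ⟶ G.R) (q : T ⟶ P)
    (h1 : (p ≫ ιP) ≫ G.s = α ≫ G.t) (h2 : α ≫ G.s = (q ≫ ιP) ≫ G.t) :
    mkA p α q h1 h2 ≫ qA G ιP = q := by
  unfold mkA qA
  rw [pullback.lift_snd]

theorem A_ext (a b : T ⟶ A G ιP) (h1 : a ≫ pA G ιP = b ≫ pA G ιP)
    (h2 : a ≫ αA G ιP = b ≫ αA G ιP) (h3 : a ≫ qA G ιP = b ≫ qA G ιP) : a = b := by
  unfold pA at h1
  unfold αA at h2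
  unfold qA at h3
  apply pullback.hom_ext
  · apply pullback.hom_ext
    · simpa only [Category.assoc] using h1
    · simpa only [Category.assoc] using h2
  · exact h3

theorem comp_tA (a : T ⟶ A G ιP) :
    a ≫ tA G ιP = gc G (gc G ((a ≫ pA G ιP) ≫ ιP) (a ≫ αA G ιP)) ((a ≫ qA G ιP) ≫ ιP) := by
  unfold tA
  rw [comp_gc a ((gc_s (pA_αA G ιP)).trans (αA_qA G ιP)), comp_gc a (pA_αA G ιP)]
  simp only [Category.assoc]

variable (D : Data G ιP)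

theorem rel_iff (α β : T ⟶ G.R) :
    Rel D α β ↔ ∃ a : T ⟶ A G ιP, a ≫ αA G ιP = α ∧ a ≫ tA G ιP = β := by
  constructor
  · rintro ⟨p, q, h1, h2, rfl⟩
    refine ⟨mkA p α q h1 h2, mkA_αA _ _ _ _ _, ?_⟩
    rw [comp_tA, mkA_pA, mkA_αA, mkA_qA]
  · rintro ⟨a, rfl, rfl⟩
    refine ⟨a ≫ pA G ιP, a ≫ qA G ιP, ?_, ?_, comp_tA a⟩
    · have := congrArg (a ≫ ·) (pA_αA G ιP)
      simpa only [Category.assoc] using this
    · have := congrArg (a ≫ ·) (αA_qA G ιP)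
      simpa only [Category.assoc] using this

theorem A_inj [Mono (ιP ≫ G.j)] (a b : T ⟶ A G ιP) (h1 : a ≫ αA G ιP = b ≫ αA G ιP)
    (h2 : a ≫ tA G ιP = b ≫ tA G ιP) : a = b := by
  have ha1 : ((a ≫ pA G ιP) ≫ ιP) ≫ G.s = (a ≫ αA G ιP) ≫ G.t := by
    have := congrArg (a ≫ ·) (pA_αA G ιP)
    simpa only [Category.assoc] using this
  have ha2 : (a ≫ αA G ιP) ≫ G.s = ((a ≫ qA G ιP) ≫ ιP) ≫ G.t := by
    have := congrArg (a ≫ ·) (αA_qA G ιP)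
    simpa only [Category.assoc] using this
  have hb1 : ((b ≫ pA G ιP) ≫ ιP) ≫ G.s = (b ≫ αA G ιP) ≫ G.t := by
    have := congrArg (b ≫ ·) (pA_αA G ιP)
    simpa only [Category.assoc] using this
  have hb2 : (b ≫ αA G ιP) ≫ G.s = ((b ≫ qA G ιP) ≫ ιP) ≫ G.t := by
    have := congrArg (b ≫ ·) (αA_qA G ιP)
    simpa only [Category.assoc] using this
  have hat : (a ≫ tA G ιP) ≫ G.t = ((a ≫ pA G ιP) ≫ ιP) ≫ G.t := by
    rw [comp_tA, gc_t ((gc_s ha1).trans ha2), gc_t ha1]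
  have hbt : (b ≫ tA G ιP) ≫ G.t = ((b ≫ pA G ιP) ≫ ιP) ≫ G.t := by
    rw [comp_tA, gc_t ((gc_s hb1).trans hb2), gc_t hb1]
  have has : (a ≫ tA G ιP) ≫ G.s = ((a ≫ qA G ιP) ≫ ιP) ≫ G.s := by
    rw [comp_tA, gc_s ((gc_s ha1).trans ha2)]
  have hbs : (b ≫ tA G ιP) ≫ G.s = ((b ≫ qA G ιP) ≫ ιP) ≫ G.s := by
    rw [comp_tA, gc_s ((gc_s hb1).trans hb2)]
  apply A_ext _ _ ?_ h1 ?_
  · apply hom_ext_P (G := G) (ιP := ιP)
    · have : ((a ≫ pA G ιP) ≫ ιP) ≫ G.t = ((b ≫ pA G ιP) ≫ ιP) ≫ G.t := by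
        rw [← hat, ← hbt, h2]
      simpa only [Category.assoc] using this
    · have : ((a ≫ pA G ιP) ≫ ιP) ≫ G.s = ((b ≫ pA G ιP) ≫ ιP) ≫ G.s := by
        rw [ha1, hb1, h1]
      simpa only [Category.assoc] using this
  · apply hom_ext_P (G := G) (ιP := ιP)
    · have : ((a ≫ qA G ιP) ≫ ιP) ≫ G.t = ((b ≫ qA G ιP) ≫ ιP) ≫ G.t := by
        rw [← ha2, ← hb2, h1]
      simpa only [Category.assoc] using this
    · have : ((a ≫ qA G ιP) ≫ ιP) ≫ G.s = ((b ≫ qA G ιP) ≫ ιP) ≫ G.s := by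
        rw [← has, ← hbs, h2]
      simpa only [Category.assoc] using this

instance [IsFinite (ιP ≫ G.s)] [IsFinite (ιP ≫ G.t)] : IsFinite (αA G ιP) := by
  unfold αA; infer_instance

instance [Flat (ιP ≫ G.s)] [Flat (ιP ≫ G.t)] : Flat (αA G ιP) := by
  unfold αA; infer_instance

instance [LocallyOfFinitePresentation (ιP ≫ G.s)] [LocallyOfFinitePresentation (ιP ≫ G.t)] :
    LocallyOfFinitePresentation (αA G ιP) := by
  unfold αA; infer_instance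

end Groth.Agent.H49.SubGrpd
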