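import Groth.Agent.H20.ImmersionAffine
import Groth.Agent.H53.ZMT.QAffZMT
import Groth.Agent.H18.STL.QuasiAffineFinite

/-!
# Finite sets of points in affine opens (helper49)

If `j : X ⟶ Y` is separated, locally quasi-finite and locally of finite type and every finite
subset of `Y` lies in an affine open, then the same holds for `X` (Zariski's main theorem).
-/

set_option autoImplicit false
set_option linter.style.haveILetI false

universe u

open CategoryTheory CategoryTheory.Limits AlgebraicGeometry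

namespace Groth.Agent.H49.SubGrpd

/-- finite subsets of `U ×_S U` lie in affine opens when `U` is affine. -/
theorem exists_isAffineOpen_of_finite_pullback {U S : Scheme.{u}} [IsAffine U] (p : U ⟶ S)
    (E : Set ↥(pullback p p)) (hE : E.Finite) :
    ∃ V : (pullback p p).Opens, IsAffineOpen V ∧ E ⊆ V :=
  Groth.Agent.H20.exists_isAffineOpen_of_finite_of_immersion
    (pullback.mapDesc p p (terminal.from S)) E hE

/-- Zariski's main theorem: finite subsets of the source of a separated locally quasi-finite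
morphism lie in affine opens if this holds on the target. -/
theorem exists_isAffineOpen_of_finite_of_lqf {X Y : Scheme.{u}} (j : X ⟶ Y) [IsSeparated j]
    [LocallyQuasiFinite j] [LocallyOfFiniteType j]
    (hY : ∀ E : Set Y, E.Finite → ∃ V : Y.Opens, IsAffineOpen V ∧ E ⊆ V)
    (E : Set X) (hE : E.Finite) : ∃ V : X.Opens, IsAffineOpen V ∧ E ⊆ V := by
  classical
  obtain ⟨W, hW, hEW⟩ := hY (j '' E) (hE.image _)
  -- a quasi-compact open of `j⁻¹ W` containing `E`
  have hx : ∀ x : X, x ∈ E → ∃ O : X.Opens, IsAffineOpen O ∧ x ∈ O ∧ O ≤ j ⁻¹ᵁ W := by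
    intro x hx
    obtain ⟨_, ⟨O, hO, rfl⟩, hxO, hOW⟩ := X.isBasis_affineOpens.exists_subset_of_mem_open
      (show x ∈ ((j ⁻¹ᵁ W : X.Opens) : Set X) from hEW ⟨x, hx, rfl⟩) (j ⁻¹ᵁ W).2
    exact ⟨O, hO, hxO, hOW⟩
  choose! O hO hxO hOW using hx
  let Ω : X.Opens := ⨆ x ∈ hE.toFinset, O x
  have hΩW : Ω ≤ j ⁻¹ᵁ W := by
    apply iSup₂_le
    intro x hx
    exact hOW x (hE.mem_toFinset.mp hx)
  have hEΩ : E ⊆ Ω := by
    intro x hx
    apply TopologicalSpace.Opens.mem_iSup.mpr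
    exact ⟨x, TopologicalSpace.Opens.mem_iSup.mpr ⟨hE.mem_toFinset.mpr hx, hxO x hx⟩⟩
  have hΩc : IsCompact (Ω : Set X) := by
    have : (Ω : Set X) = ⋃ x ∈ hE.toFinset, (O x : Set X) := by
      simp only [Ω, TopologicalSpace.Opens.coe_iSup]
    rw [this]
    exact hE.toFinset.isCompact_biUnion fun x hx => (hO x (hE.mem_toFinset.mp hx)).isCompact
  haveI : CompactSpace ↥(Ω : Scheme.{u}) := isCompact_iff_compactSpace.mp hΩc
  haveI : IsAffine (W : Scheme.{u}) := hW
  let jΩ : (Ω : Scheme.{u}) ⟶ (W : Scheme.{u}) := j.resLE W Ω hΩW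
  have hjΩ : jΩ ≫ W.ι = Ω.ι ≫ j := Scheme.Hom.resLE_comp_ι _ _
  haveI : IsSeparated (jΩ ≫ W.ι) := by rw [hjΩ]; infer_instance
  haveI : IsSeparated jΩ := IsSeparated.of_comp jΩ W.ι
  haveI : LocallyOfFiniteType (jΩ ≫ W.ι) := by rw [hjΩ]; infer_instance
  haveI : LocallyOfFiniteType jΩ := locallyOfFiniteType_of_comp jΩ W.ι
  haveI : LocallyQuasiFinite (jΩ ≫ W.ι) := by rw [hjΩ]; infer_instance
  haveI : LocallyQuasiFinite jΩ := LocallyQuasiFinite.of_comp jΩ W.ι
  haveI : QuasiCompact jΩ := by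
    apply (quasiCompact_iff_compactSpace (f := jΩ)).mpr
    infer_instance
  haveI : (Ω : Scheme.{u}).IsQuasiAffine :=
    Groth.Agent.H53.ZMT.isQuasiAffine_of_lqf_separated jΩ
  obtain ⟨r, hr, hEr, -⟩ := Groth.Agent.H18.STL.exists_affine_basicOpen_of_finite
    (X := (Ω : Scheme.{u})) ⊤ (Ω.ι ⁻¹' E) (hE.preimage Ω.ι.isEmbedding.injective.injOn)
    (fun _ _ => trivial)
  refine ⟨Ω.ι ''ᵁ ((Ω : Scheme.{u}).basicOpen r), hr.image_of_isOpenImmersion Ω.ι, ?_⟩
  intro x hx
  exact ⟨⟨x, hEΩ hx⟩, hEr (show Ω.ι ⟨x, hEΩ hx⟩ ∈ E from hx), rfl⟩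

end Groth.Agent.H49.SubGrpd
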