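import Groth.Agent.H49.SubGrpdCalc

/-!
# The groupoid of `T`-points of a groupoid scheme, as a category (helper49)

Objects: `T`-points of `U`; morphisms `a ⟶ b`: `T`-points of `R` with source `a` and target `b`.
Composition `f ≫ g` is `gc G g f` (`g` after `f`).  This lets `Category.assoc`/`simp` do the
reassociation bookkeeping.
-/

set_option autoImplicit false
set_option linter.style.haveILetI false

universe u

open CategoryTheory CategoryTheory.Limits AlgebraicGeometry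

namespace Groth.Agent.H49.SubGrpd

open Groth.Agent.H90

variable {S : Scheme.{u}} (G : Grpd.GroupoidScheme S) (T : Scheme.{u})

/-- `T`-points of `U`. -/
structure Pt where
  x : T ⟶ G.U

variable {G T}

/-- arrows between `T`-points. -/
def Pt.Arr (a b : Pt G T) : Type u := {f : T ⟶ G.R // f ≫ G.s = a.x ∧ f ≫ G.t = b.x}

noncomputable instance : Category (Pt G T) where
  Hom a b := Pt.Arr a b
  id a := ⟨a.x ≫ G.e, by rw [Category.assoc, G.e_s, Category.comp_id],
    by rw [Category.assoc, G.e_t, Category.comp_id]⟩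
  comp {a b c} f g := ⟨gc G g.1 f.1, by rw [gc_s (g.2.1.trans f.2.2.symm)]; exact f.2.1,
    by rw [gc_t (g.2.1.trans f.2.2.symm)]; exact g.2.2⟩
  id_comp {a b} f := by
    apply Subtype.ext
    exact gc_e' f.1 a.x f.2.1
  comp_id {a b} f := by
    apply Subtype.ext
    exact e_gc' f.1 b.x f.2.2
  assoc {a b c d} f g h := by
    apply Subtype.ext
    exact (gc_assoc (h.2.1.trans g.2.2.symm) (g.2.1.trans f.2.2.symm)).symm

/-- a typed arrow. -/
def arr (α : T ⟶ G.R) (x y : T ⟶ G.U) (hs : α ≫ G.s = x) (ht : α ≫ G.t = y) :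
    (⟨x⟩ : Pt G T) ⟶ ⟨y⟩ := ⟨α, hs, ht⟩

@[simp] theorem arr_val (α : T ⟶ G.R) (x y : T ⟶ G.U) (hs : α ≫ G.s = x) (ht : α ≫ G.t = y) :
    (arr α x y hs ht).1 = α := rfl

theorem comp_val {a b c : Pt G T} (f : a ⟶ b) (g : b ⟶ c) : (f ≫ g).1 = gc G g.1 f.1 := rfl

theorem id_val (a : Pt G T) : (𝟙 a : a ⟶ a).1 = a.x ≫ G.e := rfl

theorem arr_ext {a b : Pt G T} (f g : a ⟶ b) (h : f.1 = g.1) : f = g := Subtype.ext h

/-- the inverse arrow. -/
def inv' {a b : Pt G T} (f : a ⟶ b) : b ⟶ a :=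
  ⟨f.1 ≫ G.i, by rw [i_s']; exact f.2.2, by rw [i_t']; exact f.2.1⟩

theorem inv'_val {a b : Pt G T} (f : a ⟶ b) : (inv' f).1 = f.1 ≫ G.i := rfl

@[simp] theorem comp_inv' {a b : Pt G T} (f : a ⟶ b) : f ≫ inv' f = 𝟙 a := by
  apply arr_ext
  rw [comp_val, inv'_val, id_val, i_gc, f.2.1]

@[simp] theorem inv'_comp {a b : Pt G T} (f : a ⟶ b) : inv' f ≫ f = 𝟙 b := by
  apply arr_ext
  rw [comp_val, inv'_val, id_val, gc_i, f.2.2]

@[simp] theorem comp_inv'_assoc {a b c : Pt G T} (f : a ⟶ b) (g : a ⟶ c) :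
    f ≫ inv' f ≫ g = g := by
  rw [← Category.assoc, comp_inv', Category.id_comp]

@[simp] theorem inv'_comp_assoc {a b c : Pt G T} (f : a ⟶ b) (g : b ⟶ c) :
    inv' f ≫ f ≫ g = g := by
  rw [← Category.assoc, inv'_comp, Category.id_comp]

end Groth.Agent.H49.SubGrpd
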