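import Groth.Agent.H49.SubGrpdRel
import Mathlib.AlgebraicGeometry.Sites.Fpqc

/-!
# Descending the groupoid structure to the quotient by a subgroupoid, I (helper49)

Abstract quotient data `(Ū, π, R̄, ρ)` and the descended maps `s̄, t̄, ē, ī`.
-/

set_option autoImplicit false
set_option linter.style.haveILetI false

universe u

open CategoryTheory CategoryTheory.Limits AlgebraicGeometry

namespace Groth.Agent.H49.SubGrpd

open Groth.Agent.H90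

variable {S : Scheme.{u}} {G : Grpd.GroupoidScheme S} {P : Scheme.{u}} {ιP : P ⟶ G.R}

/-- quotient data: `π : U ⟶ Ū` with kernel pair `P` and `ρ : R ⟶ R̄` whose kernel pair is the
two-sided action of `P`. -/
structure QD (D : Data G ιP) where
  Ub : Scheme.{u}
  π : G.U ⟶ Ub
  pUb : Ub ⟶ S
  hπ : π ≫ pUb = G.pU
  flatπ : Flat π
  surjπ : Surjective π
  qcπ : QuasiCompact π
  hpb : IsPullback (ιP ≫ G.t) (ιP ≫ G.s) π π
  Rb : Scheme.{u}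
  ρ : G.R ⟶ Rb
  pRb : Rb ⟶ S
  hρ : ρ ≫ pRb = G.pR
  flatρ : Flat ρ
  surjρ : Surjective ρ
  qcρ : QuasiCompact ρ
  ρ_iff : ∀ {T : Scheme.{u}} (α β : T ⟶ G.R), α ≫ ρ = β ≫ ρ ↔ Rel D α β

attribute [instance] QD.flatπ QD.surjπ QD.qcπ QD.flatρ QD.surjρ QD.qcρ

variable {D : Data G ιP} (Q : QD D)

namespace QD

/-- descent along a flat surjective quasi-compact morphism. -/
theorem exists_desc {X Y Z : Scheme.{u}} (f : X ⟶ Y) [Flat f] [Surjective f] [QuasiCompact f]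
    (g : X ⟶ Z) (h : ∀ {W : Scheme.{u}} (a b : W ⟶ X), a ≫ f = b ≫ f → a ≫ g = b ≫ g) :
    ∃ g' : Y ⟶ Z, f ≫ g' = g :=
  ⟨EffectiveEpi.desc f g h, EffectiveEpi.fac f g h⟩

theorem epi_of_cover {X Y : Scheme.{u}} (f : X ⟶ Y) [Flat f] [Surjective f] [QuasiCompact f] :
    Epi f := inferInstance

/-- points of `U` with the same image in `Ū` are joined by a unique point of `P`. -/
theorem exists_conn {T : Scheme.{u}} (x y : T ⟶ G.U) (h : x ≫ Q.π = y ≫ Q.π) :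
    ∃ p : T ⟶ P, (p ≫ ιP) ≫ G.t = x ∧ (p ≫ ιP) ≫ G.s = y :=
  ⟨Q.hpb.lift x y h, by rw [Category.assoc]; exact Q.hpb.lift_fst _ _ _,
    by rw [Category.assoc]; exact Q.hpb.lift_snd _ _ _⟩

theorem conn_π {T : Scheme.{u}} (p : T ⟶ P) : (p ≫ ιP) ≫ G.t ≫ Q.π = (p ≫ ιP) ≫ G.s ≫ Q.π := by
  have := congrArg (p ≫ ·) Q.hpb.w
  simpa only [Category.assoc] using this

theorem rel_s_π {T : Scheme.{u}} {α β : T ⟶ G.R} (h : Rel D α β) :
    α ≫ G.s ≫ Q.π = β ≫ G.s ≫ Q.π := by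
  obtain ⟨p', h1, h2⟩ := h.s_eq
  have e1 : (α ≫ G.s) ≫ Q.π = ((p' ≫ ιP) ≫ G.t) ≫ Q.π := by rw [h1]
  have e2 : (β ≫ G.s) ≫ Q.π = ((p' ≫ ιP) ≫ G.s) ≫ Q.π := by rw [h2]
  have e3 := Q.conn_π p'
  simp only [Category.assoc] at e1 e2 e3 ⊢
  rw [e1, e2, e3]

theorem rel_t_π {T : Scheme.{u}} {α β : T ⟶ G.R} (h : Rel D α β) :
    α ≫ G.t ≫ Q.π = β ≫ G.t ≫ Q.π := by
  obtain ⟨p, h1, h2⟩ := h.t_eq
  have e1 : (α ≫ G.t) ≫ Q.π = ((p ≫ ιP) ≫ G.s) ≫ Q.π := by rw [h1]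
  have e2 : (β ≫ G.t) ≫ Q.π = ((p ≫ ιP) ≫ G.t) ≫ Q.π := by rw [h2]
  have e3 := Q.conn_π p
  simp only [Category.assoc] at e1 e2 e3 ⊢
  rw [e1, e2, e3]

/-- the source map of the quotient. -/
noncomputable def sb : Q.Rb ⟶ Q.Ub :=
  (exists_desc Q.ρ (G.s ≫ Q.π) (fun a b h => by
    simpa only [Category.assoc] using Q.rel_s_π ((Q.ρ_iff a b).1 h))).choose

theorem ρ_sb : Q.ρ ≫ Q.sb = G.s ≫ Q.π :=
  (exists_desc Q.ρ (G.s ≫ Q.π) (fun a b h => by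
    simpa only [Category.assoc] using Q.rel_s_π ((Q.ρ_iff a b).1 h))).choose_spec

/-- the target map of the quotient. -/
noncomputable def tb : Q.Rb ⟶ Q.Ub :=
  (exists_desc Q.ρ (G.t ≫ Q.π) (fun a b h => by
    simpa only [Category.assoc] using Q.rel_t_π ((Q.ρ_iff a b).1 h))).choose

theorem ρ_tb : Q.ρ ≫ Q.tb = G.t ≫ Q.π :=
  (exists_desc Q.ρ (G.t ≫ Q.π) (fun a b h => by
    simpa only [Category.assoc] using Q.rel_t_π ((Q.ρ_iff a b).1 h))).choose_spec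

theorem rel_e {T : Scheme.{u}} (x y : T ⟶ G.U) (h : x ≫ Q.π = y ≫ Q.π) :
    Rel D (y ≫ G.e) (x ≫ G.e) := by
  obtain ⟨p, h1, h2⟩ := Q.exists_conn x y h
  refine ⟨p, p ≫ D.iP, ?_, ?_, ?_⟩
  · rw [h2, Category.assoc, G.e_t, Category.comp_id]
  · rw [D.i_ι, i_t', h2, Category.assoc, G.e_s, Category.comp_id]
  · rw [D.i_ι, gc_e' (p ≫ ιP) y h2, gc_i, h1]

/-- the identity of the quotient. -/
noncomputable def eb : Q.Ub ⟶ Q.Rb :=
  (exists_desc Q.π (G.e ≫ Q.ρ) (fun a b h => by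
    have := (Q.ρ_iff _ _).2 (Q.rel_e a b h)
    simpa only [Category.assoc] using this.symm)).choose

theorem π_eb : Q.π ≫ Q.eb = G.e ≫ Q.ρ :=
  (exists_desc Q.π (G.e ≫ Q.ρ) (fun a b h => by
    have := (Q.ρ_iff _ _).2 (Q.rel_e a b h)
    simpa only [Category.assoc] using this.symm)).choose_spec

theorem rel_i {T : Scheme.{u}} {α β : T ⟶ G.R} (h : Rel D α β) : Rel D (α ≫ G.i) (β ≫ G.i) := by
  obtain ⟨p, p', h1, h2, rfl⟩ := h
  have h12 : gc G (p ≫ ιP) α ≫ G.s = (p' ≫ ιP) ≫ G.t := (gc_s h1).trans h2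
  refine ⟨p' ≫ D.iP, p ≫ D.iP, ?_, ?_, ?_⟩
  · rw [D.i_ι, i_s', i_t', h2]
  · rw [D.i_ι, i_s', i_t', h1]
  · rw [D.i_ι, D.i_ι, gc_comp_i h12, gc_comp_i h1]
    exact (gc_assoc (by rw [i_s', i_t', h2]) (by rw [i_s', i_t', h1])).symm

/-- the inverse of the quotient. -/
noncomputable def ib : Q.Rb ⟶ Q.Rb :=
  (exists_desc Q.ρ (G.i ≫ Q.ρ) (fun a b h => by
    have := (Q.ρ_iff _ _).2 (rel_i ((Q.ρ_iff a b).1 h))
    simpa only [Category.assoc] using this)).choose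

theorem ρ_ib : Q.ρ ≫ Q.ib = G.i ≫ Q.ρ :=
  (exists_desc Q.ρ (G.i ≫ Q.ρ) (fun a b h => by
    have := (Q.ρ_iff _ _).2 (rel_i ((Q.ρ_iff a b).1 h))
    simpa only [Category.assoc] using this)).choose_spec

end QD

end Groth.Agent.H49.SubGrpd
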