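import Groth.Agent.H49.SubGrpdH1
import Groth.Agent.H49.SubGrpdCat

/-!
# Descending the groupoid structure to the quotient by a subgroupoid, II: the composition (helper49)
-/

set_option autoImplicit false
set_option linter.style.haveILetI false

universe u

open CategoryTheory CategoryTheory.Limits AlgebraicGeometry

namespace Groth.Agent.H49.SubGrpd

open Groth.Agent.H90

variable {S : Scheme.{u}} {G : Grpd.GroupoidScheme S} {P : Scheme.{u}} {ιP : P ⟶ G.R}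
  {D : Data G ιP} (Q : QD D)

/-- the key compatibility: `α ∘ p ∘ β` is well defined modulo the two-sided action. -/
theorem mul_rel [Mono (ιP ≫ G.j)] {T : Scheme.{u}} {α β α' β' : T ⟶ G.R} {p p' : T ⟶ P}
    (h1 : α ≫ G.s = (p ≫ ιP) ≫ G.t) (h2 : (p ≫ ιP) ≫ G.s = β ≫ G.t)
    (h1' : α' ≫ G.s = (p' ≫ ιP) ≫ G.t) (h2' : (p' ≫ ιP) ≫ G.s = β' ≫ G.t)
    (hα : Rel D α α') (hβ : Rel D β β') :
    Rel D (gc G (gc G α (p ≫ ιP)) β) (gc G (gc G α' (p' ≫ ιP)) β') := by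
  obtain ⟨q, q', a1, a2, rfl⟩ := hα
  obtain ⟨r, r', b1, b2, rfl⟩ := hβ
  have a12 : gc G (q ≫ ιP) α ≫ G.s = (q' ≫ ιP) ≫ G.t := (gc_s a1).trans a2
  have b12 : gc G (r ≫ ιP) β ≫ G.s = (r' ≫ ιP) ≫ G.t := (gc_s b1).trans b2
  rw [gc_s a12] at h1'
  rw [gc_t b12, gc_t b1] at h2'
  -- typed arrows
  let R' : (⟨(r' ≫ ιP) ≫ G.s⟩ : Pt G T) ⟶ ⟨β ≫ G.s⟩ := arr (r' ≫ ιP) _ _ rfl b2.symm
  let B : (⟨β ≫ G.s⟩ : Pt G T) ⟶ ⟨β ≫ G.t⟩ := arr β _ _ rfl rfl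
  let Rr : (⟨β ≫ G.t⟩ : Pt G T) ⟶ ⟨(r ≫ ιP) ≫ G.t⟩ := arr (r ≫ ιP) _ _ b1 rfl
  let P' : (⟨(r ≫ ιP) ≫ G.t⟩ : Pt G T) ⟶ ⟨(p' ≫ ιP) ≫ G.t⟩ := arr (p' ≫ ιP) _ _ h2' rfl
  let Q' : (⟨(p' ≫ ιP) ≫ G.t⟩ : Pt G T) ⟶ ⟨α ≫ G.s⟩ := arr (q' ≫ ιP) _ _ h1' a2.symm
  let A : (⟨α ≫ G.s⟩ : Pt G T) ⟶ ⟨α ≫ G.t⟩ := arr α _ _ rfl rfl
  let Qq : (⟨α ≫ G.t⟩ : Pt G T) ⟶ ⟨(q ≫ ιP) ≫ G.t⟩ := arr (q ≫ ιP) _ _ a1 rfl
  let Pp : (⟨β ≫ G.t⟩ : Pt G T) ⟶ ⟨α ≫ G.s⟩ := arr (p ≫ ιP) _ _ h2 h1.symm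
  -- `q' ∘ p' ∘ r = p`
  have hq'p' : (q' ≫ ιP) ≫ G.s = (p' ≫ ιP) ≫ G.t := h1'
  have hp'r : (p' ≫ ιP) ≫ G.s = (r ≫ ιP) ≫ G.t := h2'
  have key : Rr ≫ P' ≫ Q' = Pp := by
    apply arr_ext
    let m1 : T ⟶ P := D.mulP q' p' hq'p'
    have hm1 : m1 ≫ ιP = gc G (q' ≫ ιP) (p' ≫ ιP) := D.mulP_ι _ _ _
    have hm1r : (m1 ≫ ιP) ≫ G.s = (r ≫ ιP) ≫ G.t := by rw [hm1, gc_s hq'p', hp'r]
    let m2 : T ⟶ P := D.mulP m1 r hm1r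
    have hm2 : m2 ≫ ιP = gc G (gc G (q' ≫ ιP) (p' ≫ ιP)) (r ≫ ιP) := by
      rw [show m2 ≫ ιP = _ from D.mulP_ι _ _ _, hm1]
    have hm2p : m2 = p := by
      apply hom_ext_P (G := G) (ιP := ιP)
      · rw [← Category.assoc, ← Category.assoc, hm2,
          gc_t (by rw [gc_s hq'p']; exact hp'r), gc_t hq'p', ← a2, h1]
      · rw [← Category.assoc, ← Category.assoc, hm2,
          gc_s (by rw [gc_s hq'p']; exact hp'r), b1, h2]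
    change gc G (gc G (q' ≫ ιP) (p' ≫ ιP)) (r ≫ ιP) = p ≫ ιP
    rw [← hm2, hm2p]
  refine ⟨q, r', ?_, ?_, ?_⟩
  · rw [gc_t (by rw [gc_s h1]; exact h2), gc_t h1, a1]
  · rw [gc_s (by rw [gc_s h1]; exact h2), b2]
  · have main : (R' ≫ (B ≫ Rr)) ≫ (P' ≫ (Q' ≫ (A ≫ Qq))) = R' ≫ ((B ≫ (Pp ≫ A)) ≫ Qq) := by
      rw [← key]
      simp only [Category.assoc]
    exact congrArg Subtype.val main

namespace QD

/-- `R ×_Ū R`. -/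
noncomputable abbrev RR : Scheme.{u} := pullback (G.s ≫ Q.π) (G.t ≫ Q.π)

/-- the connecting arrow of a pair composable modulo `P`. -/
noncomputable def conn : Q.RR ⟶ P :=
  Q.hpb.lift (pullback.fst _ _ ≫ G.s) (pullback.snd _ _ ≫ G.t) (by
    rw [Category.assoc, Category.assoc]; exact pullback.condition)

theorem conn_t : (Q.conn ≫ ιP) ≫ G.t = pullback.fst (G.s ≫ Q.π) (G.t ≫ Q.π) ≫ G.s := by
  rw [Category.assoc]; exact Q.hpb.lift_fst _ _ _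

theorem conn_s : (Q.conn ≫ ιP) ≫ G.s = pullback.snd (G.s ≫ Q.π) (G.t ≫ Q.π) ≫ G.t := by
  rw [Category.assoc]; exact Q.hpb.lift_snd _ _ _

/-- `(α, β) ↦ [α ∘ p ∘ β]`. -/
noncomputable def ct : Q.RR ⟶ Q.Rb :=
  gc G (gc G (pullback.fst (G.s ≫ Q.π) (G.t ≫ Q.π)) (Q.conn ≫ ιP))
    (pullback.snd (G.s ≫ Q.π) (G.t ≫ Q.π)) ≫ Q.ρ

/-- `ρ × ρ`. -/
noncomputable def ρ₂ : Q.RR ⟶ pullback Q.sb Q.tb :=
  pullback.map (G.s ≫ Q.π) (G.t ≫ Q.π) Q.sb Q.tb Q.ρ Q.ρ (𝟙 _)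
    ((Category.comp_id _).trans Q.ρ_sb.symm) ((Category.comp_id _).trans Q.ρ_tb.symm)

instance : Flat Q.ρ₂ :=
  MorphismProperty.pullbackMap (P := @Flat) Q.flatρ Q.flatρ Q.ρ_sb.symm Q.ρ_tb.symm

set_option backward.isDefEq.respectTransparency.types false in
instance : Surjective Q.ρ₂ :=
  MorphismProperty.pullbackMap (P := @Surjective.{u}) Q.surjρ Q.surjρ Q.ρ_sb.symm Q.ρ_tb.symm

instance : QuasiCompact Q.ρ₂ :=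
  MorphismProperty.pullbackMap (P := @QuasiCompact) Q.qcρ Q.qcρ Q.ρ_sb.symm Q.ρ_tb.symm

theorem ρ₂_fst : Q.ρ₂ ≫ pullback.fst Q.sb Q.tb = pullback.fst _ _ ≫ Q.ρ := pullback.lift_fst _ _ _

theorem ρ₂_snd : Q.ρ₂ ≫ pullback.snd Q.sb Q.tb = pullback.snd _ _ ≫ Q.ρ := pullback.lift_snd _ _ _

/-- the value of `ct` on a point. -/
theorem comp_ct [Mono (ιP ≫ G.j)] {T : Scheme.{u}} (a : T ⟶ Q.RR) (p : T ⟶ P)
    (h1 : (a ≫ pullback.fst _ _) ≫ G.s = (p ≫ ιP) ≫ G.t)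
    (h2 : (p ≫ ιP) ≫ G.s = (a ≫ pullback.snd _ _) ≫ G.t) :
    a ≫ Q.ct = gc G (gc G (a ≫ pullback.fst _ _) (p ≫ ιP)) (a ≫ pullback.snd _ _) ≫ Q.ρ := by
  have hp : a ≫ Q.conn = p := by
    apply hom_ext_P (G := G) (ιP := ιP)
    · rw [Category.assoc a, ← Category.assoc Q.conn, Q.conn_t, ← Category.assoc, ← Category.assoc,
        h1]
    · rw [Category.assoc a, ← Category.assoc Q.conn, Q.conn_s, ← Category.assoc, ← Category.assoc,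
        ← h2]
  unfold ct
  rw [← Category.assoc, comp_gc a (by rw [gc_s Q.conn_t.symm]; exact Q.conn_s),
    comp_gc a Q.conn_t.symm, ← Category.assoc a, hp]

theorem ct_const [Mono (ιP ≫ G.j)] {W : Scheme.{u}} (a b : W ⟶ Q.RR)
    (h : a ≫ Q.ρ₂ = b ≫ Q.ρ₂) : a ≫ Q.ct = b ≫ Q.ct := by
  have hf : (a ≫ pullback.fst _ _) ≫ Q.ρ = (b ≫ pullback.fst _ _) ≫ Q.ρ := by
    have := congrArg (· ≫ pullback.fst Q.sb Q.tb) h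
    simpa only [Category.assoc, Q.ρ₂_fst] using this
  have hs : (a ≫ pullback.snd _ _) ≫ Q.ρ = (b ≫ pullback.snd _ _) ≫ Q.ρ := by
    have := congrArg (· ≫ pullback.snd Q.sb Q.tb) h
    simpa only [Category.assoc, Q.ρ₂_snd] using this
  have ha1 : (a ≫ pullback.fst _ _) ≫ G.s = ((a ≫ Q.conn) ≫ ιP) ≫ G.t := by
    have := congrArg (a ≫ ·) Q.conn_t
    simpa only [Category.assoc] using this.symm
  have ha2 : ((a ≫ Q.conn) ≫ ιP) ≫ G.s = (a ≫ pullback.snd _ _) ≫ G.t := by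
    have := congrArg (a ≫ ·) Q.conn_s
    simpa only [Category.assoc] using this
  have hb1 : (b ≫ pullback.fst _ _) ≫ G.s = ((b ≫ Q.conn) ≫ ιP) ≫ G.t := by
    have := congrArg (b ≫ ·) Q.conn_t
    simpa only [Category.assoc] using this.symm
  have hb2 : ((b ≫ Q.conn) ≫ ιP) ≫ G.s = (b ≫ pullback.snd _ _) ≫ G.t := by
    have := congrArg (b ≫ ·) Q.conn_s
    simpa only [Category.assoc] using this
  rw [Q.comp_ct a _ ha1 ha2, Q.comp_ct b _ hb1 hb2, Q.ρ_iff]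
  exact mul_rel ha1 ha2 hb1 hb2 ((Q.ρ_iff _ _).1 hf) ((Q.ρ_iff _ _).1 hs)

/-- the composition of the quotient. -/
noncomputable def cb [Mono (ιP ≫ G.j)] : pullback Q.sb Q.tb ⟶ Q.Rb :=
  (exists_desc Q.ρ₂ Q.ct (fun a b h => Q.ct_const a b h)).choose

theorem ρ₂_cb [Mono (ιP ≫ G.j)] : Q.ρ₂ ≫ Q.cb = Q.ct :=
  (exists_desc Q.ρ₂ Q.ct (fun a b h => Q.ct_const a b h)).choose_spec

/-- connecting arrows exist for lifts of composable points. -/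
theorem exists_conn_of_lifts {T T' : Scheme.{u}} {ab bb : T ⟶ Q.Rb} (h : ab ≫ Q.sb = bb ≫ Q.tb)
    (q : T' ⟶ T) (α β : T' ⟶ G.R) (hα : α ≫ Q.ρ = q ≫ ab) (hβ : β ≫ Q.ρ = q ≫ bb) :
    ∃ p : T' ⟶ P, α ≫ G.s = (p ≫ ιP) ≫ G.t ∧ (p ≫ ιP) ≫ G.s = β ≫ G.t := by
  have : (α ≫ G.s) ≫ Q.π = (β ≫ G.t) ≫ Q.π := by
    calc (α ≫ G.s) ≫ Q.π = (α ≫ Q.ρ) ≫ Q.sb := by
          rw [Category.assoc, Category.assoc, Q.ρ_sb]
      _ = (β ≫ Q.ρ) ≫ Q.tb := by rw [hα, hβ, Category.assoc, Category.assoc, h]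
      _ = (β ≫ G.t) ≫ Q.π := by rw [Category.assoc, Category.assoc, Q.ρ_tb]
  obtain ⟨p, h1, h2⟩ := Q.exists_conn _ _ this
  exact ⟨p, h1.symm, h2⟩

/-- the composition of the quotient computed on lifts. -/
theorem cb_lift [Mono (ιP ≫ G.j)] {T T' : Scheme.{u}} {ab bb : T ⟶ Q.Rb}
    (h : ab ≫ Q.sb = bb ≫ Q.tb) (q : T' ⟶ T) (α β : T' ⟶ G.R) (hα : α ≫ Q.ρ = q ≫ ab)
    (hβ : β ≫ Q.ρ = q ≫ bb) (p : T' ⟶ P) (h1 : α ≫ G.s = (p ≫ ιP) ≫ G.t)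
    (h2 : (p ≫ ιP) ≫ G.s = β ≫ G.t) :
    q ≫ pullback.lift ab bb h ≫ Q.cb = gc G (gc G α (p ≫ ιP)) β ≫ Q.ρ := by
  have hc : α ≫ G.s ≫ Q.π = β ≫ G.t ≫ Q.π := by
    have e1 : (α ≫ G.s) ≫ Q.π = ((p ≫ ιP) ≫ G.t) ≫ Q.π := by rw [h1]
    have e2 : (β ≫ G.t) ≫ Q.π = ((p ≫ ιP) ≫ G.s) ≫ Q.π := by rw [h2]
    have e3 := Q.conn_π p
    simp only [Category.assoc] at e1 e2 e3 ⊢
    rw [e1, e2, e3]
  let a : T' ⟶ Q.RR := pullback.lift α β hc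
  have ha : a ≫ Q.ρ₂ = q ≫ pullback.lift ab bb h := by
    apply pullback.hom_ext
    · rw [Category.assoc, Q.ρ₂_fst, pullback.lift_fst_assoc, Category.assoc, pullback.lift_fst, hα]
    · rw [Category.assoc, Q.ρ₂_snd, pullback.lift_snd_assoc, Category.assoc, pullback.lift_snd, hβ]
  rw [← Category.assoc, ← ha, Category.assoc, Q.ρ₂_cb,
    Q.comp_ct a p (by rw [pullback.lift_fst]; exact h1) (by rw [pullback.lift_snd]; exact h2),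
    pullback.lift_fst, pullback.lift_snd]

end QD

end Groth.Agent.H49.SubGrpd
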