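import Groth.Agent.H49.SubGrpdH2

/-!
# Descending the groupoid structure to the quotient by a subgroupoid, III: the groupoid (helper49)
-/

set_option autoImplicit false
set_option linter.style.haveILetI false

universe u

open CategoryTheory CategoryTheory.Limits AlgebraicGeometry

namespace Groth.Agent.H49.SubGrpd

open Groth.Agent.H90

variable {S : Scheme.{u}} {G : Grpd.GroupoidScheme S} {P : Scheme.{u}} {ιP : P ⟶ G.R}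
  {D : Data G ιP} (Q : QD D)

namespace QD

instance : Epi Q.ρ := epi_of_cover Q.ρ
instance : Epi Q.π := epi_of_cover Q.π

/-- local lifting of points of `R̄`. -/
theorem lift1 {T : Scheme.{u}} (ab : T ⟶ Q.Rb) :
    ∃ (T' : Scheme.{u}) (q : T' ⟶ T) (α : T' ⟶ G.R), Epi q ∧ α ≫ Q.ρ = q ≫ ab :=
  ⟨pullback ab Q.ρ, pullback.fst ab Q.ρ, pullback.snd ab Q.ρ, epi_of_cover _,
    pullback.condition.symm⟩

theorem lift2 {T : Scheme.{u}} (ab bb : T ⟶ Q.Rb) :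
    ∃ (T' : Scheme.{u}) (q : T' ⟶ T) (α β : T' ⟶ G.R), Epi q ∧ α ≫ Q.ρ = q ≫ ab ∧
      β ≫ Q.ρ = q ≫ bb := by
  obtain ⟨T₁, q₁, α, hq₁, hα⟩ := Q.lift1 ab
  obtain ⟨T₂, q₂, β, hq₂, hβ⟩ := Q.lift1 (q₁ ≫ bb)
  exact ⟨T₂, q₂ ≫ q₁, q₂ ≫ α, β, epi_comp _ _, by rw [Category.assoc, hα, Category.assoc],
    by rw [hβ, Category.assoc]⟩

theorem lift3 {T : Scheme.{u}} (ab bb cc : T ⟶ Q.Rb) :
    ∃ (T' : Scheme.{u}) (q : T' ⟶ T) (α β γ : T' ⟶ G.R), Epi q ∧ α ≫ Q.ρ = q ≫ ab ∧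
      β ≫ Q.ρ = q ≫ bb ∧ γ ≫ Q.ρ = q ≫ cc := by
  obtain ⟨T₁, q₁, α, β, hq₁, hα, hβ⟩ := Q.lift2 ab bb
  obtain ⟨T₂, q₂, γ, hq₂, hγ⟩ := Q.lift1 (q₁ ≫ cc)
  exact ⟨T₂, q₂ ≫ q₁, q₂ ≫ α, q₂ ≫ β, γ, epi_comp _ _,
    by rw [Category.assoc, hα, Category.assoc], by rw [Category.assoc, hβ, Category.assoc],
    by rw [hγ, Category.assoc]⟩

theorem sb_over : Q.sb ≫ Q.pUb = Q.pRb := by
  rw [← cancel_epi Q.ρ, ← Category.assoc, Q.ρ_sb, Category.assoc, Q.hπ, G.s_over, Q.hρ]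

theorem tb_over : Q.tb ≫ Q.pUb = Q.pRb := by
  rw [← cancel_epi Q.ρ, ← Category.assoc, Q.ρ_tb, Category.assoc, Q.hπ, G.t_over, Q.hρ]

theorem eb_sb : Q.eb ≫ Q.sb = 𝟙 _ := by
  rw [← cancel_epi Q.π, ← Category.assoc, Q.π_eb, Category.assoc, Q.ρ_sb, ← Category.assoc, G.e_s,
    Category.id_comp, Category.comp_id]

theorem eb_tb : Q.eb ≫ Q.tb = 𝟙 _ := by
  rw [← cancel_epi Q.π, ← Category.assoc, Q.π_eb, Category.assoc, Q.ρ_tb, ← Category.assoc, G.e_t,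
    Category.id_comp, Category.comp_id]

theorem ib_sb : Q.ib ≫ Q.sb = Q.tb := by
  rw [← cancel_epi Q.ρ, ← Category.assoc, Q.ρ_ib, Category.assoc, Q.ρ_sb, ← Category.assoc, G.i_s,
    Q.ρ_tb]

theorem ib_tb : Q.ib ≫ Q.tb = Q.sb := by
  rw [← cancel_epi Q.ρ, ← Category.assoc, Q.ρ_ib, Category.assoc, Q.ρ_tb, ← Category.assoc, G.i_t,
    Q.ρ_sb]

variable [Mono (ιP ≫ G.j)]

theorem cb_sb {T : Scheme.{u}} (ab bb : T ⟶ Q.Rb) (h : ab ≫ Q.sb = bb ≫ Q.tb) :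
    (pullback.lift ab bb h ≫ Q.cb) ≫ Q.sb = bb ≫ Q.sb := by
  obtain ⟨T', q, α, β, hq, hα, hβ⟩ := Q.lift2 ab bb
  obtain ⟨p, h1, h2⟩ := Q.exists_conn_of_lifts h q α β hα hβ
  rw [← cancel_epi q, ← Category.assoc, ← Category.assoc q, Category.assoc q,
    Q.cb_lift h q α β hα hβ p h1 h2, Category.assoc, Q.ρ_sb, ← Category.assoc,
    gc_s (by rw [gc_s h1]; exact h2), ← Category.assoc, ← hβ, Category.assoc, Category.assoc,
    Q.ρ_sb]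

theorem cb_tb {T : Scheme.{u}} (ab bb : T ⟶ Q.Rb) (h : ab ≫ Q.sb = bb ≫ Q.tb) :
    (pullback.lift ab bb h ≫ Q.cb) ≫ Q.tb = ab ≫ Q.tb := by
  obtain ⟨T', q, α, β, hq, hα, hβ⟩ := Q.lift2 ab bb
  obtain ⟨p, h1, h2⟩ := Q.exists_conn_of_lifts h q α β hα hβ
  rw [← cancel_epi q, ← Category.assoc, ← Category.assoc q, Category.assoc q,
    Q.cb_lift h q α β hα hβ p h1 h2, Category.assoc, Q.ρ_tb, ← Category.assoc,
    gc_t (by rw [gc_s h1]; exact h2), gc_t h1, ← Category.assoc, ← hα, Category.assoc,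
    Category.assoc, Q.ρ_tb]

end QD

end Groth.Agent.H49.SubGrpd
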