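import Groth.Agent.H49.SubGrpdH3

/-!
# Descending the groupoid structure to the quotient by a subgroupoid, IV: axioms (helper49)
-/

set_option autoImplicit false
set_option linter.style.haveILetI false

universe u

open CategoryTheory CategoryTheory.Limits AlgebraicGeometry

namespace Groth.Agent.H49.SubGrpd

open Groth.Agent.H90

variable {S : Scheme.{u}} {G : Grpd.GroupoidScheme S} {P : Scheme.{u}} {ιP : P ⟶ G.R}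
  {D : Data G ιP} (Q : QD D)

namespace QD

variable [Mono (ιP ≫ G.j)]

theorem cb_assoc {T : Scheme.{u}} (ab bb cc : T ⟶ Q.Rb) (h₁ : ab ≫ Q.sb = bb ≫ Q.tb)
    (h₂ : bb ≫ Q.sb = cc ≫ Q.tb) :
    pullback.lift (pullback.lift ab bb h₁ ≫ Q.cb) cc ((Q.cb_sb ab bb h₁).trans h₂) ≫ Q.cb =
      pullback.lift ab (pullback.lift bb cc h₂ ≫ Q.cb) (h₁.trans (Q.cb_tb bb cc h₂).symm) ≫
        Q.cb := by
  obtain ⟨T', q, α, β, γ, hq, hα, hβ, hγ⟩ := Q.lift3 ab bb cc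
  obtain ⟨p₁, a1, a2⟩ := Q.exists_conn_of_lifts h₁ q α β hα hβ
  obtain ⟨p₂, b1, b2⟩ := Q.exists_conn_of_lifts h₂ q β γ hβ hγ
  have hX : gc G (gc G α (p₁ ≫ ιP)) β ≫ Q.ρ = q ≫ pullback.lift ab bb h₁ ≫ Q.cb :=
    (Q.cb_lift h₁ q α β hα hβ p₁ a1 a2).symm
  have hY : gc G (gc G β (p₂ ≫ ιP)) γ ≫ Q.ρ = q ≫ pullback.lift bb cc h₂ ≫ Q.cb :=
    (Q.cb_lift h₂ q β γ hβ hγ p₂ b1 b2).symm
  have hXs : gc G (gc G α (p₁ ≫ ιP)) β ≫ G.s = (p₂ ≫ ιP) ≫ G.t := by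
    rw [gc_s (by rw [gc_s a1]; exact a2), b1]
  have hYt : (p₁ ≫ ιP) ≫ G.s = gc G (gc G β (p₂ ≫ ιP)) γ ≫ G.t := by
    rw [gc_t (by rw [gc_s b1]; exact b2), gc_t b1, a2]
  rw [← cancel_epi q,
    Q.cb_lift ((Q.cb_sb ab bb h₁).trans h₂) q _ γ hX hγ p₂ hXs b2,
    Q.cb_lift (h₁.trans (Q.cb_tb bb cc h₂).symm) q α _ hα hY p₁ a1 hYt]
  congr 1
  let Γ : (⟨γ ≫ G.s⟩ : Pt G T') ⟶ ⟨γ ≫ G.t⟩ := arr γ _ _ rfl rfl
  let P₂ : (⟨γ ≫ G.t⟩ : Pt G T') ⟶ ⟨β ≫ G.s⟩ := arr (p₂ ≫ ιP) _ _ b2 b1.symm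
  let B : (⟨β ≫ G.s⟩ : Pt G T') ⟶ ⟨β ≫ G.t⟩ := arr β _ _ rfl rfl
  let P₁ : (⟨β ≫ G.t⟩ : Pt G T') ⟶ ⟨α ≫ G.s⟩ := arr (p₁ ≫ ιP) _ _ a2 a1.symm
  let A : (⟨α ≫ G.s⟩ : Pt G T') ⟶ ⟨α ≫ G.t⟩ := arr α _ _ rfl rfl
  have main : Γ ≫ (P₂ ≫ (B ≫ (P₁ ≫ A))) = (Γ ≫ (P₂ ≫ B)) ≫ (P₁ ≫ A) := by
    simp only [Category.assoc]
  exact congrArg Subtype.val main

theorem cb_e {T : Scheme.{u}} (ab : T ⟶ Q.Rb) :
    pullback.lift ab (ab ≫ Q.sb ≫ Q.eb) (by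
      rw [Category.assoc, Category.assoc, Q.eb_tb, Category.comp_id]) ≫ Q.cb = ab := by
  obtain ⟨T', q, α, hq, hα⟩ := Q.lift1 ab
  have hβ : (α ≫ G.s ≫ G.e) ≫ Q.ρ = q ≫ ab ≫ Q.sb ≫ Q.eb := by
    rw [← Category.assoc q, ← hα, Category.assoc, Category.assoc, ← Q.π_eb, Category.assoc,
      ← Category.assoc Q.ρ, Q.ρ_sb, Category.assoc]
  have h1 : α ≫ G.s = (((α ≫ G.s) ≫ D.eP) ≫ ιP) ≫ G.t := by
    rw [Category.assoc (α ≫ G.s), D.heP, Category.assoc, G.e_t, Category.comp_id]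
  have h2 : ((((α ≫ G.s) ≫ D.eP) ≫ ιP)) ≫ G.s = (α ≫ G.s ≫ G.e) ≫ G.t := by
    rw [Category.assoc (α ≫ G.s), D.heP, Category.assoc, G.e_s, Category.comp_id,
      Category.assoc, Category.assoc, G.e_t, Category.comp_id]
  rw [← cancel_epi q, Q.cb_lift _ q α (α ≫ G.s ≫ G.e) hα hβ ((α ≫ G.s) ≫ D.eP) h1 h2, ← hα]
  congr 1
  rw [Category.assoc (α ≫ G.s), D.heP, gc_e' α (α ≫ G.s) rfl, gc_e]

theorem e_cb {T : Scheme.{u}} (ab : T ⟶ Q.Rb) :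
    pullback.lift (ab ≫ Q.tb ≫ Q.eb) ab (by
      rw [Category.assoc, Category.assoc, Q.eb_sb, Category.comp_id]) ≫ Q.cb = ab := by
  obtain ⟨T', q, α, hq, hα⟩ := Q.lift1 ab
  have hβ : (α ≫ G.t ≫ G.e) ≫ Q.ρ = q ≫ ab ≫ Q.tb ≫ Q.eb := by
    rw [← Category.assoc q, ← hα, Category.assoc, Category.assoc, ← Q.π_eb, Category.assoc,
      ← Category.assoc Q.ρ, Q.ρ_tb, Category.assoc]
  have h1 : (α ≫ G.t ≫ G.e) ≫ G.s = (((α ≫ G.t) ≫ D.eP) ≫ ιP) ≫ G.t := by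
    rw [Category.assoc (α ≫ G.t), D.heP, Category.assoc (α ≫ G.t), G.e_t, Category.comp_id,
      Category.assoc, Category.assoc, G.e_s, Category.comp_id]
  have h2 : ((((α ≫ G.t) ≫ D.eP) ≫ ιP)) ≫ G.s = α ≫ G.t := by
    rw [Category.assoc (α ≫ G.t), D.heP, Category.assoc, G.e_s, Category.comp_id]
  rw [← cancel_epi q, Q.cb_lift _ q (α ≫ G.t ≫ G.e) α hβ hα ((α ≫ G.t) ≫ D.eP) h1 h2, ← hα]
  congr 1
  rw [Category.assoc (α ≫ G.t), D.heP, ← Category.assoc α,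
    gc_e' ((α ≫ G.t) ≫ G.e) (α ≫ G.t) (by rw [Category.assoc, G.e_s, Category.comp_id]),
    e_gc' α (α ≫ G.t) rfl]

theorem cb_i {T : Scheme.{u}} (ab : T ⟶ Q.Rb) :
    pullback.lift ab (ab ≫ Q.ib) (by rw [Category.assoc, Q.ib_tb]) ≫ Q.cb =
      ab ≫ Q.tb ≫ Q.eb := by
  obtain ⟨T', q, α, hq, hα⟩ := Q.lift1 ab
  have hβ : (α ≫ G.i) ≫ Q.ρ = q ≫ ab ≫ Q.ib := by
    rw [← Category.assoc q, ← hα, Category.assoc, Category.assoc, Q.ρ_ib]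
  have h1 : α ≫ G.s = (((α ≫ G.s) ≫ D.eP) ≫ ιP) ≫ G.t := by
    rw [Category.assoc (α ≫ G.s), D.heP, Category.assoc, G.e_t, Category.comp_id]
  have h2 : ((((α ≫ G.s) ≫ D.eP) ≫ ιP)) ≫ G.s = (α ≫ G.i) ≫ G.t := by
    rw [Category.assoc (α ≫ G.s), D.heP, Category.assoc, G.e_s, Category.comp_id, i_t']
  rw [← cancel_epi q, Q.cb_lift _ q α (α ≫ G.i) hα hβ ((α ≫ G.s) ≫ D.eP) h1 h2,
    ← Category.assoc q, ← hα, Category.assoc (α ≫ G.s), D.heP, gc_e' α (α ≫ G.s) rfl, gc_i,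
    Category.assoc, Category.assoc, Category.assoc, ← Q.π_eb, ← Category.assoc Q.ρ, Q.ρ_tb,
    Category.assoc]

theorem i_cb {T : Scheme.{u}} (ab : T ⟶ Q.Rb) :
    pullback.lift (ab ≫ Q.ib) ab (by rw [Category.assoc, Q.ib_sb]) ≫ Q.cb =
      ab ≫ Q.sb ≫ Q.eb := by
  obtain ⟨T', q, α, hq, hα⟩ := Q.lift1 ab
  have hβ : (α ≫ G.i) ≫ Q.ρ = q ≫ ab ≫ Q.ib := by
    rw [← Category.assoc q, ← hα, Category.assoc, Category.assoc, Q.ρ_ib]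
  have h1 : (α ≫ G.i) ≫ G.s = (((α ≫ G.t) ≫ D.eP) ≫ ιP) ≫ G.t := by
    rw [Category.assoc (α ≫ G.t), D.heP, Category.assoc (α ≫ G.t), G.e_t, Category.comp_id, i_s']
  have h2 : ((((α ≫ G.t) ≫ D.eP) ≫ ιP)) ≫ G.s = α ≫ G.t := by
    rw [Category.assoc (α ≫ G.t), D.heP, Category.assoc, G.e_s, Category.comp_id]
  rw [← cancel_epi q, Q.cb_lift _ q (α ≫ G.i) α hβ hα ((α ≫ G.t) ≫ D.eP) h1 h2,
    ← Category.assoc q, ← hα, Category.assoc (α ≫ G.t), D.heP,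
    gc_e' (α ≫ G.i) (α ≫ G.t) (i_s' α), i_gc,
    Category.assoc, Category.assoc, Category.assoc, ← Q.π_eb, ← Category.assoc Q.ρ, Q.ρ_sb,
    Category.assoc]

/-- the quotient groupoid. -/
noncomputable def H : Grpd.GroupoidScheme S where
  U := Q.Ub
  R := Q.Rb
  pU := Q.pUb
  pR := Q.pRb
  s := Q.sb
  t := Q.tb
  e := Q.eb
  i := Q.ib
  c := Q.cb
  s_over := Q.sb_over
  t_over := Q.tb_over
  comp_s := Q.cb_sb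
  comp_t := Q.cb_tb
  assoc := Q.cb_assoc
  e_s := Q.eb_sb
  e_t := Q.eb_tb
  comp_e := Q.cb_e
  e_comp := Q.e_cb
  i_s := Q.ib_sb
  i_t := Q.ib_tb
  comp_i := Q.cb_i
  i_comp := Q.i_cb

/-- the quotient morphism of groupoids. -/
noncomputable def φ : Grpd.GroupoidScheme.Hom G Q.H where
  fU := Q.π
  fR := Q.ρ
  fU_over := Q.hπ
  comm_s := Q.ρ_sb
  comm_t := Q.ρ_tb
  comm_c {T} α β h := by
    have h1 : α ≫ G.s = (((α ≫ G.s) ≫ D.eP) ≫ ιP) ≫ G.t := by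
      rw [Category.assoc (α ≫ G.s), D.heP, Category.assoc, G.e_t, Category.comp_id]
    have h2 : ((((α ≫ G.s) ≫ D.eP) ≫ ιP)) ≫ G.s = β ≫ G.t := by
      rw [Category.assoc (α ≫ G.s), D.heP, Category.assoc, G.e_s, Category.comp_id, h]
    have hh : (α ≫ Q.ρ) ≫ Q.sb = (β ≫ Q.ρ) ≫ Q.tb := by
      rw [Category.assoc, Category.assoc, Q.ρ_sb, Q.ρ_tb, ← Category.assoc, ← Category.assoc, h]
    have := Q.cb_lift hh (𝟙 T) α β (Category.id_comp _).symm (Category.id_comp _).symm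
      ((α ≫ G.s) ≫ D.eP) h1 h2
    rw [Category.id_comp] at this
    change _ = pullback.lift (α ≫ Q.ρ) (β ≫ Q.ρ) _ ≫ Q.cb
    rw [this, Category.assoc (α ≫ G.s), D.heP, gc_e' α (α ≫ G.s) rfl, gc_eq h]
    rfl

end QD

end Groth.Agent.H49.SubGrpd
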