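import Groth.Agent.H49.SubGrpdH4

/-!
# Descending the groupoid structure to the quotient by a subgroupoid, V: `R = R̄ ×_{Ū×Ū} (U×U)`
(helper49)
-/

set_option autoImplicit false
set_option linter.style.haveILetI false

universe u

open CategoryTheory CategoryTheory.Limits AlgebraicGeometry

namespace Groth.Agent.H49.SubGrpd

open Groth.Agent.H90

/-- a pullback square from existence and uniqueness of lifts. -/
theorem isPullback_of_exists_unique {C : Type*} [Category C] {W X Y Z : C} {fst : W ⟶ X}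
    {snd : W ⟶ Y} {f : X ⟶ Z} {g : Y ⟶ Z} (w : fst ≫ f = snd ≫ g)
    (h : ∀ {T : C} (x : T ⟶ X) (y : T ⟶ Y), x ≫ f = y ≫ g → ∃ l : T ⟶ W, l ≫ fst = x ∧ l ≫ snd = y)
    (hu : ∀ {T : C} (l₁ l₂ : T ⟶ W), l₁ ≫ fst = l₂ ≫ fst → l₁ ≫ snd = l₂ ≫ snd → l₁ = l₂) :
    IsPullback fst snd f g :=
  ⟨⟨w⟩, ⟨PullbackCone.IsLimit.mk w (fun s => (h s.fst s.snd s.condition).choose)
    (fun s => (h s.fst s.snd s.condition).choose_spec.1)
    (fun s => (h s.fst s.snd s.condition).choose_spec.2)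
    (fun s _ h1 h2 => hu _ _ (h1.trans (h s.fst s.snd s.condition).choose_spec.1.symm)
      (h2.trans (h s.fst s.snd s.condition).choose_spec.2.symm))⟩⟩

variable {S : Scheme.{u}} {G : Grpd.GroupoidScheme S} {P : Scheme.{u}} {ιP : P ⟶ G.R}
  {D : Data G ιP} (Q : QD D)

namespace QD

variable [Mono (ιP ≫ G.j)]

/-- an arrow of `R` is determined by its class modulo `P` and its source and target. -/
theorem ρ_inj {T : Scheme.{u}} (l₁ l₂ : T ⟶ G.R) (hρ : l₁ ≫ Q.ρ = l₂ ≫ Q.ρ)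
    (ht : l₁ ≫ G.t = l₂ ≫ G.t) (hs : l₁ ≫ G.s = l₂ ≫ G.s) : l₁ = l₂ := by
  obtain ⟨p, p', h1, h2, h3⟩ := (Q.ρ_iff l₁ l₂).1 hρ
  have h12 : gc G (p ≫ ιP) l₁ ≫ G.s = (p' ≫ ιP) ≫ G.t := (gc_s h1).trans h2
  have ht2 : l₂ ≫ G.t = (p ≫ ιP) ≫ G.t := by rw [h3, gc_t h12, gc_t h1]
  have hs2 : l₂ ≫ G.s = (p' ≫ ιP) ≫ G.s := by rw [h3, gc_s h12]
  have hp : p = (l₁ ≫ G.t) ≫ D.eP := by
    apply hom_ext_P (G := G) (ιP := ιP)
    · rw [← Category.assoc, ← Category.assoc, ← ht2, ← ht, Category.assoc (l₁ ≫ G.t), D.heP,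
        Category.assoc, G.e_t, Category.comp_id]
    · rw [← Category.assoc, ← Category.assoc, h1, Category.assoc (l₁ ≫ G.t), D.heP,
        Category.assoc, G.e_s, Category.comp_id]
  have hp' : p' = (l₁ ≫ G.s) ≫ D.eP := by
    apply hom_ext_P (G := G) (ιP := ιP)
    · rw [← Category.assoc, ← Category.assoc, ← h2, Category.assoc (l₁ ≫ G.s), D.heP,
        Category.assoc, G.e_t, Category.comp_id]
    · rw [← Category.assoc, ← Category.assoc, ← hs2, ← hs, Category.assoc (l₁ ≫ G.s), D.heP,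
        Category.assoc, G.e_s, Category.comp_id]
  rw [h3, hp, hp', Category.assoc (l₁ ≫ G.t), D.heP, Category.assoc (l₁ ≫ G.s), D.heP,
    e_gc' l₁ (l₁ ≫ G.t) rfl, gc_e' l₁ (l₁ ≫ G.s) rfl]

omit [Mono (ιP ≫ G.j)] in
/-- local existence of lifts. -/
theorem exists_lift_loc {T : Scheme.{u}} (x : T ⟶ Q.Rb) (y₁ y₂ : T ⟶ G.U)
    (h1 : x ≫ Q.tb = y₁ ≫ Q.π) (h2 : x ≫ Q.sb = y₂ ≫ Q.π) :
    ∃ l' : pullback x Q.ρ ⟶ G.R, l' ≫ Q.ρ = pullback.fst x Q.ρ ≫ x ∧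
      l' ≫ G.t = pullback.fst x Q.ρ ≫ y₁ ∧ l' ≫ G.s = pullback.fst x Q.ρ ≫ y₂ := by
  set q := pullback.fst x Q.ρ
  set α₀ := pullback.snd x Q.ρ
  have hα₀ : α₀ ≫ Q.ρ = q ≫ x := pullback.condition.symm
  have e1 : (q ≫ y₁) ≫ Q.π = (α₀ ≫ G.t) ≫ Q.π := by
    rw [Category.assoc, ← h1, ← Category.assoc, ← hα₀, Category.assoc, Q.ρ_tb, Category.assoc]
  have e2 : (α₀ ≫ G.s) ≫ Q.π = (q ≫ y₂) ≫ Q.π := by
    rw [Category.assoc q, ← h2, ← Category.assoc q, ← hα₀, Category.assoc α₀ Q.ρ, Q.ρ_sb,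
      Category.assoc]
  obtain ⟨p, p1, p2⟩ := Q.exists_conn _ _ e1
  obtain ⟨p', p1', p2'⟩ := Q.exists_conn _ _ e2
  have h12 : gc G (p ≫ ιP) α₀ ≫ G.s = (p' ≫ ιP) ≫ G.t := (gc_s p2).trans p1'.symm
  refine ⟨gc G (gc G (p ≫ ιP) α₀) (p' ≫ ιP), ?_, ?_, ?_⟩
  · rw [← hα₀]
    exact ((Q.ρ_iff _ _).2 ⟨p, p', p2, p1'.symm, rfl⟩).symm
  · rw [gc_t h12, gc_t p2, p1]
  · rw [gc_s h12, p2']

/-- existence of lifts. -/
theorem exists_lift {T : Scheme.{u}} (x : T ⟶ Q.Rb) (y₁ y₂ : T ⟶ G.U)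
    (h1 : x ≫ Q.tb = y₁ ≫ Q.π) (h2 : x ≫ Q.sb = y₂ ≫ Q.π) :
    ∃ l : T ⟶ G.R, l ≫ Q.ρ = x ∧ l ≫ G.t = y₁ ∧ l ≫ G.s = y₂ := by
  obtain ⟨l', hl1, hl2, hl3⟩ := Q.exists_lift_loc x y₁ y₂ h1 h2
  obtain ⟨l, hl⟩ := exists_desc (pullback.fst x Q.ρ) l' (fun a b hab => by
    apply Q.ρ_inj
    · rw [Category.assoc, Category.assoc, hl1, ← Category.assoc, ← Category.assoc, hab]
    · rw [Category.assoc, Category.assoc, hl2, ← Category.assoc, ← Category.assoc, hab]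
    · rw [Category.assoc, Category.assoc, hl3, ← Category.assoc, ← Category.assoc, hab])
  haveI : Epi (pullback.fst x Q.ρ) := epi_of_cover _
  refine ⟨l, ?_, ?_, ?_⟩
  · rw [← cancel_epi (pullback.fst x Q.ρ), ← Category.assoc, hl, hl1]
  · rw [← cancel_epi (pullback.fst x Q.ρ), ← Category.assoc, hl, hl2]
  · rw [← cancel_epi (pullback.fst x Q.ρ), ← Category.assoc, hl, hl3]

theorem G_j_fst : G.j ≫ pullback.fst G.pU G.pU = G.t := pullback.lift_fst _ _ _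

theorem G_j_snd : G.j ≫ pullback.snd G.pU G.pU = G.s := pullback.lift_snd _ _ _

/-- `R = R̄ ×_{Ū ×_S Ū} (U ×_S U)`, in bare terms. -/
theorem isPullback_ρ' :
    IsPullback Q.ρ G.j (pullback.lift Q.tb Q.sb (Q.tb_over.trans Q.sb_over.symm))
      (pullback.map G.pU G.pU Q.pUb Q.pUb Q.π Q.π (𝟙 S)
        ((Category.comp_id _).trans Q.hπ.symm) ((Category.comp_id _).trans Q.hπ.symm)) := by
  apply isPullback_of_exists_unique
  · apply pullback.hom_ext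
    · rw [Category.assoc, Category.assoc, pullback.lift_fst, pullback.lift_fst, ← Category.assoc,
        G_j_fst, Q.ρ_tb]
    · rw [Category.assoc, Category.assoc, pullback.lift_snd, pullback.lift_snd, ← Category.assoc,
        G_j_snd, Q.ρ_sb]
  · intro T x y hxy
    have h1 : x ≫ Q.tb = (y ≫ pullback.fst _ _) ≫ Q.π := by
      have := congrArg (· ≫ pullback.fst Q.pUb Q.pUb) hxy
      simpa only [Category.assoc, pullback.lift_fst] using this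
    have h2 : x ≫ Q.sb = (y ≫ pullback.snd _ _) ≫ Q.π := by
      have := congrArg (· ≫ pullback.snd Q.pUb Q.pUb) hxy
      simpa only [Category.assoc, pullback.lift_snd] using this
    obtain ⟨l, hl1, hl2, hl3⟩ := Q.exists_lift x _ _ h1 h2
    refine ⟨l, hl1, ?_⟩
    apply pullback.hom_ext
    · rw [Category.assoc, G_j_fst, hl2]
    · rw [Category.assoc, G_j_snd, hl3]
  · intro T l₁ l₂ h1 h2
    apply Q.ρ_inj l₁ l₂ h1
    · have := congrArg (· ≫ pullback.fst G.pU G.pU) h2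
      simpa only [Category.assoc, G_j_fst] using this
    · have := congrArg (· ≫ pullback.snd G.pU G.pU) h2
      simpa only [Category.assoc, G_j_snd] using this

/-- `R = R̄ ×_{Ū ×_S Ū} (U ×_S U)`. -/
theorem isPullback_ρ :
    IsPullback Q.φ.fR G.j Q.H.j
      (pullback.map G.pU G.pU Q.H.pU Q.H.pU Q.φ.fU Q.φ.fU (𝟙 S)
        ((Category.comp_id _).trans Q.φ.fU_over.symm)
        ((Category.comp_id _).trans Q.φ.fU_over.symm)) :=
  Q.isPullback_ρ'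

end QD

end Groth.Agent.H49.SubGrpd
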