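import Groth.Agent.H49.SubGrpdA
import Groth.Agent.H49.SubGrpdAff
import Groth.Agent.H40.GQ.EqvQuot

/-!
# The quotient `R̄ = R / (P × P)` (helper49)
-/

set_option autoImplicit false
set_option linter.style.haveILetI false

universe u

open CategoryTheory CategoryTheory.Limits AlgebraicGeometry

namespace Groth.Agent.H49.SubGrpd

open Groth.Agent.H90

variable {S : Scheme.{u}} {G : Grpd.GroupoidScheme S} {P : Scheme.{u}} {ιP : P ⟶ G.R}
  (D : Data G ιP)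

variable (G ιP) in
theorem tA_over : tA G ιP ≫ G.pR = αA G ιP ≫ G.pR := by
  have h1 := gc_s ((gc_s (pA_αA G ιP)).trans (αA_qA G ιP))
  have h2 := αA_qA G ιP
  calc tA G ιP ≫ G.pR = (tA G ιP ≫ G.s) ≫ G.pU := by rw [Category.assoc, G.s_over]
    _ = ((qA G ιP ≫ ιP) ≫ G.s) ≫ G.pU := by rw [show tA G ιP ≫ G.s = _ from h1]
    _ = ((qA G ιP ≫ ιP) ≫ G.t) ≫ G.pU := by
      simp only [Category.assoc, G.s_over, G.t_over]
    _ = (αA G ιP ≫ G.s) ≫ G.pU := by rw [h2]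
    _ = αA G ιP ≫ G.pR := by rw [Category.assoc, G.s_over]

variable (G ιP) in
/-- `R` over `S`. -/
noncomputable def RO : Over S := Over.mk G.pR

variable (G ιP) in
/-- `A` over `S`. -/
noncomputable def AO : Over S := Over.mk (αA G ιP ≫ G.pR)

variable (G ιP) in
noncomputable def sO : AO G ιP ⟶ RO G := Over.homMk (αA G ιP) rfl

variable (G ιP) in
noncomputable def tO : AO G ιP ⟶ RO G := Over.homMk (tA G ιP) (tA_over G ιP)

include D in
theorem isEqvRel [Mono (ιP ≫ G.j)] : AlgSp.IsEqvRel (sO G ιP) (tO G ιP) := by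
  have key : ∀ (T : Over S) (a b : T ⟶ RO G) (al bl : T.left ⟶ G.R), al = a.left → bl = b.left →
      ((∃ r : T ⟶ AO G ιP, r ≫ tO G ιP = a ∧ r ≫ sO G ιP = b) ↔ Rel D bl al) := by
    intro T a b al bl hal hbl
    rw [rel_iff]
    constructor
    · rintro ⟨r, rfl, rfl⟩
      obtain ⟨rl, hrl⟩ : ∃ rl : T.left ⟶ A G ιP, rl = r.left := ⟨r.left, rfl⟩
      refine ⟨rl, ?_, ?_⟩
      · rw [hbl, hrl]; rfl
      · rw [hal, hrl]; rfl
    · rintro ⟨r, h1, h2⟩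
      refine ⟨Over.homMk r ?_, ?_, ?_⟩
      · change r ≫ αA G ιP ≫ G.pR = T.hom
        rw [← Category.assoc, h1, hbl]
        exact Over.w b
      · ext1; exact h2.trans hal
      · ext1; exact h1.trans hbl
  have key' : ∀ (T : Over S) (a b : T ⟶ RO G),
      ((∃ r : T ⟶ AO G ιP, r ≫ tO G ιP = a ∧ r ≫ sO G ιP = b) ↔
        ∃ al bl : T.left ⟶ G.R, al = a.left ∧ bl = b.left ∧ Rel D bl al) := by
    intro T a b
    constructor
    · intro h
      exact ⟨a.left, b.left, rfl, rfl, (key T a b a.left b.left rfl rfl).1 h⟩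
    · rintro ⟨al, bl, hal, hbl, h⟩
      exact (key T a b al bl hal hbl).2 h
  refine ⟨?_, ?_⟩
  · intro T r r' ht hs
    ext1
    obtain ⟨rl, hrl⟩ : ∃ rl : T.left ⟶ A G ιP, rl = r.left := ⟨r.left, rfl⟩
    obtain ⟨rl', hrl'⟩ : ∃ rl' : T.left ⟶ A G ιP, rl' = r'.left := ⟨r'.left, rfl⟩
    have h1 : rl ≫ αA G ιP = rl' ≫ αA G ιP := by
      rw [hrl, hrl']; exact congrArg CommaMorphism.left hs
    have h2 : rl ≫ tA G ιP = rl' ≫ tA G ιP := by
      rw [hrl, hrl']; exact congrArg CommaMorphism.left ht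
    rw [← hrl, ← hrl']
    exact A_inj rl rl' h1 h2
  · intro T
    refine ⟨fun a => (key' T a a).2 ⟨a.left, a.left, rfl, rfl, Rel.refl _⟩, ?_, ?_⟩
    · intro a b h
      obtain ⟨al, bl, hal, hbl, h⟩ := (key' T a b).1 h
      exact (key' T b a).2 ⟨bl, al, hbl, hal, h.symm⟩
    · intro a b c h h'
      obtain ⟨al, bl, hal, hbl, h⟩ := (key' T a b).1 h
      obtain ⟨bl', cl, hbl', hcl, h'⟩ := (key' T b c).1 h'
      have : bl' = bl := hbl'.trans hbl.symm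
      subst this
      exact (key' T a c).2 ⟨al, cl, hal, hcl, h'.trans h⟩

theorem horb [IsAffine G.U] [IsSeparated G.j] [LocallyQuasiFinite G.j] [LocallyOfFiniteType G.j]
    [IsFinite (ιP ≫ G.s)] [IsFinite (ιP ≫ G.t)] (x : G.R) :
    ∃ V : G.R.Opens, IsAffineOpen V ∧ ∀ a : A G ιP, αA G ιP a = x → tA G ιP a ∈ V := by
  have hfin : (tA G ιP '' (αA G ιP ⁻¹' {x})).Finite :=
    (Scheme.Hom.finite_preimage_singleton (αA G ιP) x).image _
  obtain ⟨V, hV, hsub⟩ := exists_isAffineOpen_of_finite_of_lqf G.j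
    (fun E hE => exists_isAffineOpen_of_finite_pullback G.pU E hE) _ hfin
  exact ⟨V, hV, fun a ha => hsub ⟨a, ha, rfl⟩⟩

/-- **the quotient `R̄`.** -/
theorem exists_Rbar [Mono (ιP ≫ G.j)] [IsAffine G.U] [IsSeparated G.j] [LocallyQuasiFinite G.j]
    [LocallyOfFiniteType G.j]
    [IsFinite (ιP ≫ G.s)] [Flat (ιP ≫ G.s)] [LocallyOfFinitePresentation (ιP ≫ G.s)]
    [IsFinite (ιP ≫ G.t)] [Flat (ιP ≫ G.t)] [LocallyOfFinitePresentation (ιP ≫ G.t)] :
    ∃ (Rb : Scheme.{u}) (ρ : G.R ⟶ Rb) (pRb : Rb ⟶ S), ρ ≫ pRb = G.pR ∧ IsFinite ρ ∧ Flat ρ ∧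
      LocallyOfFinitePresentation ρ ∧ Surjective ρ ∧
      ∀ {T : Scheme.{u}} (α β : T ⟶ G.R), α ≫ ρ = β ≫ ρ ↔ Rel D α β := by
  haveI : IsFinite (sO G ιP).left := inferInstanceAs (IsFinite (αA G ιP))
  haveI : Flat (sO G ιP).left := inferInstanceAs (Flat (αA G ιP))
  haveI : LocallyOfFinitePresentation (sO G ιP).left :=
    inferInstanceAs (LocallyOfFinitePresentation (αA G ιP))
  obtain ⟨M, m, h1, h2, h3, h4, hpb, -⟩ :=
    Groth.Agent.H40.GQ.exists_quotient_of_isEqvRel (sO G ιP) (tO G ιP) (isEqvRel D)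
      (fun x => horb x)
  obtain ⟨ρ, hρ⟩ : ∃ ρ : G.R ⟶ M.left, ρ = m.left := ⟨m.left, rfl⟩
  have hpb' : IsPullback (tA G ιP) (αA G ιP) ρ ρ := hρ ▸ hpb
  refine ⟨M.left, ρ, M.hom, hρ ▸ Over.w m, hρ ▸ h1, hρ ▸ h2, hρ ▸ h3, hρ ▸ h4, ?_⟩
  clear hρ hpb h1 h2 h3 h4
  intro T α β
  constructor
  · intro h
    have hr : Rel D β α := by
      rw [rel_iff]
      exact ⟨hpb'.lift α β h, hpb'.lift_snd _ _ _, hpb'.lift_fst _ _ _⟩
    exact hr.symm
  · intro h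
    obtain ⟨a, rfl, rfl⟩ := (rel_iff D α β).1 h
    rw [Category.assoc, Category.assoc, hpb'.w]

end Groth.Agent.H49.SubGrpd
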