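import Groth.Agent.H49.SubGrpdP
import Groth.Agent.H40.GQ.EqvQuot

/-!
# The quotient `Ū = U / P` of an affine scheme by a finite locally free subgroupoid (helper49)
-/

set_option autoImplicit false
set_option linter.style.haveILetI false
set_option backward.isDefEq.respectTransparency.types false

universe u

open CategoryTheory CategoryTheory.Limits AlgebraicGeometry

namespace Groth.Agent.H49.SubGrpd

open Groth.Agent.H90 Groth.Agent.H40.GQ Groth.Agent.H40.FG

variable {S : Scheme.{u}}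

/-- the quotient of an affine scheme by a finite locally free groupoid with `j` a monomorphism. -/
theorem exists_quot_affine (K : Grpd.GroupoidScheme S) [IsFinite K.s] [Flat K.s]
    [LocallyOfFinitePresentation K.s] [Mono K.j] [IsAffine K.U] :
    ∃ (Ub : Scheme.{u}) (π : K.U ⟶ Ub) (pUb : Ub ⟶ S) (hπ : π ≫ pUb = K.pU), IsAffine Ub ∧
      IsFinite π ∧ Flat π ∧ LocallyOfFinitePresentation π ∧ Surjective π ∧
      IsPullback K.t K.s π π ∧
      QuotSh.IsQuotient Scheme.fppfPrecoverage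
        (Over.homMk K.s K.s_over : (Over.mk K.pR : Over S) ⟶ Over.mk K.pU)
        (Over.homMk K.t K.t_over : (Over.mk K.pR : Over S) ⟶ Over.mk K.pU)
        (Over.homMk π hπ : Over.mk K.pU ⟶ Over.mk pUb) := by
  have hcov : Covers K := fun x => ⟨⟨⊤, isAffineOpen_top K.U, isInv_top' K⟩, trivial⟩
  have hpb : IsPullback K.t K.s (quotP hcov) (quotP hcov) := isPullback_quotP hcov
  haveI : QuasiCompact (quotP hcov) := inferInstance
  have hee : EffectiveEpi (quotP hcov) := inferInstance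
  have hdesc : ∀ {Z : Scheme.{u}} (g₁ g₂ : Z ⟶ K.U),
      g₁ ≫ quotP hcov = g₂ ≫ quotP hcov → g₁ ≫ K.pU = g₂ ≫ K.pU := by
    intro Z g₁ g₂ hg
    have h1 : hpb.lift g₁ g₂ hg ≫ K.t = g₁ := hpb.lift_fst _ _ _
    have h2 : hpb.lift g₁ g₂ hg ≫ K.s = g₂ := hpb.lift_snd _ _ _
    calc g₁ ≫ K.pU = (hpb.lift g₁ g₂ hg ≫ K.t) ≫ K.pU := by rw [h1]
      _ = (hpb.lift g₁ g₂ hg ≫ K.s) ≫ K.pU := by
        simp only [Category.assoc, K.t_over, K.s_over]
      _ = g₂ ≫ K.pU := by rw [h2]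
  have hm : quotP hcov ≫ EffectiveEpi.desc (quotP hcov) K.pU hdesc = K.pU :=
    EffectiveEpi.fac _ _ _
  refine ⟨quotY K, quotP hcov, EffectiveEpi.desc (quotP hcov) K.pU hdesc, hm,
    isAffine_quotY hcov, inferInstance, inferInstance, inferInstance, inferInstance, hpb, ?_⟩
  apply Groth.Agent.H40.QuotShLoc.isQuotient_of_isKernelPair
  · refine IsPullback.of_map (Over.forget S) ?_ hpb.flip
    apply Over.OverMorphism.ext
    simp only [Over.comp_left, Over.homMk_left]
    exact (t_quotP hcov).symm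
  · intro T y
    apply Groth.Agent.H40.QuotShLoc.liftSieve_mem_of_cover
    intro Z g
    change Presieve.singleton (pullback.fst g (quotP hcov)) ∈ _
    exact Scheme.Hom.singleton_mem_fppfPrecoverage _

variable {G : Grpd.GroupoidScheme S} {P : Scheme.{u}} {ιP : P ⟶ G.R} (D : Data G ιP)

include D in
/-- **the quotient `Ū = U/P`.** -/
theorem exists_Ubar [Mono ιP] [Mono (ιP ≫ G.j)] [IsAffine G.U]
    [IsFinite (ιP ≫ G.s)] [Flat (ιP ≫ G.s)] [LocallyOfFinitePresentation (ιP ≫ G.s)] :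
    ∃ (Ub : Scheme.{u}) (π : G.U ⟶ Ub) (pUb : Ub ⟶ S) (hπ : π ≫ pUb = G.pU), IsAffine Ub ∧
      IsFinite π ∧ Flat π ∧ LocallyOfFinitePresentation π ∧ Surjective π ∧
      IsPullback (ιP ≫ G.t) (ιP ≫ G.s) π π ∧
      QuotSh.IsQuotient Scheme.fppfPrecoverage
        (Over.homMk (ιP ≫ G.s) ((Category.assoc _ _ _).trans (congrArg (ιP ≫ ·) G.s_over)) :
          (Over.mk (ιP ≫ G.pR) : Over S) ⟶ Over.mk G.pU)
        (Over.homMk (ιP ≫ G.t) ((Category.assoc _ _ _).trans (congrArg (ιP ≫ ·) G.t_over)) :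
          (Over.mk (ιP ≫ G.pR) : Over S) ⟶ Over.mk G.pU)
        (Over.homMk π hπ : Over.mk G.pU ⟶ Over.mk pUb) := by
  haveI : IsFinite D.GP.s := ‹IsFinite (ιP ≫ G.s)›
  haveI : Flat D.GP.s := ‹Flat (ιP ≫ G.s)›
  haveI : LocallyOfFinitePresentation D.GP.s := ‹LocallyOfFinitePresentation (ιP ≫ G.s)›
  haveI : Mono D.GP.j := D.mono_GP_j
  haveI : IsAffine D.GP.U := ‹IsAffine G.U›
  exact exists_quot_affine D.GP

end Groth.Agent.H49.SubGrpd
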