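import Groth.Agent.H49.SubGrpdH5
import Groth.Agent.H49.SubGrpdUbar
import Groth.Agent.H49.SubGrpdRbar

/-!
# The quotient of a groupoid by a finite locally free subgroupoid (helper49)
-/

set_option autoImplicit false
set_option linter.style.haveILetI false

universe u

open CategoryTheory CategoryTheory.Limits AlgebraicGeometry

namespace Groth.Agent.H49.SubGrpd

open Groth.Agent.H90

variable {S : Scheme.{u}} {G : Grpd.GroupoidScheme S} {P : Scheme.{u}} {ιP : P ⟶ G.R}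

theorem main (D : Data G ιP) [Mono ιP] [Mono (ιP ≫ G.j)] [IsAffine G.U] [IsSeparated G.j]
    [LocallyQuasiFinite G.j] [LocallyOfFiniteType G.j]
    [IsFinite (ιP ≫ G.s)] [Flat (ιP ≫ G.s)] [LocallyOfFinitePresentation (ιP ≫ G.s)]
    [IsFinite (ιP ≫ G.t)] [Flat (ιP ≫ G.t)] [LocallyOfFinitePresentation (ιP ≫ G.t)] :
    ∃ (H : Grpd.GroupoidScheme S) (φ : Grpd.GroupoidScheme.Hom G H),
      IsAffine H.U ∧
      QuotSh.IsQuotient Scheme.fppfPrecoverage
        (Over.homMk (ιP ≫ G.s) ((Category.assoc _ _ _).trans (congrArg (ιP ≫ ·) G.s_over)) :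
          (Over.mk (ιP ≫ G.pR) : Over S) ⟶ Over.mk G.pU)
        (Over.homMk (ιP ≫ G.t) ((Category.assoc _ _ _).trans (congrArg (ιP ≫ ·) G.t_over)) :
          (Over.mk (ιP ≫ G.pR) : Over S) ⟶ Over.mk G.pU)
        (Over.homMk φ.fU φ.fU_over : Over.mk G.pU ⟶ Over.mk H.pU) ∧
      IsFinite φ.fU ∧ Flat φ.fU ∧ LocallyOfFinitePresentation φ.fU ∧
      IsPullback (ιP ≫ G.t) (ιP ≫ G.s) φ.fU φ.fU ∧
      IsPullback φ.fR G.j H.j
        (pullback.map G.pU G.pU H.pU H.pU φ.fU φ.fU (𝟙 S)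
          ((Category.comp_id _).trans φ.fU_over.symm)
          ((Category.comp_id _).trans φ.fU_over.symm)) := by
  obtain ⟨Ub, π, pUb, hπ, hUb, hfin, hflat, hlfp, hsurj, hpb, hquot⟩ := exists_Ubar D
  obtain ⟨Rb, ρ, pRb, hρ, hρfin, hρflat, hρlfp, hρsurj, hρiff⟩ := exists_Rbar D
  let Q : QD D :=
    { Ub := Ub, π := π, pUb := pUb, hπ := hπ, flatπ := hflat, surjπ := hsurj
      qcπ := inferInstance, hpb := hpb, Rb := Rb, ρ := ρ, pRb := pRb, hρ := hρ, flatρ := hρflat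
      surjρ := hρsurj, qcρ := inferInstance, ρ_iff := hρiff }
  exact ⟨Q.H, Q.φ, hUb, hquot, hfin, hflat, hlfp, hpb, Q.isPullback_ρ⟩

end Groth.Agent.H49.SubGrpd
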