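import Groth.Agent.H90.GrpdFibre
import Groth.Agent.H40.GQ.Restrict2

/-!
# A subgroupoid `P ⟶ R` of a groupoid scheme (helper49)

For a groupoid scheme `G = (U, R, s, t, c, e, i)` and a monomorphism `ιP : P ⟶ R` through which the
identity, the inverse (restricted to `P`) and the composition (restricted to `P ×_U P`) factor, the
groupoid scheme `(U, P, s|_P, t|_P, …)`.
-/

set_option autoImplicit false
set_option linter.style.haveILetI false

universe u

open CategoryTheory CategoryTheory.Limits AlgebraicGeometry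

namespace Groth.Agent.H49.SubGrpd

open Groth.Agent.H90

variable {S : Scheme.{u}} (G : Grpd.GroupoidScheme S) {P : Scheme.{u}} (ιP : P ⟶ G.R)

/-- the closure data of a subgroupoid. -/
structure Data where
  eP : G.U ⟶ P
  heP : eP ≫ ιP = G.e
  iP : P ⟶ P
  hiP : iP ≫ ιP = ιP ≫ G.i
  cP : pullback (ιP ≫ G.s) (ιP ≫ G.t) ⟶ P
  hcP : cP ≫ ιP = pullback.map (ιP ≫ G.s) (ιP ≫ G.t) G.s G.t ιP ιP (𝟙 G.U)
    (Category.comp_id _) (Category.comp_id _) ≫ G.c

variable {G ιP} (D : Data G ιP)

theorem Data.lift_cP_ι {T : Scheme.{u}} (α β : T ⟶ P) (h : α ≫ ιP ≫ G.s = β ≫ ιP ≫ G.t) :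
    (pullback.lift α β h ≫ D.cP) ≫ ιP =
      gcomp G (α ≫ ιP) (β ≫ ιP) (by rw [Category.assoc, Category.assoc, h]) := by
  rw [Category.assoc, D.hcP, ← Category.assoc]
  unfold gcomp
  congr 1
  apply pullback.hom_ext
  · rw [Category.assoc, pullback.lift_fst, pullback.lift_fst_assoc, pullback.lift_fst]
  · rw [Category.assoc, pullback.lift_snd, pullback.lift_snd_assoc, pullback.lift_snd]

variable [Mono ιP]

/-- the subgroupoid as a groupoid scheme. -/
noncomputable def Data.GP : Grpd.GroupoidScheme S where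
  U := G.U
  R := P
  pU := G.pU
  pR := ιP ≫ G.pR
  s := ιP ≫ G.s
  t := ιP ≫ G.t
  e := D.eP
  i := D.iP
  c := D.cP
  s_over := by rw [Category.assoc, G.s_over]
  t_over := by rw [Category.assoc, G.t_over]
  comp_s α β h := by
    rw [← Category.assoc, D.lift_cP_ι α β h, gcomp_s, Category.assoc]
  comp_t α β h := by
    rw [← Category.assoc, D.lift_cP_ι α β h, gcomp_t, Category.assoc]
  assoc α β γ h₁ h₂ := by
    rw [← cancel_mono ιP]
    refine (D.lift_cP_ι _ _ _).trans (Eq.trans ?_ (D.lift_cP_ι _ _ _).symm)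
    have e1 := D.lift_cP_ι α β h₁
    have e2 := D.lift_cP_ι β γ h₂
    refine (gcomp_congr G e1 rfl _
      (by rw [gcomp_s, Category.assoc, Category.assoc, h₂])).trans ?_
    refine Eq.trans ?_ (gcomp_congr G rfl e2 _
      (by rw [gcomp_t, Category.assoc, Category.assoc, h₁])).symm
    exact gcomp_assoc G _ _ _ _ _
  e_s := by rw [← Category.assoc, D.heP, G.e_s]
  e_t := by rw [← Category.assoc, D.heP, G.e_t]
  comp_e α := by
    rw [← cancel_mono ιP, D.lift_cP_ι]
    apply gcomp_e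
    simp only [Category.assoc, D.heP]
  e_comp α := by
    rw [← cancel_mono ιP, D.lift_cP_ι]
    apply e_gcomp
    simp only [Category.assoc, D.heP]
  i_s := by rw [← Category.assoc, D.hiP, Category.assoc, G.i_s]
  i_t := by rw [← Category.assoc, D.hiP, Category.assoc, G.i_t]
  comp_i α := by
    rw [← cancel_mono ιP, D.lift_cP_ι, gcomp_i G (α ≫ ιP) ((α ≫ D.iP) ≫ ιP)
      (by rw [Category.assoc, D.hiP, Category.assoc])]
    simp only [Category.assoc, D.heP]
  i_comp α := by
    rw [← cancel_mono ιP, D.lift_cP_ι, i_gcomp G (α ≫ ιP) ((α ≫ D.iP) ≫ ιP)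
      (by rw [Category.assoc, D.hiP, Category.assoc])]
    simp only [Category.assoc, D.heP]

omit [Mono ιP] in
/-- points of `P` are determined by their source and target. -/
theorem hom_ext_P [Mono (ιP ≫ G.j)] {T : Scheme.{u}} (p q : T ⟶ P)
    (ht : p ≫ ιP ≫ G.t = q ≫ ιP ≫ G.t) (hs : p ≫ ιP ≫ G.s = q ≫ ιP ≫ G.s) : p = q := by
  rw [← cancel_mono (ιP ≫ G.j)]
  unfold Grpd.GroupoidScheme.j
  apply pullback.hom_ext
  · simp only [Category.assoc, pullback.lift_fst]; exact ht
  · simp only [Category.assoc, pullback.lift_snd]; exact hs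

instance Data.mono_GP_j [Mono (ιP ≫ G.j)] : Mono D.GP.j := by
  constructor
  intro T a b hab
  have h1 := congrArg (· ≫ pullback.fst _ _) hab
  have h2 := congrArg (· ≫ pullback.snd _ _) hab
  simp only [Grpd.GroupoidScheme.j, Category.assoc, pullback.lift_fst, pullback.lift_snd] at h1 h2
  exact hom_ext_P (G := G) (ιP := ιP) a b h1 h2

instance Data.isFinite_GP_s [IsFinite (ιP ≫ G.s)] : IsFinite D.GP.s := ‹_›
instance Data.flat_GP_s [Flat (ιP ≫ G.s)] : Flat D.GP.s := ‹_›
instance Data.lfp_GP_s [LocallyOfFinitePresentation (ιP ≫ G.s)] :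
    LocallyOfFinitePresentation D.GP.s := ‹_›
instance Data.isFinite_GP_t [IsFinite (ιP ≫ G.t)] : IsFinite D.GP.t := ‹_›
instance Data.flat_GP_t [Flat (ιP ≫ G.t)] : Flat D.GP.t := ‹_›
instance Data.lfp_GP_t [LocallyOfFinitePresentation (ιP ≫ G.t)] :
    LocallyOfFinitePresentation D.GP.t := ‹_›

end Groth.Agent.H49.SubGrpd
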