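import Groth.Agent.H49.SubGrpdCalc

/-!
# The two-sided action of a subgroupoid `P` on the arrows `R` (helper49)

`Rel α β` : `β = p ∘ α ∘ p'` for `T`-points `p, p'` of `P`; the scheme `A = P ×_U R ×_U P` of such
triples.
-/

set_option autoImplicit false
set_option linter.style.haveILetI false

universe u

open CategoryTheory CategoryTheory.Limits AlgebraicGeometry

namespace Groth.Agent.H49.SubGrpd

open Groth.Agent.H90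

variable {S : Scheme.{u}} {G : Grpd.GroupoidScheme S} {P : Scheme.{u}} {ιP : P ⟶ G.R}
  (D : Data G ιP)

section closure
variable {T : Scheme.{u}}

theorem Data.e_ι (x : T ⟶ G.U) : (x ≫ D.eP) ≫ ιP = x ≫ G.e := by
  rw [Category.assoc, D.heP]

theorem Data.i_ι (p : T ⟶ P) : (p ≫ D.iP) ≫ ιP = (p ≫ ιP) ≫ G.i := by
  rw [Category.assoc, D.hiP, Category.assoc]

/-- the composition of two composable points of `P`. -/
noncomputable def Data.mulP (p q : T ⟶ P) (h : (p ≫ ιP) ≫ G.s = (q ≫ ιP) ≫ G.t) : T ⟶ P :=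
  pullback.lift p q (by rw [← Category.assoc, h, Category.assoc]) ≫ D.cP

theorem Data.mulP_ι (p q : T ⟶ P) (h : (p ≫ ιP) ≫ G.s = (q ≫ ιP) ≫ G.t) :
    D.mulP p q h ≫ ιP = gc G (p ≫ ιP) (q ≫ ιP) := by
  rw [gc_eq h]
  exact D.lift_cP_ι p q _

end closure

/-- `β = p ∘ α ∘ p'` for some points `p, p'` of `P`. -/
def Rel (_ : Data G ιP) {T : Scheme.{u}} (α β : T ⟶ G.R) : Prop :=
  ∃ p p' : T ⟶ P, (p ≫ ιP) ≫ G.s = α ≫ G.t ∧ α ≫ G.s = (p' ≫ ιP) ≫ G.t ∧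
    β = gc G (gc G (p ≫ ιP) α) (p' ≫ ιP)

variable {D} {T : Scheme.{u}}

theorem Rel.refl (α : T ⟶ G.R) : Rel D α α := by
  refine ⟨(α ≫ G.t) ≫ D.eP, (α ≫ G.s) ≫ D.eP, ?_, ?_, ?_⟩
  · rw [D.e_ι, Category.assoc, G.e_s, Category.comp_id]
  · rw [D.e_ι, Category.assoc, G.e_t, Category.comp_id]
  · rw [D.e_ι, D.e_ι, e_gc' α _ rfl, gc_e' α _ rfl]

theorem Rel.t_eq {α β : T ⟶ G.R} (h : Rel D α β) :
    ∃ p : T ⟶ P, (p ≫ ιP) ≫ G.s = α ≫ G.t ∧ (p ≫ ιP) ≫ G.t = β ≫ G.t := by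
  obtain ⟨p, p', h1, h2, rfl⟩ := h
  exact ⟨p, h1, by rw [gc_t ((gc_s h1).trans h2), gc_t h1]⟩

theorem Rel.s_eq {α β : T ⟶ G.R} (h : Rel D α β) :
    ∃ p' : T ⟶ P, α ≫ G.s = (p' ≫ ιP) ≫ G.t ∧ (p' ≫ ιP) ≫ G.s = β ≫ G.s := by
  obtain ⟨p, p', h1, h2, rfl⟩ := h
  exact ⟨p', h2, by rw [gc_s ((gc_s h1).trans h2)]⟩

theorem Rel.symm {α β : T ⟶ G.R} (h : Rel D α β) : Rel D β α := by
  obtain ⟨p, p', h1, h2, rfl⟩ := h
  have h12 : gc G (p ≫ ιP) α ≫ G.s = (p' ≫ ιP) ≫ G.t := (gc_s h1).trans h2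
  refine ⟨p ≫ D.iP, p' ≫ D.iP, ?_, ?_, ?_⟩
  · rw [D.i_ι, i_s', gc_t h12, gc_t h1]
  · rw [D.i_ι, i_t', gc_s h12]
  · rw [D.i_ι, D.i_ι]
    have e1 : gc G ((p ≫ ιP) ≫ G.i) (gc G (gc G (p ≫ ιP) α) (p' ≫ ιP)) = gc G α (p' ≫ ιP) := by
      rw [gc_assoc h1 h2, ← gc_assoc (i_s' _) (by rw [gc_t h2, h1]), i_gc, e_gc' _ _ (by
        rw [gc_t h2, h1])]
    rw [e1, gc_assoc h2 (i_t' _).symm, gc_i, gc_e' α _ h2]

theorem Rel.trans {α β γ : T ⟶ G.R} (h : Rel D α β) (h' : Rel D β γ) : Rel D α γ := by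
  obtain ⟨p, p', h1, h2, rfl⟩ := h
  obtain ⟨q, q', k1, k2, rfl⟩ := h'
  have h12 : gc G (p ≫ ιP) α ≫ G.s = (p' ≫ ιP) ≫ G.t := (gc_s h1).trans h2
  rw [gc_t h12, gc_t h1] at k1
  rw [gc_s h12] at k2
  refine ⟨D.mulP q p k1, D.mulP p' q' k2, ?_, ?_, ?_⟩
  · rw [D.mulP_ι, gc_s k1, h1]
  · rw [D.mulP_ι, gc_t k2, h2]
  · rw [D.mulP_ι, D.mulP_ι]
    have a1 : gc G (q ≫ ιP) (gc G (gc G (p ≫ ιP) α) (p' ≫ ιP)) =
        gc G (gc G (gc G (q ≫ ιP) (p ≫ ιP)) α) (p' ≫ ιP) := by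
      rw [← gc_assoc (by rw [gc_t h1]; exact k1) h12, ← gc_assoc k1 h1]
    rw [a1, gc_assoc (by rw [gc_s (by rw [gc_s k1]; exact h1)]; exact h2) k2]

theorem Rel.comp {α β : T ⟶ G.R} (h : Rel D α β) {T' : Scheme.{u}} (x : T' ⟶ T) :
    Rel D (x ≫ α) (x ≫ β) := by
  obtain ⟨p, p', h1, h2, rfl⟩ := h
  refine ⟨x ≫ p, x ≫ p', ?_, ?_, ?_⟩
  · simp only [Category.assoc] at h1 ⊢; rw [h1]
  · simp only [Category.assoc] at h2 ⊢; rw [h2]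
  · rw [comp_gc x ((gc_s h1).trans h2), comp_gc x h1, Category.assoc, Category.assoc]

end Groth.Agent.H49.SubGrpd
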