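import Mathlib
import Groth.Prelude.Def_RegImm
import Groth.Prelude.Def_CAlg
import Groth.Agent.H46.CIField
import Groth.Agent.H26.FlatFibreLocal
import Groth.Agent.H26.SkFieldExt
import Groth.Agent.H72.FlatCM
import Groth.Agent.H49.CMMor
import Groth.Agent.H7.NoetherianDescent

/-!
# Syntomic morphisms: flat, lfp; Cohen–Macaulay is syntomic-local (helper49)
-/

set_option autoImplicit false
set_option linter.style.haveILetI false
universe u
open CategoryTheory CategoryTheory.Limits AlgebraicGeometry

namespace Groth.Agent.H49.SyntCM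

variable {X S : Scheme.{u}}

/-- A syntomic morphism is flat. -/
theorem flat_of_isSyntomicMor (f : X ⟶ S) (h : Synt.IsSyntomicMor f) : Flat f := by
  rw [HasRingHomProperty.iff_exists_appLE (P := @Flat)
    (RingHom.Flat.stableUnderComposition.stableUnderCompositionWithLocalizationAway
      RingHom.Flat.holdsForLocalizationAway).1]
  intro x
  obtain ⟨U, V, e, hx, hsyn⟩ := h x
  exact ⟨V, U, hx, e, hsyn.1⟩

/-- A syntomic morphism is locally of finite presentation. -/
theorem lfp_of_isSyntomicMor (f : X ⟶ S) (h : Synt.IsSyntomicMor f) :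
    LocallyOfFinitePresentation f := by
  rw [HasRingHomProperty.iff_exists_appLE (P := @LocallyOfFinitePresentation)
    (RingHom.finitePresentation_stableUnderComposition.stableUnderCompositionWithLocalizationAway
      RingHom.finitePresentation_holdsForLocalizationAway).1]
  intro x
  obtain ⟨U, V, e, hx, hsyn⟩ := h x
  exact ⟨V, U, hx, e, hsyn.2.1⟩

section transfer

variable (P : ∀ (A : Type u) [CommRing A], Prop)
  (hiso : ∀ (A B : Type u) [CommRing A] [CommRing B], (A ≃+* B) → P A → P B)

include hiso in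
/-- Transfer from stalks to localizations of sections on an affine open. -/
theorem atPrime_of_forall_stalk {U : X.Opens} (hU : IsAffineOpen U)
    (h : ∀ x ∈ U, P (X.presheaf.stalk x)) (p : Ideal Γ(X, U)) [hp : p.IsPrime] :
    P (Localization.AtPrime p) := by
  let y : PrimeSpectrum Γ(X, U) := ⟨p, hp⟩
  have hy : hU.fromSpec y ∈ U := by
    rw [← SetLike.mem_coe, ← hU.range_fromSpec]; exact ⟨y, rfl⟩
  letI := TopCat.Presheaf.algebra_section_stalk X.presheaf ⟨hU.fromSpec y, hy⟩
  haveI : IsLocalization.AtPrime (X.presheaf.stalk (hU.fromSpec y)) p :=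
    hU.isLocalization_stalk' y hy
  exact hiso _ _ (IsLocalization.algEquiv p.primeCompl (X.presheaf.stalk (hU.fromSpec y))
    (Localization.AtPrime p)).toRingEquiv (h _ hy)

include hiso in
/-- Transfer from the localization of sections at the prime of a point to the stalk. -/
theorem stalk_of_atPrime {U : X.Opens} (hU : IsAffineOpen U) (x : X) (hx : x ∈ U)
    (h : P (Localization.AtPrime (hU.primeIdealOf ⟨x, hx⟩).asIdeal)) :
    P (X.presheaf.stalk x) := by
  letI := TopCat.Presheaf.algebra_section_stalk X.presheaf ⟨x, hx⟩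
  haveI := hU.isLocalization_stalk ⟨x, hx⟩
  exact hiso _ _ (IsLocalization.algEquiv (hU.primeIdealOf ⟨x, hx⟩).asIdeal.primeCompl
    (Localization.AtPrime (hU.primeIdealOf ⟨x, hx⟩).asIdeal) (X.presheaf.stalk x)).toRingEquiv h

end transfer

section ascent

open IsLocalRing

variable (P P' : ∀ (A : Type u) [CommRing A], Prop)

/-- **Ascent along syntomic morphisms**: a property `P` of Noetherian local rings which ascends
along flat local homomorphisms whose closed fibre has `P'`, where `P'` holds for all local rings of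
local complete intersections over fields, ascends along syntomic morphisms. -/
theorem stalk_of_isSyntomicMor
    (hiso : ∀ (A B : Type u) [CommRing A] [CommRing B], (A ≃+* B) → P A → P B)
    (hiso' : ∀ (A B : Type u) [CommRing A] [CommRing B], (A ≃+* B) → P' A → P' B)
    (hflat : ∀ (A B : Type u) [CommRing A] [CommRing B] [Algebra A B] [IsLocalRing A]
      [IsLocalRing B] [IsNoetherianRing A] [IsNoetherianRing B] [IsLocalHom (algebraMap A B)]
      [Module.Flat A B], P A → P' (B ⧸ (maximalIdeal A).map (algebraMap A B)) → P B)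
    (hfibre : ∀ (k T : Type u) [Field k] [CommRing T] [Algebra k T], Synt.IsLCIOver k T →
      ∀ (q : Ideal T) [q.IsPrime], P' (Localization.AtPrime q))
    [IsLocallyNoetherian S] (f : X ⟶ S) (hf : Synt.IsSyntomicMor f)
    (hS : ∀ s : S, P (S.presheaf.stalk s)) (x : X) : P (X.presheaf.stalk x) := by
  obtain ⟨U, V, e, hx, hsyn⟩ := hf x
  letI := (f.appLE V.1 U.1 e).hom.toAlgebra
  haveI : IsNoetherianRing Γ(S, V.1) := IsLocallyNoetherian.component_noetherian V
  haveI : Module.Flat Γ(S, V.1) Γ(X, U.1) := hsyn.1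
  haveI : Algebra.FinitePresentation Γ(S, V.1) Γ(X, U.1) := hsyn.2.1
  haveI : IsNoetherianRing Γ(X, U.1) := Algebra.FiniteType.isNoetherianRing Γ(S, V.1) Γ(X, U.1)
  refine stalk_of_atPrime P hiso U.2 x hx ?_
  refine Groth.Agent.H26.SkFieldExt.localization_of_flat_of_fibres₂ P P' hiso' hflat
    Γ(S, V.1) Γ(X, U.1) (U.2.primeIdealOf ⟨x, hx⟩).asIdeal ?_ ?_
  · exact atPrime_of_forall_stalk P hiso V.2 (fun s _ => hS s) _
  · intro q hq
    exact hfibre _ _ (hsyn.2.2 ⟨((U.2.primeIdealOf ⟨x, hx⟩).asIdeal.under Γ(S, V.1)),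
      inferInstance⟩) q

end ascent

section descent

variable (P : ∀ (A : Type u) [CommRing A], Prop)

/-- Descent of a property of Noetherian local rings along a flat morphism, stalkwise. -/
theorem stalk_of_flat_descent
    (hdesc : ∀ (A B : Type u) [CommRing A] [CommRing B] [Algebra A B] [IsLocalRing A]
      [IsLocalRing B] [IsNoetherianRing A] [IsNoetherianRing B] [IsLocalHom (algebraMap A B)]
      [Module.Flat A B], P B → P A)
    [IsLocallyNoetherian X] [IsLocallyNoetherian S] (f : X ⟶ S) [Flat f] (x : X)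
    (h : P (X.presheaf.stalk x)) : P (S.presheaf.stalk (f x)) := by
  letI := (f.stalkMap x).hom.toAlgebra
  haveI : IsLocalHom (algebraMap (S.presheaf.stalk (f x)) (X.presheaf.stalk x)) :=
    f.toLRSHom.prop x
  haveI : Module.Flat (S.presheaf.stalk (f x)) (X.presheaf.stalk x) := Flat.stalkMap f x
  exact hdesc _ _ h

/-- Local Noetherianity descends along a jointly surjective family of flat open morphisms. -/
theorem isLocallyNoetherian_of_family {ι : Type u} {Y : ι → Scheme.{u}} (f : ∀ i, Y i ⟶ S)
    [∀ i, Flat (f i)] [∀ i, UniversallyOpen (f i)]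
    (hsurj : ∀ s : S, ∃ i, s ∈ Set.range (f i).base) [∀ i, IsLocallyNoetherian (Y i)] :
    IsLocallyNoetherian S := by
  let W : ι → S.Opens := fun i => ⟨Set.range (f i).base, (f i).isOpenMap.isOpen_range⟩
  have hW : ⨆ i, W i = ⊤ := by
    rw [eq_top_iff]
    intro s _
    obtain ⟨i, hi⟩ := hsurj s
    exact TopologicalSpace.Opens.mem_iSup.mpr ⟨i, hi⟩
  have key : ∀ i : ι, IsLocallyNoetherian (W i : Scheme.{u}) := by
    intro i
    haveI : Surjective (f i ∣_ W i) := by
      refine ⟨fun w => ?_⟩
      obtain ⟨y, hy⟩ := w.2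
      have hyW : (f i) y ∈ W i := ⟨y, rfl⟩
      refine ⟨⟨y, hyW⟩, ?_⟩
      apply Subtype.ext
      exact (morphismRestrict_base_coe _ _ _).trans hy
    haveI : UniversallyOpen (f i ∣_ W i) :=
      IsZariskiLocalAtTarget.restrict (P := @UniversallyOpen) inferInstance (W i)
    exact Groth.Agent.H7.isLocallyNoetherian_of_flat_surjective_isOpenMap (f i ∣_ W i)
      (f i ∣_ W i).isOpenMap
  rw [isLocallyNoetherian_iff_openCover (S.openCoverOfIsOpenCover W
    (TopologicalSpace.IsOpenCover.mk hW))]
  exact fun i => key i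

end descent

end Groth.Agent.H49.SyntCM
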