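import Mathlib
import Groth.Agent.H49.SyntCM
import Groth.Agent.H26.SkFlat
import Groth.Agent.H26.SkTensor
import Groth.Agent.H26.SkFibreComp
import Groth.Agent.H14.SkDescent

/-!
# Serre's condition `(S_k)` is syntomic-local (helper49)
-/

set_option autoImplicit false
set_option linter.style.haveILetI false
universe u
open CategoryTheory CategoryTheory.Limits AlgebraicGeometry IsLocalRing

namespace Groth.Agent.H49.SyntSk

open Groth.Agent.H26.SkFlat

/-- For a Noetherian local ring, `(S_k)` implies `(S_k)` at the closed point. -/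
theorem skClosed_of_hasSk (k : ℕ) (A : Type u) [CommRing A] [IsLocalRing A] [IsNoetherianRing A]
    (h : LocCoh.HasSk k A A) : SkClosed k A := by
  have h1 := (hasSk_self_iff_skClosed k A).mp h (maximalIdeal A)
  have hle : (maximalIdeal A).primeCompl ≤ IsUnit.submonoid A := by
    intro x hx
    have : x ∉ maximalIdeal A := hx
    rw [IsLocalRing.mem_maximalIdeal, mem_nonunits_iff, not_not] at this
    exact this
  exact @skClosed_of_ringEquiv k (Localization.AtPrime (maximalIdeal A)) A _ _
    (IsLocalization.atUnits A (maximalIdeal A).primeCompl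
      (S := Localization.AtPrime (maximalIdeal A)) hle).symm.toRingEquiv h1

variable {X S : Scheme.{u}}

/-- On a locally Noetherian scheme: all stalks are `(S_k)` iff all stalks are `(S_k)` at the closed
point. -/
theorem forall_hasSk_stalk_iff (k : ℕ) [IsLocallyNoetherian X] :
    (∀ x : X, LocCoh.HasSk k (X.presheaf.stalk x) (X.presheaf.stalk x)) ↔
      ∀ x : X, SkClosed k (X.presheaf.stalk x) := by
  constructor
  · intro h x
    exact skClosed_of_hasSk k _ (h x)
  · intro h x
    obtain ⟨U, hU, hxU, -⟩ := exists_isAffineOpen_mem_and_subset (x := x) (U := ⊤) trivial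
    haveI : IsNoetherianRing Γ(X, U) := IsLocallyNoetherian.component_noetherian ⟨U, hU⟩
    have h1 : LocCoh.HasSk k Γ(X, U) Γ(X, U) := by
      rw [hasSk_self_iff_skClosed]
      intro p hp
      exact Groth.Agent.H49.SyntCM.atPrime_of_forall_stalk (fun A _ => SkClosed k A)
        (fun A B _ _ e hA => @skClosed_of_ringEquiv k A B _ _ e hA) hU (fun y _ => h y) p
    have h2 := Groth.Agent.H14.hasSk_localization k Γ(X, U) (hU.primeIdealOf ⟨x, hxU⟩).asIdeal h1
    letI := TopCat.Presheaf.algebra_section_stalk X.presheaf ⟨x, hxU⟩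
    haveI := hU.isLocalization_stalk ⟨x, hxU⟩
    exact (Groth.Agent.H26.SkFibreComp.hasSk_of_ringEquiv k
      (IsLocalization.algEquiv (hU.primeIdealOf ⟨x, hxU⟩).asIdeal.primeCompl
        (Localization.AtPrime (hU.primeIdealOf ⟨x, hxU⟩).asIdeal)
        (X.presheaf.stalk x)).toRingEquiv h2).2

end Groth.Agent.H49.SyntSk
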