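import Mathlib.AlgebraicGeometry.Morphisms.ClosedImmersion
import Mathlib.AlgebraicGeometry.Morphisms.Affine
import Mathlib.AlgebraicGeometry.Properties
import Mathlib.AlgebraicGeometry.Limits
import Groth.Agent.H49.SpectralT1

set_option autoImplicit false
universe u
open CategoryTheory AlgebraicGeometry TopologicalSpace

namespace Groth.Agent.H49

/-- An open subset of an affine open whose complement in the affine open is open is affine. -/
theorem isAffineOpen_of_le_of_isOpen_diff {X : Scheme.{u}} {U V : X.Opens} (hU : IsAffineOpen U)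
    (hVU : V ≤ U) (h : IsOpen ((U : Set X) \ V)) : IsAffineOpen V := by
  have : IsAffine U := hU
  let f : (V : Scheme.{u}) ⟶ U := X.homOfLE hVU
  have hrange : Set.range f = U.ι ⁻¹' (V : Set X) := by
    have := congrArg (fun W : (U : Scheme.{u}).Opens => (W : Set U)) (X.opensRange_homOfLE hVU)
    exact this
  have hclosed : IsClosed (Set.range f) := by
    rw [hrange, ← isOpen_compl_iff]
    have : (U.ι ⁻¹' (V : Set X))ᶜ = U.ι ⁻¹' ((U : Set X) \ V) := by
      ext x
      simp only [Set.mem_compl_iff, Set.mem_preimage, Set.mem_sdiff, SetLike.mem_coe]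
      constructor
      · intro hx
        exact ⟨x.2, hx⟩
      · intro hx
        exact hx.2
    rw [this]
    exact h.preimage U.ι.continuous
  have : IsClosedImmersion f := .of_isPreimmersion _ hclosed
  exact isAffine_of_isAffineHom f

/-- In a scheme whose space is T1, a compact open contained in an affine open has open
complement in that affine open. -/
theorem isOpen_diff_of_isCompact_of_t1 {X : Scheme.{u}} [T1Space X] {A : X.Opens}
    (hA : IsAffineOpen A) {W : Set X} (hWo : IsOpen W) (hWc : IsCompact W) (hWA : W ⊆ A) :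
    IsOpen ((A : Set X) \ W) := by
  have : IsAffine A := hA
  have : T1Space (A : Scheme.{u}) := inferInstanceAs (T1Space (A : Set X))
  have hemb : Topology.IsOpenEmbedding A.ι := A.ι.isOpenEmbedding
  let W' : Set (A : Scheme.{u}) := A.ι ⁻¹' W
  have hW'o : IsOpen W' := hWo.preimage A.ι.continuous
  have hW'c : IsCompact W' := by
    apply hemb.isInducing.isCompact_preimage_iff (by rwa [Scheme.Opens.range_ι]) |>.mpr hWc
  have hcl : IsClosed W' := isClosed_of_isCompact_of_isOpen_of_t1 hW'o hW'c
  have : (A : Set X) \ W = A.ι '' W'ᶜ := by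
    ext x
    simp only [Set.mem_sdiff, SetLike.mem_coe, Set.mem_image, Set.mem_compl_iff, W',
      Set.mem_preimage]
    constructor
    · rintro ⟨hxA, hxW⟩
      exact ⟨⟨x, hxA⟩, hxW, rfl⟩
    · rintro ⟨y, hy, rfl⟩
      exact ⟨y.2, hy⟩
  rw [this]
  exact hemb.isOpenMap _ hcl.isOpen_compl

/-- A quasi-separated scheme with T1 underlying space is Hausdorff. -/
theorem t2Space_of_t1Space (X : Scheme.{u}) [T1Space X] [QuasiSeparatedSpace X] : T2Space X := by
  rw [t2Space_iff]
  intro x y hxy
  obtain ⟨_, ⟨(U : X.Opens), hU, rfl⟩, hxU, -⟩ :=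
    X.isBasis_affineOpens.exists_subset_of_mem_open (Set.mem_univ x) isOpen_univ
  by_cases hyU : y ∈ U
  · -- separate inside `U`
    have hopen : IsOpen ((U : Set X) \ {y}) := U.isOpen.sdiff isClosed_singleton
    obtain ⟨V, ⟨hVo, hVc⟩, hxV, hVsub⟩ :=
      PrespectralSpace.isTopologicalBasis.exists_subset_of_mem_open
        (show x ∈ (U : Set X) \ {y} from ⟨hxU, hxy⟩) hopen
    refine ⟨V, (U : Set X) \ V, hVo,
      isOpen_diff_of_isCompact_of_t1 hU hVo hVc (fun z hz => (hVsub hz).1), hxV, ⟨hyU, ?_⟩, ?_⟩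
    · intro hyV
      exact (hVsub hyV).2 rfl
    · exact Set.disjoint_sdiff_right
  · obtain ⟨_, ⟨(V : X.Opens), hV, rfl⟩, hyV, -⟩ :=
      X.isBasis_affineOpens.exists_subset_of_mem_open (Set.mem_univ y) isOpen_univ
    have hc : IsCompact ((U : Set X) ∩ V) :=
      QuasiSeparatedSpace.inter_isCompact _ _ U.isOpen hU.isCompact V.isOpen hV.isCompact
    refine ⟨U, (V : Set X) \ ((U : Set X) ∩ V), U.isOpen,
      isOpen_diff_of_isCompact_of_t1 hV (U.isOpen.inter V.isOpen) hc Set.inter_subset_right,
      hxU, ⟨hyV, fun h => hyU h.1⟩, ?_⟩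
    rw [Set.disjoint_iff]
    rintro z ⟨hzU, hzV, hz⟩
    exact hz ⟨hzU, hzV⟩

end Groth.Agent.H49
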