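import Mathlib.AlgebraicGeometry.ValuativeCriterion
import Groth.Agent.H49.Dim0

set_option autoImplicit false
universe u
open CategoryTheory AlgebraicGeometry TopologicalSpace

namespace Groth.Agent.H49

/-- A quasi-separated scheme whose underlying space is T1 is separated. -/
theorem isSeparated_of_t1Space (X : Scheme.{u}) [T1Space X] [QuasiSeparatedSpace X] :
    X.IsSeparated := by
  constructor
  have : QuasiSeparated (Limits.terminal.from X) :=
    (quasiSeparatedSpace_iff_quasiSeparated X).mp inferInstance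
  apply IsSeparated.of_valuativeCriterion
  intro S
  constructor
  intro l₁ l₂
  have hconst : ∀ (l : Spec (.of S.R) ⟶ X) (p : Spec (.of S.R)),
      l p = l (IsLocalRing.closedPoint S.R) := by
    intro l p
    have : p ⤳ IsLocalRing.closedPoint S.R := IsLocalRing.specializes_closedPoint p
    exact (this.map l.continuous).eq
  let φ := Spec.map (CommRingCat.ofHom (algebraMap S.R S.K))
  let η : Spec (.of S.R) := φ (IsLocalRing.closedPoint S.K)
  let x : X := l₁.l (IsLocalRing.closedPoint S.R)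
  have hx₁ : ∀ p, l₁.l p = x := fun p => hconst l₁.l p
  have hx₂ : ∀ p, l₂.l p = x := by
    intro p
    rw [hconst l₂.l p, ← hconst l₂.l η, ← hx₁ η]
    change (φ ≫ l₂.l) _ = (φ ≫ l₁.l) _
    rw [l₁.fac_left, l₂.fac_left]
  obtain ⟨_, ⟨(U : X.Opens), hU, rfl⟩, hxU, -⟩ :=
    X.isBasis_affineOpens.exists_subset_of_mem_open (Set.mem_univ x) isOpen_univ
  have hr₁ : Set.range l₁.l ⊆ Set.range U.ι := by
    rintro _ ⟨p, rfl⟩
    rw [hx₁ p, Scheme.Opens.range_ι]
    exact hxU
  have hr₂ : Set.range l₂.l ⊆ Set.range U.ι := by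
    rintro _ ⟨p, rfl⟩
    rw [hx₂ p, Scheme.Opens.range_ι]
    exact hxU
  let l₁' : Spec (.of S.R) ⟶ U := IsOpenImmersion.lift U.ι l₁.l hr₁
  let l₂' : Spec (.of S.R) ⟶ U := IsOpenImmersion.lift U.ι l₂.l hr₂
  have h₁ : l₁' ≫ U.ι = l₁.l := IsOpenImmersion.lift_fac _ _ _
  have h₂ : l₂' ≫ U.ι = l₂.l := IsOpenImmersion.lift_fac _ _ _
  have : IsAffine U := hU
  have hsq : CommSq (φ ≫ l₁') φ (Limits.terminal.from (U : Scheme.{u}))
      (Limits.terminal.from _) := ⟨Limits.terminal.hom_ext _ _⟩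
  let S' : ValuativeCommSq (Limits.terminal.from (U : Scheme.{u})) :=
    ⟨S.R, S.K, φ ≫ l₁', Limits.terminal.from _, hsq⟩
  have hsub : Subsingleton S'.commSq.LiftStruct :=
    IsSeparated.valuativeCriterion (Limits.terminal.from (U : Scheme.{u})) S'
  let L₁ : S'.commSq.LiftStruct := ⟨l₁', rfl, Limits.terminal.hom_ext _ _⟩
  let L₂ : S'.commSq.LiftStruct := ⟨l₂', by
    change φ ≫ l₂' = φ ≫ l₁'
    rw [← cancel_mono U.ι, Category.assoc, Category.assoc, h₁, h₂, l₁.fac_left, l₂.fac_left],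
    Limits.terminal.hom_ext _ _⟩
  have h₁₂ : l₁' = l₂' := congrArg CommSq.LiftStruct.l (Subsingleton.elim L₁ L₂)
  apply CommSq.LiftStruct.ext
  rw [← h₁, ← h₂, h₁₂]

end Groth.Agent.H49
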