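import Mathlib
import Groth.Agent.H37.OrbitLC

/-!
# Two sections of a retraction onto a field agree on a finite-type domain

Let `k` be a field, `A` a domain, `σ τ : k →+* A` two ring homomorphisms and `ε : A →+* k` a common
retraction (`ε ∘ σ = id = ε ∘ τ`).  If `σ` is of finite type then `σ = τ`.
(Stacks 04MK / 04RA in the special case needed for groupoids on a field.)
-/

set_option autoImplicit false
set_option linter.style.haveILetI false

namespace Groth.Agent.H49.TwoSections

open Polynomial Topology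

variable {k A : Type*} [Field k] [CommRing A] [IsDomain A]

/-- An element of a domain `A` which is algebraic over the field `k`, where `A → k` is a `k`-algebra
retraction, lies in `k`. -/
theorem eq_of_isAlgebraic [Algebra k A] (ε : A →ₐ[k] k) (x : A) (hx : IsAlgebraic k x) :
    x = algebraMap k A (ε x) := by
  set y := x - algebraMap k A (ε x) with hy
  have hyint : IsIntegral k y := (hx.isIntegral).sub isIntegral_algebraMap
  have hεy : ε y = 0 := by simp [hy]
  have h0 : (minpoly k y).coeff 0 = 0 := by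
    have h1 : aeval y (minpoly k y) = 0 := minpoly.aeval k y
    have h2 := congrArg ε h1
    rw [← Polynomial.aeval_algHom_apply, hεy, map_zero] at h2
    rw [Polynomial.coeff_zero_eq_aeval_zero]
    exact h2
  have : y = 0 := (minpoly.coeff_zero_eq_zero hyint).mp h0
  exact sub_eq_zero.mp this

/-- Chevalley for a transcendental element: the image of `Spec A → 𝔸¹_k` contains a nonempty basic
open. -/
theorem exists_basicOpen_subset_range [Algebra k A] [Algebra.FiniteType k A] (x : A)
    (hx : Transcendental k x) :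
    ∃ g : k[X], g ≠ 0 ∧ ∀ P : Ideal k[X], P.IsPrime → g ∉ P →
      ∃ Q : Ideal A, Q.IsPrime ∧ Q.comap (aeval x : k[X] →ₐ[k] A) = P := by
  set φ : k[X] →ₐ[k] A := aeval x with hφ
  have hinj : Function.Injective φ := transcendental_iff_injective.mp hx
  have hft : (φ : k[X] →+* A).FiniteType := by
    apply RingHom.FiniteType.of_comp_finiteType (f := (C : k →+* k[X]))
    have : (φ : k[X] →+* A).comp C = algebraMap k A := by
      ext c
      simp [hφ]
    rw [this]
    exact (RingHom.finiteType_algebraMap (A := k) (B := A)).mpr ‹Algebra.FiniteType k A›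
  have hfp : (φ : k[X] →+* A).FinitePresentation :=
    RingHom.FinitePresentation.of_finiteType.mp hft
  have hE : IsConstructible (Set.range (PrimeSpectrum.comap (φ : k[X] →+* A))) :=
    PrimeSpectrum.isConstructible_range_comap hfp
  set E := Set.range (PrimeSpectrum.comap (φ : k[X] →+* A)) with hEdef
  have hbot : (⟨⊥, Ideal.isPrime_bot⟩ : PrimeSpectrum k[X]) ∈ E := by
    refine ⟨⟨⊥, Ideal.isPrime_bot⟩, ?_⟩
    ext1
    change Ideal.comap (φ : k[X] →+* A) ⊥ = ⊥
    rw [← RingHom.ker_eq_comap_bot]
    exact (RingHom.injective_iff_ker_eq_bot _).mp hinj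
  have hcl : closure E = Set.univ := by
    apply Set.eq_univ_of_univ_subset
    have h1 : closure ({(⟨⊥, Ideal.isPrime_bot⟩ : PrimeSpectrum k[X])} : Set _) = Set.univ := by
      rw [PrimeSpectrum.closure_singleton]
      simp
    rw [← h1]
    exact closure_mono (Set.singleton_subset_iff.mpr hbot)
  obtain ⟨U, hUo, hUne, hUE⟩ :=
    Groth.Agent.H37.exists_open_inter_closure_subset hE ⟨_, hbot⟩
  rw [hcl, Set.inter_univ] at hUne hUE
  obtain ⟨pt, hpt⟩ := hUne
  obtain ⟨v, ⟨g, rfl⟩, hptv, hvU⟩ :=
    PrimeSpectrum.isTopologicalBasis_basic_opens.exists_subset_of_mem_open hpt hUo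
  refine ⟨g, ?_, ?_⟩
  · rintro rfl
    exact hptv (by simp)
  · intro P hP hgP
    have hmem : (⟨P, hP⟩ : PrimeSpectrum k[X]) ∈ E := hUE (hvU hgP)
    obtain ⟨Q, hQ⟩ := hmem
    refine ⟨Q.asIdeal, Q.2, ?_⟩
    exact congrArg PrimeSpectrum.asIdeal hQ

/-- For a nonzero polynomial `g` over a field there is an integer polynomial `h` (nonzero over `k`)
and a prime of `k[X]` containing `h` but not `g`. -/
theorem exists_int_poly_prime (g : k[X]) (hg : g ≠ 0) :
    ∃ h : ℤ[X], h.map (Int.castRingHom k) ≠ 0 ∧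
      ∃ P : Ideal k[X], P.IsPrime ∧ h.map (Int.castRingHom k) ∈ P ∧ g ∉ P := by
  -- a prime number `ℓ` invertible in `k`
  obtain ⟨ℓ, hℓ1, hℓ⟩ : ∃ ℓ : ℕ, 1 < ℓ ∧ (ℓ : k) ≠ 0 := by
    by_cases h2 : (2 : k) = 0
    · refine ⟨3, by norm_num, ?_⟩
      intro h3
      have : (1 : k) = 0 := by
        have : (3 : k) - 2 = 1 := by norm_num
        rw [← this, h2]
        push_cast at h3
        rw [h3, sub_zero]
      exact one_ne_zero this
    · exact ⟨2, by norm_num, by exact_mod_cast h2⟩
  set m : ℕ := ℓ ^ (g.natDegree + 1) with hm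
  have hmk : (m : k) ≠ 0 := by
    rw [hm]
    push_cast
    exact pow_ne_zero _ hℓ
  have hmdeg : g.natDegree < m := by
    calc g.natDegree < g.natDegree + 1 := Nat.lt_succ_self _
      _ < ℓ ^ (g.natDegree + 1) := Nat.lt_pow_self hℓ1
  have hmpos : 0 < m := lt_of_le_of_lt (Nat.zero_le _) hmdeg
  set h : ℤ[X] := X ^ m - 1 with hh
  have hmap : h.map (Int.castRingHom k) = X ^ m - C (1 : k) := by
    simp [hh]
  have hsep : (X ^ m - C (1 : k)).Separable := separable_X_pow_sub_C 1 hmk one_ne_zero
  have hdeg : (X ^ m - C (1 : k)).natDegree = m := natDegree_X_pow_sub_C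
  have hne : (X ^ m - C (1 : k)) ≠ 0 := by
    intro h0
    rw [h0, natDegree_zero] at hdeg
    omega
  refine ⟨h, by rw [hmap]; exact hne, ?_⟩
  rw [hmap]
  by_contra hcon
  push Not at hcon
  have hrad : g ∈ (Ideal.span {X ^ m - C (1 : k)}).radical := by
    rw [Ideal.radical_eq_sInf, Ideal.mem_sInf]
    rintro P ⟨hle, hP⟩
    exact hcon P hP (hle (Ideal.subset_span rfl))
  obtain ⟨N, hN⟩ := hrad
  rw [Ideal.mem_span_singleton] at hN
  have hN0 : N ≠ 0 := by
    rintro rfl
    rw [pow_zero] at hN
    have := natDegree_le_of_dvd hN one_ne_zero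
    rw [hdeg, natDegree_one] at this
    omega
  have hdvd : (X ^ m - C (1 : k)) ∣ g := (hsep.squarefree.dvd_pow_iff_dvd hN0).mp hN
  have := natDegree_le_of_dvd hdvd hg
  rw [hdeg] at this
  omega

/-- **Two sections agree.** -/
theorem eq_of_sections (σ τ : k →+* A) (ε : A →+* k) (hσ : ε.comp σ = RingHom.id k)
    (hτ : ε.comp τ = RingHom.id k) (hft : σ.FiniteType) : σ = τ := by
  letI : Algebra k A := σ.toAlgebra
  haveI : Algebra.FiniteType k A := hft
  let εa : A →ₐ[k] k := { ε with commutes' := fun c => congrArg (fun f : k →+* k => f c) hσ }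
  ext a
  have halg : IsAlgebraic k (τ a) := by
    by_contra htr
    obtain ⟨g, hg0, hg⟩ := exists_basicOpen_subset_range (τ a) htr
    obtain ⟨h, hh0, P, hP, hhP, hgP⟩ := exists_int_poly_prime g hg0
    obtain ⟨Q, hQ, hQP⟩ := hg P hP hgP
    have hmem : aeval (τ a) (h.map (Int.castRingHom k)) ∈ Q := by
      have : h.map (Int.castRingHom k) ∈ Q.comap (aeval (τ a) : k[X] →ₐ[k] A) := by
        rw [hQP]; exact hhP
      exact this
    have hval : aeval (τ a) (h.map (Int.castRingHom k)) =
        τ (eval a (h.map (Int.castRingHom k))) := by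
      rw [aeval_def, eval₂_map, eval_map, hom_eval₂]
      congr 1
      exact RingHom.ext_int _ _
    by_cases hc : eval a (h.map (Int.castRingHom k)) = 0
    · rw [hc, map_zero] at hval
      exact hh0 ((transcendental_iff.mp htr) _ hval)
    · have hu : IsUnit (τ (eval a (h.map (Int.castRingHom k)))) :=
        (IsUnit.mk0 _ hc).map τ
      rw [hval] at hmem
      exact hQ.ne_top (Ideal.eq_top_of_isUnit_mem _ hmem hu)
  have := eq_of_isAlgebraic εa (τ a) halg
  rw [this]
  change σ a = σ (ε (τ a))
  have h2 : ε (τ a) = a := congrArg (fun f : k →+* k => f a) hτ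
  rw [h2]

end Groth.Agent.H49.TwoSections
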