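import Mathlib.Algebra.TrivSqZeroExt.Basic
import Mathlib.RingTheory.Unramified.Basic
import Mathlib.RingTheory.Kaehler.Basic

set_option autoImplicit false
universe u

namespace Groth.Agent.H49

open TrivSqZeroExt

/-- Ring-level criterion: a square-zero thickening `S' → S'/J` of an `R`-algebra for which lifts
to square-zero extensions (sending `J` into the ideal) are unique is formally unramified. -/
theorem formallyUnramified_of_unique_lifts (R S' : Type u) [CommRing R] [CommRing S'] [Algebra R S']
    (J : Ideal S') (hJ : J * J = ⊥)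
    (H : ∀ (A : Type u) [CommRing A] (I : Ideal A), I ^ 2 = ⊥ → ∀ φ₁ φ₂ : S' →+* A,
      φ₁.comp (algebraMap R S') = φ₂.comp (algebraMap R S') →
      (∀ x ∈ J, φ₁ x ∈ I) → (∀ x ∈ J, φ₂ x ∈ I) →
      (Ideal.Quotient.mk I).comp φ₁ = (Ideal.Quotient.mk I).comp φ₂ → φ₁ = φ₂) :
    Algebra.FormallyUnramified R S' := by
  let N : Submodule S' Ω[S'⁄R] := J • ⊤
  let M := Ω[S'⁄R] ⧸ N
  letI : Module S'ᵐᵒᵖ M := Module.compHom _ ((RingHom.id S').fromOpposite mul_comm)
  haveI : IsCentralScalar S' M := ⟨fun r m => rfl⟩
  let A := TrivSqZeroExt S' M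
  let I : Ideal A := Ideal.comap (fstHom S' S' M).toRingHom J
  have hmem : ∀ x : A, x ∈ I ↔ x.fst ∈ J := fun x => Iff.rfl
  have hsmul : ∀ (s : S') (m : M), s ∈ J → s • m = 0 := by
    intro s m hs
    obtain ⟨ω, rfl⟩ := Submodule.Quotient.mk_surjective N m
    rw [← Submodule.Quotient.mk_smul, Submodule.Quotient.mk_eq_zero]
    exact Submodule.smul_mem_smul hs Submodule.mem_top
  have hI : I ^ 2 = ⊥ := by
    rw [pow_two, eq_bot_iff, Ideal.mul_le]
    intro x hx y hy
    rw [hmem] at hx hy
    rw [Ideal.mem_bot]
    ext
    · rw [fst_mul, fst_zero]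
      have : x.fst * y.fst ∈ J * J := Ideal.mul_mem_mul hx hy
      rw [hJ] at this
      exact this
    · rw [snd_mul, snd_zero, hsmul _ _ hx]
      have : MulOpposite.op y.fst • x.snd = y.fst • x.snd := rfl
      rw [this, hsmul _ _ hy, add_zero]
  let D := KaehlerDifferential.D R S'
  let φ₁ : S' →+* A := inlHom S' M
  let φ₂ : S' →+* A :=
    { toFun := fun s => inl s + inr (Submodule.Quotient.mk (D s))
      map_one' := by
        rw [Derivation.map_one_eq_zero, Submodule.Quotient.mk_zero, inr_zero, add_zero]
        rfl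
      map_mul' := by
        intro s t
        rw [Derivation.leibniz, Submodule.Quotient.mk_add, Submodule.Quotient.mk_smul,
          Submodule.Quotient.mk_smul]
        ext
        · rw [fst_add, fst_inl, fst_inr, add_zero, fst_mul, fst_add, fst_add, fst_inl, fst_inl,
            fst_inr, fst_inr, add_zero, add_zero]
        · rw [snd_add, snd_inl, snd_inr, zero_add, snd_mul, fst_add, fst_add, fst_inl, fst_inl,
            fst_inr, fst_inr, add_zero, add_zero, snd_add, snd_add, snd_inl, snd_inl, snd_inr,
            snd_inr, zero_add, zero_add]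
          rfl
      map_zero' := by
        rw [map_zero, Submodule.Quotient.mk_zero, inr_zero, add_zero, inl_zero]
      map_add' := by
        intro s t
        rw [map_add, Submodule.Quotient.mk_add, inr_add, inl_add]
        abel }
  have h12 : φ₁ = φ₂ := by
    apply H A I hI φ₁ φ₂
    · refine RingHom.ext fun r => ?_
      change (inl (algebraMap R S' r) : A) =
        inl (algebraMap R S' r) + inr (Submodule.Quotient.mk (D (algebraMap R S' r)) : M)
      rw [Derivation.map_algebraMap, Submodule.Quotient.mk_zero, inr_zero, add_zero]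
    · intro x hx
      rw [hmem]
      exact hx
    · intro x hx
      rw [hmem]
      change (inl x + inr (Submodule.Quotient.mk (D x) : M) : A).fst ∈ J
      rw [fst_add, fst_inl, fst_inr, add_zero]
      exact hx
    · refine RingHom.ext fun s => ?_
      change Ideal.Quotient.mk I (inl s : A) =
        Ideal.Quotient.mk I (inl s + inr (Submodule.Quotient.mk (D s) : M))
      rw [map_add]
      have : Ideal.Quotient.mk I (inr (Submodule.Quotient.mk (D s)) : A) = 0 := by
        rw [Ideal.Quotient.eq_zero_iff_mem, hmem, fst_inr]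
        exact J.zero_mem
      rw [this, add_zero]
  have hD : ∀ s : S', D s ∈ N := by
    intro s
    have := congrArg (fun f : S' →+* A => (f s).snd) h12
    change (inl s : A).snd = (inl s + inr (Submodule.Quotient.mk (D s) : M) : A).snd at this
    rw [snd_add, snd_inl, snd_inr, zero_add] at this
    exact (Submodule.Quotient.mk_eq_zero N).mp this.symm
  have hN : N = ⊤ := by
    rw [eq_top_iff, ← KaehlerDifferential.span_range_derivation R S', Submodule.span_le]
    rintro _ ⟨s, rfl⟩
    exact hD s
  have htop : (⊤ : Submodule S' Ω[S'⁄R]) = ⊥ := by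
    have h1 : (⊤ : Submodule S' Ω[S'⁄R]) = J • (J • ⊤) := by
      change _ = J • N
      rw [hN]
      exact hN.symm
    rw [h1, ← Submodule.mul_smul, hJ, Submodule.bot_smul]
  constructor
  refine subsingleton_of_forall_eq 0 (fun x => ?_)
  have hx : x ∈ (⊤ : Submodule S' Ω[S'⁄R]) := Submodule.mem_top
  rw [htop] at hx
  exact hx
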